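import Cfsg.Agent.H271.PU.LocK_mg_m3
import Cfsg.Agent.H44.CJ3_m3
import Cfsg.Agent.KFacts.J4.Base
import Cfsg.Agent.J4Type.IsPOf
import Cfsg.Agent.LargeExtra.Perp
import Cfsg.Agent.KFacts.RgdFilt
import Cfsg.Agent.KFacts.RgdCharP
import Cfsg.Agent.Lib.NormalAbelian
import Cfsg.Agent.KFacts.RgdLieCharP
import Mathlib
import Cfsg.Agent.KFacts.RgdRigid
import Cfsg.Agent.KFacts.RgdAutFacts
import Cfsg.Agent.H229.Base
import Cfsg.Agent.H44.SEofTI
import Cfsg.Agent.Lib.Cores
import Cfsg.Agent.Nodes.RGDLib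
import Cfsg.Agent.SigTab.RestList_m3
import Cfsg.Agent.OddHalf.Small.G23
import Cfsg.Agent.KFacts.CoTwo.RFin
import Cfsg.Agent.LargeExtra.Base
import Cfsg.Agent.H46.CharTwoList_mg
import Cfsg.Agent.NotResT.SmallTwo
import Cfsg.Agent.SmallSimple.S1000.PSLFacts
import Cfsg.Agent.Lib.PackAll
import Cfsg.Agent.H238.Base
import Cfsg.Agent.H107.NB.OrthTor_m3
import Cfsg.Agent.Nodes.RGDChev
import Cfsg.Agent.S1092
import Cfsg.Agent.S1093
import Cfsg.Agent.H238.ExcRow
import Cfsg.Agent.H226.KLevel_m3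
import Cfsg.Agent.H240.GThreeC
import Cfsg.Agent.ChevalleyStructure.D4Perfect
import Cfsg.Agent.S1062
import Cfsg.Agent.S1063
import Cfsg.Agent.S1064
import Cfsg.Agent.S1065
import Cfsg.Agent.S1066
import Cfsg.Agent.S1067
import Mathlib.GroupTheory.Sylow
import Mathlib.GroupTheory.SpecificGroups.Cyclic
import Mathlib.GroupTheory.PGroup
import Cfsg.Agent.H237.ReeKill_m3
import Cfsg.Agent.H996.AllSplit_m3
import Cfsg.Agent.H328.NLRank
import Cfsg.Agent.CpAutJThree.Row
import Cfsg.Agent.H573.Spor.Suz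
import Cfsg.Agent.H680.ONThirtyOne_m3
import Cfsg.Agent.H970.Sep.Co3Seven
import Cfsg.Agent.H573.Spor.HSFive_m3
import Cfsg.Agent.H493.NB.Co1Three
import Cfsg.Agent.HN.A12Group
import Cfsg.Agent.S1701
import Cfsg.Agent.H603.SporElim
import Cfsg.Agent.H961.SevX
import Cfsg.Agent.TypeM.OutLyFin
import Cfsg.Agent.H58.McLCover
import Cfsg.Agent.H94.NBTh
import Cfsg.Agent.H843.OCSporB
import Cfsg.Agent.H850.MonHN
import Cfsg.Agent.MonsterX.Frames.J8D_m3
import Cfsg.Agent.MonsterX.InstanceFinal_m3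
import Cfsg.Agent.MonsterX.HeM.Main
import Cfsg.Agent.S1695
import Cfsg.Agent.S5535
import Cfsg.Agent.S0822
import Cfsg.Agent.AutOrth.Main
import Cfsg.Agent.H237.AltChev
import Cfsg.Agent.H912.KnownSplit
import Cfsg.Agent.FastGrp
import Cfsg.Agent.Prune
set_option linter.all false

section
prune_inst 0x7f00000000000000000000000000000000000000000000000000000000000000000000000000000000000000000000000000000000000000000000000000000000000000000000000000000000000000003fffffffffffffffffffffffffffbeffbdffffffff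

section
prune_inst 0xfcbcfbafb8bddeffff7e7ffed8dffc3990dfffefdff9437fe861ff2fdf230809e57bad8de050fe1e56e21410b87853fb7ece5fe06bdc7ff3fd5ff41ffbee0fb5e7350851f48c340fbc0ff603f0778e7f000000000000000000000000000000000000000000

-- part: H538/PU/J3J4_mg
section
prune_inst 0x14200100040000000000001200000004200000000000000008a00502000252200800200048000c020002800000000000000000000000000000000000000004218000120001000000000080002000000000000000000000000000000000041000200000000
set_option linter.all false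
open scoped Cfsg.Agent.FastGrp

-- part: H538/PU/J3J4
section
/-!
# S3046, case B: the rows `J₃` and `J₄` at `p = 2` (helper538)
-/

set_option autoImplicit false

namespace Cfsg.Agent.H538.PU

open Subgroup Cfsg Cfsg.Agent.H271.PU Cfsg.Agent.Co2Type.Quad
open scoped commutatorElement
open Cfsg.Agent.J4Type Cfsg.Agent.J2Type.Model Cfsg.Agent.J2Type.CStruct Cfsg.Agent.J3Type.OneClass

/-- `C_G(z)` has a large extraspecial subgroup and no elementary abelian normal subgroups of order 8 containing `z` -/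
theorem rowB_of_large {G : Type*} [Group G] [Finite G] {Q : Subgroup G} {z : G} (h : Large Q z) (hQ : IsPGroup 2 ↥Q)
    (key : ∀ A : Subgroup G, IsElementaryAbelian 2 A → z ∈ A → A ≤ centralizer ({z} : Set G) →
      centralizer ({z} : Set G) ≤ normalizer (A : Set G) → Nat.card A < 2 ^ 3) : RowB 2 G := by
  have : Fact (Nat.Prime 2) := ⟨Nat.prime_two⟩
  obtain ⟨T, hT⟩ := hQ.exists_le_sylow
  refine rowB_of_center (T := T) (z₀ := z) ?_ ?_ ?_
  · intro y hy hyc _
    have hyz : y * z = z * y := (hyc z (hT h.z_mem)).symm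
    have h1 : y ∈ Q := h.self y hyz fun x hx => (hyc x (hT hx)).symm
    rcases h.cent y h1 fun x hx => (hyc x (hT hx)).symm with h2 | h2
    · rw [h2]
      exact one_mem _
    · rw [h2]
      exact mem_zpowers z
  · exact orderOf_eq_prime (by rw [pow_two]; exact h.z_sq) h.z_ne
  · intro A hA hz hAc hN hcard
    exact absurd hcard (not_le_of_gt (key A hA hz hAc hN))

/-- the image of a normal `2`-subgroup of `C` under a homomorphism onto a nonabelian simple group is trivial -/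
theorem map_eq_bot {C S : Type*} [Group C] [Group S] [Finite S] [IsSimpleGroup S] {f : C →* S} (hf : Function.Surjective f)
    {q : ℕ} (hq : q.Prime) (hq2 : q ≠ 2) (hqS : q ∣ Nat.card S) {A : Subgroup C} [hA : A.Normal] (hA2 : IsPGroup 2 ↥A) :
    A.map f = ⊥ := by
  have hn : (A.map f).Normal := hA.map f hf
  rcases hn.eq_bot_or_eq_top with h | h
  · exact h
  · exfalso
    have h2 : IsPGroup 2 ↥(A.map f) := hA2.map f
    have : Fact (Nat.Prime 2) := ⟨Nat.prime_two⟩
    obtain ⟨n, hn⟩ := IsPGroup.iff_card.1 h2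
    rw [h, Subgroup.card_top] at hn
    rw [hn] at hqS
    exact hq2 ((Nat.prime_dvd_prime_iff_eq hq Nat.prime_two).1 (hq.dvd_of_dvd_pow hqS))

/-- `A` as a normal `2`-subgroup of `C(z)` -/
theorem normal_sub {G : Type*} [Group G] {z : G} {A : Subgroup G} (hN : centralizer ({z} : Set G) ≤ normalizer (A : Set G)) :
    (A.subgroupOf (centralizer ({z} : Set G))).Normal := by
  refine ⟨fun a ha c => ?_⟩
  rw [mem_subgroupOf] at ha ⊢
  exact (mem_normalizer_iff.1 (hN c.2) a).1 ha

theorem pgroup_sub {G : Type*} [Group G] {z : G} {A : Subgroup G} (hA : IsElementaryAbelian 2 A) :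
    IsPGroup 2 ↥(A.subgroupOf (centralizer ({z} : Set G))) := by
  intro a
  refine ⟨1, Subtype.ext (Subtype.ext ?_)⟩
  rw [pow_one]
  exact hA.2 _ (mem_subgroupOf.1 a.2)

universe u

/-- **`J₃`** -/
theorem rowB_j3 {K : Type u} [Group K] [Finite K] (h : Spor.IsoJ3 K) : RowB 2 K := by
  obtain ⟨-, z, Q, v, ρ, n, u, F⟩ := KFacts.J3.exists_facts h
  have M := F.model
  have hn := H72.ModelFacts.normal_Q M
  have hz2 : z * z = 1 := congrArg Subtype.val M.z_sq
  have hz1 : z ≠ 1 := fun e => M.z_ne (Subtype.ext e)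
  have hz : orderOf z = 2 := orderOf_eq_prime (by rw [pow_two]; exact hz2) hz1
  have hL := Held.Ext.large_of_hyp z hz Q (H72.ModelFacts.isExtraspecial M) (Cfsg.Agent.H44.CJ3.cent_le M)
  refine rowB_of_large hL (Cfsg.Agent.LargeExtra.Base.isPGroup hL) fun A hA hzA hAc hN => ?_
  have hAn := normal_sub hN
  have hA2 := pgroup_sub (z := z) hA
  have h5 : 4 < Fintype.card (Fin 5) := by decide
  have hsimp : IsSimpleGroup (alternatingGroup (Fin 5)) := alternatingGroup.isSimpleGroup (by rw [Nat.card_eq_fintype_card, Fintype.card_fin])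
  have h1 := map_eq_bot (H72.ModelFacts.proj_surj M) Nat.prime_five (by norm_num) (by
    rw [nat_card_alternatingGroup, Nat.card_eq_fintype_card, Fintype.card_fin]
    decide) hA2
  rw [Subgroup.map_eq_bot_iff, H72.ModelFacts.proj_ker M] at h1
  -- `A` as a subgroup of `Q`
  have h2 := H72.ModelFacts.card_le_four M ((A.subgroupOf (centralizer ({z} : Set K))).subgroupOf Q) ⟨⟨⟨?_⟩⟩, ?_⟩
  · rw [Nat.card_congr (subgroupOfEquivOfLe h1).toEquiv, Nat.card_congr (subgroupOfEquivOfLe hAc).toEquiv] at h2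
    omega
  · rintro ⟨a, ha⟩ ⟨b, hb⟩
    have h3 := congrArg Subtype.val
      (hA.1.is_comm.comm ⟨_, mem_subgroupOf.1 (mem_subgroupOf.1 ha)⟩ ⟨_, mem_subgroupOf.1 (mem_subgroupOf.1 hb)⟩)
    exact Subtype.ext (Subtype.ext (Subtype.ext h3))
  · intro a ha
    apply Subtype.ext
    apply Subtype.ext
    exact hA.2 _ (mem_subgroupOf.1 (mem_subgroupOf.1 ha))

/-- an automorphism of prime order `r` fixes every vector of a small invariant subspace -/
theorem fix_small {V : Type*} [AddCommGroup V] [Module (ZMod 2) V] [Finite V] {r : ℕ} (hr : r.Prime) (hr2 : r ≠ 2)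
    {F : V ≃ₗ[ZMod 2] V} (hF : F ^ r = 1) {U : Submodule (ZMod 2) V} (hU : ∀ v ∈ U, F v ∈ U) {n : ℕ}
    (hcard : Nat.card U ≤ 2 ^ n) (hn : ∀ k, 1 ≤ k → k ≤ n → ¬ r ∣ 2 ^ k - 1) : ∀ v ∈ U, F v = v := by
  have : Fact r.Prime := ⟨hr⟩
  have hUpow : ∀ (k : ℕ) (v : V), v ∈ U → (F ^ k) v ∈ U := by
    intro k
    induction k with
    | zero => intro v hv; rw [pow_zero]; exact hv
    | succ k ih => intro v hv; rw [pow_succ]; exact ih _ (hU v hv)
  -- the cyclic group acts on `U`
  let C : Subgroup (V ≃ₗ[ZMod 2] V) := zpowers F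
  have hC : IsPGroup r ↥C := by
    have h1 : Nat.card C ∣ r := by
      rw [Nat.card_zpowers]
      exact orderOf_dvd_of_pow_eq_one hF
    rcases (Nat.dvd_prime hr).1 h1 with h | h
    · exact IsPGroup.of_card (n := 0) (by rw [h, pow_zero])
    · exact IsPGroup.of_card (n := 1) (by rw [h, pow_one])
  have hCU : ∀ g ∈ C, ∀ v ∈ U, g v ∈ U := by
    intro g hg v hv
    have hfin : IsOfFinOrder F := isOfFinOrder_iff_pow_eq_one.2 ⟨r, hr.pos, hF⟩
    obtain ⟨k, hk⟩ := (Submonoid.mem_powers_iff _ _).1 (hfin.mem_powers_iff_mem_zpowers.2 hg)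
    rw [← hk]
    exact hUpow k v hv
  let act : MulAction ↥C ↥U :=
    { smul := fun g v => ⟨(g : V ≃ₗ[ZMod 2] V) v, hCU g g.2 v v.2⟩
      one_smul := fun v => Subtype.ext rfl
      mul_smul := fun a b v => Subtype.ext rfl }
  have hmod := hC.card_modEq_card_fixedPoints ↥U
  -- the fixed points form a submodule
  let W : Submodule (ZMod 2) V := U ⊓ LinearMap.ker ((F : V →ₗ[ZMod 2] V) - LinearMap.id)
  have hW : ∀ v, v ∈ W ↔ v ∈ U ∧ F v = v := by
    intro v
    change v ∈ U ∧ _ ↔ _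
    rw [SetLike.mem_coe, LinearMap.mem_ker, LinearMap.sub_apply, sub_eq_zero]
    rfl
  have hWc : Nat.card (MulAction.fixedPoints ↥C ↥U) = Nat.card W := by
    refine Nat.card_congr ⟨fun v => ⟨(v : ↥U), (hW _).2 ⟨(v : ↥U).2, ?_⟩⟩, fun v => ⟨⟨v, ((hW _).1 v.2).1⟩, ?_⟩,
      fun v => rfl, fun v => rfl⟩
    · exact congrArg Subtype.val (v.2 ⟨F, mem_zpowers F⟩)
    · rintro ⟨g, hg⟩
      apply Subtype.ext
      change g (v : V) = v
      have h1 : zpowers F ≤ MulAction.stabilizer (V ≃ₗ[ZMod 2] V) (v : V) := by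
        rw [zpowers_le]
        exact ((hW _).1 v.2).2
      exact h1 hg
  rw [hWc] at hmod
  have h2 : ∀ X : Submodule (ZMod 2) V, ∃ a, Nat.card X = 2 ^ a := by
    intro X
    refine ⟨Module.finrank (ZMod 2) X, ?_⟩
    rw [Module.natCard_eq_pow_finrank (K := ZMod 2), Nat.card_zmod]
  obtain ⟨a, ha⟩ := h2 U
  obtain ⟨b, hb⟩ := h2 W
  have hWU : W ≤ U := inf_le_left
  have hle : Nat.card W ≤ Nat.card U := Nat.card_le_card_of_injective _ (Submodule.inclusion_injective hWU)
  have hba : b ≤ a := by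
    rw [ha, hb] at hle
    exact (Nat.pow_le_pow_iff_right (by norm_num)).1 hle
  have han : a ≤ n := by
    rw [ha] at hcard
    exact (Nat.pow_le_pow_iff_right (by norm_num)).1 hcard
  have hab : a = b := by
    by_contra hne
    have h3 := (Nat.modEq_iff_dvd' hle).1 hmod.symm
    rw [ha, hb] at h3
    obtain ⟨k, rfl⟩ := Nat.exists_eq_add_of_le hba
    rw [pow_add, show 2 ^ b * 2 ^ k - 2 ^ b = 2 ^ b * (2 ^ k - 1) by rw [Nat.mul_sub, mul_one]] at h3
    rcases hr.dvd_mul.1 h3 with h4 | h4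
    · exact hr2 ((Nat.prime_dvd_prime_iff_eq hr Nat.prime_two).1 (hr.dvd_of_dvd_pow h4))
    · exact hn k (by omega) (by omega) h4
  intro v hv
  have hWU' : W = U := by
    apply SetLike.coe_injective
    refine Set.eq_of_subset_of_ncard_le hWU ?_
    rw [← Nat.card_coe_set_eq, ← Nat.card_coe_set_eq]
    change Nat.card U ≤ Nat.card W
    rw [ha, hb, hab]
  have h3 : v ∈ W := by rw [hWU']; exact hv
  exact ((hW v).1 h3).2

section kerOn

variable {G : Type*} [Group G] {Q : Subgroup G} {z : G} (h : Large Q z) (U : Submodule (ZMod 2) h.V)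
  (hinv : ∀ c : centralizer ({z} : Set G), ∀ v ∈ U, h.act c v ∈ U)

theorem act_act_inv (c : centralizer ({z} : Set G)) (v : h.V) : h.act c (h.act c⁻¹ v) = v := by
  rw [← LinearEquiv.mul_apply, ← map_mul, mul_inv_cancel, map_one]
  rfl

theorem act_inv_act (c : centralizer ({z} : Set G)) (v : h.V) : h.act c⁻¹ (h.act c v) = v := by
  rw [← LinearEquiv.mul_apply, ← map_mul, inv_mul_cancel, map_one]
  rfl

/-- the elements acting trivially on an invariant subspace -/
def kerOn : Subgroup (centralizer ({z} : Set G)) where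
  carrier := {c | ∀ v ∈ U, h.act c v = v}
  one_mem' := fun v _ => by rw [map_one]; rfl
  mul_mem' := fun {a b} ha hb v hv => by
    rw [map_mul, LinearEquiv.mul_apply, hb v hv, ha v hv]
  inv_mem' := fun {a} ha v hv => by
    conv_lhs => rw [← ha v hv]
    exact act_inv_act h a v

include hinv in
theorem kerOn_normal : (kerOn h U).Normal := by
  refine ⟨fun a ha c v hv => ?_⟩
  rw [map_mul, map_mul, LinearEquiv.mul_apply, LinearEquiv.mul_apply, ha _ (hinv c⁻¹ v hv), act_act_inv]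

end kerOn

theorem rowB_of_hyp {K : Type u} [Group K] [Finite K] {t : K} {Q N M : Subgroup (centralizer ({t} : Set K))}
    (H : _root_.Cfsg.Agent.J4Type.Hyp t Q N M) : RowB 2 K := by
  have hL := H.large
  have hQn := H.Qn
  have hNn := H.Nn
  have hMn := H.Mn
  obtain ⟨r, hr, hrQ, hr3⟩ := H.exists_r
  refine rowB_of_large H.large (Cfsg.Agent.LargeExtra.Base.isPGroup H.large) fun A hA hzA hAc hN => ?_
  have hAn := normal_sub hN
  have hA2 := pgroup_sub (z := t) hA
  obtain ⟨A', hA'⟩ : ∃ A', A' = A.subgroupOf (centralizer ({t} : Set K)) := ⟨_, rfl⟩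
  rw [← hA'] at hAn hA2
  obtain ⟨π, hs, hker⟩ := H.pi
  have : IsSimpleGroup Cfsg.Spor.M22 := Cfsg.Agent.SporadicA.MathieuRecog.simple_M22
  have : Finite Cfsg.Spor.M22 := inferInstance
  have hAMn : (A'.subgroupOf M).Normal := inferInstance
  have h1 := map_eq_bot hs (q := 11) (by norm_num) (by norm_num)
    (by rw [Cfsg.Agent.SporadicA.MathieuRecog.card_M22]; norm_num) (A := A'.subgroupOf M)
    (hA2.comap_of_injective _ (Subgroup.subtype_injective _))
  have hAMN : ∀ a ∈ A', a ∈ M → a ∈ N := by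
    intro a ha haM
    refine (hker ⟨a, haM⟩).1 ?_
    have h2 : π ⟨a, haM⟩ ∈ (A'.subgroupOf M).map π := mem_map_of_mem _ (mem_subgroupOf.2 ha)
    rw [h1, mem_bot] at h2
    exact h2
  have hAM : ∀ a ∈ A', a ∈ M := by
    intro a ha
    refine H.out a fun m hm => ?_
    have h2 : a * (m * a⁻¹ * m⁻¹) ∈ A' := A'.mul_mem ha (hAn.conj_mem _ (A'.inv_mem ha) m)
    have h3 : a * m * a⁻¹ * m⁻¹ ∈ M := M.mul_mem (hMn.conj_mem m hm a) (M.inv_mem hm)
    refine hAMN _ ?_ h3
    rw [show a * m * a⁻¹ * m⁻¹ = a * (m * a⁻¹ * m⁻¹) by group]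
    exact h2
  have hAQ : A' ≤ Q := by
    intro a ha
    rw [← H.act_eq_one]
    have h2 : H.large.act a ^ 2 = 1 := by
      rw [← map_pow]
      have : a ^ 2 = 1 := Subtype.ext (hA.2 _ (by rw [hA'] at ha; exact mem_subgroupOf.1 ha))
      rw [this, map_one]
    have hρ3 : H.large.act r ^ 3 = 1 := by rw [← map_pow, hr3, map_one]
    have h3 : H.large.act a ^ 3 = 1 := by
      rcases H.act_N hr hrQ hr3 (hAMN a ha (hAM a ha)) with h | h | h
      · rw [h, one_pow]
      · rw [h, hρ3]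
      · rw [h, ← pow_mul, mul_comm, pow_mul, hρ3, one_pow]
    calc H.large.act a = H.large.act a ^ 3 * (H.large.act a ^ 2)⁻¹ := by group
      _ = 1 := by rw [h2, h3]; group
  -- the submodule
  obtain ⟨U, hU⟩ : ∃ U, U = Cfsg.Agent.LargeExtra.Local.sub H.large A := ⟨_, rfl⟩
  have hAQ' : A ≤ Q.map (centralizer ({t} : Set K)).subtype := by
    intro a ha
    refine ⟨⟨a, hAc ha⟩, hAQ ?_, rfl⟩
    rw [hA']
    exact mem_subgroupOf.2 ha
  have hcomm : ∀ a ∈ A, ∀ b ∈ A, a * b = b * a := by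
    intro a ha b hb
    exact congrArg Subtype.val (hA.1.is_comm.comm ⟨a, ha⟩ ⟨b, hb⟩)
  have hiso : Nat.card U * Nat.card U ≤ Nat.card H.large.V := by
    refine Cfsg.Agent.LargeExtra.Perp.card_sq_le H.large U ?_
    rw [hU]
    rintro _ ⟨x, hx, rfl⟩ _ ⟨y, hy, rfl⟩
    rw [H.large.b_pr]
    exact hcomm _ hx _ hy
  rw [H.card_V] at hiso
  have hUcard : Nat.card U ≤ 2 ^ 6 := by
    by_contra hcon
    push Not at hcon
    have := Nat.mul_lt_mul'' hcon hcon
    norm_num only [] at this hiso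
    omega
  -- invariance
  have hinv : ∀ c : centralizer ({t} : Set K), ∀ v ∈ U, H.large.act c v ∈ U := by
    intro c v hv
    rw [hU] at hv ⊢
    obtain ⟨x, hx, rfl⟩ := hv
    rw [H.large.act_pr]
    exact ⟨_, (mem_normalizer_iff.1 (hN c.2) x).1 hx, rfl⟩
  -- the elements acting trivially
  obtain ⟨L, hLm⟩ : ∃ L, L = kerOn H.large U := ⟨_, rfl⟩
  have hLn : L.Normal := by rw [hLm]; exact kerOn_normal H.large U hinv
  have hLmem : ∀ {c}, c ∈ L ↔ ∀ v ∈ U, H.large.act c v = v := by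
    intro c
    rw [hLm]
    exact Iff.rfl
  have hQL : Q ≤ L := by
    intro q hq
    rw [hLmem]
    intro v _
    rw [H.act_eq_one.2 hq]
    rfl
  -- an element of order `11`
  have : Fact (Nat.Prime 11) := ⟨by norm_num⟩
  obtain ⟨g, hg⟩ := exists_prime_orderOf_dvd_card' (G := Cfsg.Spor.M22) 11
    (by rw [Cfsg.Agent.SporadicA.MathieuRecog.card_M22]; norm_num)
  obtain ⟨m, hm⟩ := hs g
  have hg11 : g ^ 11 = 1 := by rw [← hg]; exact pow_orderOf_eq_one g
  have hg3 : g ^ 3 ≠ 1 := by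
    intro h
    have := orderOf_dvd_of_pow_eq_one h
    rw [hg] at this
    omega
  have hmN : (m : centralizer ({t} : Set K)) ^ 11 ∈ N := (hker (m ^ 11)).1 (by rw [map_pow, hm, hg11])
  have hF : H.large.act ((m : centralizer ({t} : Set K)) ^ 3) ^ 11 = 1 := by
    rw [← map_pow, ← pow_mul, show 3 * 11 = 11 * 3 from rfl, pow_mul, map_pow]
    have hρ3 : H.large.act r ^ 3 = 1 := by rw [← map_pow, hr3, map_one]
    rcases H.act_N hr hrQ hr3 hmN with h | h | h
    · rw [h, one_pow]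
    · rw [h, hρ3]
    · rw [h, ← pow_mul, mul_comm, pow_mul, hρ3, one_pow]
  have hmL : (m : centralizer ({t} : Set K)) ^ 3 ∈ L := by
    rw [hLmem]
    refine fix_small (by norm_num) (by norm_num) hF (hinv _) hUcard ?_
    intro k hk1 hk2
    interval_cases k <;> norm_num
  -- `M ≤ L`
  have hLMn : (L.subgroupOf M).Normal := inferInstance
  have hcov := H.cover (L.subgroupOf M) π hs (k := m ^ 3) (mem_subgroupOf.2 hmL) (by rw [map_pow, hm]; exact hg3)
  have hdec : ∀ x ∈ M, ∃ l ∈ L, ∃ y ∈ N, x = l * y := by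
    intro x hx
    obtain ⟨k, hk, e⟩ := hcov ⟨x, hx⟩
    refine ⟨k, mem_subgroupOf.1 hk, (k : centralizer ({t} : Set K))⁻¹ * x, ?_, by group⟩
    refine (hker (k⁻¹ * ⟨x, hx⟩)).1 ?_
    rw [map_mul, map_inv, e, inv_mul_cancel]
  have hML : M ≤ L := by
    refine H.M_le L hQL fun x hx y hy => ?_
    obtain ⟨l, hl, a, ha, rfl⟩ := hdec x hx
    obtain ⟨l', hl', b, hb, rfl⟩ := hdec y hy
    -- modulo `L` everything commutes
    rw [← QuotientGroup.eq_one_iff (N := L), ← QuotientGroup.mk'_apply, map_commutatorElement, commutatorElement_eq_one_iff_mul_comm]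
    have e1 : QuotientGroup.mk' L (l * a) = QuotientGroup.mk' L a := by
      rw [map_mul, (QuotientGroup.eq_one_iff l).2 hl |> fun h => (show QuotientGroup.mk' L l = 1 from h), one_mul]
    have e2 : QuotientGroup.mk' L (l' * b) = QuotientGroup.mk' L b := by
      rw [map_mul, (show QuotientGroup.mk' L l' = 1 from (QuotientGroup.eq_one_iff l').2 hl'), one_mul]
    rw [e1, e2]
    have h5 : ⁅a, b⁆ ∈ L := hQL (H.cent (commutator_mem_commutator (H.NM ha) hb))
    rw [← commutatorElement_eq_one_iff_mul_comm, ← map_commutatorElement]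
    exact (QuotientGroup.eq_one_iff _).2 h5
  have hrL : r ∈ L := hML (H.NM hr)
  have hU0 : U = ⊥ := by
    rw [eq_bot_iff]
    intro v hv
    exact (Submodule.mem_bot _).2 (H.rho_free hr hrQ hr3 (hLmem.1 hrL v hv))
  have hcardA := Cfsg.Agent.LargeExtra.Local.card_sub H.large hzA
  rw [← hU, hU0, inf_eq_left.2 hAQ'] at hcardA
  rw [hcardA]
  have : Nat.card (⊥ : Submodule (ZMod 2) H.large.V) = 1 := Nat.card_unique
  rw [this]
  norm_num

/-- **`J₄`** -/
theorem rowB_j4 {K : Type u} [Group K] [Finite K] (h : Spor.IsoJ4 K) : RowB 2 K := by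
  obtain ⟨t, Q, N, M, H⟩ := Cfsg.Agent.KFacts.J4.Transport.exists_hyp_of_iso h
  exact rowB_of_hyp H

end Cfsg.Agent.H538.PU
end

-- part: H331/P1/Comb
section
/-!
# S3046, case B for the groups of Lie type: root combinatorics (helper331)

`DR cs h a` : a dominant positive root `a`.
* `DR.cpr_nonneg`, `cpr_sum` : `⟨x, a^∨⟩ = ∑ x_k ⟨α_k, a^∨⟩`; `DR.coef` : `2 = ∑ a_k ⟨α_k, a^∨⟩`;
* `exists_ld` : a dominant root of maximal length; `LD.comm` : `X x` centralises `X a` if `⟨x, a^∨⟩ ≥ 0`;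
* `comm_ne_of_long` : in an `A₂`-plane of long roots nontrivial root elements do not commute;
* `move` : a root with the same coefficients outside `J` and the same length as `α_i` is conjugate to `α_i` under `W_J`;
* `contra_gen`, `contra` : the contradiction.
-/

set_option autoImplicit false
set_option linter.unusedSectionVars false

namespace Cfsg.Agent.H331.P1

open CoxeterSystem Cfsg.Agent.ChevalleyStructure.CoxeterGeom Cfsg.Agent.Tits.Roots Cfsg.Agent.Tits.Core
  Cfsg.Agent.Tits.Exchange Cfsg.Agent.Nodes.Reps Cfsg.Agent.Nodes.BNOf Cfsg.Agent.Nodes.StabComb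
  Cfsg.Agent.Nodes.Bruhat Cfsg.Agent.Nodes.OppDec Cfsg.Agent.Nodes.PosPair Cfsg.Agent.Nodes.Coroot
  Cfsg.Agent.KFacts.RgdSL Cfsg.Agent.KFacts.RgdFilt Cfsg.Agent.KFacts.RgdBorelTits
open scoped commutatorElement

variable {I W Y : Type*} [Fintype I] [DecidableEq I] [Group W] [Group Y] {M : CoxeterMatrix I}
  {cs : CoxeterSystem M W} {A : I → I → ℤ} {h : IsCartan M A} {p : ℕ} {T : Subgroup Y} {n : I → Y}
  {X : (I → ℤ) → Subgroup Y}

/-! ### coefficients -/

theorem eq_sum_sr (x : I → ℤ) : x = ∑ k, x k • sr k := by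
  funext b
  rw [Finset.sum_apply]
  simp only [Pi.smul_apply, smul_eq_mul, sr, Pi.single_apply]
  simp only [_root_.mul_ite, _root_.mul_one, _root_.MulZeroClass.mul_zero, _root_.Finset.sum_ite_eq, _root_.Finset.mem_univ, ↓ _root_.reduceIte]

theorem cpr_sum [Finite W] (x : I → ℤ) {y : I → ℤ} (hy : IsRoot cs h y) :
    cpr cs h x y = ∑ k, x k * cpr cs h (sr k) y := by
  have h1 : ell cs h hy x = ∑ k, x k * ell cs h hy (sr k) := by
    conv_lhs => rw [eq_sum_sr x]
    rw [map_sum]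
    refine Finset.sum_congr rfl fun k _ => ?_
    rw [map_zsmul, smul_eq_mul]
  exact h1

/-- a dominant positive root -/
structure DR (cs : CoxeterSystem M W) (h : IsCartan M A) (a : I → ℤ) : Prop where
  root : IsRoot cs h a
  nonneg : 0 ≤ a
  dom : Dom A a

theorem DR.cpr_nonneg [Finite W] {a : I → ℤ} (ha : DR cs h a) {x : I → ℤ} (hx : 0 ≤ x) : 0 ≤ cpr cs h x a := by
  have := Fintype.ofFinite W
  have h1 := form_nonneg_of_dom cs h ha.dom hx
  have h2 := two_form_cpr cs h x ha.root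
  have h3 := form_pos cs h ha.root.ne_zero
  rw [form_comm] at h1
  by_contra hcon
  push Not at hcon
  have := mul_neg_of_neg_of_pos hcon h3
  linarith only [h, h1, h2, this]

/-! ### long roots -/

/-- a dominant root of maximal length -/
structure LD (cs : CoxeterSystem M W) (h : IsCartan M A) (a : I → ℤ) : Prop extends DR cs h a where
  long : ∀ [Fintype W] (x : I → ℤ), IsRoot cs h x → form cs h x x ≤ form cs h a a

theorem LD.le_one [Finite W] {a : I → ℤ} (ha : LD cs h a) {x : I → ℤ} (hx : IsRoot cs h x) (hxa : x ≠ a) :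
    cpr cs h x a ≤ 1 := by
  have := Fintype.ofFinite W
  by_cases hxa' : x = -a
  · rw [hxa', cpr_neg_left _ ha.root, cpr_self cs h ha.root]; norm_num
  have h1 := gram_pos cs h hx ha.root hxa hxa'
  have h2 := two_form_cpr cs h x ha.root
  have h3 := form_pos cs h ha.root.ne_zero
  have h4 := ha.long x hx
  by_contra hcon
  push Not at hcon
  have h5 : form cs h a a ≤ form cs h x a := by nlinarith only [h, h2, h3, hcon]
  nlinarith only [h, h1, h3, h4, h5]

theorem comm_of_ib {x y : I → ℤ} (hI : IntComm cs h X) (hx : IsRoot cs h x) (hy : IsRoot cs h y) (hxy : x ≠ y)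
    (hxy' : x ≠ -y) (hb : ∀ z, ¬ IB cs h x y z) {u v : Y} (hu : u ∈ X x) (hv : v ∈ X y) : u * v = v * u := by
  have h1 := hI x y hx hy hxy hxy' u hu v hv
  have h2 : FS X {z | IB cs h x y z} = ⊥ := by
    rw [eq_bot_iff]
    exact FS_le fun z hz => absurd hz (hb z)
  rwa [h2, Subgroup.mem_bot, commutatorElement_eq_one_iff_mul_comm] at h1

/-- `X x` centralises `X a` if `⟨x, a^∨⟩ ≥ 0`, for a long root `a`. -/
theorem LD.comm [Finite W] {a : I → ℤ} (ha : LD cs h a) (hI : IntComm cs h X) {x : I → ℤ} (hx : IsRoot cs h x)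
    (hxa : x ≠ a) (h0 : 0 ≤ cpr cs h x a) {u v : Y} (hu : u ∈ X x) (hv : v ∈ X a) : u * v = v * u := by
  have hxa' : x ≠ -a := by
    rintro rfl
    rw [cpr_neg_left _ ha.root, cpr_self cs h ha.root] at h0
    omega
  refine comm_of_ib hI hx ha.root hxa hxa' ?_ hu hv
  rintro z ⟨hz, i, j, hi, hj, e⟩
  have h1 : 2 ≤ cpr cs h z a := by
    rw [e, cpr_add cs h _ _ ha.root, cpr_smul cs h _ _ ha.root, cpr_smul cs h _ _ ha.root, cpr_self cs h ha.root]
    have := mul_nonneg hi.le h0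
    omega
  have h2 : z = a := by
    by_contra hne
    have := ha.le_one hz hne
    omega
  have h3 : i • x = (1 - j) • a := by
    rw [sub_smul, one_smul]
    rw [h2] at e
    calc i • x = (i • x + j • a) - j • a := by abel
      _ = a - j • a := by rw [← e]
  rcases eq_or_eq_neg_of_smul cs h hx ha.root hi.ne' h3 with h4 | h4
  · exact hxa h4
  · exact hxa' h4

/-! ### reflections in the group -/

/-! ### The contradiction -/

end Cfsg.Agent.H331.P1
end

-- part: H331/P1/Cen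
section
/-!
# S3046, case B: central root elements from a filtration (helper331)

`exists_cen` : a root group datum with a filtration (`Filt`; all groups of Lie type but `Sz`, `Ree`, `²F₄`) has a dominant
root `r` and a subgroup `1 ≠ R₀ ≤ X r` centralised by `X x` for all roots `x` with `⟨x, r^∨⟩ ≥ 0`.

Proof: `s_x = min {s : F x s ≠ 1}` is invariant under `W`. Take `r` with `(r, r) / s_r²` maximal, dominant, and
`f = (s_r / 2) ⟨·, r^∨⟩`. Then `f r = s_r` and `f z < s_z` for the other roots (Cauchy-Schwarz).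
-/

set_option autoImplicit false
set_option linter.unusedSectionVars false

namespace Cfsg.Agent.H331.P1

open CoxeterSystem Cfsg.Agent.ChevalleyStructure.CoxeterGeom Cfsg.Agent.Tits.Roots Cfsg.Agent.Tits.Core
  Cfsg.Agent.Tits.Exchange Cfsg.Agent.Nodes.Reps Cfsg.Agent.Nodes.BNOf Cfsg.Agent.Nodes.StabComb
  Cfsg.Agent.Nodes.Bruhat Cfsg.Agent.Nodes.OppDec Cfsg.Agent.Nodes.PosPair Cfsg.Agent.Nodes.Coroot
  Cfsg.Agent.KFacts.RgdSL Cfsg.Agent.KFacts.RgdFilt Cfsg.Agent.KFacts.RgdBorelTits Cfsg.Agent.KFacts.RgdCharP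
open scoped commutatorElement

variable {I W Y : Type*} [Fintype I] [DecidableEq I] [Group W] [Group Y] {M : CoxeterMatrix I}
  {cs : CoxeterSystem M W} {A : I → I → ℤ} {h : IsCartan M A} {p : ℕ} {T : Subgroup Y} {n : I → Y}
  {X : (I → ℤ) → Subgroup Y}

/-! ### the levels -/

/-- `s` is the least `s` with `F x s ≠ 1` -/
structure Lv (F : (I → ℤ) → ℝ → Subgroup Y) (x : I → ℤ) (s : ℝ) : Prop where
  pos : 0 < s
  ne : F x s ≠ ⊥
  min : ∀ t < s, F x t = ⊥

theorem Lv.unique {F : (I → ℤ) → ℝ → Subgroup Y} {x : I → ℤ} {s t : ℝ} (hs : Lv F x s) (ht : Lv F x t) : s = t := by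
  rcases lt_trichotomy s t with h1 | h1 | h1
  · exact absurd (ht.min s h1) hs.ne
  · exact h1
  · exact absurd (hs.min t h1) ht.ne

section

variable [Finite W] [Finite Y] {R : RGD cs h p T n X} {F : (I → ℤ) → ℝ → Subgroup Y} (hF : Filt R F)

include hF

theorem exists_lv {x : I → ℤ} (hx : IsRoot cs h x) : ∃ s, Lv F x s := by
  set E : Set ℝ := {s | F x s ≠ ⊥} with hE
  have hE' : E = ⋃ u : {u : Y // u ≠ 1}, {s : ℝ | u.1 ∈ F x s} := by
    ext s
    simp only [hE, Set.mem_ofPred_eq, Set.mem_iUnion, Subgroup.ne_bot_iff_exists_ne_one]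
    constructor
    · rintro ⟨⟨u, hu⟩, h1⟩
      exact ⟨⟨u, fun h2 => h1 (Subtype.ext h2)⟩, hu⟩
    · rintro ⟨⟨u, h1⟩, hu⟩
      exact ⟨⟨u, hu⟩, fun h2 => h1 (congrArg Subtype.val h2)⟩
  have hcl : IsClosed E := by
    rw [hE']
    exact isClosed_iUnion_of_finite fun u => hF.closed x hx u.1
  obtain ⟨C, hC, hC1⟩ := hF.full
  have hne : E.Nonempty := by
    refine ⟨C, fun h0 => X_ne_bot R hx ?_⟩
    rw [eq_bot_iff, ← h0]
    exact hC1 x C hx le_rfl
  have hlb : ∀ s ∈ E, 0 < s := by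
    intro s hs
    by_contra h0
    exact hs (hF.neg x s hx (not_lt.1 h0))
  have hbd : BddBelow E := ⟨0, fun s hs => (hlb s hs).le⟩
  have h1 := hcl.csInf_mem hne hbd
  refine ⟨sInf E, hlb _ h1, h1, fun t ht => ?_⟩
  by_contra h2
  exact notMem_of_lt_csInf ht hbd h2

theorem lv_simple {x : I → ℤ} (hx : IsRoot cs h x) {s : ℝ} (hs : Lv F x s) (k : I) :
    Lv F (rep cs h (cs.simple k) x) s := by
  have h1 : ∀ t, F (rep cs h (cs.simple k) x) t = ⊥ ↔ F x t = ⊥ := by
    intro t
    rw [← hF.conj k x t hx]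
    unfold cj
    exact Subgroup.map_eq_bot_iff_of_injective _ (MulAut.conj (n k)).injective
  exact ⟨hs.pos, fun h2 => hs.ne ((h1 _).1 h2), fun t ht => (h1 _).2 (hs.min t ht)⟩

/-- the dominant root with `(r, r) / s_r²` maximal -/
theorem exists_max_root [Nonempty I] : ∃ (r : I → ℤ) (q : ℝ), DR cs h r ∧ Lv F r q ∧
    ∀ [Fintype W] (x : I → ℤ) (t : ℝ), IsRoot cs h x → Lv F x t →
      (form cs h x x : ℝ) * q ^ 2 ≤ (form cs h r r : ℝ) * t ^ 2 := by
  classical
  have hFin := Fintype.ofFinite W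
  have hr : ∀ v : W × I, IsRoot cs h (rep cs h v.1 (sr v.2)) := fun v => ⟨v.1, v.2, rfl⟩
  choose g hg using fun v : W × I => exists_lv hF (hr v)
  obtain ⟨v, hm⟩ := Finite.exists_max (fun v : W × I =>
    toLex ((form cs h (rep cs h v.1 (sr v.2)) (rep cs h v.1 (sr v.2)) : ℝ) / (g v) ^ 2, ht (rep cs h v.1 (sr v.2))))
  set r := rep cs h v.1 (sr v.2) with hrdef
  set q := g v with hq
  have hroot : IsRoot cs h r := hr v
  have hmax : ∀ x t, IsRoot cs h x → Lv F x t →
      toLex ((form cs h x x : ℝ) / t ^ 2, ht x) ≤ toLex ((form cs h r r : ℝ) / q ^ 2, ht r) := by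
    rintro x t ⟨w, j, rfl⟩ hx
    have h1 := hm (w, j)
    have h2 : g (w, j) = t := (hg (w, j)).unique hx
    rw [h2] at h1
    exact h1
  have hdom : Dom A r := by
    intro k
    by_contra hk
    push Not at hk
    have h1 := hmax _ q (hroot.act (cs.simple k)) (lv_simple hF hroot (hg v) k)
    rw [form_rep, ht_simple, Prod.Lex.le_iff] at h1
    rcases h1 with h1 | ⟨_, h1⟩
    · exact lt_irrefl _ h1
    · have : ht r - pairing A k r ≤ ht r := h1
      omega
  refine ⟨r, q, ⟨hroot, ?_, hdom⟩, hg v, ?_⟩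
  · rcases hroot.pos_or_neg with h1 | h1
    · exact h1
    · exfalso
      have h2 := form_nonneg_of_dom cs h hdom (y := -r) (by rwa [Left.nonneg_neg_iff])
      rw [form_neg_right] at h2
      have h3 := form_pos cs h hroot.ne_zero
      linarith only [h, h2, h3]
  · intro hF' x t hx hxt
    have : hF' = hFin := Subsingleton.elim _ _
    subst this
    have h1 := hmax x t hx hxt
    rw [Prod.Lex.le_iff] at h1
    have h2 : (form cs h x x : ℝ) / t ^ 2 ≤ (form cs h r r : ℝ) / q ^ 2 := by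
      rcases h1 with h1 | ⟨h1, _⟩
      · exact h1.le
      · exact le_of_eq h1
    rwa [div_le_div_iff₀ (pow_pos hxt.pos 2) (pow_pos (hg v).pos 2)] at h2

/-- **Central root elements.** -/
theorem exists_cen [Nonempty I] [Fact p.Prime] : ∃ (r : I → ℤ) (R₀ : Subgroup Y), DR cs h r ∧ R₀ ≤ X r ∧ R₀ ≠ ⊥ ∧
    ∀ x, IsRoot cs h x → 0 ≤ cpr cs h x r → X x ≤ Subgroup.centralizer (R₀ : Set Y) := by
  have hFin := Fintype.ofFinite W
  obtain ⟨r, q, hr, hq, hmax⟩ := exists_max_root hF
  have hrp := hr.root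
  have hq0 := hq.pos
  have haR : (0 : ℝ) < (form cs h r r : ℝ) := by exact_mod_cast form_pos cs h hrp.ne_zero
  set f : I → ℝ := fun k => q / 2 * (cpr cs h (sr k) r : ℝ) with hf
  have hev : ∀ x, ev f x = q / 2 * (cpr cs h x r : ℝ) := by
    intro x
    rw [ev_apply, cpr_sum x hrp, Int.cast_sum, Finset.mul_sum]
    refine Finset.sum_congr rfl fun k _ => ?_
    rw [hf, Int.cast_mul]
    ring
  have hevr : ev f r = q := by
    rw [hev, cpr_self cs h hrp]
    push_cast
    ring
  -- the other roots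
  have hlow : ∀ z, IsRoot cs h z → z ≠ r → F z (ev f z) = ⊥ := by
    intro z hz hzr
    obtain ⟨t, ht⟩ := exists_lv hF hz
    refine ht.min _ ?_
    have ht0 := ht.pos
    rw [hev]
    by_cases hc : cpr cs h z r ≤ 0
    · have h1 : (cpr cs h z r : ℝ) ≤ 0 := by exact_mod_cast hc
      have h2 := mul_nonpos_of_nonneg_of_nonpos (by positivity : 0 ≤ q / 2) h1
      linarith
    push Not at hc
    have hzr' : z ≠ -r := by
      rintro rfl
      rw [cpr_neg_left _ hrp, cpr_self cs h hrp] at hc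
      omega
    have h1 : form cs h z r * form cs h z r < form cs h z z * form cs h r r := by
      have := gram_pos cs h hz hrp hzr hzr'
      linarith
    have h2 := hmax z t hz ht
    have h3 := two_form_cpr cs h z hrp
    have h1' : (form cs h z r : ℝ) * form cs h z r < form cs h z z * form cs h r r := by exact_mod_cast h1
    have h3' : 2 * (form cs h z r : ℝ) = cpr cs h z r * form cs h r r := by exact_mod_cast h3
    set a : ℝ := (form cs h r r : ℝ)
    set b : ℝ := (form cs h z z : ℝ)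
    set c : ℝ := (form cs h z r : ℝ)
    have h4 : q / 2 * (cpr cs h z r : ℝ) * a = q * c := by
      calc q / 2 * (cpr cs h z r : ℝ) * a = q / 2 * ((cpr cs h z r : ℝ) * a) := by ring
        _ = q / 2 * (2 * c) := by rw [h3']
        _ = q * c := by ring
    have h5 : (q * c) ^ 2 < (a * t) ^ 2 := by
      calc (q * c) ^ 2 = (c * c) * q ^ 2 := by ring
        _ < (b * a) * q ^ 2 := by
            exact mul_lt_mul_of_pos_right h1' (by positivity)
        _ = a * (b * q ^ 2) := by ring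
        _ ≤ a * (a * t ^ 2) := mul_le_mul_of_nonneg_left h2 haR.le
        _ = (a * t) ^ 2 := by ring
    have h6 : q * c < a * t := lt_of_pow_lt_pow_left₀ 2 (by (clear * - ht0 haR; positivity)) h5
    rw [← h4] at h6
    have h7 : q / 2 * (cpr cs h z r : ℝ) * a < t * a := by linarith only [h6]
    exact lt_of_mul_lt_mul_right h7 haR.le
  -- commutators
  have hcomm : ∀ y, IsRoot cs h y → y ≠ r → 0 ≤ cpr cs h y r → ∀ b ∈ X y, ∀ a ∈ F r q, b * a = a * b := by
    intro y hy hyr hc b hb a ha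
    have hyr' : r ≠ -y := by
      rintro h0
      rw [h0, cpr_neg_right cs h y hy, cpr_self cs h hy] at hc
      omega
    have h1 := hF.comm f r y hrp hy (Ne.symm hyr) hyr' (by rw [hevr]; exact hq0)
      (by rw [hev]; have : (0 : ℝ) ≤ (cpr cs h y r : ℝ) := by exact_mod_cast hc
          (clear * - hq0 hc; positivity)) a (by rwa [hevr]) b hb
    have h2 : FS (fun z => F z (ev f z)) {z | Btwn cs h r y z} = ⊥ := by
      rw [eq_bot_iff]
      refine FS_le fun z hz => ?_
      rw [hlow z hz.1]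
      rintro rfl
      obtain ⟨-, m, i, j, hm, hi, hj, e⟩ := hz
      have h3 : (m - i) • z = j • y := by
        rw [sub_smul, e]; abel
      by_cases h4 : m - i = 0
      · rw [h4, zero_smul] at h3
        exact hy.ne_zero ((smul_eq_zero.1 h3.symm).resolve_left hj.ne')
      · rcases eq_or_eq_neg_of_smul cs h hrp hy h4 h3 with h5 | h5
        · exact hyr h5.symm
        · exact hyr' h5
    rw [h2, Subgroup.mem_bot, commutatorElement_eq_one_iff_mul_comm] at h1
    exact h1.symm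
  -- the centre
  have hpg : IsPGroup p ↥(X r) := by
    obtain ⟨w, i, e⟩ := hrp
    obtain ⟨g, hg⟩ := exists_rp cs R.nsys w
    have h1 := R.conj_rp hg (isRoot_sr cs h i)
    rw [← e] at h1
    rw [← h1]
    exact (R.pgrp i).map _
  have hnil : Group.IsNilpotent ↥(X r) := hpg.isNilpotent
  have hle : F r q ≤ X r := hF.le r q hrp
  let N : Subgroup ↥(X r) := (F r q).subgroupOf (X r)
  have hN : N.Normal := by
    refine ⟨fun a ha b => ?_⟩
    have h1 := hF.nrm r q hrp b.2
    exact (Subgroup.mem_normalizer_iff.1 h1 a).1 ha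
  have hN1 : N ≠ ⊥ := by
    intro h0
    apply hq.ne
    have h1 : (N.map (X r).subtype) = F r q := by
      rw [Subgroup.subgroupOf_map_subtype, inf_eq_left.2 hle]
    rw [← h1, h0, Subgroup.map_bot]
  have hZ := Lib.NormalAbelian.normal_inf_center_ne_bot N hN1
  refine ⟨r, (N ⊓ Subgroup.center ↥(X r)).map (X r).subtype, hr, Subgroup.map_subtype_le _, ?_, ?_⟩
  · rw [Ne, Subgroup.map_eq_bot_iff_of_injective _ (X r).subtype_injective]
    exact hZ
  · intro x hx hc b hb
    rw [Subgroup.mem_centralizer_iff]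
    rintro _ ⟨a, ha, rfl⟩
    by_cases hxr : x = r
    · subst hxr
      exact congrArg Subtype.val (Subgroup.mem_center_iff.1 ha.2 ⟨b, hb⟩).symm
    · exact (hcomm x hx hxr hc b hb _ ha.1).symm

end

/-- in a connected diagram of rank at least two a simple root is not dominant -/
theorem ne_sr_of_conn {a : I → ℤ} (hc : Conn M) (h2 : 2 ≤ Fintype.card I) (ha : DR cs h a) (i : I) : a ≠ sr i := by
  rintro rfl
  obtain ⟨b, hb, c, hcb, hM⟩ := hc {i} (Set.singleton_nonempty i) (by
    intro h0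
    have h1 : Fintype.card I ≤ 1 := by
      rw [Fintype.card_le_one_iff]
      intro a b
      have ha : a ∈ ({i} : Set I) := by rw [h0]; trivial
      have hb : b ∈ ({i} : Set I) := by rw [h0]; trivial
      rw [Set.mem_singleton_iff] at ha hb
      rw [ha, hb]
    omega)
  rw [Set.mem_singleton_iff] at hb hcb
  subst hb
  have h1 := ha.dom c
  have h3 : pairing A c (sr b) = A c b := by
    rw [sr, pairing_single, mul_one]
  rw [h3] at h1
  have h4 := cartan_neg h hcb (by rwa [M.symmetric c b])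
  omega

end Cfsg.Agent.H331.P1
end

-- part: H331/P1/Rank
section
/-!
# S3046, case B: the groups with a filtered root group datum (helper331)

`data_or_ti` : a simple group with `HasFilt p K` (all groups of Lie type in characteristic `p` but `Sz`, `Ree`, `²F₄`) has
either a root group datum with central root elements over a dominant root which is not simple, or its Sylow
`p`-subgroups are TI (rank one).
-/

set_option autoImplicit false
set_option linter.unusedSectionVars false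

namespace Cfsg.Agent.H331.P1

open CoxeterSystem Cfsg.Agent.ChevalleyStructure.CoxeterGeom Cfsg.Agent.Tits.Roots Cfsg.Agent.Tits.Core
  Cfsg.Agent.Tits.Exchange Cfsg.Agent.Nodes.Reps Cfsg.Agent.Nodes.BNOf Cfsg.Agent.Nodes.StabComb
  Cfsg.Agent.Nodes.Bruhat Cfsg.Agent.Nodes.OppDec Cfsg.Agent.Nodes.PosPair Cfsg.Agent.Nodes.Coroot
  Cfsg.Agent.KFacts.RgdSL Cfsg.Agent.KFacts.RgdFilt Cfsg.Agent.KFacts.RgdBorelTits Cfsg.Agent.KFacts.RgdCharP
  Cfsg.Agent.KFacts.RgdLieCharP Cfsg.Agent.KFacts.RgdCent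
open scoped commutatorElement

section

variable {I W Y : Type*} [Fintype I] [DecidableEq I] [Group W] [Group Y] {M : CoxeterMatrix I}
  {cs : CoxeterSystem M W} {A : I → I → ℤ} {h : IsCartan M A} {p : ℕ} {T : Subgroup Y} {n : I → Y}
  {X : (I → ℤ) → Subgroup Y}

theorem w_rank_one (cs : CoxeterSystem M W) [Subsingleton I] (i : I) (w : W) : w = 1 ∨ w = cs.simple i := by
  induction w using cs.simple_induction_left with
  | one => exact Or.inl rfl
  | mul_simple_left w k ih =>
    have hk : k = i := Subsingleton.elim _ _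
    subst hk
    rcases ih with h1 | h1
    · right; rw [h1, mul_one]
    · left; rw [h1, cs.simple_mul_simple_self]

theorem U_le_rank_one [Subsingleton I] (i : I) : RGD.Sup X (RGD.Pos cs h) ≤ X (sr i) := by
  refine RGD.Sup_le fun x hx => ?_
  obtain ⟨⟨w, j, rfl⟩, hx2⟩ := hx
  have hj : j = i := Subsingleton.elim _ _
  subst hj
  rcases w_rank_one cs j w with rfl | rfl
  · rw [map_one, Module.End.one_apply]
  · exfalso
    rw [rep_simple_sr cs h j] at hx2
    have h2 := hx2 j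
    simp [sr] at h2

/-- rank one: `U` meets its other conjugates trivially -/
theorem mem_B_rank_one [Finite W] (R : RGD cs h p T n X) [Subsingleton I] [Nonempty I] (hGG : GG cs h T X = ⊤) {g u : Y}
    (hu : u ∈ RGD.Sup X (RGD.Pos cs h)) (hu1 : u ≠ 1) (hg : g * u * g⁻¹ ∈ RGD.Sup X (RGD.Pos cs h)) :
    g ∈ RGD.B cs h T X := by
  obtain ⟨i⟩ := (inferInstance : Nonempty I)
  obtain ⟨w, hw⟩ := (mem_GG R).1 (show g ∈ GG cs h T X by rw [hGG]; trivial)
  rcases w_rank_one cs i w with rfl | rfl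
  · exact hw.mem_of_one
  · exfalso
    obtain ⟨b, hb, k, hk, b', hb', e⟩ := hw
    have h1 : b' * u * b'⁻¹ ∈ RGD.Sup X (RGD.Pos cs h) :=
      (Subgroup.mem_normalizer_iff.1 (R.B_le_normalizer_U hb') u).1 hu
    have h2 : b' * u * b'⁻¹ ≠ 1 := fun h0 => hu1 (by
      have : u = b'⁻¹ * (b' * u * b'⁻¹) * b' := by group
      rw [this, h0]; group)
    refine h2 (eq_one_of_conj_mem_B R (U_le_rank_one i h1) hk ?_)
    have h3 : b⁻¹ * (g * u * g⁻¹) * b⁻¹⁻¹ ∈ RGD.Sup X (RGD.Pos cs h) :=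
      (Subgroup.mem_normalizer_iff.1 (R.B_le_normalizer_U (inv_mem hb)) _).1 hg
    have h4 : k * (b' * u * b'⁻¹) * k⁻¹ = b⁻¹ * (g * u * g⁻¹) * b⁻¹⁻¹ := by
      rw [e]; group
    rw [h4]
    exact RGD.U_le_B h3

/-- **Rank one: the Sylow subgroups are TI.** -/
theorem ti_of_rank_one [Finite W] [Finite Y] [Subsingleton I] [Nonempty I] [Fact p.Prime] (R : RGD cs h p T n X)
    (hGG : GG cs h T X = ⊤) (S S' : Sylow p Y) : S = S' ∨ (S : Subgroup Y) ⊓ S' = ⊥ := by
  by_contra hcon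
  push Not at hcon
  obtain ⟨hne, hinf⟩ := hcon
  obtain ⟨U, hU⟩ : ∃ U : Sylow p Y, (U : Subgroup Y) = RGD.Sup X (RGD.Pos cs h) := by
    obtain ⟨S', hS'⟩ := R.isPGroup_Upos.exists_le_sylow
    exact ⟨S', Cfsg.Agent.Nodes.NormalForm.eq_U_of_isPGroup R S'.2 hS' (by rw [hGG]; exact le_top)⟩
  obtain ⟨a, ha⟩ := MulAction.exists_smul_eq Y U S
  obtain ⟨b, hb⟩ := MulAction.exists_smul_eq Y U S'
  rw [Subgroup.ne_bot_iff_exists_ne_one] at hinf
  obtain ⟨⟨y, hy, hy'⟩, hy1⟩ := hinf
  have hy1' : y ≠ 1 := fun h0 => hy1 (Subtype.ext h0)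
  rw [← ha] at hy
  rw [← hb] at hy'
  obtain ⟨u, hu, e1⟩ := hy
  obtain ⟨v, hv, e2⟩ := hy'
  have e1' : a * u * a⁻¹ = y := e1
  have e2' : b * v * b⁻¹ = y := e2
  have hu1 : u ≠ 1 := by
    rintro rfl
    apply hy1'
    rw [← e1']; group
  have h1 : b⁻¹ * a * u * (b⁻¹ * a)⁻¹ = v := by
    calc b⁻¹ * a * u * (b⁻¹ * a)⁻¹ = b⁻¹ * (a * u * a⁻¹) * b := by group
      _ = b⁻¹ * (b * v * b⁻¹) * b := by rw [e1', e2']
      _ = v := by group
  have h2 : b⁻¹ * a ∈ RGD.B cs h T X := by
    refine mem_B_rank_one R hGG (u := u) ?_ hu1 ?_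
    · rw [← hU]; exact hu
    · rw [h1, ← hU]; exact hv
  have h3 := R.B_le_normalizer_U h2
  rw [← hU] at h3
  have h4 : (b⁻¹ * a) • U = U := Sylow.smul_eq_iff_mem_normalizer.2 h3
  apply hne
  rw [← ha, ← hb]
  calc a • U = b • ((b⁻¹ * a) • U) := by rw [smul_smul]; congr 1; group
    _ = b • U := by rw [h4]

end

variable {p : ℕ} {K : Type*} [Group K] [Finite K] [IsSimpleGroup K] [Fact p.Prime]

/-- **The data for case B.** -/
theorem data_or_ti (hG : HasFilt p K) (hc : ∃ a b : K, a * b ≠ b * a) :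
    (∃ (l : ℕ) (M : CoxeterMatrix (Fin l)) (A : Fin l → Fin l → ℤ) (h : IsCartan M A) (T : Subgroup K) (n : Fin l → K)
      (X : (Fin l → ℤ) → Subgroup K) (_ : RGD M.toCoxeterSystem h p T n X) (r : Fin l → ℤ) (R₀ : Subgroup K),
      Finite M.Group ∧ GG M.toCoxeterSystem h T X = ⊤ ∧ NoCent M.toCoxeterSystem h T X ∧ Conn M ∧ 2 ≤ l ∧
        DR M.toCoxeterSystem h r ∧ (∀ i, r ≠ sr i) ∧ R₀ ≤ X r ∧ R₀ ≠ ⊥ ∧
        ∀ x, IsRoot M.toCoxeterSystem h x → 0 ≤ cpr M.toCoxeterSystem h x r →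
          X x ≤ Subgroup.centralizer (R₀ : Set K)) ∨
    ∀ S S' : Sylow p K, S = S' ∨ (S : Subgroup K) ⊓ S' = ⊥ := by
  obtain ⟨l, M, A, h, T, n, X, R, F, hW, hX, hF⟩ := hG
  have hc' := KFacts.RgdLieCharP.center_eq_bot hc
  have hGG := GG_eq_top (T := T) hX
  have hl : 0 < l := by
    rcases Nat.eq_zero_or_pos l with h0 | h0
    · exfalso
      subst h0
      have h1 : (⊤ : Subgroup K) = ⊥ := by
        rw [← hX, eq_bot_iff]
        refine RGD.Sup_le fun x hx => ?_
        obtain ⟨w, i, -⟩ := hx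
        exact i.elim0
      exact top_ne_bot h1
    · exact h0
  have : Nonempty (Fin l) := ⟨⟨0, hl⟩⟩
  by_cases hl1 : l = 1
  · right
    subst hl1
    exact ti_of_rank_one R hGG
  · left
    obtain ⟨r, R₀, hr, h1, h2, h3⟩ := exists_cen hF
    have hconn := conn_of_simple R hX hc'
    exact ⟨l, M, A, h, T, n, X, R, r, R₀, hW, hGG, _root_.Cfsg.Agent.KFacts.RgdLieCharP.noCent_of_center hX hc', hconn, by omega, hr,
      fun i => ne_sr_of_conn hconn (by rw [Fintype.card_fin]; omega) hr i, h1, h2, h3⟩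

end Cfsg.Agent.H331.P1
end

-- part: H331/P1/HasCen
section
/-!
# S3046, case B: `HasCen` (helper331)

`hasCen_or_ti` : `HasFilt p K`, `K` simple: `HasCen p K`, or the Sylow `p`-subgroups of `K` are TI;
`hasCen_or_ti_of_lie` : the families.
-/

set_option autoImplicit false

namespace Cfsg.Agent.H331.P1

open Cfsg.Agent.KFacts.RgdFilt Cfsg.Agent.KFacts.RgdLieCharP Cfsg.Agent.H238.CB Cfsg.Agent.Tits.Roots

variable {p : ℕ} {K : Type*} [Group K] [Finite K] [IsSimpleGroup K] [Fact p.Prime]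

theorem hasCen_or_ti (hG : HasFilt p K) (hc : ∃ a b : K, a * b ≠ b * a) :
    HasCen p K ∨ ∀ S S' : Sylow p K, S = S' ∨ (S : Subgroup K) ⊓ S' = ⊥ := by
  rcases data_or_ti hG hc with
    ⟨l, M, A, h, T, n, X, R, r, R₀, hW, hGG, -, -, -, hr, hns, h1, h2, h3⟩ | h
  · exact Or.inl ⟨l, M, A, h, T, n, X, R, r, R₀, hW, hGG,
      ⟨hr.root, h1, h2, fun i => hr.cpr_nonneg (sr_nonneg i), h3⟩, hns⟩
  · exact Or.inr h

end Cfsg.Agent.H331.P1
end

-- part: H338/Out/FixCh
section
/-!
# Frame automorphisms of `p`-power order: `O_p(C_Y(β)) = 1` (helper338, TEAM S3046)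

`Y` a finite group with a root group datum of characteristic `p`, `β` an automorphism of `p`-power order which fixes
`U` and `U⁻`.

* `fixed_chamber` : a `β`-fixed chamber is `v m B` with `v ∈ C_U(β)` and `β m ∈ m T`;
* `exists_fixed_rep` : `m` can be chosen in `C(β)`;
* `le_U_of_normal`, `eq_bot_of_normal` : `O_p(C_Y(β)) = 1`.
-/

set_option autoImplicit false
set_option linter.unusedSectionVars false

namespace Cfsg.Agent.H338.Out

open CoxeterSystem Cfsg.Agent.ChevalleyStructure.CoxeterGeom Cfsg.Agent.Tits.Roots Cfsg.Agent.Tits.Core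
  Cfsg.Agent.Tits.Exchange Cfsg.Agent.Nodes.Reps Cfsg.Agent.Nodes.BNOf Cfsg.Agent.Nodes.StabComb
  Cfsg.Agent.Nodes.Bruhat Cfsg.Agent.Nodes.OppDec Cfsg.Agent.Nodes.LeviDec Cfsg.Agent.Nodes.NormalForm
  Cfsg.Agent.KFacts.RgdOpp Cfsg.Agent.KFacts.RgdAut Cfsg.Agent.KFacts.RgdDiag Cfsg.Agent.KFacts.RgdRigid
open scoped commutatorElement

variable {I W Y : Type*} [Fintype I] [DecidableEq I] [Group W] [Group Y] {M : CoxeterMatrix I}
  {cs : CoxeterSystem M W} {A : I → I → ℤ} {h : IsCartan M A} {p : ℕ} {T : Subgroup Y} {n : I → Y}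
  {X : (I → ℤ) → Subgroup Y}

section

variable (R : RGD cs h p T n X)

include R

theorem conj_T_UN [Finite W] {t x : Y} (ht : t ∈ T) (hx : x ∈ UN cs h X) : t * x * t⁻¹ ∈ UN cs h X := by
  have h1 := (opp R).T_le_normalizer_U ht
  rw [U_opp] at h1
  exact (Subgroup.mem_normalizer_iff.1 h1 x).1 hx

/-- A chamber fixed by a frame automorphism. -/
theorem fixed_chamber [Finite W] (hG : GG cs h T X = ⊤) {β : MulAut Y} (hU : _root_.Cfsg.Agent.KFacts.RgdAut.Fix β (RGD.Sup X (RGD.Pos cs h)))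
    (hUN : _root_.Cfsg.Agent.KFacts.RgdAut.Fix β (UN cs h X)) {k : Y} (hk : k⁻¹ * β k ∈ RGD.B cs h T X) :
    ∃ v m b, v ∈ RGD.Sup X (RGD.Pos cs h) ∧ β v = v ∧ b ∈ RGD.B cs h T X ∧ k = v * m * b ∧ m⁻¹ * β m ∈ T := by
  obtain ⟨σ, D⟩ := exists_diag R hG hU hUN
  have hσ := D.matrix R
  have hB := fix_B R hG hU
  obtain ⟨w, hw⟩ := (mem_GG R).1 (show k⁻¹ ∈ GG cs h T X by rw [hG]; exact Subgroup.mem_top _)
  obtain ⟨u, hu, k', hk', v', hv', e⟩ := exists_normal_form R hw
  have hNP : NW cs h w ⊆ RGD.Pos cs h := fun x hx => ⟨hx.1, hx.2.1⟩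
  have hv'U : v' ∈ RGD.Sup X (RGD.Pos cs h) := RGD.Sup_mono hNP hv'
  have hv'N : k' * v' * k'⁻¹ ∈ UN cs h X :=
    conj_mem_Sup R hk' (S' := _root_.Cfsg.Agent.Nodes.OppDec.Neg cs h) (fun x hx => hx.1) (fun x hx => ⟨hx.1.act _, hx.2.2⟩) hv'
  -- `k = v m b`
  set m := k'⁻¹ with hm
  set v := v'⁻¹ with hv
  have hkm : k = v * m * u⁻¹ := by
    rw [← inv_inv k, e, hm, hv]; group
  have hrm : Rp cs R.nsys w⁻¹ m := hk'.inv
  have hrb : Rp cs R.nsys (hat cs σ hσ w⁻¹) (β m) := D.rp' (R := R) hσ hrm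
  have hvU : v ∈ RGD.Sup X (RGD.Pos cs h) := inv_mem hv'U
  have hvN : m⁻¹ * v * m ∈ UN cs h X := by
    have : m⁻¹ * v * m = (k' * v' * k'⁻¹)⁻¹ := by rw [hm, hv]; group
    rw [this]
    exact inv_mem hv'N
  have hc1 : Cell R.nsys cs h X w⁻¹ (β k) := by
    refine ⟨v, RGD.U_le_B hvU, m, hrm, u⁻¹ * (k⁻¹ * β k), mul_mem (RGD.U_le_B (inv_mem hu)) hk, ?_⟩
    conv_lhs => rw [← mul_inv_cancel_left k (β k)]
    conv_rhs => rw [← mul_assoc, ← hkm]
  have hc2 : Cell R.nsys cs h X (hat cs σ hσ w⁻¹) (β k) := by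
    refine ⟨β v, (hB v).2 (RGD.U_le_B hvU), β m, hrb, β u⁻¹, (hB _).2 (RGD.U_le_B (inv_mem hu)), ?_⟩
    rw [hkm, map_mul, map_mul]
  have hww : hat cs σ hσ w⁻¹ = w⁻¹ := hc2.unique R hc1
  rw [hww] at hrb
  have ht : m⁻¹ * β m ∈ T := by
    have := hrm.inv.mul hrb
    rw [inv_mul_cancel] at this
    exact this.mem_of_one
  refine ⟨v, m, u⁻¹, hvU, ?_, RGD.U_le_B (inv_mem hu), hkm, ht⟩
  -- `x = (β v)⁻¹ v`
  have h1 : m⁻¹ * β v * m ∈ UN cs h X := by
    have h2 : β (m⁻¹ * v * m) ∈ UN cs h X := (hUN _).2 hvN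
    rw [map_mul, map_mul, map_inv] at h2
    have h3 := conj_T_UN R ht h2
    have e3 : m⁻¹ * β m * ((β m)⁻¹ * β v * β m) * (m⁻¹ * β m)⁻¹ = m⁻¹ * β v * m := by group
    rwa [e3] at h3
  have h4 : m⁻¹ * ((β v)⁻¹ * v) * m ∈ UN cs h X := by
    have e4 : m⁻¹ * ((β v)⁻¹ * v) * m = (m⁻¹ * β v * m)⁻¹ * (m⁻¹ * v * m) := by group
    rw [e4]
    exact mul_mem (inv_mem h1) hvN
  have h5 : m⁻¹ * ((β v)⁻¹ * v) * m ∈ RGD.B cs h T X := by
    have e5 : m⁻¹ * ((β v)⁻¹ * v) * m = (m⁻¹ * β m) * β u⁻¹ * (k⁻¹ * β k)⁻¹ * u := by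
      have e6 : β k = β v * β m * β u⁻¹ := by rw [hkm, map_mul, map_mul]
      have e7 : (k⁻¹ * β k)⁻¹ = (β k)⁻¹ * k := by group
      rw [e7, e6, hkm]
      group
    rw [e5]
    exact mul_mem (mul_mem (mul_mem (RGD.T_le_B ht) ((hB _).2 (RGD.U_le_B (inv_mem hu)))) (inv_mem hk))
      (RGD.U_le_B hu)
  have h6 := eq_one_of_mem_UN_of_mem_B R h4 h5
  have h7 : (β v)⁻¹ * v = 1 := by
    have : (β v)⁻¹ * v = m * (m⁻¹ * ((β v)⁻¹ * v) * m) * m⁻¹ := by group
    rw [this, h6]; group
  exact inv_mul_eq_one.1 h7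

/-- The representative can be chosen fixed by `β`. -/
theorem exists_fixed_rep [Finite Y] [Fact p.Prime] {β : MulAut Y} {j : ℕ} (hβ : β ^ p ^ j = 1)
    (hT : _root_.Cfsg.Agent.KFacts.RgdAut.Fix β T) {m : Y} (hm : m⁻¹ * β m ∈ T) : ∃ t ∈ T, β (m * t) = m * t := by
  classical
  have hst : ∀ x : Y, m⁻¹ * (MulAut.toPerm Y β) x ∈ T ↔ m⁻¹ * x ∈ T := by
    intro x
    have e1 : m⁻¹ * (MulAut.toPerm Y β) x = (m⁻¹ * β m) * β (m⁻¹ * x) := by
      rw [map_mul, map_inv]
      change m⁻¹ * β x = _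
      group
    rw [e1]
    constructor
    · intro h1
      exact (hT _).1 ((Subgroup.mul_mem_cancel_left T hm).1 h1)
    · intro h1
      exact mul_mem hm ((hT _).2 h1)
  have : Fintype {x : Y // m⁻¹ * x ∈ T} := Fintype.ofFinite _
  let f : Equiv.Perm {x : Y // m⁻¹ * x ∈ T} := (MulAut.toPerm Y β).subtypePerm hst
  have hf : f ^ p ^ j = 1 := by
    rw [Equiv.Perm.subtypePerm_pow]
    ext x
    have : (MulAut.toPerm Y β) ^ p ^ j = 1 := by rw [← map_pow, hβ, map_one]
    simp only [this, _root_.Equiv.Perm.subtypePerm_apply, _root_.Equiv.Perm.coe_one, _root_.id_eq, _root_.Subtype.coe_eta]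
  have hcard : ¬ p ∣ Fintype.card {x : Y // m⁻¹ * x ∈ T} := by
    have e1 : Nat.card {x : Y // m⁻¹ * x ∈ T} = Nat.card T :=
      Nat.card_congr ((Equiv.mulLeft m⁻¹).subtypeEquiv fun x => Iff.rfl)
    rw [← Nat.card_eq_fintype_card, e1]
    intro hd
    have := Nat.Coprime.eq_one_of_dvd (R.tcop.symm) hd
    exact (Fact.out : p.Prime).one_lt.ne' this
  obtain ⟨⟨x, hx⟩, hx'⟩ := Equiv.Perm.exists_fixed_point_of_prime hcard hf
  refine ⟨m⁻¹ * x, hx, ?_⟩
  rw [mul_inv_cancel_left]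
  exact congrArg Subtype.val hx'

end

end Cfsg.Agent.H338.Out
end

-- part: H338/Out/FixCent
section
/-!
# `O_p(C_Y(β)) = 1` for a frame automorphism of `p`-power order (helper338, TEAM S3046)
-/

set_option autoImplicit false
set_option linter.unusedSectionVars false

namespace Cfsg.Agent.H338.Out

open CoxeterSystem Cfsg.Agent.ChevalleyStructure.CoxeterGeom Cfsg.Agent.Tits.Roots Cfsg.Agent.Tits.Core
  Cfsg.Agent.Tits.Exchange Cfsg.Agent.Nodes.Reps Cfsg.Agent.Nodes.BNOf Cfsg.Agent.Nodes.StabComb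
  Cfsg.Agent.Nodes.Bruhat Cfsg.Agent.Nodes.OppDec Cfsg.Agent.Nodes.LeviDec Cfsg.Agent.Nodes.NormalForm
  Cfsg.Agent.KFacts.RgdOpp Cfsg.Agent.KFacts.RgdAut Cfsg.Agent.KFacts.RgdDiag Cfsg.Agent.KFacts.RgdRigid
open scoped Pointwise

/-- the fixed points of an automorphism -/
def Fx {Y : Type*} [Group Y] (β : MulAut Y) : Subgroup Y where
  carrier := {x | β x = x}
  mul_mem' {a b} ha hb := by
    change β (a * b) = a * b
    rw [map_mul, show β a = a from ha, show β b = b from hb]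
  one_mem' := map_one β
  inv_mem' {a} ha := by
    change β a⁻¹ = a⁻¹
    rw [map_inv, show β a = a from ha]

theorem mem_Fx {Y : Type*} [Group Y] {β : MulAut Y} {x : Y} : x ∈ Fx β ↔ β x = x := Iff.rfl

theorem le_norm_of_comm {G : Type*} [Group G] {A B : Subgroup G} (hAB : ∀ a ∈ A, ∀ b ∈ B, a * b = b * a) :
    A ≤ Subgroup.normalizer (B : Set G) := by
  intro a ha
  rw [Subgroup.mem_normalizer_iff]
  intro b
  constructor
  · intro hb
    rw [hAB a ha b hb, mul_inv_cancel_right]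
    exact hb
  · intro hb
    have h1 := hAB a⁻¹ (inv_mem ha) _ hb
    have h2 : b = a⁻¹ * (a * b * a⁻¹) * a := by group
    rw [h2, h1]
    simpa only [_root_.inv_mul_cancel_right] using hb

theorem isPGroup_zpowers_of_pow {G : Type*} [Group G] {p : ℕ} [Fact p.Prime] {g : G} {j : ℕ} (hg : g ^ p ^ j = 1) :
    IsPGroup p (Subgroup.zpowers g) := by
  rintro ⟨x, hx⟩
  obtain ⟨k, rfl⟩ := Subgroup.mem_zpowers_iff.1 hx
  refine ⟨j, Subtype.ext ?_⟩
  change (g ^ k) ^ p ^ j = 1
  rw [← zpow_natCast, ← zpow_mul, mul_comm, zpow_mul, zpow_natCast, hg, one_zpow]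

variable {I W Y : Type*} [Fintype I] [DecidableEq I] [Group W] [Group Y] {M : CoxeterMatrix I}
  {cs : CoxeterSystem M W} {A : I → I → ℤ} {h : IsCartan M A} {p : ℕ} {T : Subgroup Y} {n : I → Y}
  {X : (I → ℤ) → Subgroup Y}

section

variable (R : RGD cs h p T n X)

include R

theorem le_U_of_normal [Finite W] [Finite Y] [Fact p.Prime] (hG : GG cs h T X = ⊤) {β : MulAut Y} {j : ℕ}
    (hβ : β ^ p ^ j = 1) (hU : _root_.Cfsg.Agent.KFacts.RgdAut.Fix β (RGD.Sup X (RGD.Pos cs h))) (hUN : _root_.Cfsg.Agent.KFacts.RgdAut.Fix β (UN cs h X)) {Q : Subgroup Y}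
    (hQ : IsPGroup p Q) (hQf : Q ≤ Fx β) (hQn : Fx β ≤ Subgroup.normalizer (Q : Set Y)) :
    Q ≤ RGD.Sup X (RGD.Pos cs h) := by
  set U := RGD.Sup X (RGD.Pos cs h) with hUdef
  have hT : _root_.Cfsg.Agent.KFacts.RgdAut.Fix β T := by
    obtain ⟨σ, D⟩ := exists_diag R hG hU hUN
    exact D.tor
  have hUp : IsPGroup p U := R.isPGroup_Upos
  set C : Subgroup Y := U ⊓ Fx β with hC
  set E : Subgroup Y := Q ⊔ C with hE
  have hEp : IsPGroup p E := hQ.to_sup_of_normal_left' (hUp.to_le inf_le_left) (inf_le_right.trans hQn)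
  have hEf : E ≤ Fx β := sup_le hQf inf_le_right
  -- the `p`-group generated by `β` and `E` acts on the Sylow subgroups
  have hcomm : ∀ a ∈ Subgroup.zpowers β, ∀ b ∈ E.map (MulAut.conj (G := Y)), a * b = b * a := by
    have h0 : ∀ b ∈ E.map (MulAut.conj (G := Y)), β * b = b * β := by
      rintro _ ⟨e, he, rfl⟩
      ext x
      simp only [MulAut.mul_apply, MulAut.conj_apply, map_mul, map_inv]
      rw [show β e = e from hEf he]
    intro a ha b hb
    obtain ⟨k, rfl⟩ := Subgroup.mem_zpowers_iff.1 ha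
    exact (Commute.zpow_left (h0 b hb) k).eq
  have hP : IsPGroup p (Subgroup.zpowers β ⊔ E.map (MulAut.conj (G := Y)) : Subgroup (MulAut Y)) :=
    IsPGroup.to_sup_of_normal_right' (isPGroup_zpowers_of_pow hβ) (hEp.map _) (le_norm_of_comm hcomm)
  obtain ⟨S, hS⟩ := hP.nonempty_fixed_point_of_prime_not_dvd_card (Sylow p Y) (not_dvd_card_sylow p Y)
  have hSβ : β • S = S := hS ⟨β, (le_sup_left : Subgroup.zpowers β ≤ _) (Subgroup.mem_zpowers β)⟩
  have hSE : ∀ e ∈ E, MulAut.conj e • S = S := fun e he =>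
    hS ⟨MulAut.conj e, (le_sup_right : E.map (MulAut.conj (G := Y)) ≤ _) (Subgroup.mem_map_of_mem _ he)⟩
  have hES : E ≤ (S : Subgroup Y) := by
    have h1 : E ≤ Subgroup.normalizer (S : Set Y) := fun e he => Sylow.smul_eq_iff_mem_normalizer.1 (hSE e he)
    have h2 := hEp.inf_normalizer_sylow S
    rw [inf_eq_left.2 h1] at h2
    rw [h2]
    exact inf_le_right
  have hSfix : _root_.Cfsg.Agent.KFacts.RgdAut.Fix β (S : Subgroup Y) := by
    intro x
    have h1 : β • (S : Subgroup Y) = (S : Subgroup Y) := by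
      rw [← Sylow.pointwise_smul_def, hSβ]
    have h2 := Subgroup.smul_mem_pointwise_smul_iff (a := β) (S := (S : Subgroup Y)) (x := x)
    rw [h1] at h2
    exact h2
  obtain ⟨g, hg⟩ := Cfsg.Agent.KFacts.RgdAutFacts.sylow_eq_cj R hG S
  have hgB : g⁻¹ * β g ∈ RGD.B cs h T X := by
    rw [← normalizer_U' R hG, Subgroup.mem_normalizer_iff]
    intro y
    obtain ⟨x, rfl⟩ := β.surjective y
    have h1 := hSfix (g * x * g⁻¹)
    rw [hg, conj_mem_cj, mem_cj, map_mul, map_mul, map_inv] at h1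
    have e1 : g⁻¹ * (β g * β x * (β g)⁻¹) * g = g⁻¹ * β g * β x * (g⁻¹ * β g)⁻¹ := by group
    rw [e1] at h1
    rw [h1]
    exact hU x
  obtain ⟨v, m, b, hv, hβv, hb, hgv, hm⟩ := fixed_chamber R hG hU hUN hgB
  obtain ⟨t, ht, hmt⟩ := exists_fixed_rep R hβ hT hm
  set a : Y := v * (m * t) with ha
  have hβa : β a = a := by rw [ha, map_mul, hβv, hmt]
  have hga : cj g U = cj a U := by
    have e1 : g = a * (t⁻¹ * b) := by rw [hgv, ha]; group
    have h1 : t⁻¹ * b ∈ Subgroup.normalizer (U : Set Y) := by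
      rw [normalizer_U' R hG]
      exact mul_mem (RGD.T_le_B (inv_mem ht)) hb
    rw [e1, cj_mul, mem_normalizer_iff_cj.1 h1]
  have hEa : E.map (MulAut.conj a⁻¹).toMonoidHom ≤ C := by
    rintro _ ⟨x, hx, rfl⟩
    have h1 : x ∈ cj a U := by rw [← hga, ← hg]; exact hES hx
    rw [mem_cj] at h1
    have e1 : (MulAut.conj a⁻¹).toMonoidHom x = a⁻¹ * x * a := by
      change MulAut.conj a⁻¹ x = _
      rw [MulAut.conj_apply, inv_inv]
    rw [e1]
    refine ⟨h1, ?_⟩
    change β (a⁻¹ * x * a) = a⁻¹ * x * a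
    rw [map_mul, map_mul, map_inv, hβa, show β x = x from hEf hx]
  have hcard : Nat.card E ≤ Nat.card C := by
    have hinj : Function.Injective (MulAut.conj a⁻¹).toMonoidHom := (MulAut.conj a⁻¹).injective
    rw [← Subgroup.card_map_of_injective (K := E) hinj]
    exact Subgroup.card_le_of_le hEa
  have hCE : C = E := Subgroup.eq_of_le_of_card_ge le_sup_right hcard
  calc Q ≤ E := le_sup_left
    _ = C := hCE.symm
    _ ≤ U := inf_le_left

/-- **`O_p(C_Y(β)) = 1`** -/
theorem eq_bot_of_normal [Finite W] [Finite Y] [Fact p.Prime] (hG : GG cs h T X = ⊤) {β : MulAut Y} {j : ℕ}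
    (hβ : β ^ p ^ j = 1) (hU : _root_.Cfsg.Agent.KFacts.RgdAut.Fix β (RGD.Sup X (RGD.Pos cs h))) (hUN : _root_.Cfsg.Agent.KFacts.RgdAut.Fix β (UN cs h X)) {Q : Subgroup Y}
    (hQ : IsPGroup p Q) (hQf : Q ≤ Fx β) (hQn : Fx β ≤ Subgroup.normalizer (Q : Set Y)) : Q = ⊥ := by
  have h1 := le_U_of_normal R hG hβ hU hUN hQ hQf hQn
  have h2 := le_U_of_normal (opp R) (by rw [GG_opp, hG]) hβ (by rw [U_opp]; exact hUN) (by rw [UN_opp]; exact hU)
    hQ hQf hQn
  rw [U_opp] at h2
  rw [eq_bot_iff, ← U_inf_UN R]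
  exact le_inf h1 h2

/-- `C_U(β) ≠ 1` -/
theorem exists_fixed_U [Finite W] [Finite Y] [Fact p.Prime] [Nonempty I] {β : MulAut Y} {j : ℕ}
    (hβ : β ^ p ^ j = 1) (hU : _root_.Cfsg.Agent.KFacts.RgdAut.Fix β (RGD.Sup X (RGD.Pos cs h))) : ∃ x : Y, x ≠ 1 ∧ β x = x := by
  classical
  set U := RGD.Sup X (RGD.Pos cs h) with hUdef
  have : Fintype {x : Y // x ∈ U} := Fintype.ofFinite _
  let f : Equiv.Perm {x : Y // x ∈ U} := (MulAut.toPerm Y β).subtypePerm hU
  have hf : f ^ p ^ j = 1 := by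
    refine (Equiv.Perm.subtypePerm_pow _ _ _).trans ?_
    ext x
    have : (MulAut.toPerm Y β) ^ p ^ j = 1 := by rw [← map_pow, hβ, map_one]
    simp [this]
  have hcard : p ∣ Fintype.card {x : Y // x ∈ U} := by
    rw [← Nat.card_eq_fintype_card]
    obtain ⟨k, hk⟩ := IsPGroup.iff_card.1 (show IsPGroup p U from R.isPGroup_Upos)
    rw [hk]
    refine dvd_pow_self p fun h0 => ?_
    rw [h0, pow_zero] at hk
    obtain ⟨i⟩ := ‹Nonempty I›
    obtain ⟨u, hu, hu1⟩ := exists_ne_one R i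
    have h1 : u ∈ U := RGD.le_Sup (S := RGD.Pos cs h) ⟨isRoot_sr cs h i, sr_nonneg i⟩ hu
    rw [Subgroup.card_eq_one] at hk
    rw [hk] at h1
    exact hu1 (Subgroup.mem_bot.1 h1)
  obtain ⟨⟨x, hx⟩, hx', hx1⟩ := Equiv.Perm.exists_fixed_point_of_prime' hcard hf (a := ⟨1, one_mem U⟩)
    (Subtype.ext (map_one β))
  exact ⟨x, fun h0 => hx1 (Subtype.ext h0), congrArg Subtype.val hx'⟩

end

end Cfsg.Agent.H338.Out
end

-- part: H338/Out/Main
section
/-!
# Groups of local characteristic `p` with a normal subgroup with a root group datum (helper338, TEAM S3046)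

`not_dvd_index` : if `H` is of local characteristic `p` and `K` is a normal subgroup of `H` isomorphic to a group `Y`
with a root group datum of characteristic `p` (`T`, `X` generating), then `p` does not divide `|H : K|`.
-/

set_option autoImplicit false
set_option linter.unusedSectionVars false

namespace Cfsg.Agent.H338.Out

open CoxeterSystem Cfsg.Agent.ChevalleyStructure.CoxeterGeom Cfsg.Agent.Tits.Roots Cfsg.Agent.Tits.Core
  Cfsg.Agent.Tits.Exchange Cfsg.Agent.Nodes.Reps Cfsg.Agent.Nodes.BNOf Cfsg.Agent.Nodes.StabComb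
  Cfsg.Agent.Nodes.Bruhat Cfsg.Agent.Nodes.OppDec Cfsg.Agent.Nodes.LeviDec Cfsg.Agent.Nodes.NormalForm
  Cfsg.Agent.KFacts.RgdOpp Cfsg.Agent.KFacts.RgdAut Cfsg.Agent.KFacts.RgdDiag Cfsg.Agent.KFacts.RgdRigid

variable {I W Y : Type*} [Fintype I] [DecidableEq I] [Group W] [Group Y] {M : CoxeterMatrix I}
  {cs : CoxeterSystem M W} {A : I → I → ℤ} {h : IsCartan M A} {p : ℕ} {T : Subgroup Y} {n : I → Y}
  {X : (I → ℤ) → Subgroup Y}

section

variable (R : RGD cs h p T n X)

include R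

/-- **`p` does not divide `|H : K|`.** -/
theorem not_dvd_index [Finite W] [Nonempty I] [Fact p.Prime] (hG : GG cs h T X = ⊤) {H : Type*} [Group H]
    [Finite H] (hloc : Cfsg.IsOfLocalCharacteristic p H) (K : Subgroup H) [K.Normal] (e : Y ≃* K) :
    ¬ p ∣ K.index := by
  intro hpK
  have : Finite Y := Finite.of_equiv _ e.symm.toEquiv
  set U := RGD.Sup X (RGD.Pos cs h) with hUdef
  let ι : Y →* H := K.subtype.comp e.toMonoidHom
  have hιinj : Function.Injective ι := K.subtype_injective.comp e.injective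
  have hιK : ∀ y, ι y ∈ K := fun y => (e y).2
  have hιe : ∀ {x : H}, x ∈ K → ∃ y, ι y = x := fun {x} hx => ⟨e.symm ⟨x, hx⟩, by
    change ((e (e.symm ⟨x, hx⟩) : K) : H) = x
    rw [e.apply_symm_apply]⟩
  let a : H →* MulAut Y := (MulAut.congr e.symm).toMonoidHom.comp (MulAut.conjNormal (H := K))
  have ha : ∀ g y, ι (a g y) = g * ι y * g⁻¹ := by
    intro g y
    change ((e (e.symm (MulAut.conjNormal g (e y))) : K) : H) = g * ((e y : K) : H) * g⁻¹
    rw [e.apply_symm_apply, MulAut.conjNormal_apply]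
  have haι : ∀ u, a (ι u) = MulAut.conj u := by
    intro u
    ext x
    apply hιinj
    rw [ha, MulAut.conj_apply, map_mul, map_mul, map_inv]
  -- the Sylow `p`-subgroup of `H`
  have hUp : IsPGroup p U := R.isPGroup_Upos
  obtain ⟨S, hS⟩ := (hUp.map ι).exists_le_sylow
  have hSU : (S : Subgroup H).comap ι = U :=
    eq_U_of_isPGroup R (S.isPGroup'.comap_of_injective ι hιinj) (Subgroup.map_le_iff_le_comap.1 hS)
      (by rw [hG]; exact le_top)
  obtain ⟨g, hgS, hgK⟩ : ∃ g ∈ (S : Subgroup H), g ∉ K := by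
    by_contra hcon
    push Not at hcon
    exact S.not_dvd_index (hpK.trans (Subgroup.index_dvd_of_le fun x hx => hcon x hx))
  have hgU : _root_.Cfsg.Agent.KFacts.RgdAut.Fix (a g) U := by
    intro x
    rw [← hSU, Subgroup.mem_comap, Subgroup.mem_comap, ha]
    rw [Subgroup.mul_mem_cancel_right _ (inv_mem hgS), Subgroup.mul_mem_cancel_left _ hgS]
  obtain ⟨u, hu, hfU, -, hfUN, -, -⟩ := exists_frame R hG hgU
  set f : H := ι u * g with hf
  have haf : a f = MulAut.conj u * a g := by rw [hf, map_mul, haι]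
  rw [← haf] at hfU hfUN
  have hfS : f ∈ (S : Subgroup H) := mul_mem (hS (Subgroup.mem_map_of_mem _ hu)) hgS
  have hfK : f ∉ K := fun h0 => hgK ((Subgroup.mul_mem_cancel_left K (hιK u)).1 h0)
  have hf1 : f ≠ 1 := fun h0 => hfK (h0 ▸ one_mem K)
  obtain ⟨j, hj⟩ := S.isPGroup' ⟨f, hfS⟩
  have hj : f ^ p ^ j = 1 := congrArg Subtype.val hj
  have hβ : a f ^ p ^ j = 1 := by rw [← map_pow, hj, map_one]
  -- the local subgroup
  set L : Subgroup H := Subgroup.normalizer (Subgroup.zpowers f : Set H) with hL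
  have hch : Cfsg.Agent.H229.ChP p L :=
    Cfsg.Agent.H229.chP_iff.2 (hloc.2 _ (isPGroup_zpowers_of_pow hj) (by rwa [Ne, Subgroup.zpowers_eq_bot]))
  set D := Cfsg.pCoreOf p L with hD
  have hDp : IsPGroup p D := Cfsg.Agent.H229.isPGroup_pCoreOf p L
  have hDL : D ≤ L := Cfsg.Agent.H229.pCoreOf_le p L
  have hLD : L ≤ Subgroup.normalizer (D : Set H) := Cfsg.Agent.H229.le_norm_pCoreOf p L
  -- `Fx (a f)` centralises `f`
  have hFx : ∀ {y : Y}, y ∈ Fx (a f) ↔ ι y * f = f * ι y := by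
    intro y
    rw [mem_Fx, ← hιinj.eq_iff, ha]
    rw [mul_inv_eq_iff_eq_mul]
    exact eq_comm
  have hFc : ∀ {y : Y}, y ∈ Fx (a f) → ι y ∈ Subgroup.centralizer (Subgroup.zpowers f : Set H) := by
    intro y hy
    rw [Subgroup.mem_centralizer_iff]
    rintro _ ⟨k, rfl⟩
    exact (Commute.zpow_left (show Commute f (ι y) from (hFx.1 hy).symm) k).eq
  have hFL : ∀ {y : Y}, y ∈ Fx (a f) → ι y ∈ L := fun {y} hy =>
    Cfsg.Agent.H229.centralizer_le_norm _ (hFc hy)
  -- `O_p(C_Y(f)) = 1`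
  have hQ : D.comap ι ⊓ Fx (a f) = ⊥ := by
    refine eq_bot_of_normal R hG hβ hfU hfUN ((hDp.comap_of_injective ι hιinj).to_le inf_le_left) inf_le_right ?_
    intro y hy
    rw [Subgroup.mem_normalizer_iff]
    intro z
    have h1 := Subgroup.mem_normalizer_iff.1 (hLD (hFL hy)) (ι z)
    have h2 : y * z * y⁻¹ ∈ Fx (a f) ↔ z ∈ Fx (a f) := by
      rw [Subgroup.mul_mem_cancel_right _ (inv_mem hy), Subgroup.mul_mem_cancel_left _ hy]
    change z ∈ D.comap ι ⊓ Fx (a f) ↔ y * z * y⁻¹ ∈ D.comap ι ⊓ Fx (a f)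
    have e3 : ι (y * z * y⁻¹) = ι y * ι z * (ι y)⁻¹ := by rw [map_mul, map_mul, map_inv]
    rw [Subgroup.mem_inf, Subgroup.mem_inf, h2, Subgroup.mem_comap, Subgroup.mem_comap, e3, h1]
  -- `C_Y(f)` centralises `D`
  have hFD : ∀ {y : Y}, y ∈ Fx (a f) → ι y ∈ Subgroup.centralizer (D : Set H) := by
    intro y hy
    rw [Subgroup.mem_centralizer_iff]
    intro d hd
    have hcK : d * ι y * d⁻¹ * (ι y)⁻¹ ∈ K :=
      mul_mem (Subgroup.Normal.conj_mem inferInstance _ (hιK y) d) (inv_mem (hιK y))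
    obtain ⟨z, hz⟩ := hιe hcK
    have hzD : ι z ∈ D := by
      rw [hz]
      have h1 := (Subgroup.mem_normalizer_iff.1 (hLD (hFL hy)) d⁻¹).1 (inv_mem hd)
      have e1 : d * ι y * d⁻¹ * (ι y)⁻¹ = d * (ι y * d⁻¹ * (ι y)⁻¹) := by group
      rw [e1]
      exact mul_mem hd h1
    have hzc : ι z ∈ Subgroup.centralizer (Subgroup.zpowers f : Set H) := by
      rw [hz]
      refine mul_mem ?_ (inv_mem (hFc hy))
      have h1 : L ≤ Subgroup.normalizer (Subgroup.centralizer (Subgroup.zpowers f : Set H) : Set H) :=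
        Cfsg.Agent.H229.norm_le_norm_centralizer _
      exact (Subgroup.mem_normalizer_iff.1 (h1 (hDL hd)) _).1 (hFc hy)
    have hzF : z ∈ Fx (a f) := hFx.2 (Subgroup.mem_centralizer_iff.1 hzc f (Subgroup.mem_zpowers f)).symm
    have hz1 : z = 1 := by
      have : z ∈ D.comap ι ⊓ Fx (a f) := ⟨hzD, hzF⟩
      rwa [hQ, Subgroup.mem_bot] at this
    rw [hz1, map_one] at hz
    have e1 : d * ι y = (d * ι y * d⁻¹ * (ι y)⁻¹) * (ι y * d) := by group
    rw [e1, ← hz, one_mul]
  obtain ⟨x, hx1, hx⟩ := exists_fixed_U R hβ hfU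
  have hx' : x ∈ D.comap ι ⊓ Fx (a f) := ⟨hch ⟨hFL hx, hFD hx⟩, hx⟩
  rw [hQ, Subgroup.mem_bot] at hx'
  exact hx1 hx'

/-- The Sylow `p`-subgroups of `H` lie in `K`. -/
theorem sylow_le [Finite W] [Nonempty I] [Fact p.Prime] (hG : GG cs h T X = ⊤) {H : Type*} [Group H]
    [Finite H] (hloc : Cfsg.IsOfLocalCharacteristic p H) (K : Subgroup H) [K.Normal] (e : Y ≃* K)
    (S : Sylow p H) : (S : Subgroup H) ≤ K := by
  have h1 := not_dvd_index R hG hloc K e
  rw [← Subgroup.relIndex_eq_one]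
  obtain ⟨k, hk⟩ := IsPGroup.iff_card.1 S.isPGroup'
  have h2 : K.relIndex (S : Subgroup H) ∣ K.index := Subgroup.relIndex_dvd_index_of_normal _ _
  have h3 : K.relIndex (S : Subgroup H) ∣ p ^ k := by
    rw [← hk]
    exact Subgroup.relIndex_dvd_card _ _
  obtain ⟨m, -, hm⟩ := (Nat.dvd_prime_pow Fact.out).1 h3
  rcases m with _ | m
  · rw [hm, pow_zero]
  · exact absurd ((dvd_pow_self p m.succ_ne_zero).trans (hm ▸ h2)) h1

end

end Cfsg.Agent.H338.Out
end

-- part: H338/Out/RankOne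
section
/-!
# S3046, case B: groups of rank one in characteristic `p` (helper338)

`caseB_false_of_TI` : `K` has no TI Sylow `p`-subgroups; the rows `PSL₂`, `PSU₃`, `Sz`, `Ree`.
-/

set_option autoImplicit false

namespace Cfsg.Agent.H338.Out

open Subgroup Cfsg
open Cfsg.Agent.H229 Cfsg.Agent.H271.PU
open scoped Pointwise

variable {H : Type*} [Group H] [Finite H] {p : ℕ} [Fact p.Prime] {S : Sylow p H} {C Q P V W K : Subgroup H}

/-- the Sylow subgroup `S ∩ K` of the normal subgroup `K` -/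
theorem exists_sylow_map (S : Sylow p H) (K : Subgroup H) [K.Normal] :
    ∃ R : Sylow p K, (R : Subgroup K).map K.subtype = (S : Subgroup H) ⊓ K := by
  have h1 : IsPGroup p ↥((S : Subgroup H).subgroupOf K) := S.isPGroup'.comap_of_injective K.subtype K.subtype_injective
  obtain ⟨R, hR⟩ := h1.exists_le_sylow
  refine ⟨R, le_antisymm ?_ ?_⟩
  · -- `R` lies in a conjugate of `S`
    obtain ⟨S', hS'⟩ := (R.isPGroup'.map K.subtype).exists_le_sylow
    obtain ⟨g, hg⟩ := MulAction.exists_smul_eq H S' S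
    have h2 : Nat.card ((R : Subgroup K).map K.subtype) ≤ Nat.card ((S : Subgroup H) ⊓ K : Subgroup H) := by
      have h3 : cj g ((R : Subgroup K).map K.subtype) ≤ (S : Subgroup H) ⊓ K := by
        refine le_inf ?_ ?_
        · rw [← hg, Sylow.coe_subgroup_smul]
          exact cj_mono hS'
        · rintro _ ⟨x, ⟨y, -, rfl⟩, rfl⟩
          exact Subgroup.Normal.conj_mem inferInstance _ y.2 g
      have h4 : Nat.card (cj g ((R : Subgroup K).map K.subtype)) = Nat.card ((R : Subgroup K).map K.subtype) :=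
        Subgroup.card_map_of_injective (MulAut.conj g).injective
      rw [← h4]
      exact Subgroup.card_le_of_le h3
    have h5 : (S : Subgroup H) ⊓ K ≤ (R : Subgroup K).map K.subtype := by
      rintro x ⟨hx, hxK⟩
      exact ⟨⟨x, hxK⟩, hR (mem_subgroupOf.2 hx), rfl⟩
    exact (Subgroup.eq_of_le_of_card_ge h5 h2).ge
  · rintro x ⟨hx, hxK⟩
    exact ⟨⟨x, hxK⟩, hR (mem_subgroupOf.2 hx), rfl⟩

/-- **G2.** the Sylow `p`-subgroups of `K` are not TI -/
theorem caseB_false_of_TI (h : CaseB p S C Q P V W) (hK : K.Normal) (hp : p ∣ Nat.card K)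
    (hTI : H210.Loc.TI p K) : False := by
  obtain ⟨R, hR⟩ := exists_sylow_map S K
  refine h.not_TI hK hp fun g hg => ?_
  by_contra hne
  have h1 : (((MulAut.conjNormal (H := K) g) • R : Sylow p K) : Subgroup K).map K.subtype =
      cj g ((S : Subgroup H) ⊓ K) := by
    rw [← hR, Sylow.pointwise_smul_def]
    ext x
    constructor
    · rintro ⟨_, ⟨y, hy, rfl⟩, rfl⟩
      exact ⟨y, ⟨y, hy, rfl⟩, rfl⟩
    · rintro ⟨_, ⟨y, hy, rfl⟩, rfl⟩
      exact ⟨_, ⟨y, hy, rfl⟩, rfl⟩
  have h2 : R ≠ (MulAut.conjNormal (H := K) g) • R := by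
    intro h0
    apply hne
    rw [← h1, ← h0, hR]
  have h3 := hTI _ _ h2
  apply hg
  rw [← h1, ← hR, ← Subgroup.map_inf_eq _ _ _ K.subtype_injective, h3, Subgroup.map_bot]

theorem caseB_false_suzuki {S : Sylow 2 H} (h : CaseB 2 S C Q P V W) (hK : K.Normal) (hp : 2 ∣ Nat.card K)
    (hs : Cfsg.Lie.IsoSuzuki K) : False :=
  haveI : Fact (Nat.Prime 2) := ⟨Nat.prime_two⟩
  caseB_false_of_TI h hK hp (H210.Loc.ti_suzuki hs)

theorem caseB_false_ree {S : Sylow 3 H} (h : CaseB 3 S C Q P V W) (hK : K.Normal) (hp : 3 ∣ Nat.card K)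
    (hs : Cfsg.Lie.IsoRee K) : False :=
  haveI : Fact (Nat.Prime 3) := ⟨Nat.prime_three⟩
  caseB_false_of_TI h hK hp (H210.Loc.ti_ree hs)

end Cfsg.Agent.H338.Out
end

-- part: H238/CB/Main
section
/-!
# S3046, case B: groups with a root group datum

* `Cen.map`, `exists_adapted` : transport of the data, `U` is a given Sylow subgroup;
* `frattini` : `M = (M ∩ K) N_M(S)` for `S ≤ M ∩ K`;
* **`caseB_of_hasCen`** : case B is impossible when `H` has a normal subgroup `K ≥ S` with `HasCen p K`.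
-/

set_option autoImplicit false
set_option linter.unusedSectionVars false

namespace Cfsg.Agent.H238.CB

open CoxeterSystem Cfsg.Agent.ChevalleyStructure.CoxeterGeom Cfsg.Agent.Tits.Roots Cfsg.Agent.Tits.Core
  Cfsg.Agent.Tits.Exchange Cfsg.Agent.Nodes.Reps Cfsg.Agent.Nodes.BNOf Cfsg.Agent.Nodes.StabComb
  Cfsg.Agent.Nodes.Bruhat Cfsg.Agent.Nodes.OppDec Cfsg.Agent.Nodes.LeviDec Cfsg.Agent.Nodes.NormalForm
  Cfsg.Agent.Nodes.Coroot Cfsg.Agent.Nodes.PosPair Cfsg.Agent.Nodes.Comb Cfsg.Agent.Tits.RootComb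
  Cfsg.Agent.KFacts.RgdOpp Cfsg.Agent.KFacts.RgdAut Cfsg.Agent.KFacts.RgdDiag Cfsg.Agent.KFacts.RgdPar
  Cfsg.Agent.H271.PU
open scoped Pointwise

section transport

variable {I W Y Y' : Type*} [Fintype I] [DecidableEq I] [Group W] [Group Y] [Group Y'] {M : CoxeterMatrix I}
  {cs : CoxeterSystem M W} {A : I → I → ℤ} {h : IsCartan M A} {p : ℕ} {T : Subgroup Y} {n : I → Y}
  {X : (I → ℤ) → Subgroup Y}

theorem Cen.map {R : RGD cs h p T n X} {r : I → ℤ} {R0 : Subgroup Y} (hC : Cen R r R0) (f : Y →* Y')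
    (hf : Function.Injective f) : Cen (Nodes.RGDLib.rgd_map_of_injective R f hf) r (R0.map f) where
  root := hC.root
  le := Subgroup.map_mono hC.le
  ne h0 := hC.ne ((Subgroup.map_eq_bot_iff_of_injective R0 hf).1 h0)
  dom := hC.dom
  cen x hx h0 := by
    rintro _ ⟨a, ha, rfl⟩
    rw [Subgroup.mem_centralizer_iff]
    rintro _ ⟨z, hz, rfl⟩
    rw [← map_mul, ← map_mul, Subgroup.mem_centralizer_iff.1 (hC.cen x hx h0 ha) z hz]

theorem Sup_map (f : Y →* Y') (Ω : Set (I → ℤ)) : RGD.Sup (fun x => (X x).map f) Ω = (RGD.Sup X Ω).map f := by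
  unfold RGD.Sup
  rw [Subgroup.map_iSup]

theorem GG_map (f : Y →* Y') (hf : Function.Surjective f) (hG : GG cs h T X = ⊤) :
    GG cs h (T.map f) (fun x => (X x).map f) = ⊤ := by
  unfold GG at hG ⊢
  rw [Sup_map, ← Subgroup.map_sup, hG, Subgroup.map_top_of_surjective f hf]

end transport

/-- The data with `U` a given Sylow subgroup. -/
theorem exists_adapted {p : ℕ} [Fact p.Prime] {K : Type*} [Group K] [Finite K] (hK : HasCen p K) (S : Sylow p K) :
    ∃ (l : ℕ) (M : CoxeterMatrix (Fin l)) (A : Fin l → Fin l → ℤ) (h : IsCartan M A) (T : Subgroup K) (n : Fin l → K)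
      (X : (Fin l → ℤ) → Subgroup K) (R : RGD M.toCoxeterSystem h p T n X) (r : Fin l → ℤ) (R0 : Subgroup K),
      Finite M.Group ∧ GG M.toCoxeterSystem h T X = ⊤ ∧ Cen R r R0 ∧ (∀ i, r ≠ sr i) ∧
      RGD.Sup X (RGD.Pos M.toCoxeterSystem h) = (S : Subgroup K) := by
  obtain ⟨l, M, A, h, T, n, X, R, r, R0, hW, hG, hC, hr⟩ := hK
  obtain ⟨g, hg⟩ := KFacts.RgdAutFacts.sylow_eq_cj R hG S
  have hinj : Function.Injective (MulAut.conj g).toMonoidHom := (MulAut.conj g).injective
  refine ⟨l, M, A, h, T.map (MulAut.conj g).toMonoidHom, fun i => (MulAut.conj g).toMonoidHom (n i),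
    fun x => (X x).map (MulAut.conj g).toMonoidHom, Nodes.RGDLib.rgd_map_of_injective R _ hinj, r,
    R0.map (MulAut.conj g).toMonoidHom, hW, GG_map _ (MulAut.conj g).surjective hG, hC.map _ hinj, hr, ?_⟩
  rw [Sup_map, hg]
  rfl

section

variable {H : Type*} [Group H] [Finite H] {p : ℕ} [Fact p.Prime] {S : Sylow p H}

/-- Frattini. -/
theorem frattini {K M : Subgroup H} [hKn : K.Normal] (hSM : (S : Subgroup H) ≤ M) (hSK : (S : Subgroup H) ≤ K)
    {c : H} (hc : c ∈ M) : ∃ k ∈ M ⊓ K, k * c ∈ Subgroup.normalizer ((S : Subgroup H) : Set H) := by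
  have h1 : (S : Subgroup H) ≤ M ⊓ K := le_inf hSM hSK
  have h2 : ((c • S : Sylow p H) : Subgroup H) ≤ M ⊓ K := by
    intro x hx
    rw [Sylow.coe_subgroup_smul, Subgroup.mem_pointwise_smul_iff_inv_smul_mem] at hx
    have h3 : c⁻¹ * x * c ∈ (S : Subgroup H) := by
      have h4 : (MulAut.conj c)⁻¹ • x = c⁻¹ * x * c := by
        rw [← map_inv, MulAut.smul_def, MulAut.conj_apply, inv_inv]
      rwa [h4] at hx
    have e : x = c * (c⁻¹ * x * c) * c⁻¹ := by group
    rw [e]
    exact Subgroup.mem_inf.2 ⟨mul_mem (mul_mem hc (hSM h3)) (inv_mem hc), hKn.conj_mem _ (hSK h3) c⟩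
  obtain ⟨k, hk⟩ := MulAction.exists_smul_eq ↥(M ⊓ K) ((c • S).subtype h2) (S.subtype h1)
  rw [Sylow.smul_subtype] at hk
  have h3 := Sylow.subtype_injective hk
  refine ⟨k, k.2, ?_⟩
  refine Sylow.smul_eq_iff_mem_normalizer.1 ?_
  rw [mul_smul]
  exact h3

omit [Finite H] [Fact p.Prime] in
theorem conj_iff_of_normalizer {V : Subgroup H} {g : H} (hg : g ∈ Subgroup.normalizer (V : Set H)) (x : H) :
    g * x * g⁻¹ ∈ V ↔ x ∈ V := (Subgroup.mem_normalizer_iff.1 hg x).symm

/-- `N_H(S) ≤ N_H(Ω₁ Z(S))` -/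
theorem normalizer_le_omega :
    Subgroup.normalizer ((S : Subgroup H) : Set H) ≤
      Subgroup.normalizer ((Cfsg.omegaOne p ((S : Subgroup H) ⊓ Subgroup.centralizer ((S : Subgroup H) : Set H)) :
        Subgroup H) : Set H) := by
  have key : ∀ g ∈ Subgroup.normalizer ((S : Subgroup H) : Set H), ∀ x ∈ Cfsg.omegaOne p
      ((S : Subgroup H) ⊓ Subgroup.centralizer ((S : Subgroup H) : Set H)), g * x * g⁻¹ ∈ Cfsg.omegaOne p
      ((S : Subgroup H) ⊓ Subgroup.centralizer ((S : Subgroup H) : Set H)) := by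
    intro g hg x hx
    unfold Cfsg.omegaOne at hx ⊢
    induction hx using Subgroup.closure_induction with
    | mem x hx =>
      obtain ⟨h12, h3⟩ := hx
      obtain ⟨h1, h2⟩ := Subgroup.mem_inf.1 h12
      refine Subgroup.subset_closure ⟨Subgroup.mem_inf.2 ⟨(conj_iff_of_normalizer hg x).2 h1, ?_⟩, ?_⟩
      · rw [Subgroup.mem_centralizer_iff] at h2 ⊢
        intro s hs
        have h4 : g⁻¹ * s * g ∈ (S : Subgroup H) := by
          have := (conj_iff_of_normalizer (inv_mem hg) s).2 hs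
          rwa [inv_inv] at this
        have h5 := h2 _ h4
        calc s * (g * x * g⁻¹) = g * ((g⁻¹ * s * g) * x) * g⁻¹ := by group
          _ = g * (x * (g⁻¹ * s * g)) * g⁻¹ := by rw [h5]
          _ = g * x * g⁻¹ * s := by group
      · rw [conj_pow, h3]; group
    | one => simp only [_root_.Sylow.coe_coe, _root_.Subgroup.mem_inf, _root_.mul_one, _root_.mul_inv_cancel, _root_.OneMemClass.one_mem]
    | mul x y _ _ hx hy =>
      have e : g * (x * y) * g⁻¹ = (g * x * g⁻¹) * (g * y * g⁻¹) := by group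
      rw [e]; exact mul_mem hx hy
    | inv x _ hx =>
      have e : g * x⁻¹ * g⁻¹ = (g * x * g⁻¹)⁻¹ := by group
      rw [e]; exact inv_mem hx
  intro g hg
  rw [Subgroup.mem_normalizer_iff]
  intro x
  refine ⟨key g hg x, fun hx => ?_⟩
  have h1 := key g⁻¹ (inv_mem hg) _ hx
  have e : g⁻¹ * (g * x * g⁻¹) * g⁻¹⁻¹ = x := by group
  rwa [e] at h1

/-- **Case B of S3046 is impossible when `K` has `HasCen`.** -/
theorem caseB_of_hasCen {C Q P V Wn : Subgroup H} (hc : CaseB p S C Q P V Wn) (K : Subgroup H) [hKn : K.Normal]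
    (hK : HasCen p ↥K) (hSK : (S : Subgroup H) ≤ K) : False := by
  obtain ⟨l, M, A, h, T, n, X, R, r, R0, hW, hG, hC, hr, hU⟩ := exists_adapted hK (S.subtype hSK)
  rw [Sylow.coe_subtype] at hU
  have hNS : Subgroup.normalizer ((S : Subgroup H) : Set H) ≤ C := le_trans normalizer_le_omega hc.NZ
  have memU : ∀ x : K, x ∈ RGD.Sup X (RGD.Pos M.toCoxeterSystem h) ↔ (x : H) ∈ (S : Subgroup H) := by
    intro x
    rw [hU, Subgroup.mem_subgroupOf]
  have hQS : Q ≤ S := by
    rw [hc.Qeq]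
    rintro _ ⟨x, hx, rfl⟩
    exact Lib.Cores.pCore_le_sylow (S.subtype hc.SC) hx
  have hVQ := hc.VW.trans hc.WQ
  have hcomm : ∀ a ∈ Wn, ∀ b ∈ Wn, a * b = b * a := by
    intro a ha b hb
    have h1 := hc.Welem.1
    exact congrArg Subtype.val (h1.is_comm.comm (⟨a, ha⟩ : Wn) ⟨b, hb⟩)
  have hCQ : C ≤ Subgroup.normalizer (Q : Set H) := by
    rw [hc.Qeq]
    have hch : (Cfsg.pCore p ↥C).Normal := Lib.Cores.pCore_normal p
    intro g hg
    rw [Subgroup.mem_normalizer_iff]
    have key : ∀ g ∈ C, ∀ x ∈ (Cfsg.pCore p ↥C).map C.subtype, g * x * g⁻¹ ∈ (Cfsg.pCore p ↥C).map C.subtype := by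
      rintro g hg _ ⟨y, hy, rfl⟩
      exact ⟨(⟨g, hg⟩ * y * ⟨g, hg⟩⁻¹ :), hch.conj_mem y hy _, rfl⟩
    intro x
    refine ⟨key g hg x, fun hx => ?_⟩
    have h1 := key g⁻¹ (inv_mem hg) _ hx
    have e : g⁻¹ * (g * x * g⁻¹) * g⁻¹⁻¹ = x := by group
    rwa [e] at h1
  have norm_sub : ∀ {L D : Subgroup H}, L ≤ Subgroup.normalizer (D : Set H) →
      L.subgroupOf K ≤ Subgroup.normalizer (D.subgroupOf K : Set K) := by
    intro L D hLD g hg
    rw [Subgroup.mem_subgroupOf] at hg
    rw [Subgroup.mem_normalizer_iff]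
    intro x
    rw [Subgroup.mem_subgroupOf, Subgroup.mem_subgroupOf]
    exact Subgroup.mem_normalizer_iff.1 (hLD hg) (x : H)
  have hB : RGD.B M.toCoxeterSystem h T X ≤ C.subgroupOf K := by
    intro b hb
    rw [Subgroup.mem_subgroupOf]
    apply hNS
    have h1 : b ∈ Subgroup.normalizer (RGD.Sup X (RGD.Pos M.toCoxeterSystem h) : Set K) := by
      rw [normalizer_U' R hG]; exact hb
    have key : ∀ b : K, b ∈ Subgroup.normalizer (RGD.Sup X (RGD.Pos M.toCoxeterSystem h) : Set K) →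
        ∀ x ∈ (S : Subgroup H), (b : H) * x * (b : H)⁻¹ ∈ (S : Subgroup H) := by
      intro b hb x hx
      have h2 := (Subgroup.mem_normalizer_iff.1 hb ⟨x, hSK hx⟩).1 ((memU _).2 hx)
      exact (memU _).1 h2
    rw [Subgroup.mem_normalizer_iff]
    intro x
    refine ⟨key b h1 x, fun hx => ?_⟩
    have h2 := key b⁻¹ (inv_mem h1) _ hx
    have e : ((b⁻¹ : K) : H) * ((b : H) * x * (b : H)⁻¹) * ((b⁻¹ : K) : H)⁻¹ = x := by
      rw [Subgroup.coe_inv]; group
    rwa [e] at h2
  have hVz : ∀ z ∈ RGD.Sup X (RGD.Pos M.toCoxeterSystem h), z ^ p = 1 →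
      (∀ u ∈ RGD.Sup X (RGD.Pos M.toCoxeterSystem h), u * z = z * u) → (z : H) ∈ V := by
    intro z hz hzp hzc
    apply hc.ZV
    refine Subgroup.subset_closure ⟨Subgroup.mem_inf.2 ⟨(memU z).1 hz, ?_⟩, ?_⟩
    · rw [Subgroup.mem_centralizer_iff]
      intro s hs
      have h1 := hzc ⟨s, hSK hs⟩ ((memU _).2 hs)
      exact congrArg Subtype.val h1
    · rw [← Subgroup.coe_pow, hzp, Subgroup.coe_one]
  refine core R (p := p) hG hC (comb hC.root hC.dom hr) (C0 := C.subgroupOf K) (P := P.subgroupOf K)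
    (V := V.subgroupOf K) (Q := Q.subgroupOf K) (Wn := Wn.subgroupOf K) hB ?_ ?_ ?_ (norm_sub hc.PV) ?_ ?_ ?_
    (norm_sub hCQ) ?_ (norm_sub hc.CW) ?_ ?_
  · -- centralisers
    intro z hz hz1 hzp g hg
    rw [Subgroup.mem_subgroupOf]
    have hzV := hVz z (hC.le_U hz) hzp fun u hu => hC.comm_U hz hu
    refine hc.Quniq z (Subgroup.mem_inf.2 ⟨hVQ hzV, ?_⟩) (fun h0 => hz1 (Subtype.ext h0)) ?_
    · rw [Subgroup.mem_centralizer_iff]
      intro q hq
      have h1 := hC.comm_U hz ((memU ⟨q, hSK (hQS hq)⟩).2 (hQS hq))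
      exact congrArg Subtype.val h1
    · rw [Subgroup.mem_centralizer_singleton_iff] at hg ⊢
      exact congrArg Subtype.val hg
  · intro x hx
    rw [Subgroup.mem_subgroupOf]
    exact hc.SP ((memU x).1 hx)
  · -- `P ∩ K` is not in `C`
    intro hPK
    apply hc.PC
    intro g hg
    obtain ⟨k, hk, hkg⟩ := frattini (K := K) hc.SP hSK hg
    have h1 : k ∈ C := hPK (x := ⟨k, (Subgroup.mem_inf.1 hk).2⟩) (Subgroup.mem_inf.1 hk).1
    have h2 := hNS hkg
    have e : g = k⁻¹ * (k * g) := by group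
    rw [e]
    exact mul_mem (inv_mem h1) h2
  · intro z hz hzp hzc
    rw [Subgroup.mem_subgroupOf]
    exact hVz z hz hzp hzc
  · exact fun x hx => hVQ hx
  · intro x hx
    exact (memU x).2 (hQS hx)
  · exact fun x hx => hc.VW hx
  · intro a ha b hb
    exact Subtype.ext (hcomm _ ha _ hb)
  · -- maximality
    intro L hL hLt
    by_contra hcon
    push Not at hcon
    -- all elements of `N_C(S)` normalise `L`
    have hLn : ∀ g ∈ C, g ∈ Subgroup.normalizer ((S : Subgroup H) : Set H) →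
        _root_.Cfsg.Agent.KFacts.RgdAut.Fix (MulAut.conjNormal g : MulAut K) L := by
      intro g hgC hgS
      refine hcon (MulAut.conjNormal g) ?_ ?_ ?_
      · intro x
        rw [memU, memU, MulAut.conjNormal_apply]
        exact conj_iff_of_normalizer hgS _
      · intro x
        rw [Subgroup.mem_subgroupOf, Subgroup.mem_subgroupOf, MulAut.conjNormal_apply]
        exact conj_iff_of_normalizer (Subgroup.le_normalizer hgC) _
      · intro v hv
        rw [Subgroup.mem_subgroupOf, MulAut.conjNormal_apply]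
        exact (conj_iff_of_normalizer (hc.CW hgC) _).2 hv
    -- `O_p(L)`
    set D : Subgroup K := (Cfsg.pCore p ↥L).map L.subtype with hD
    have hDn : ∀ {φ : MulAut K}, _root_.Cfsg.Agent.KFacts.RgdAut.Fix φ L → _root_.Cfsg.Agent.KFacts.RgdAut.Fix φ D := by
      intro φ hφ
      have key : ∀ {φ : MulAut K}, _root_.Cfsg.Agent.KFacts.RgdAut.Fix φ L → ∀ x ∈ D, φ x ∈ D := by
        intro φ hφ x hx
        obtain ⟨y, hy, rfl⟩ := hx
        let e : L ≃* L :=
          { toFun := fun y => ⟨φ y, (hφ _).2 y.2⟩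
            invFun := fun y => ⟨φ⁻¹ y, (hφ.inv _).2 y.2⟩
            left_inv := fun y => Subtype.ext (MulAut.inv_apply_self _ φ y)
            right_inv := fun y => Subtype.ext (MulAut.apply_inv_self _ φ y)
            map_mul' := fun a b => Subtype.ext (map_mul φ _ _) }
        have h1 := Lib.Cores.map_equiv_pCore e p
        have h2 : e y ∈ Cfsg.pCore p ↥L := by
          rw [← h1]; exact ⟨y, hy, rfl⟩
        exact ⟨e y, h2, rfl⟩
      intro x
      refine ⟨fun hx => ?_, key hφ x⟩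
      have := key hφ.inv _ hx
      rwa [MulAut.inv_apply_self] at this
    have hLB : RGD.B M.toCoxeterSystem h T X ≤ L := le_trans hB hL.le
    have hLP : L = PJ M.toCoxeterSystem h T X {i | n i ∈ L} := by
      have := inf_eq_PJ R hLB
      rwa [hG, inf_top_eq] at this
    obtain ⟨i, hi⟩ : ∃ i, n i ∉ L := by
      by_contra hall
      push Not at hall
      exact hLt.ne (eq_of_nodes R hG hLB le_top fun i => ⟨fun _ => trivial, fun _ => hall i⟩)
    have hDL : D ≤ L := by
      rintro _ ⟨y, -, rfl⟩; exact y.2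
    have hLD : L ≤ Subgroup.normalizer (D : Set K) := by
      intro g hg
      rw [Subgroup.mem_normalizer_iff]
      have h1 : _root_.Cfsg.Agent.KFacts.RgdAut.Fix (MulAut.conj g) L := by
        intro x
        rw [MulAut.conj_apply]
        exact (Subgroup.mem_normalizer_iff.1 (Subgroup.le_normalizer hg) x).symm
      intro x
      have h2 := (hDn h1) x
      rw [MulAut.conj_apply] at h2
      exact h2.symm
    have hVJ : VJ M.toCoxeterSystem h X {i | n i ∈ L} ≤ D := by
      have h1 : VJ M.toCoxeterSystem h X {i | n i ∈ L} ≤ L := by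
        conv_rhs => rw [hLP]
        exact VJ_le_PJ
      have h2 : (VJ M.toCoxeterSystem h X {i | n i ∈ L}).subgroupOf L ≤ Cfsg.pCore p ↥L := by
        refine Lib.Cores.le_pCore ?_ ?_
        · refine ⟨fun x hx g => ?_⟩
          rw [Subgroup.mem_subgroupOf] at hx ⊢
          have h3 : (g : K) ∈ PJ M.toCoxeterSystem h T X {i | n i ∈ L} := by
            rw [← hLP]; exact g.2
          exact (Subgroup.mem_normalizer_iff.1 (PJ_le_normalizer_VJ R _ h3) _).1 hx
        · exact (KFacts.RgdCharP.isPGroup_VJ R _).comap_subtype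
      intro x hx
      exact ⟨⟨x, h1 hx⟩, h2 hx, rfl⟩
    have hDp : IsPGroup p D := (Lib.Cores.pCore_isPGroup p).map _
    have hDne : D ≠ ⊥ := by
      obtain ⟨u, hu, hu1⟩ := exists_ne_one R i
      intro h0
      have h1 : u ∈ D := hVJ (RGD.le_Sup (sr_mem_NotJ (J := {i | n i ∈ L}) hi) hu)
      rw [h0, Subgroup.mem_bot] at h1
      exact hu1 h1
    -- `C` normalises `D`
    have hCD : C ≤ Subgroup.normalizer ((D.map K.subtype : Subgroup H) : Set H) := by
      have hnn : ∀ g : H, _root_.Cfsg.Agent.KFacts.RgdAut.Fix (MulAut.conjNormal g : MulAut K) D →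
          g ∈ Subgroup.normalizer ((D.map K.subtype : Subgroup H) : Set H) := by
        intro g hg
        rw [Subgroup.mem_normalizer_iff]
        intro x
        constructor
        · rintro ⟨y, hy, rfl⟩
          exact ⟨(MulAut.conjNormal g : MulAut K) y, (hg y).2 hy, MulAut.conjNormal_apply g y⟩
        · rintro ⟨y, hy, hyx⟩
          have h1 := (hg.inv y).2 hy
          refine ⟨_, h1, ?_⟩
          have h2 : (((MulAut.conjNormal g : MulAut K)⁻¹ y : K) : H) = g⁻¹ * y * g :=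
            MulAut.conjNormal_inv_apply g y
          change (((MulAut.conjNormal g : MulAut K)⁻¹ y : K) : H) = x
          rw [h2]
          change (y : H) = g * x * g⁻¹ at hyx
          rw [hyx]; group
      intro c hcC
      obtain ⟨k, hk, hkc⟩ := frattini (K := K) hc.SC hSK hcC
      have h1 : k ∈ Subgroup.normalizer ((D.map K.subtype : Subgroup H) : Set H) := by
        apply hnn
        intro x
        have h2 := Subgroup.mem_normalizer_iff.1 (hLD (hL.le (show (⟨k, hk.2⟩ : K) ∈ C.subgroupOf K from hk.1))) x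
        have h3 : (MulAut.conjNormal k : MulAut K) x = (⟨k, hk.2⟩ : K) * x * (⟨k, hk.2⟩ : K)⁻¹ :=
          Subtype.ext (MulAut.conjNormal_apply k x)
        rw [h3]
        exact h2.symm
      have h2 : k * c ∈ Subgroup.normalizer ((D.map K.subtype : Subgroup H) : Set H) :=
        hnn _ (hDn (hLn _ (mul_mem hk.1 hcC) hkc))
      have e : c = k⁻¹ * (k * c) := by group
      rw [e]
      exact mul_mem (inv_mem h1) h2
    have hNC := hc.Cmax _ ⟨D.map K.subtype, hDp.map _, fun h0 => hDne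
      ((Subgroup.map_eq_bot_iff_of_injective D K.subtype_injective).1 h0), rfl⟩ hCD
    refine hL.not_ge fun x hx => ?_
    rw [Subgroup.mem_subgroupOf, ← hNC, Subgroup.mem_normalizer_iff]
    have key : ∀ x ∈ L, ∀ y ∈ D.map K.subtype, (x : H) * y * (x : H)⁻¹ ∈ D.map K.subtype := by
      rintro x hx _ ⟨y, hy, rfl⟩
      exact ⟨x * y * x⁻¹, (Subgroup.mem_normalizer_iff.1 (hLD hx) y).1 hy, rfl⟩
    intro y
    refine ⟨key x hx y, fun hy => ?_⟩
    have h2 := key x⁻¹ (inv_mem hx) _ hy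
    have e : ((x⁻¹ : K) : H) * ((x : H) * y * (x : H)⁻¹) * ((x⁻¹ : K) : H)⁻¹ = y := by
      rw [Subgroup.coe_inv]; group
    rwa [e] at h2

end

end Cfsg.Agent.H238.CB
end

-- part: H331/P1/LieRow
section
/-!
# S3046, case B: the row of the groups of Lie type in characteristic `p` (helper331)

All families but `Sz`, `Ree`, `²F₄`.
-/

set_option autoImplicit false

namespace Cfsg.Agent.H331.P1

open Subgroup Cfsg Cfsg.Agent.KFacts.RgdFilt Cfsg.Agent.KFacts.RgdLieCharP Cfsg.Agent.H238.CB Cfsg.Agent.Tits.Roots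
open Cfsg.Agent.H271.PU

variable {p : ℕ} [Fact p.Prime] {H : Type*} [Group H] [Finite H] {S : Sylow p H} {C Q P V W K : Subgroup H}

/-- Groups with a filtered root group datum of characteristic `p`. -/
theorem caseB_false_filt (h : CaseB p S C Q P V W) (hK : K.Normal) (hs : IsSimpleGroup K)
    (hna : ∃ a b : K, a * b ≠ b * a) (hp : p ∣ Nat.card K) (hF : HasFilt p K) : False := by
  rcases hasCen_or_ti hF hna with h1 | h1
  · have hC := h1
    have hSK : (S : Subgroup H) ≤ K := by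
      obtain ⟨l, M, A, hc, T, n, X, R, r, R0, hW, hGG, hcen, -⟩ := h1
      have : Nonempty (Fin l) := by
        obtain ⟨w, i, -⟩ := hcen.root
        exact ⟨i⟩
      exact H338.Out.sylow_le R hGG h.loc K (MulEquiv.refl _) S
    exact caseB_of_hasCen h K hC hSK
  · exact H338.Out.caseB_false_of_TI h hK hp fun P Q hPQ => (h1 P Q).resolve_left hPQ

/-- **The families** `PSL`, `PSp`, `PSU`, `PΩ`, `G₂`, `F₄`, `E₆`, `E₇`, `E₈`, `²E₆`, `³D₄` in characteristic `p`. -/
theorem caseB_false_lie (h : CaseB p S C Q P V W) (hK : K.Normal) (hs : IsSimpleGroup K)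
    (hna : ∃ a b : K, a * b ≠ b * a) (hp : p ∣ Nat.card K) (hF : IsLieFilt p K) : False :=
  caseB_false_filt h hK hs hna hp (hasFilt_of_lie hF)

end Cfsg.Agent.H331.P1
end
end

-- part: H271/PU/EndB
section
prune_inst 0x10104504042210000000000270003c46d2000100006b88017960090004867f6108002720f8201a1a010a2a2400380048130a00f9423000c00a000600411900a0888a5000b308010426009f809084000000000000000000000000000000041004000000000
set_option linter.all false
open scoped Cfsg.Agent.FastGrp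

-- part: H282/P1/U43
section
/-!
# S3046, case B: the row `U₄(3)`, `p = 2` (helper282)

`ea_small` : the elementary abelian normal subgroups of the centraliser of an involution `z` of `U₄(3)` lie in `{1, z}`.
-/

set_option autoImplicit false

universe u

namespace Cfsg.Agent.H282.P1

open Subgroup Cfsg
open Cfsg.Agent.Co2Type.Quad Cfsg.Agent.LargeExtra.W2.CM Cfsg.Agent.LargeExtra.W2.U43
open Cfsg.Agent.LargeExtra.W2.U43.ExistsD Cfsg.Agent.LargeExtra.W2.U43.InvClass
open Cfsg.Agent.H271.PU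

/-- every involution `≠ z` of `C(z)` does not commute with one of its conjugates under elements of order 3 -/
def chkA : T → Bool := fun t =>
  !(T.beq (mu t t) T.one) || (T.beq t T.one || (T.beq t tz ||
    anyL [tx₁, mu tx₁ tx₁, tx₂, mu tx₂ tx₂] (fun c => T.beq (mu c (mu c c)) T.one &&
      !(T.beq (mu (mu (mu c t) (mu c c)) t) (mu t (mu (mu c t) (mu c c)))))))

theorem factA : allT chkA = true := by decide +kernel

variable {G : Type*} [Group G] {Q : Subgroup G} {z i j k l x₁ x₂ y s : G}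

theorem ea_small [Finite G] (h : Tw Q z i j k l x₁ x₂ y s) {A : Subgroup G} (hA : IsElementaryAbelian 2 A)
    (hAc : A ≤ centralizer ({z} : Set G)) (hn : centralizer ({z} : Set G) ≤ normalizer (A : Set G)) :
    ∀ a ∈ A, a = 1 ∨ a = z := by
  intro a ha
  have R := h.rules
  have inj := ev_inj h.toCase9aa R
  set EV : T → G := fun t => t.ev z i j k l x₁ x₂ y s with hEV
  have emul : ∀ t u, EV t * EV u = EV (mu t u) := fun t u => ev_mul R t u
  have e1 : EV T.one = 1 := ev_one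
  have ez : EV tz = z := ev_z
  have hcomm : ∀ c, EV c ∈ centralizer ({z} : Set G) := fun c => mem_centralizer_singleton_iff.2 (ev_comm R c)
  obtain ⟨t, rfl⟩ : ∃ t, a = EV t := exists_ev h.toCase9aa R (mem_centralizer_singleton_iff.1 (hAc ha))
  have h1 : mu t t = T.one := by
    apply inj
    show EV (mu t t) = EV T.one
    rw [← emul, ← pow_two, hA.2 _ ha, e1]
  have h3 := allT_spec factA t
  simp only [chkA, Bool.or_eq_true, Bool.not_eq_true'] at h3
  rcases h3 with h3 | h3 | h3 | h3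
  · rw [← Bool.not_eq_true, T.beq_iff] at h3
    exact absurd h1 h3
  · left; rw [T.eq_of_beq h3, e1]
  · right; rw [T.eq_of_beq h3, ez]
  · exfalso
    obtain ⟨c, -, hc⟩ := anyL_mem h3
    rw [Bool.and_eq_true, Bool.not_eq_true', ← Bool.not_eq_true, T.beq_iff] at hc
    obtain ⟨hc1, hc2⟩ := hc
    apply hc2
    rw [T.beq_iff]
    apply inj
    have hinv : EV (mu c c) = (EV c)⁻¹ := by
      have h4 : EV c * EV (mu c c) = 1 := by rw [emul, hc1, e1]
      exact (inv_eq_of_mul_eq_one_right h4).symm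
    have h5 : EV c * EV t * (EV c)⁻¹ ∈ A := H229.le_norm_iff.1 hn (EV c) (hcomm c) _ ha
    have h6 := H229.ea_comm hA h5 ha
    rw [← hinv] at h6
    simp only [emul] at h6
    exact h6

/-- **the row `U₄(3)`** -/
theorem rowB_u43 {K : Type u} [Group K] [Finite K]
    (h : Cfsg.Agent.SevenCases.PsuOdd (fun n q => n = 4 ∧ q = 3) K) : RowB 2 K := by
  obtain ⟨F, _, _, n, q, -, hF, ⟨rfl, rfl⟩, ⟨e⟩⟩ := h
  have hF9 : Fintype.card F = 9 := by rw [hF]; norm_num
  have hfin : Finite (PSU 4 F 3) := inferInstance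
  have hp2 : Fact (Nat.Prime 2) := ⟨Nat.prime_two⟩
  have hch : CharP F 3 := by
    obtain ⟨p, hp⟩ := CharP.exists F
    obtain ⟨n, hpp, hn⟩ := FiniteField.card F p
    have h3 : p ∣ 9 := by rw [← hF9, hn]; exact dvd_pow_self p n.ne_zero
    have h4 : p = 3 := by
      have h5 : p ∣ 3 ^ 2 := by simpa using h3
      exact (Nat.prime_dvd_prime_iff_eq hpp Nat.prime_three).1 (hpp.dvd_of_dvd_pow h5)
    rwa [h4] at hp
  obtain ⟨Q, z₀, i, j, k, l, x₁, x₂, y, s, hT, hone⟩ : ∃ (Q : Subgroup (PSU 4 F 3)) (z₀ i j k l x₁ x₂ y s : PSU 4 F 3),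
      Tw Q z₀ i j k l x₁ x₂ y s ∧ ∀ t : PSU 4 F 3, t * t = 1 → t ≠ 1 → ∃ g, g * z₀ * g⁻¹ = t := by
    obtain ⟨i, j, k, l, x₁, x₂, y, s, hT, -, -⟩ := Cfsg.Agent.OddHalf.D6.QThree.U43Tw.exists_tw (F := F) hF9
    exact ⟨_, _, i, j, k, l, x₁, x₂, y, s, hT, Cfsg.Agent.OddHalf.D6.QThree.U43Tw.one_class hF9⟩
  refine RowB.congr ?_ e.symm
  rintro z ⟨hz, -⟩
  have hz2 : z * z = 1 := by rw [← pow_two, ← hz, pow_orderOf_eq_one]
  have hz1 : z ≠ 1 := by rintro rfl; rw [orderOf_one] at hz; omega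
  obtain ⟨g, hg⟩ := hone z hz2 hz1
  rw [← hg]
  refine RowAt.map (z := z₀) (p := 2) ?_ (MulAut.conj g)
  intro A hA hzA hAc hn hcard
  exfalso
  have h1 := ea_small hT hA hAc hn
  have h2 : Nat.card ↥A ≤ 2 := by
    classical
    have h3 : (A : Set (PSU 4 F 3)) ⊆ ((({1, z₀} : Finset (PSU 4 F 3)) : Set (PSU 4 F 3))) := by
      intro a ha
      rcases h1 a ha with h4 | h4
      · rw [h4]; simp
      · rw [h4]; simp
    have h4 := Set.ncard_le_ncard h3 (Finset.finite_toSet _)
    rw [Set.ncard_coe_finset] at h4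
    exact (Nat.card_coe_set_eq (A : Set (PSU 4 F 3))).le.trans (h4.trans Finset.card_le_two)
  omega

end Cfsg.Agent.H282.P1
end

-- part: H736/PU/G23
section
/-!
# S3046, case B: the row `G₂(3)` at `p = 2` (helper736)

`C(z)` is covered by 1296 words; every involution of `C(z)` different from `z` does not commute with one of its
conjugates under the root elements of `C(z)`.  So `⟨z⟩` is the only normal elementary abelian 2-subgroup of `C(z)`
containing `z`.
-/

set_option autoImplicit false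
set_option Elab.async false
set_option maxRecDepth 100000

namespace Cfsg.Agent.H736.PU.G23

open Subgroup Cfsg Cfsg.Lie
open Cfsg.Agent.H271.PU (RowB RowAt PCen)
open Cfsg.Agent.GTwoThree.Model
open Cfsg.Agent.OddHalf.Small.G23Data Cfsg.Agent.OddHalf.Small.G23Check Cfsg.Agent.OddHalf.Small.G23

/-- `z` and `1` are the only elements of square one of `C(z)` commuting with all their conjugates in `C(z)` -/
def OnlyZ {G : Type*} [Group G] (z : G) : Prop := ∀ g : G, g * z = z * g → g * g = 1 →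
    (∀ c : G, c * z = z * c → g * (c * g * c⁻¹) = c * g * c⁻¹ * g) → g = 1 ∨ g = z

theorem OnlyZ.map {G G' : Type*} [Group G] [Group G'] {z : G} (h : OnlyZ z) (e : G ≃* G') : OnlyZ (e z) := by
  intro g h1 h2 h3
  have h4 := h (e.symm g) (e.injective (by rw [map_mul, map_mul, e.apply_symm_apply, h1]))
    (by rw [← map_mul, h2, map_one]) fun c hc => ?_
  · rcases h4 with h4 | h4
    · exact Or.inl (e.symm.injective (h4.trans (map_one _).symm))
    · exact Or.inr ((e.symm_apply_eq).1 h4)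
  · apply e.injective
    have h5 := h3 (e c) (by rw [← map_mul, hc, map_mul])
    simpa only [map_mul, map_inv, e.apply_symm_apply] using h5

theorem OnlyZ.of_conj {G : Type*} [Group G] {z t c : G} (h : OnlyZ z) (hc : c * t * c⁻¹ = z) : OnlyZ t := by
  have e : MulAut.conj c⁻¹ z = t := by
    rw [MulAut.conj_apply, ← hc]
    group
  rw [← e]
  exact h.map _

theorem OnlyZ.of_equiv {G G' : Type*} [Group G] [Group G'] (h : ∀ t : G', orderOf t = 2 → OnlyZ t) (f : G' ≃* G) :
    ∀ t : G, orderOf t = 2 → OnlyZ t := by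
  intro t ht
  have h1 := (h (f.symm t) (by rw [f.symm.orderOf_eq, ht])).map f
  rwa [f.apply_symm_apply] at h1

/-- the elementary abelian normal 2-subgroups of `C(z)` containing `z` -/
theorem OnlyZ.elem {G : Type*} [Group G] {z : G} (h : OnlyZ z) {A : Subgroup G} (hA : IsElementaryAbelian 2 A)
    (hAc : A ≤ centralizer ({z} : Set G)) (hN : centralizer ({z} : Set G) ≤ normalizer (A : Set G)) :
    ∀ a ∈ A, a = 1 ∨ a = z := by
  intro a ha
  refine h a (mem_centralizer_singleton_iff.1 (hAc ha)) ?_ fun c hc => ?_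
  · have := hA.2 a ha
    rwa [pow_two] at this
  · have h2 : c * a * c⁻¹ ∈ A := (mem_normalizer_iff.1 (hN (mem_centralizer_singleton_iff.2 hc)) a).1 ha
    exact congrArg Subtype.val (hA.1.is_comm.comm ⟨a, ha⟩ ⟨_, h2⟩)

/-- a criterion for the row condition -/
theorem OnlyZ.rowAt {G : Type*} [Group G] [Finite G] {z : G} (h : OnlyZ z) : RowAt 2 z := by
  intro A hA hz hAc hN hcard
  exfalso
  have h2 : (A : Set G) ⊆ {1, z} := by
    intro a ha
    rcases h.elem hA hAc hN a ha with h | h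
    · exact Or.inl h
    · exact Or.inr h
  have h3 : Nat.card A ≤ 2 := by
    have h4 := Set.ncard_le_ncard h2 (Set.toFinite _)
    have h5 : ({1, z} : Set G).ncard ≤ 2 := by
      refine (Set.ncard_insert_le _ _).trans ?_
      rw [Set.ncard_singleton]
    exact (Nat.card_coe_set_eq (A : Set G)).trans_le (h4.trans h5)
  omega

/-- letters of the root elements in `C(z)` -/
def CL : List ℕ := [12, 13, 18, 19, 10, 11, 4, 5]

/-- words of elements of `C(z)` used for the conjugation, with the inverses -/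
def CC : List (List ℕ × List ℕ) := CL.map fun k => ([k], [iv k])

theorem CC_check : CC.all (fun c => eqc (c.1 ++ wz) (wz ++ c.1) && eqc (c.1 ++ c.2) []) = true := by decide +kernel

/-- the words covering `C(z)` -/
def cw (i a d a' d' : ℕ) : List ℕ := (wx 6 a ++ wx 9 d) ++ (NL.getD i [] ++ (wx 6 a' ++ wx 9 d'))

/-- the check: `W ^ 2 ≠ 1` or `W = 1` or `W = z` or `W` does not commute with one of its conjugates -/
noncomputable def chk (W : List ℕ) : Bool :=
  nec (W ++ W) [] || ((CC.any fun c => nec (W ++ (c.1 ++ (W ++ c.2))) (c.1 ++ (W ++ (c.2 ++ W)))) || (eqc W [] || eqc W wz))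

/-- the check for the words with given `i` -/
noncomputable def chkI (i : ℕ) : Bool :=
  [0, 1, 2].all fun a => [0, 1, 2].all fun d => [0, 1, 2].all fun a' => [0, 1, 2].all fun d' => chk (cw i a d a' d')

section
open Cfsg.Agent.Lib.PackMat Cfsg.Agent.Lib.PackAll Cfsg.Agent.GTwoThree.ModelData

private theorem gA : goodA C3 = true := by decide +kernel

private def Rl (w V : List ℕ) : Prop :=
  (∀ g ∈ V, okG C3 g = true) ∧ ((w.map cd).map (mat C3)).prod = (V.map (mat C3)).prod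

private theorem Rl.rfl' (w : List ℕ) : Rl w (w.map cd) := ⟨ok_map w, rfl⟩

private theorem Rl.app {w V w' V' : List ℕ} (h : Rl w V) (k : Rl w' V') : Rl (w ++ w') (V ++ V') :=
  ⟨fun g hg => (List.mem_append.1 hg).elim (h.1 g) (k.1 g), by
    rw [List.map_append, List.map_append, List.map_append, List.prod_append, List.prod_append, h.2, k.2]⟩

private noncomputable def rc (V : List ℕ) : ℕ :=
  sRunK (nat_lit 3) (nat_lit 2) (nat_lit 43) (nat_lit 7) (nat_lit 0) (GMc C3) (FMc C3) (LOc C3) (HIc C3) (HTc C3) V R0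

private theorem nec_eq {w V w' V' : List ℕ} (h : Rl w V) (k : Rl w' V') : nec w w' = !(Nat.beq (rc V) (rc V')) := by
  have e : ∀ V, run C3 V R0 = rc V := fun V => by
    delta rc
    rw [← runK_fun]
    rfl
  rw [← e, ← e, ← run_congr gA (ok_map w) h.1 h.2 R0_ok, ← run_congr gA (ok_map w') k.1 k.2 R0_ok, ← rr_eq, ← rr_eq]
  rfl

private noncomputable def chkV (V W : List ℕ) : Bool :=
  (!(Nat.beq (rc (V ++ V)) (rc []))) || ((CC.any fun c => !(Nat.beq (rc (V ++ (c.1.map cd ++ (V ++ c.2.map cd))))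
    (rc (c.1.map cd ++ (V ++ (c.2.map cd ++ V)))))) || (eqc W [] || eqc W wz))

private theorem chk_eq {W V : List ℕ} (h : Rl W V) : chk W = chkV V W := by
  delta chk chkV
  rw [nec_eq (h.app h) (Rl.rfl' [])]
  congr 3
  funext c
  exact nec_eq (h.app ((Rl.rfl' _).app (h.app (Rl.rfl' _)))) ((Rl.rfl' _).app (h.app ((Rl.rfl' _).app h)))

private theorem chkI_eq : chkI = fun i => aMat C3 ((NL.getD i []).map cd) (chkI i) fun G =>
    [0, 1, 2].all fun a => [0, 1, 2].all fun d => [0, 1, 2].all fun a' => [0, 1, 2].all fun d' =>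
      chkV ((wx 6 a ++ wx 9 d).map cd ++ ([G] ++ (wx 6 a' ++ wx 9 d').map cd)) (cw i a d a' d') :=
  funext fun i => aMat_spec gA _ fun G _ h2 h3 => by
    delta chkI
    have h : Rl (NL.getD i []) [G] := ⟨fun g hg => List.mem_singleton.1 hg ▸ h2, h3.trans List.prod_singleton.symm⟩
    simp only [fun a d a' d' => chk_eq (W := cw i a d a' d') ((Rl.rfl' (wx 6 a ++ wx 9 d)).app (h.app (Rl.rfl' (wx 6 a' ++ wx 9 d'))))]

end

theorem check_C : NZ.all chkI = true := by
  rewrite [chkI_eq]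
  decide +kernel

/-- the elements of `C(z)` are the listed words -/
theorem exists_word {g : ↥Gp} (hg : g * z = z * g) : ∃ W : List ℕ, g = ev y W ∧ chk W = true := by
  obtain ⟨a, d, i, hi, a', d', -, -, h, -⟩ := cent hg
  refine ⟨cw i a.val d.val a'.val d'.val, ?_, ?_⟩
  · rw [h, cw, ev_append, ev_append, ev_append, ev_append, mul_assoc, ev_append, ev_append]
  · have h1 := List.all_eq_true.1 check_C i hi
    unfold chkI at h1
    have hm : ∀ t : Fin 3, t.val ∈ ([0, 1, 2] : List ℕ) := by decide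
    exact List.all_eq_true.1 (List.all_eq_true.1 (List.all_eq_true.1 (List.all_eq_true.1 h1 a.val (hm a))
      d.val (hm d)) a'.val (hm a')) d'.val (hm d')

/-- the involutions of `C(z)` commuting with all their conjugates in `C(z)` -/
theorem onlyZ_z : OnlyZ z := by
  intro g hg h2 hc
  obtain ⟨W, rfl, hW⟩ := exists_word hg
  unfold chk at hW
  rw [Bool.or_eq_true, Bool.or_eq_true, Bool.or_eq_true, List.any_eq_true] at hW
  rcases hW with hW | ⟨c, hcC, hW⟩ | hW | hW
  · exfalso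
    apply ne_of_nec hW
    rw [ev_append, h2]
    rfl
  · exfalso
    have h3 := List.all_eq_true.1 CC_check c hcC
    rw [Bool.and_eq_true] at h3
    have h4 := eq_of_eqc h3.1
    have h5 := eq_of_eqc h3.2
    rw [ev_append, ev_append] at h4
    rw [ev_append, ev_nil] at h5
    have h6 : ev y c.2 = (ev y c.1)⁻¹ := (inv_eq_of_mul_eq_one_right h5).symm
    have h7 := hc _ h4
    apply ne_of_nec hW
    simp only [ev_append, h6]
    simpa only [mul_assoc] using h7
  · exact Or.inl (eq_of_eqc hW)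
  · exact Or.inr (eq_of_eqc hW)

theorem onlyZ_model : ∀ t : ↥Gp, orderOf t = 2 → OnlyZ t := by
  intro t ht
  obtain ⟨c, hc⟩ := exists_conj ht
  exact onlyZ_z.of_conj hc

/-- every involution `t` of `G₂(3)` is the only involution of `C(t)` commuting with all its conjugates in `C(t)` -/
theorem onlyZ_g23 {K : Type*} [Group K] {F : Type} [Field F] [Fintype F] (hF : Fintype.card F = 3)
    (e : K ≃* ↥(chevG2.group F)) : ∀ t : K, orderOf t = 2 → OnlyZ t := by
  have h3 : Fintype.card (ZMod 3) = Fintype.card F := by rw [hF]; rfl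
  let φ : ZMod 3 ≃+* F := FiniteField.ringEquivOfCardEq h3
  exact OnlyZ.of_equiv onlyZ_model ((ChevalleyStructure.FieldIso.groupEquiv chevG2 φ).trans e.symm)

/-- **the row `G₂(3)`** : the predicate of `H46.CharTwoSpor` -/
theorem rowB_g23 {K : Type*} [Group K] [Finite K] (h : SevenCases.GTwoOdd (fun q => q = 3) K) : RowB 2 K := by
  obtain ⟨F, _, _, -, hF, ⟨e⟩⟩ := h
  exact fun z hz => (onlyZ_g23 hF e z hz.1).rowAt

end Cfsg.Agent.H736.PU.G23
end

-- part: H23/PU/Co2
section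
/-!
# S3046, case B: the row of the Conway group `Co₂` (helper23)

`rowB_co2` : `RowB 2 K` for the Conway group `K = Co₂`: `C(z) = 2 ^ (1 + 8) : Sp₆(2)` acts irreducibly on `R / ⟨z⟩`.
-/

set_option autoImplicit false

namespace Cfsg.Agent.H23.PU.Co2

open Subgroup Cfsg Cfsg.Agent.H271.PU Cfsg.Agent.H229 Cfsg.Agent.Co2Type.Quad

universe u

/-- `C_G(z)` has a large extraspecial subgroup `Q` containing all normal 2-subgroups, with `Q / ⟨z⟩` irreducible -/
theorem rowB_of_irr {G : Type*} [Group G] [Finite G] {Q : Subgroup G} {z : G} (h : Large Q z)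
    (hir : KFacts.LargeO2.Irr Q z)
    (hO : ∀ W : Subgroup G, IsPGroup 2 W → (∀ w ∈ W, w * z = z * w) →
      (∀ u : G, u * z = z * u → ∀ w ∈ W, u * w * u⁻¹ ∈ W) → W ≤ Q)
    (hna : ∃ a ∈ Q, ∃ b ∈ Q, a * b ≠ b * a) : RowB 2 G := by
  have : Fact (Nat.Prime 2) := ⟨Nat.prime_two⟩
  have hQ : IsPGroup 2 ↥Q := LargeExtra.Base.isPGroup h
  have ho : orderOf z = 2 := orderOf_eq_prime (by rw [pow_two]; exact h.z_sq) h.z_ne
  obtain ⟨T, hT⟩ := hQ.exists_le_sylow
  refine rowB_of_center (T := T) (z₀ := z) ?_ ho ?_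
  · intro y hy hyc _
    have hyz : y * z = z * y := (hyc z (hT h.z_mem)).symm
    have h1 : y ∈ Q := h.self y hyz fun x hx => (hyc x (hT hx)).symm
    rcases h.cent y h1 fun x hx => (hyc x (hT hx)).symm with h2 | h2
    · rw [h2]
      exact one_mem _
    · rw [h2]
      exact mem_zpowers z
  · intro A hA hz hAc hN hcard
    exfalso
    have hAi : ∀ u : G, u * z = z * u → ∀ w ∈ A, u * w * u⁻¹ ∈ A := fun u hu w hw =>
      ((mem_normalizer_iff.1 (hN (mem_centralizer_singleton_iff.2 hu))) w).1 hw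
    have hA2 : IsPGroup 2 A := fun a => ⟨1, Subtype.ext (by rw [pow_one]; exact hA.2 a a.2)⟩
    have hAQ : A ≤ Q := hO A hA2 (fun w hw => mem_centralizer_singleton_iff.1 (hAc hw)) hAi
    rcases hir A hAQ hAi with h1 | h1
    · have h2 : A ≤ zpowers z := by
        intro a ha
        rcases h1 a ha with h3 | h3
        · rw [h3]; exact one_mem _
        · rw [h3]; exact mem_zpowers z
      have h3 : Nat.card A ≤ Nat.card (zpowers z) := Nat.card_mono (Set.toFinite _) h2
      rw [Nat.card_zpowers, ho] at h3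
      omega
    · obtain ⟨a, ha, b, hb, hab⟩ := hna
      rw [← h1] at ha hb
      exact hab (ea_comm hA ha hb)

/-- **The row of the Conway group `Co₂`.** -/
theorem rowB_co2 {M : Type u} [Group M] [Finite M] (hM : Spor.IsoCo2 M) : RowB 2 M := by
  have : Fact (Nat.Prime 2) := ⟨Nat.prime_two⟩
  obtain ⟨e⟩ := hM
  have hf : Finite Spor.Co2 := Finite.of_equiv M e.toEquiv
  exact (rowB_of_irr KFacts.CoTwo.RLarge.large KFacts.CoTwo.RIrr.irr (fun W => KFacts.CoTwo.RFin.le_R)
    KFacts.CoTwo.RIrr.hna).congr e.symm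

end Cfsg.Agent.H23.PU.Co2
end

-- part: H338/PU/Th
section
/-!
# S3046, case B: the Thompson group (helper338)
-/

set_option autoImplicit false

namespace Cfsg.Agent.H338.PU

open Subgroup Cfsg
open Cfsg.Agent.ThType.SpinData Cfsg.Agent.ThType.ElemE Cfsg.Agent.ThType.NormE
open Cfsg.Agent.H271.PU Cfsg.Agent.H229

variable {G : Type*} [Group G] {z : G}

/-- `C_G(z)` has no elementary abelian normal subgroup of order `≥ 8` containing `z` -/
theorem rowAt_of_spin [Finite G] (S : SpinAt G z) : RowAt 2 z := by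
  intro A hA hzA hAc hN hcard
  exfalso
  have hAz : ∀ a ∈ A, a * z = z * a := fun a ha => mem_centralizer_singleton_iff.1 (hAc ha)
  have hA2 : ∀ a ∈ A, a * a = 1 := fun a ha => by rw [← pow_two]; exact hA.2 a ha
  have hconj : ∀ g : G, g * z = z * g → ∀ a ∈ A, g * a * g⁻¹ ∈ A := fun g hg a ha =>
    (mem_normalizer_iff.1 (hN (mem_centralizer_singleton_iff.2 hg)) a).1 ha
  -- `A ∩ Q ≤ ⟨z⟩`
  have h1 : ∀ x ∈ A, x ∈ S.Q → x = 1 ∨ x = z := by
    intro x hxA hxQ
    by_contra hcon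
    push Not at hcon
    obtain ⟨hx1, hxz⟩ := hcon
    have hall : ∀ y ∈ S.Q, q0 (S.π y) = 0 → S.π y ≠ 0 → y ∈ A := by
      intro y hy hq hne
      have hy1 : y ≠ 1 := by
        rintro rfl
        exact hne (pi_one S)
      have hyz : y ≠ z := by
        rintro rfl
        exact hne (pi_z S)
      obtain ⟨h, hh, rfl⟩ := conj_in_C S hxQ hx1 hxz (hA2 x hxA) hy hy1 hyz ((sq_eq_one_iff S hy).2 hq)
      exact hconj h hh x hxA
    obtain ⟨v, hv⟩ := S.π_surj (fun i => if i = 0 then 1 else 0)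
    obtain ⟨w, hw⟩ := S.π_surj (fun i => if i = 4 then 1 else 0)
    have hvA := hall v hv.1 (by rw [hv.2]; decide) (by rw [hv.2]; decide)
    have hwA := hall w hw.1 (by rw [hw.2]; decide) (by rw [hw.2]; decide)
    have h5 := not_comm S hv.1 hw.1 (by rw [hv.2, hw.2]; decide)
    rw [ea_comm hA hvA hwA, mul_inv_cancel_right] at h5
    exact S.z_ne (mul_eq_right.1 h5.symm)
  -- `A ≤ Q`
  have h2 : ∀ a ∈ A, a ∈ S.Q := by
    intro a ha
    rw [← S.φ_eq_one a (hAz a ha)]
    apply ker_fix S.ρ_cyc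
    intro v
    obtain ⟨x, hx, rfl⟩ := S.π_surj v
    rw [← S.act a (hAz a ha) x hx]
    have h3 : a * x * a⁻¹ * x⁻¹ ∈ S.Q := mul_mem (conj_mem_Q S (hAz a ha) hx) (inv_mem hx)
    have h4 : a * x * a⁻¹ * x⁻¹ ∈ A := by
      have h5 := hconj x (S.Q_le x hx) a⁻¹ (inv_mem ha)
      have h6 : a * x * a⁻¹ * x⁻¹ = a * (x * a⁻¹ * x⁻¹) := by group
      rw [h6]
      exact mul_mem ha h5
    have h5 : a * x * a⁻¹ = (a * x * a⁻¹ * x⁻¹) * x := by group
    rcases h1 _ h4 h3 with h6 | h6
    · rw [h5, h6, one_mul]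
    · rw [h5, h6, pi_zmul S hx]
  have h3 : (A : Set G) ⊆ {1, z} := fun x hx => by
    rcases h1 x hx (h2 x hx) with h | h
    · exact Or.inl h
    · exact Or.inr h
  have h4 := Set.ncard_le_ncard h3 (Set.toFinite _)
  rw [Set.ncard_pair S.z_ne.symm, ← Nat.card_coe_set_eq] at h4
  have h5 : Nat.card ((A : Subgroup G) : Set G) = Nat.card A := rfl
  rw [h5] at h4
  omega

theorem rowB_of_spin [Finite G] (S : SpinAt G z) : RowB 2 G := by
  have hL := H44.CTh.large S
  have : Fact (Nat.Prime 2) := ⟨Nat.prime_two⟩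
  obtain ⟨T, hT⟩ := (Cfsg.Agent.LargeExtra.Base.isPGroup hL).exists_le_sylow
  refine rowB_of_center (T := T) (z₀ := z) ?_ (orderOf_eq_prime (by rw [pow_two]; exact S.z_sq) S.z_ne)
    (rowAt_of_spin S)
  intro y hy hyT hy2
  have hyz : y * z = z * y := (hyT z (hT S.z_mem)).symm
  have hyQ : y ∈ S.Q := hL.self y hyz fun x hx => (hyT x (hT hx)).symm
  rcases hL.cent y hyQ fun x hx => (hyT x (hT hx)).symm with h | h
  · rw [h]; exact one_mem _
  · rw [h]; exact mem_zpowers z

/-- **The row `Th`, `p = 2`.** -/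
theorem rowB_th {K : Type*} [Group K] [Finite K] (h : Spor.IsoTh K) : RowB 2 K := by
  have : Fact (Nat.Prime 2) := ⟨Nat.prime_two⟩
  obtain ⟨e⟩ := h
  have hf : Finite Cfsg.Spor.Th := Cfsg.Agent.Th.Main1700.final.1
  obtain ⟨S⟩ := Cfsg.Agent.Sigma.ThRow.exists_spin
  exact (rowB_of_spin S).congr e.symm

end Cfsg.Agent.H338.PU
end

-- part: H271/PU/EndB
section
/-!
# S3046, case B: assembly (helper271)

`endB` : in case B (`W = ⟨V^C⟩` abelian) `p = 2` and `F*(H)` is `²F₄(q)` or the Tits group.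
-/

set_option autoImplicit false

namespace Cfsg.Agent.H271.PU

open Subgroup Cfsg
open Cfsg.Agent.H229

universe u

theorem rank_congr {G G' : Type*} [Group G] [Group G'] {p k : ℕ} (e : G ≃* G') (h : PRankLE p k G') :
    PRankLE p k G := by
  intro A hA hAp
  rw [← Subgroup.card_map_of_injective (f := e.toMonoidHom) e.injective]
  refine h _ ⟨⟨?_⟩⟩ ?_
  · rintro ⟨_, a, ha, rfl⟩ ⟨_, b, hb, rfl⟩
    apply Subtype.ext
    show e a * e b = e b * e a
    rw [← map_mul, ← map_mul]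
    exact congrArg e (congrArg Subtype.val (hA.is_comm.comm (⟨a, ha⟩ : A) ⟨b, hb⟩))
  · rintro _ ⟨a, ha, rfl⟩
    show e a ^ p = 1
    rw [← map_pow, hAp a ha, map_one]

variable {H : Type u} [Group H] [Finite H] {p : ℕ} [Fact p.Prime] {S : Sylow p H} {C Q P V W K : Subgroup H}

/-- an elementary abelian subgroup of `K` of order at least `p ^ 3` -/
theorem CaseB.exists_ea (h : CaseB p S C Q P V W) (hK : K.Normal) (hp : p ∣ Nat.card K) :
    ∃ A : Subgroup K, IsElementaryAbelian p A ∧ p ^ 3 ≤ Nat.card A := by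
  obtain ⟨A, hAK, hA, hc⟩ := h.rank hK hp
  refine ⟨A.subgroupOf K, ?_, ?_⟩
  · refine ea_of_comm ?_ ?_
    · intro a ha b hb
      exact Subtype.ext (ea_comm hA (mem_subgroupOf.1 ha) (mem_subgroupOf.1 hb))
    · intro a ha
      exact Subtype.ext (hA.2 _ (mem_subgroupOf.1 ha))
  · rwa [Nat.card_congr (subgroupOfEquivOfLe hAK).toEquiv]

theorem CaseB.not_pRankLE (h : CaseB p S C Q P V W) (hK : K.Normal) (hp : p ∣ Nat.card K) : ¬ PRankLE p 2 ↥K := by
  intro hr
  obtain ⟨A, hA, hc⟩ := h.exists_ea hK hp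
  have h1 := hr A hA.1 hA.2
  have h2 := (Nat.pow_le_pow_iff_right (Fact.out : p.Prime).one_lt).1 (hc.trans h1)
  omega

/-- the Sylow subgroups of `K` are not abelian -/
theorem CaseB.sylow_not_comm (h : CaseB p S C Q P V W) (hK : K.Normal) (hp : p ∣ Nat.card K) (T : Sylow p K) :
    ∃ a ∈ (T : Subgroup K), ∃ b ∈ (T : Subgroup K), a * b ≠ b * a := by
  by_contra hcon
  push Not at hcon
  refine h.not_abelian hK hp ?_
  obtain ⟨R, hR⟩ := S0542.result p K hK.isSubnormal S
  obtain ⟨g, hg⟩ := MulAction.exists_smul_eq K T R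
  have key : ∀ a : H, (ha : a ∈ (S : Subgroup H) ⊓ K) → ∃ a' ∈ (T : Subgroup K), (g : H) * a' * (g : H)⁻¹ = a := by
    intro a ha
    have h1 : (⟨a, ha.2⟩ : K) ∈ (R : Subgroup K) := by
      rw [hR]
      exact mem_subgroupOf.2 ha.1
    rw [← hg, Sylow.coe_subgroup_smul] at h1
    obtain ⟨a', ha', h2⟩ := (Subgroup.mem_smul_pointwise_iff_exists _ _ _).1 h1
    exact ⟨a', ha', congrArg Subtype.val h2⟩
  intro a ha b hb
  obtain ⟨a', ha', rfl⟩ := key a ha
  obtain ⟨b', hb', rfl⟩ := key b hb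
  have h3 : (a' : H) * b' = b' * a' := congrArg Subtype.val (hcon a' ha' b' hb')
  calc (g : H) * a' * (g : H)⁻¹ * ((g : H) * b' * (g : H)⁻¹) = g * (a' * b') * (g : H)⁻¹ := by group
    _ = g * (b' * a') * (g : H)⁻¹ := by rw [h3]
    _ = _ := by group

/-- `p ^ 4` divides the order of `K` -/
theorem CaseB.pow_four_dvd (h : CaseB p S C Q P V W) (hK : K.Normal) (hp : p ∣ Nat.card K) : p ^ 4 ∣ Nat.card K := by
  obtain ⟨A, hA, hc⟩ := h.exists_ea hK hp
  obtain ⟨T, hT⟩ := (ea_isPGroup hA).exists_le_sylow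
  obtain ⟨a, ha, b, hb, hab⟩ := h.sylow_not_comm hK hp T
  obtain ⟨k, hk⟩ := IsPGroup.iff_card.1 (ea_isPGroup hA)
  obtain ⟨l, hl⟩ := IsPGroup.iff_card.1 T.isPGroup'
  have hpr : p.Prime := Fact.out
  rw [hk] at hc
  have hk3 := (Nat.pow_le_pow_iff_right hpr.one_lt).1 hc
  have hlt : A < (T : Subgroup K) := by
    refine lt_of_le_of_ne hT fun h0 => hab ?_
    rw [← h0] at ha hb
    exact ea_comm hA ha hb
  have h1 : k < l := by
    rw [← Nat.pow_lt_pow_iff_right hpr.one_lt, ← hk, ← hl]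
    exact Set.ncard_lt_ncard (show ((_ : Subgroup K) : Set K) ⊂ (_ : Set K) from hlt) (Set.toFinite _)
  have h2 : p ^ l ∣ Nat.card K := by
    rw [← hl]
    exact Subgroup.card_subgroup_dvd_card _
  exact (pow_dvd_pow p (by omega)).trans h2

/-- **Assembly of case B.** -/
theorem endB (hkn : ∀ (X : Type u) [Group X] [Finite X] [IsSimpleGroup X], IsKnownSimple' X) (hodd : OddRow.{u})
    (h : CaseB p S C Q P V W) : p = 2 ∧ ∃ K : Subgroup H, K.Normal ∧ IsSimpleGroup K ∧ ¬ IsMulCommutative K ∧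
      centralizer (K : Set H) = ⊥ ∧ (Lie.Iso2F4 ↥K ∨ Lie.IsoTits ↥K) := by
  obtain ⟨K, hK, hs, hna, hp, hC⟩ := h.exists_simple
  have hr := h.not_pRankLE hK hp
  have hna' : ∃ a b : K, a * b ≠ b * a := by
    by_contra hcon
    push Not at hcon
    exact hna ⟨⟨hcon⟩⟩
  by_cases hch : IsChevSimple p ↥K
  · rcases hch with hch | ⟨rfl, hch⟩ | ⟨rfl, F, _, _, hF, ⟨e⟩⟩
    · have hlie : ∀ hL : KFacts.RgdLieCharP.IsLieFilt p ↥K, False := fun hL =>
        H331.P1.caseB_false_lie h hK hs hna' hp hL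
      rcases hch with hch | hch | hch | hch | hch | hch | hch | hch | ⟨rfl, hch⟩ | ⟨rfl, hch⟩ | ⟨rfl, hch⟩
      · exact (hlie (Or.inl hch)).elim
      · exact (hlie (Or.inr (Or.inl hch))).elim
      · exact (hlie (Or.inr (Or.inr (Or.inl hch)))).elim
      · exact (hlie (Or.inr (Or.inr (Or.inr (Or.inl hch))))).elim
      · exact (hlie (Or.inr (Or.inr (Or.inr (Or.inr (Or.inl hch)))))).elim
      · exact (hlie (Or.inr (Or.inr (Or.inr (Or.inr (Or.inr (Or.inl hch))))))).elim
      · exact (hlie (Or.inr (Or.inr (Or.inr (Or.inr (Or.inr (Or.inr (Or.inl hch)))))))).elim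
      · exact (hlie (Or.inr (Or.inr (Or.inr (Or.inr (Or.inr (Or.inr (Or.inr hch)))))))).elim
      · exact (H338.Out.caseB_false_suzuki h hK hp hch).elim
      · exact ⟨rfl, K, hK, hs, hna, hC, Or.inl hch⟩
      · exact (H338.Out.caseB_false_ree h hK hp hch).elim
    · rcases hch with ⟨⟨e⟩⟩ | ⟨F, _, _, hF, ⟨e⟩⟩ | hch
      · exact (hr (rank_congr e NotResT.SmallTwo.prank_alt_six)).elim
      · exact (hr (rank_congr e (NotResT.TwoRank.prank_psu_three (by rw [hF]; norm_num) (by decide)))).elim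
      · exact ⟨rfl, K, hK, hs, hna, hC, Or.inr hch⟩
    · exfalso
      obtain ⟨A, hA, hc⟩ := h.exists_ea hK hp
      obtain ⟨k, hk⟩ := IsPGroup.iff_card.1 (ea_isPGroup hA)
      rw [hk] at hc
      have hk3 := (Nat.pow_le_pow_iff_right (by norm_num)).1 hc
      have h1 : 3 ^ k ∣ 504 := by
        rw [← hk, ← SmallSimple.PSLFacts.card_psl_two_eight hF, ← Nat.card_congr e.toEquiv]
        exact Subgroup.card_subgroup_dvd_card A
      exact absurd ((pow_dvd_pow 3 hk3).trans h1) (by norm_num)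
  · by_cases hp2 : p = 2
    · subst hp2
      exfalso
      rcases H46.charTwoList hkn hna (charTwoType_of_normal h.loc hK hp) hr with h1 | h1
      · exact hch h1
      · rcases h1 with h1 | h1 | h1 | h1 | h1 | h1 | h1 | h1 | h1
        · exact h.rowB hK hp (H282.P1.rowB_u43 h1)
        · exact h.rowB hK hp (H736.PU.G23.rowB_g23 h1)
        · exact h.rowB hK hp (H17.PU.MathieuSmall.rowB_m22 h1)
        · exact h.rowB hK hp (H17.PU.MathieuSmall.rowB_m23 h1)
        · exact h.rowB hK hp (H17.PU.Mathieu.rowB_m24 h1)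
        · exact h.rowB hK hp (H538.PU.rowB_j3 h1)
        · exact h.rowB hK hp (H538.PU.rowB_j4 h1)
        · exact h.rowB hK hp (H23.PU.Co2.rowB_co2 h1)
        · exact h.rowB hK hp (H338.PU.rowB_th h1)
    · exfalso
      rcases hodd ↥K p hp2 (hkn ↥K) hch (h.loc_K hK) (h.pow_four_dvd hK hp) (h.exists_ea hK hp)
        (h.sylow_not_comm hK hp) with ⟨rfl, h1⟩ | ⟨rfl, h1⟩
      · exact h.rowB hK hp (H23.PU.McL.rowB_mcl h1)
      · exact h.rowB hK hp (H23.PU.Ly.rowB_ly h1)

end Cfsg.Agent.H271.PU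
end

private theorem dce_5322cea1bfda : _root_.True := by
  try have : _root_.True := by simp only [_root_.Cfsg.Agent.H736.PU.G23.cw.eq_1]
  try have : _root_.True := by simp only [_root_.Cfsg.Agent.H282.P1.chkA.eq_1]
  exact _root_.True.intro
end

-- part: H182/LP/Exc_mg
section
prune_inst 0x4002210000000000050001c4282000000006b8801014000000c800d0000000720101010180008228400300008130a00a0020000c0000004004119048108880000b0080000060018000080000000000000000000000000000000000004200000000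
set_option linter.all false
open scoped Cfsg.Agent.FastGrp

-- part: H182/LP/Base
section
/-!
# Groups of local characteristic `p`, `p` odd: basic criteria (helper182, piece (X) of S3046)

`Loc p K` of `H238.Base`: `C_K(x)` has characteristic `p` for every `x` of order `p`.

* `exists_P` : the structure `H978.NB.Loc p y P`, `P = O_p(C(y))`;
* `no_commute` : commuting elements `y`, `z` of orders `p` and `r`, `r` not dividing `p ^ j - 1` for small `j`;
* `no_order` : the same from an element of order `p * r`;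
* `no_simple` : a simple group in `C(y)`;
* `no_nine` : `p = 3` and an element of order 9.
-/

set_option autoImplicit false
set_option linter.unusedSectionVars false

namespace Cfsg.Agent.H182.LP

open Subgroup Cfsg
open Cfsg.Agent.H239.CharPLocal (CP)

variable {p : ℕ} [hp : Fact p.Prime]

theorem exists_P {S : Type*} [Group S] [Finite S] (hl : H238.Loc p S) {y : S} (hy : orderOf y = p) :
    ∃ P : Subgroup S, H978.NB.Loc p y P := by
  have h0 := hl y hy
  set C := centralizer ({y} : Set S) with hCdef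
  have hN := Cfsg.Agent.Lib.Cores.pCore_normal (G := C) p
  have hP : IsPGroup p (pCore p C) := Cfsg.Agent.Lib.Cores.pCore_isPGroup p
  have hyC : y ∈ C := mem_centralizer_singleton_iff.2 rfl
  have hyP : (⟨y, hyC⟩ : C) ∈ pCore p C := by
    apply h0
    rw [mem_centralizer_iff]
    intro x _
    exact Subtype.ext (mem_centralizer_singleton_iff.1 x.2)
  refine ⟨(pCore p C).map C.subtype, map_subtype_le _, hP.map _, ⟨_, hyP, rfl⟩, ?_, ?_⟩
  · rintro g hg x ⟨x, hx, rfl⟩
    exact ⟨(⟨g, mem_centralizer_singleton_iff.2 hg⟩ * x * ⟨g, mem_centralizer_singleton_iff.2 hg⟩⁻¹ :),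
      hN.conj_mem x hx _, rfl⟩
  · intro g hg
    have hgy : g * y = y * g := hg y ⟨_, hyP, rfl⟩
    refine ⟨⟨g, mem_centralizer_singleton_iff.2 hgy⟩, h0 ?_, rfl⟩
    rw [mem_centralizer_iff]
    intro x hx
    exact Subtype.ext (hg x ⟨x, hx, rfl⟩).symm

theorem ne_one_of_order {S : Type*} [Group S] {y : S} (hy : orderOf y = p) : y ≠ 1 := by
  rintro rfl
  rw [orderOf_one] at hy
  exact hp.out.one_lt.ne hy

/-- **Numeric criterion.** -/
theorem no_commute {S : Type*} [Group S] [Finite S] (hl : H238.Loc p S) {y z : S} {r a : ℕ} (hy : orderOf y = p)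
    (hr : r.Prime) (hrp : r ≠ p) (hz : orderOf z = r) (hzy : z * y = y * z)
    (ha : ¬ p ^ (a + 1) ∣ Nat.card ↥(centralizer ({y} : Set S))) (hj : ∀ j, 1 ≤ j → j < a → ¬ r ∣ p ^ j - 1) :
    False := by
  obtain ⟨P, hP⟩ := exists_P hl hy
  obtain ⟨m, j, h1, h2, h3, -, h4⟩ := hP.step (ne_one_of_order hy) hr hrp hz hzy
  have h5 : Nat.card P ∣ Nat.card ↥(centralizer ({y} : Set S)) := card_dvd_of_le hP.le
  rw [h3] at h5
  have h6 : m + j < a + 1 := by
    by_contra h7
    exact ha ((pow_dvd_pow p (by omega)).trans h5)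
  exact hj j h2 (by omega) h4

/-- the numeric criterion with the `p`-part of `|S|` -/
theorem no_commute' {S : Type*} [Group S] [Finite S] (hl : H238.Loc p S) {y z : S} {r a : ℕ} (hy : orderOf y = p)
    (hr : r.Prime) (hrp : r ≠ p) (hz : orderOf z = r) (hzy : z * y = y * z)
    (ha : ¬ p ^ (a + 1) ∣ Nat.card S) (hj : ∀ j, 1 ≤ j → j < a → ¬ r ∣ p ^ j - 1) : False :=
  no_commute hl hy hr hrp hz hzy (fun h => ha (h.trans (card_subgroup_dvd_card _))) hj

/-- the numeric criterion for an element whose order is divisible by `p * r` -/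
theorem no_order {S : Type*} [Group S] [Finite S] (hl : H238.Loc p S) {r a : ℕ} (hr : r.Prime) (hrp : r ≠ p)
    (ho : ∃ w : S, p * r ∣ orderOf w) (ha : ¬ p ^ (a + 1) ∣ Nat.card S)
    (hj : ∀ j, 1 ≤ j → j < a → ¬ r ∣ p ^ j - 1) : False := by
  obtain ⟨w, c, hc⟩ := ho
  have hc0 : c ≠ 0 := by
    rintro rfl
    rw [mul_zero] at hc
    exact (orderOf_pos w).ne' hc
  have hw : orderOf (w ^ c) = p * r := by
    rw [orderOf_pow_of_dvd hc0 (by rw [hc]; exact Dvd.intro_left _ rfl), hc, Nat.mul_div_cancel _ (Nat.pos_of_ne_zero hc0)]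
  have h1 : orderOf ((w ^ c) ^ r) = p := by
    rw [orderOf_pow_of_dvd hr.ne_zero (by rw [hw]; exact Dvd.intro_left _ rfl), hw, Nat.mul_div_cancel _ hr.pos]
  have h2 : orderOf ((w ^ c) ^ p) = r := by
    rw [orderOf_pow_of_dvd hp.out.ne_zero (by rw [hw]; exact Dvd.intro _ rfl), hw, Nat.mul_div_cancel_left _ hp.out.pos]
  exact no_commute' hl h1 hr hrp h2 (by rw [← pow_add, ← pow_add, add_comm]) ha hj

/-- **A simple group `H` in `C(y)`.** -/
theorem no_simple {S : Type*} [Group S] [Finite S] (hl : H238.Loc p S) {y : S} {r a n : ℕ} (hy : orderOf y = p)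
    {H : Type*} [Group H] [Finite H] [IsSimpleGroup H] (f : H →* S) (hf : Function.Injective f)
    (hc : ∀ x, f x * y = y * f x) (hr : r.Prime) (hrp : r ≠ p) (hrH : r ∣ Nat.card H)
    (hj : ∀ j, 1 ≤ j → j < a → ¬ r ∣ p ^ j - 1) (hn : Nat.card ↥(centralizer ({y} : Set S)) ∣ n)
    (ha : ¬ p ^ (a + 1) * Nat.card H ∣ n) : False := by
  obtain ⟨P, hP⟩ := exists_P hl hy
  have : Fact r.Prime := ⟨hr⟩
  obtain ⟨x, hx⟩ := exists_prime_orderOf_dvd_card' (G := H) r hrH
  obtain ⟨m, j, h1, h2, h3, -, h4⟩ := hP.step (ne_one_of_order hy) (r := r) (z := f x) hr hrp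
    (by rw [orderOf_injective f hf, hx]) (hc x)
  have h5 : a ≤ j := by
    by_contra h6
    exact hj j h2 (by omega) h4
  have h7 := hP.mul_dvd f hf hc hr hrp hrH
  rw [h3] at h7
  exact ha ((mul_dvd_mul (pow_dvd_pow p (by omega)) dvd_rfl).trans (h7.trans hn))

/-- **`p = 3`, the Sylow 3-subgroup would be `O_3(C(y))` of exponent 3.** -/
theorem no_nine [hp3 : Fact (Nat.Prime 3)] {S : Type*} [Group S] [Finite S] (hl : H238.Loc 3 S) {x y z : S} {r a : ℕ}
    (hy : orderOf y = 3) (hr : r.Prime) (hrp : r ≠ 3) (hz : orderOf z = r) (hzy : z * y = y * z)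
    (ha : ¬ 3 ^ (a + 1) ∣ Nat.card S) (hj : ∀ j, 1 ≤ j → j + 1 < a → ¬ r ∣ 3 ^ j - 1) (h3 : 3 ≤ a)
    (hx : orderOf x = 9) : False := by
  obtain ⟨P, hP⟩ := exists_P hl hy
  obtain ⟨m, j, h1, h2, h3', h4, h5⟩ := hP.step (ne_one_of_order hy) hr hrp hz hzy
  have h6 : m + j < a + 1 := by
    by_contra h7
    apply ha
    refine (pow_dvd_pow 3 (show a + 1 ≤ m + j by omega)).trans ?_
    rw [← h3']
    exact card_subgroup_dvd_card _
  have h7 : ¬ j + 1 < a := fun h => hj j h2 h h5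
  obtain rfl : m = 1 := by omega
  obtain rfl : a = 1 + j := by omega
  rw [pow_one] at h4
  have D : H978.NB.Thr P y z r (1 + j) := ⟨h3', hy, hP.mem, fun x hx => mem_centralizer_singleton_iff.1 (hP.le hx),
    hP.norm z hzy, hr, hrp, hz, hzy, h4, hj, h3⟩
  have hs : 3 ^ (1 + j) = 3 ^ (Nat.card S).factorization 3 := by
    congr 1
    have h4 : 3 ^ (1 + j) ∣ Nat.card S := by rw [← h3']; exact card_subgroup_dvd_card _
    have h5 := (hp3.out.pow_dvd_iff_le_factorization Nat.card_pos.ne').1 h4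
    have h6 : ¬ 1 + j + 1 ≤ (Nat.card S).factorization 3 := fun h => ha
      ((hp3.out.pow_dvd_iff_le_factorization Nat.card_pos.ne').2 h)
    omega
  let Q : Sylow 3 S := Sylow.ofCard P (by rw [h3', hs])
  have hxg : IsPGroup 3 (zpowers x) := IsPGroup.of_card (n := 2) (by rw [Nat.card_zpowers, hx]; norm_num)
  obtain ⟨Q', hQ'⟩ := hxg.exists_le_sylow
  obtain ⟨g, hg⟩ := MulAction.exists_smul_eq S Q' Q
  have h4 : g * x * g⁻¹ ∈ P := by
    have h5 := Subgroup.smul_mem_pointwise_smul x (MulAut.conj g) (Q' : Subgroup S) (hQ' (mem_zpowers x))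
    rw [← Sylow.coe_subgroup_smul, hg] at h5
    exact h5
  have h5 := D.exponent h4
  rw [conj_pow, mul_inv_eq_one, mul_eq_left] at h5
  have h6 := orderOf_dvd_of_pow_eq_one h5
  rw [hx] at h6
  norm_num at h6

end Cfsg.Agent.H182.LP
end

-- part: H182/LP/Chain
section
/-!
# Chains of roots (helper182, piece (X) of S3046)

`chain_or` : for each of the seven types and each odd prime `p`, either there are `s₀, …, s_p` such that all differences
`s_j - s_i`, `i < j`, are roots, or `p` does not divide the order of the Weyl group.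
-/

set_option autoImplicit false
set_option maxRecDepth 100000

namespace Cfsg.Agent.H182.LP

open CoxeterSystem Cfsg Cfsg.Lie Cfsg.Lie.ChevalleyDatum
open Cfsg.Agent.ChevalleyStructure Cfsg.Agent.ChevalleyStructure.Elts Cfsg.Agent.ChevalleyStructure.CoxeterGeom
  Cfsg.Agent.ChevalleyStructure.CoxeterGeomTypes Cfsg.Agent.ChevalleyStructure.RootVec
open Cfsg.Agent.Tits.Roots Cfsg.Agent.Tits.Core Cfsg.Agent.Nodes Cfsg.Agent.Nodes.RGDChev

/-- the table `T` gives the indices of the differences of the vectors in `S` -/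
def okChain (D : ChevalleyDatum) (l n : ℕ) (S : List (List ℤ)) (T : List (List ℕ)) : Bool :=
  decide (∀ i < n + 1, ∀ j < n + 1, i < j → (T.getD i []).getD j 0 < D.nroots ∧
    ∀ x < l, rt D ((T.getD i []).getD j 0) x = (S.getD j []).getD x 0 - (S.getD i []).getD x 0)

theorem exists_chain {D : ChevalleyDatum} {l : ℕ} {M : CoxeterMatrix (Fin l)} (hp : IsType D l M) {n : ℕ}
    {S : List (List ℤ)} {T : List (List ℕ)} (h : okChain D l n S T = true) {p : ℕ} (hpn : p ≤ n) :
    ∃ s : ℕ → (Fin l → ℤ), ∀ i j, i < j → j ≤ p → IsRoot M.toCoxeterSystem hp.isCartan (s j - s i) := by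
  unfold okChain at h
  rw [decide_eq_true_eq] at h
  refine ⟨fun j x => (S.getD j []).getD x 0, fun i j hij hj => ?_⟩
  obtain ⟨h1, h2⟩ := h i (by omega) j (by omega) hij
  refine (isRoot_iff hp _ _).2 ⟨_, h1, ?_⟩
  funext x
  rw [vec_apply, h2 x x.2, Pi.sub_apply]

theorem dvd_two_three {p a b : ℕ} (hp : p.Prime) (hp2 : p ≠ 2) (h : p ∣ 2 ^ a * 3 ^ b) : p ≤ 3 := by
  rcases hp.dvd_mul.1 h with h | h
  · exact absurd ((Nat.prime_dvd_prime_iff_eq hp Nat.prime_two).1 (hp.dvd_of_dvd_pow h)) hp2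
  · exact ((Nat.prime_dvd_prime_iff_eq hp Nat.prime_three).1 (hp.dvd_of_dvd_pow h)).le

theorem dvd_two_three_five {p a b c : ℕ} (hp : p.Prime) (hp2 : p ≠ 2) (h : p ∣ 2 ^ a * 3 ^ b * 5 ^ c) : p ≤ 5 := by
  rcases hp.dvd_mul.1 h with h | h
  · exact (dvd_two_three hp hp2 h).trans (by norm_num)
  · exact ((Nat.prime_dvd_prime_iff_eq hp Nat.prime_five).1 (hp.dvd_of_dvd_pow h)).le

theorem dvd_to_seven {p a b c d : ℕ} (hp : p.Prime) (hp2 : p ≠ 2) (h : p ∣ 2 ^ a * 3 ^ b * 5 ^ c * 7 ^ d) : p ≤ 7 := by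
  rcases hp.dvd_mul.1 h with h | h
  · exact (dvd_two_three_five hp hp2 h).trans (by norm_num)
  · exact ((Nat.prime_dvd_prime_iff_eq hp (by norm_num)).1 (hp.dvd_of_dvd_pow h)).le

theorem ok_G2 : okChain chevG2 2 3
        [[0, 0], [0, 1], [1, 1], [3, 2]]
        [[0, 6, 8, 11], [0, 0, 7, 10], [0, 0, 0, 9], [0, 0, 0, 0]] = true := by decide +kernel

theorem ok_D4 : okChain chevD4 4 3
        [[0, 0, 0, 0], [0, 0, 0, 1], [0, 1, 0, 1], [0, 1, 1, 1]]
        [[0, 12, 15, 17], [0, 0, 14, 16], [0, 0, 0, 13], [0, 0, 0, 0]] = true := by decide +kernel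

theorem ok_F4 : okChain chevF4 4 3
        [[0, 0, 0, 0], [0, 0, 0, 1], [0, 0, 1, 1], [0, 1, 1, 1]]
        [[0, 24, 26, 29], [0, 0, 25, 28], [0, 0, 0, 27], [0, 0, 0, 0]] = true := by decide +kernel

theorem ok_E6 : okChain chevE6 6 5
        [[0, 0, 0, 0, 0, 0], [0, 0, 0, 0, 0, 1], [0, 0, 0, 0, 1, 1], [0, 0, 0, 1, 1, 1], [0, 0, 1, 1, 1, 1],
    [1, 0, 1, 1, 1, 1]]
        [[0, 36, 38, 41, 45, 60], [0, 0, 37, 40, 44, 59], [0, 0, 0, 39, 43, 58], [0, 0, 0, 0, 42, 57], [0, 0,
    0, 0, 0, 56], [0, 0, 0, 0, 0, 0]] = true := by decide +kernel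

theorem ok_E7 : okChain chevE7 7 7
        [[0, 0, 0, 0, 0, 0, 0], [0, 0, 0, 0, 0, 0, 1], [0, 0, 0, 0, 0, 1, 1], [0, 0, 0, 0, 1, 1, 1], [0, 0, 0,
    1, 1, 1, 1], [0, 0, 1, 1, 1, 1, 1], [1, 0, 1, 1, 1, 1, 1], [-1, -2, -2, -3, -2, -1, 0]]
        [[0, 63, 65, 68, 72, 77, 98, 6], [0, 0, 64, 67, 71, 76, 97, 5], [0, 0, 0, 66, 70, 75, 96, 4], [0, 0,
    0, 0, 69, 74, 95, 3], [0, 0, 0, 0, 0, 73, 94, 2], [0, 0, 0, 0, 0, 0, 93, 1], [0, 0, 0, 0, 0, 0, 0, 0], [0,
    0, 0, 0, 0, 0, 0, 0]] = true := by decide +kernel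

theorem ok_E8 : okChain chevE8 8 7
        [[0, 0, 0, 0, 0, 0, 0, 0], [0, 0, 0, 0, 0, 0, 0, 1], [0, 0, 0, 0, 0, 0, 1, 1], [0, 0, 0, 0, 0, 1, 1,
    1], [0, 0, 0, 0, 1, 1, 1, 1], [0, 0, 0, 1, 1, 1, 1, 1], [0, 0, 1, 1, 1, 1, 1, 1], [1, 0, 1, 1, 1, 1, 1,
    1]]
        [[0, 120, 122, 125, 129, 134, 140, 168], [0, 0, 121, 124, 128, 133, 139, 167], [0, 0, 0, 123, 127,
    132, 138, 166], [0, 0, 0, 0, 126, 131, 137, 165], [0, 0, 0, 0, 0, 130, 136, 164], [0, 0, 0, 0, 0, 0, 135,
    163], [0, 0, 0, 0, 0, 0, 0, 162], [0, 0, 0, 0, 0, 0, 0, 0]] = true := by decide +kernel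

/-- **Chains of roots.** -/
theorem chain_or {D : ChevalleyDatum} {l : ℕ} {M : CoxeterMatrix (Fin l)} (hp : IsType D l M) {p : ℕ} (hpp : p.Prime)
    (hp2 : p ≠ 2) :
    (∃ s : ℕ → (Fin l → ℤ), ∀ i j, i < j → j ≤ p → IsRoot M.toCoxeterSystem hp.isCartan (s j - s i)) ∨
      ¬ p ∣ Nat.card M.Group := by
  by_cases hd : p ∣ Nat.card M.Group
  swap
  · exact Or.inr hd
  left
  have hp' := hp
  simp only [IsType, typeList, List.mem_cons, List.not_mem_nil, or_false, Prod.mk.injEq] at hp'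
  rcases hp' with ⟨rfl, e⟩ | ⟨rfl, e⟩ | ⟨rfl, e⟩ | ⟨rfl, e⟩ | ⟨rfl, e⟩ | ⟨rfl, e⟩ | ⟨rfl, e⟩
  · cases e
    have hc : Nat.card CoxeterMatrix.G₂.Group = 12 := S1092.result (⟨2, CoxeterMatrix.G₂⟩, 12) (by simp)
    rw [hc, show 12 = 2 ^ 2 * 3 ^ 1 by norm_num] at hd
    exact exists_chain hp ok_G2 (dvd_two_three hpp hp2 hd)
  · cases e
    exfalso
    have hc : Nat.card (CoxeterMatrix.B 2).Group = 8 := S1092.result (⟨2, CoxeterMatrix.B 2⟩, 8) (by simp)
    rw [hc, show 8 = 2 ^ 3 by norm_num] at hd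
    exact hp2 ((Nat.prime_dvd_prime_iff_eq hpp Nat.prime_two).1 (hpp.dvd_of_dvd_pow hd))
  · cases e
    have hc : Nat.card coxeterD4.Group = 192 := S1092.result (⟨4, coxeterD4⟩, 192) (by simp)
    rw [hc, show 192 = 2 ^ 6 * 3 ^ 1 by norm_num] at hd
    exact exists_chain hp ok_D4 (dvd_two_three hpp hp2 hd)
  · cases e
    have hc : Nat.card CoxeterMatrix.F₄.Group = 1152 := S1092.result (⟨4, CoxeterMatrix.F₄⟩, 1152) (by simp)
    rw [hc, show 1152 = 2 ^ 7 * 3 ^ 2 by norm_num] at hd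
    exact exists_chain hp ok_F4 (dvd_two_three hpp hp2 hd)
  · cases e
    have hc : Nat.card CoxeterMatrix.E₆.Group = 51840 := S1093.result (⟨6, CoxeterMatrix.E₆⟩, 51840) (by simp)
    rw [hc, show 51840 = 2 ^ 7 * 3 ^ 4 * 5 ^ 1 by norm_num] at hd
    exact exists_chain hp ok_E6 (dvd_two_three_five hpp hp2 hd)
  · cases e
    have hc : Nat.card CoxeterMatrix.E₇.Group = 2903040 := S1093.result (⟨7, CoxeterMatrix.E₇⟩, 2903040) (by simp)
    rw [hc, show 2903040 = 2 ^ 10 * 3 ^ 4 * 5 ^ 1 * 7 ^ 1 by norm_num] at hd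
    exact exists_chain hp ok_E7 (dvd_to_seven hpp hp2 hd)
  · cases e
    have hc : Nat.card CoxeterMatrix.E₈.Group = 696729600 := S1093.result (⟨8, CoxeterMatrix.E₈⟩, 696729600) (by simp)
    rw [hc, show 696729600 = 2 ^ 14 * 3 ^ 5 * 5 ^ 2 * 7 ^ 1 by norm_num] at hd
    exact exists_chain hp ok_E8 (dvd_to_seven hpp hp2 hd)

end Cfsg.Agent.H182.LP
end

-- part: H182/LP/Core
section
/-!
# Exceptional groups: elements of order `p` with non-abelian centraliser (helper182, piece (X) of S3046)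

Variants of `ExcCore.core_nonempty`, `Amb.main`, `exc_row` of helper238: instead of the hypothesis on an inverting element
only two non-commuting elements of the centraliser of `z` are used.

* `core_nonempty` : `t` toral, `t ^ p = 1`, `x, y ∈ C(t)` do not commute: then `Sx t ≠ ∅`;
* `main` : `z ∈ K₀`, `Amb r n K₀`;
* `row` : `K` exceptional of characteristic `r ≠ p`, `Loc p K`, non-abelian Sylow `p`-subgroup: then `r = 2`, `q = 2`.
-/

set_option autoImplicit false
set_option linter.unusedSectionVars false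

namespace Cfsg.Agent.H182.LP

open CoxeterSystem Cfsg Cfsg.Lie Cfsg.Lie.ChevalleyDatum
open Cfsg.Agent.ChevalleyStructure Cfsg.Agent.ChevalleyStructure.Elts Cfsg.Agent.ChevalleyStructure.CoxeterGeom
  Cfsg.Agent.ChevalleyStructure.CoxeterGeomTypes Cfsg.Agent.ChevalleyStructure.NPerm
open Cfsg.Agent.Tits.Roots Cfsg.Agent.Tits.Core Cfsg.Agent.Nodes Cfsg.Agent.Nodes.Reps Cfsg.Agent.Nodes.BNOf
  Cfsg.Agent.Nodes.RGDChev Cfsg.Agent.Nodes.Bruhat Cfsg.Agent.Nodes.NormalForm Cfsg.Agent.Nodes.Coroot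
open Cfsg.Agent.KFacts.RgdField Cfsg.Agent.KFacts.RgdChevCoord
open Cfsg.Agent.BpExc Cfsg.Agent.BpExc.TorCent Cfsg.Agent.BpExc.TorChev Cfsg.Agent.BpExc.Tow
  Cfsg.Agent.BpExc.TowChev Cfsg.Agent.BpExc.Fr Cfsg.Agent.BpExc.Pair Cfsg.Agent.BpExc.LangFr Cfsg.Agent.GpExc.Field
  Cfsg.Agent.BpExc.NInst Cfsg.Agent.BpExc.Asm Cfsg.Agent.BpExc.RowsUntw Cfsg.Agent.BpExc.FamField
open Cfsg.Agent.H238 (Amb Loc)
open Cfsg.Agent.H239.CharPLocal (CP)
open scoped commutatorElement

universe u v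

section Core

variable {D : ChevalleyDatum} {l : ℕ} {M : CoxeterMatrix (Fin l)} (hp : IsType D l M) {k : Type u} [Field k]
  {W : Type*} [Group W] (cs : CoxeterSystem M W)

include hp cs

/-- **The centraliser of `t` is not a torus.** -/
theorem core_nonempty (hk : LocFin k) {r : ℕ} [Fact r.Prime] [CharP k r] {p : ℕ} (hpp : p.Prime)
    (hch : (∃ s : ℕ → (Fin l → ℤ), ∀ i j, i < j → j ≤ p → IsRoot cs hp.isCartan (s j - s i)) ∨ ¬ p ∣ Nat.card W)
    {t : ↥(D.group k)} (ht : t ∈ TT D k) (htp : t ^ p = 1) {x y : ↥(D.group k)}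
    (hx : x * t = t * x) (hy : y * t = t * y) (hxy : ¬ Commute x y) :
    (Sx cs hp.isCartan (ch hp) t).Nonempty := by
  by_contra hemp
  rw [Set.not_nonempty_iff_eq_empty] at hemp
  have := finite_W hp cs
  have H := tow (k := k) hp cs hk r
  have C := coordsL (k := k) hp cs hk r
  have hA := chAddL (k := k) hp cs hk r
  have hG := GG_eq_top (k := k) hp cs hk
  have hTL := TL_eq (k := k) hp hk
  have hXL := XL_eq (k := k) hp hk
  have hTc := TT_comm (K := k) hp
  have C' : Coords cs hp.isCartan (TL (Tj hp (k := k))) (nc hp k) (XL (Xj hp (k := k))) (xc hp) (ch hp) := by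
    rw [hTL, hXL]; exact C
  have ht' : t ∈ TL (Tj hp (k := k)) := by rw [hTL]; exact ht
  have hchi : ∀ a, IsRoot cs hp.isCartan a → ch hp a t ^ p = 1 := by
    intro a ha
    have h0 : ch hp a (1 : ↥(D.group k)) = 1 := by
      have h1 := (C.coord a ha).chi_mul (one_mem (TT D k)) (one_mem _)
      rw [mul_one] at h1
      exact (mul_eq_left₀ ((C.coord a ha).chi_ne_zero (one_mem _))).1 h1.symm
    have h1 : ∀ m : ℕ, ch hp a (t ^ m) = ch hp a t ^ m := by
      intro m
      induction m with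
      | zero => rw [pow_zero, pow_zero, h0]
      | succ m ih => rw [pow_succ, pow_succ, (C.coord a ha).chi_mul (pow_mem ht m) ht, ih]
    rw [← h1, htp, h0]
  rcases hch with ⟨s, hs⟩ | hW
  · -- pigeonhole
    obtain ⟨φ, h0, hadd, hφ⟩ := hA t ht
    have hne : ∀ i j, i < j → j ≤ p → φ (s j - s i) ≠ 1 := by
      intro i j hij hj h1
      have h2 : s j - s i ∈ Sx cs hp.isCartan (ch hp) t := ⟨hs i j hij hj, by rw [hφ _ (hs i j hij hj), h1]⟩
      rw [hemp] at h2
      exact h2
    have hroot : ∀ j, j ≤ p → φ (s j - s 0) ^ p = 1 := by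
      intro j hj
      rcases Nat.eq_zero_or_pos j with rfl | hj0
      · rw [sub_self, h0, one_pow]
      · rw [← hφ _ (hs 0 j hj0 hj)]
        exact hchi _ (hs 0 j hj0 hj)
    have hφne : ∀ j, j ≤ p → φ (s j - s 0) ≠ 0 := by
      intro j hj h1
      have h2 := hroot j hj
      rw [h1, zero_pow hpp.ne_zero] at h2
      exact zero_ne_one h2
    have hinj : ∀ i j, i < j → j ≤ p → φ (s i - s 0) ≠ φ (s j - s 0) := by
      intro i j hij hj h1
      apply hne i j hij hj
      have h2 : s j - s 0 = (s j - s i) + (s i - s 0) := by abel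
      rw [h2, hadd] at h1
      have h3 := hφne i (by omega)
      exact (mul_eq_right₀ h3).1 h1.symm
    classical
    have h1 : (Finset.range (p + 1)).image (fun j => φ (s j - s 0)) ⊆ (Polynomial.nthRoots p (1 : k)).toFinset := by
      intro c hc
      obtain ⟨j, hj, rfl⟩ := Finset.mem_image.1 hc
      rw [Multiset.mem_toFinset, Polynomial.mem_nthRoots hpp.pos]
      exact hroot j (by have := Finset.mem_range.1 hj; omega)
    have h2 := Finset.card_le_card h1
    rw [Finset.card_image_of_injOn, Finset.card_range] at h2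
    · have h3 := (Multiset.toFinset_card_le _).trans (Polynomial.card_nthRoots p (1 : k))
      omega
    · intro i hi j hj hij
      have hi' := Finset.mem_range.1 hi
      have hj' := Finset.mem_range.1 hj
      rcases lt_trichotomy i j with h | h | h
      · exact absurd hij (hinj i j h (by omega))
      · exact h
      · exact absurd hij.symm (hinj j i h (by omega))
  · -- `PP t = 1`
    have hMM : MM cs hp.isCartan (XL (Xj hp (k := k))) (ch hp) t = ⊥ := by
      unfold MM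
      rw [hemp, eq_bot_iff]
      exact RGD.Sup_le fun a ha => absurd ha (Set.notMem_empty a)
    have hP := isPGroup_PP (cs := cs) (h := hp.isCartan) hA ht hpp hchi
    have hP1 : ∀ w ∈ PP cs hp.isCartan (ch hp) t, w = 1 := by
      intro w hw
      obtain ⟨j, hj⟩ := hP ⟨w, hw⟩
      have hj' : w ^ p ^ j = 1 := congrArg Subtype.val hj
      have h1 : orderOf w ∣ p ^ j := orderOf_dvd_of_pow_eq_one hj'
      have h2 : orderOf w ∣ Nat.card W := orderOf_dvd_natCard w
      have h3 : Nat.Coprime (p ^ j) (Nat.card W) := Nat.Coprime.pow_left _ ((Nat.Prime.coprime_iff_not_dvd hpp).2 hW)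
      exact orderOf_eq_one_iff.1 (Nat.eq_one_of_dvd_coprimes h3 h1 h2)
    have hform : ∀ c : ↥(D.group k), c * t = t * c → c ∈ TT D k := by
      intro c hc
      obtain ⟨m, hm, w, kk, hkk, hkt, rfl⟩ := Fr.exists_form H C' ht' ht' (c := c)
        (by rw [hG]; exact Subgroup.mem_top _) hc
      rw [hMM, Subgroup.mem_bot] at hm
      rw [hm, one_mul]
      have hw : w ∈ PP cs hp.isCartan (ch hp) t := ⟨fun a ha => by
          have h1 := C'.chi_rp H.nsys hkk ha ht'
          have h2 : kk * t * kk⁻¹ = t := by rw [hkt]; group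
          rwa [h2] at h1, fun a ha => by
          rw [hemp] at ha
          exact absurd ha (Set.notMem_empty a)⟩
      rw [hP1 w hw] at hkk
      rw [← hTL]
      exact hkk.mem_of_one
    exact hxy (hTc x (hform x hx) y (hform y hy))

end Core

section Main

variable {r n : ℕ} [Fact r.Prime] {K₀ : Type v} [Group K₀] [Finite K₀]

/-- The centraliser of `z` contains an `r`-element, and a perfect group if `4 ≤ r ^ n`. -/
theorem main_amb (hA : Amb r n K₀) {p : ℕ} (hpp : p.Prime) (hp2 : p ≠ 2) (hpr : p ≠ r) {x y z : K₀}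
    (hz : orderOf z = p) (hxz : x * z = z * x) (hyz : y * z = z * y) (hxy : ¬ Commute x y) :
    (∃ u : K₀, u * z = z * u ∧ u ≠ 1 ∧ u ^ r = 1) ∧
    (4 ≤ r ^ n → ∃ H : Subgroup K₀, H ≤ Subgroup.centralizer {z} ∧ ⁅H, H⁆ = H ∧ H ≠ ⊥) := by
  obtain ⟨D, l, M, hp, σ, g, ι, hn, hσ, F, hfin, hι, hfix, hnorm, hsplit⟩ := hA
  have hk : LocFin (AlgebraicClosure (ZMod r)) := locFin_of_isAlgebraic r _
  have hzp : ι z ^ p = 1 := by rw [← map_pow, ← hz, pow_orderOf_eq_one, map_one]
  obtain ⟨z0, hz0⟩ := TorAll.exists_toral' hp r hpp hpr hzp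
  obtain ⟨t, c, k', g', ht, hct, hck, hF1, hF2, hF3, hF4⟩ := H238.exists_pair_conj hp M.toCoxeterSystem hk hn hσ F (hfix z)
    (z := z0⁻¹) (by rwa [inv_inv])
  -- conjugation by `c`
  let f : K₀ →* ↥(D.group (AlgebraicClosure (ZMod r))) := (MulAut.conj c⁻¹).toMonoidHom.comp ι
  have hfa : ∀ a, f a = c⁻¹ * ι a * c := by
    intro a
    show c⁻¹ * ι a * c⁻¹⁻¹ = _
    rw [inv_inv]
  have hfi : Function.Injective f := (MulAut.conj c⁻¹).injective.comp hι
  have hfz : f z = t := by rw [hfa, hct]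
  have hcom : ∀ a, a * z = z * a → f a * t = t * f a := by
    intro a ha
    rw [← hfz, ← map_mul, ha, map_mul]
  have htp : t ^ p = 1 := by
    rw [← hfz, ← map_pow, ← hz, pow_orderOf_eq_one, map_one]
  have hne := core_nonempty hp M.toCoxeterSystem hk (r := r) hpp (chain_or hp hpp hp2) ht htp (x := f x) (y := f y)
    (hcom x hxz) (hcom y hyz) (fun hc => hxy (hfi (by rw [map_mul, map_mul]; exact hc.eq)))
  -- back to `K₀`
  have hback : ∀ u ∈ fixC (MulAut.conj k' * σ) t, σ (c * u * c⁻¹) = c * u * c⁻¹ ∧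
      (c * u * c⁻¹) * ι z = ι z * (c * u * c⁻¹) := by
    intro u hu
    exact mem_fixC.1 ((fixEquiv hct hck ⟨u, hu⟩).2)
  constructor
  · obtain ⟨u, hu, hu1, hur⟩ := H238.ExcCore.core_one hp M.toCoxeterSystem hk hn ht hF1 hF2 hF3 hF4 hne
    obtain ⟨h1, h2⟩ := hback u hu
    obtain ⟨a, s, hs, e⟩ := hsplit _ h1
    have hσs : σ s = s := by
      have h3 := h1
      rw [e, map_mul, hfix] at h3
      exact mul_left_cancel h3
    have hfs : IsOfFinOrder s := by
      have h3 : IsOfFinOrder (⟨s, hσs⟩ : ↥(fixedSubgroup σ)) := (isOfFinOrder_of_finite _ : _)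
      exact ((fixedSubgroup σ).subtype.isOfFinOrder h3 :)
    obtain ⟨m, hm, hm1⟩ := RowsN.exists_coprime hp.inList hs hfs
    have h4 : (c * u * c⁻¹) ^ m ∈ ι.range := by
      rw [e]
      refine RowsN.pow_mem_of_split (N := ι.range) ⟨a, rfl⟩ ?_ hm1
      rintro _ ⟨b, rfl⟩
      obtain ⟨b', hb'⟩ := hnorm s hσs b
      exact ⟨b', hb'.symm⟩
    have h5 : (c * u * c⁻¹) ^ r = 1 := by
      rw [conj_pow, hur, mul_one, mul_inv_cancel]
    have h6 : (c * u * c⁻¹) ∈ ι.range := H238.zpow_gcd hm h4 h5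
    obtain ⟨b, hb⟩ := h6
    refine ⟨b, hι ?_, ?_, hι ?_⟩
    · rw [map_mul, map_mul, hb, h2]
    · rintro rfl
      apply hu1
      rw [map_one] at hb
      exact conj_eq_one_iff.1 hb.symm
    · rw [map_pow, hb, h5, map_one]
  · intro h4
    obtain ⟨H, hH1, hH2, hH3⟩ := H238.ExcCore.core_perfect hp M.toCoxeterSystem hk h4 ht hF1 hF2 hF3 hF4 hne
    let H' : Subgroup ↥(D.group (AlgebraicClosure (ZMod r))) := H.map (MulAut.conj c).toMonoidHom
    have hH' : ∀ y ∈ H', σ y = y ∧ y * ι z = ι z * y := by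
      rintro _ ⟨u, hu, rfl⟩
      exact hback u (hH1 hu)
    have hcomm : ∀ y₁ y₂, σ y₁ = y₁ → σ y₂ = y₂ → ⁅y₁, y₂⁆ ∈ ι.range := by
      intro y₁ y₂ h1 h2
      obtain ⟨a, s, hs, e1⟩ := hsplit _ h1
      obtain ⟨b, s', hs', e2⟩ := hsplit _ h2
      have hσs : σ s = s := by
        have h3 := h1
        rw [e1, map_mul, hfix] at h3
        exact mul_left_cancel h3
      have hσs' : σ s' = s' := by
        have h3 := h2
        rw [e2, map_mul, hfix] at h3
        exact mul_left_cancel h3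
      have hss : s * s' = s' * s := TT_comm hp s hs s' hs'
      obtain ⟨b1, hb1⟩ := hnorm s hσs b
      obtain ⟨a1, ha1⟩ := hnorm s' hσs' a
      have e3 : y₁ * y₂ = ι (a * b1) * (s * s') := by
        rw [e1, e2, map_mul]
        exact H238.grp_one hb1
      have e4 : y₂ * y₁ = ι (b * a1) * (s * s') := by
        rw [e1, e2, map_mul, hss]
        exact H238.grp_one ha1
      refine ⟨(a * b1) * (b * a1)⁻¹, ?_⟩
      rw [H238.grp_two e3 e4, map_mul, map_inv]
    have hH'2 : ⁅H', H'⁆ = H' := by rw [← Subgroup.map_commutator, hH2]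
    have hle : H' ≤ ι.range := by
      rw [← hH'2, Subgroup.commutator_le]
      exact fun y₁ h1 y₂ h2 => hcomm y₁ y₂ (hH' _ h1).1 (hH' _ h2).1
    have hmc : (H'.comap ι).map ι = H' := Subgroup.map_comap_eq_self hle
    refine ⟨H'.comap ι, ?_, ?_, ?_⟩
    · intro a ha
      rw [Subgroup.mem_centralizer_singleton_iff]
      apply hι
      rw [map_mul, map_mul]
      exact (hH' _ ha).2
    · apply Subgroup.map_injective hι
      rw [Subgroup.map_commutator, hmc, hH'2]
    · intro h0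
      rw [h0, Subgroup.map_bot] at hmc
      apply hH3
      rw [eq_bot_iff]
      intro u hu
      have h5 : c * u * c⁻¹ ∈ H' := ⟨u, hu, rfl⟩
      rw [← hmc, Subgroup.mem_bot] at h5
      rw [Subgroup.mem_bot]
      exact conj_eq_one_iff.1 h5

end Main

section Row

open Subgroup

theorem core_two {K₀ : Type u} [Group K₀] [Finite K₀] {r n : ℕ} [Fact r.Prime]
    (hA : Amb r n K₀) (hs : FixBN.HasSplit r K₀) {p : ℕ} [hpp : Fact p.Prime] (hp2 : p ≠ 2) (hpr : p ≠ r)
    {x y z : K₀} (hz : orderOf z = p) (hc : CP p ↥(centralizer ({z} : Set K₀))) (hxz : x * z = z * x)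
    (hyz : y * z = z * y) (hxy : ¬ Commute x y) :
    r = 2 ∧ r ^ n < 4 := by
  obtain ⟨⟨u, hu, hu1, hur⟩, h4⟩ := main_amb hA hpp.out hp2 hpr hz hxz hyz hxy
  have hr2 : r = 2 := by
    by_contra hr2
    refine H238.not_dvd_of_odd hp2 hr2 hpr hs hz hc ?_
    have hmem : u ∈ centralizer ({z} : Set K₀) := mem_centralizer_singleton_iff.2 hu
    have h1 : orderOf u = r := orderOf_eq_prime hur hu1
    have h2 : orderOf (⟨u, hmem⟩ : ↥(centralizer ({z} : Set K₀))) = r := by rw [← h1, Subgroup.orderOf_mk]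
    rw [← h2]
    exact _root_.orderOf_dvd_natCard _
  refine ⟨hr2, ?_⟩
  by_contra hlt
  push Not at hlt
  subst hr2
  obtain ⟨H, hH, hp1, hb⟩ := h4 hlt
  have hsol : Group.IsSolvable ↥(centralizer ({z} : Set K₀)) :=
    H238.isSolvable_of_two (fun X _ _ h => Cfsg.Agent.S0205.result h) hp2 hs hz hc
  have : Group.IsSolvable ↥H := Group.isSolvable_of_isSolvable_injective (Subgroup.inclusion_injective hH)
  exact hb (H238.eq_bot_of_perfect_of_isSolvable hp1 this)

/-- a non-abelian Sylow `p`-subgroup has a central element `z` of order `p` -/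
theorem exists_triple {K : Type u} [Group K] [Finite K] {p : ℕ} [hpp : Fact p.Prime] {S : Sylow p K}
    (hna : ¬ IsMulCommutative (S : Subgroup K)) :
    ∃ x y z : K, orderOf z = p ∧ x * z = z * x ∧ y * z = z * y ∧ ¬ Commute x y := by
  obtain ⟨x, y, hxy⟩ : ∃ x y : (S : Subgroup K), x * y ≠ y * x := by
    by_contra h
    push Not at h
    exact hna ⟨⟨h⟩⟩
  have hS : IsPGroup p (S : Subgroup K) := S.isPGroup'
  have hnt : Nontrivial (S : Subgroup K) := ⟨x, y, fun h => hxy (by rw [h])⟩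
  have hZ : Nontrivial (center (S : Subgroup K)) := hS.center_nontrivial
  have hd : p ∣ Nat.card (center (S : Subgroup K)) := by
    obtain ⟨n, hn⟩ := IsPGroup.iff_card.1 (hS.to_subgroup (center (S : Subgroup K)))
    rcases Nat.eq_zero_or_pos n with rfl | h0
    · rw [pow_zero] at hn
      exact absurd hn (Finite.one_lt_card).ne'
    · rw [hn]
      exact dvd_pow_self p h0.ne'
  obtain ⟨z, hz⟩ := exists_prime_orderOf_dvd_card' p hd
  have hzc := z.2
  rw [mem_center_iff] at hzc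
  refine ⟨x, y, (z : (S : Subgroup K)), ?_, ?_, ?_, ?_⟩
  · rw [Subgroup.orderOf_coe, Subgroup.orderOf_coe, hz]
  · exact congrArg Subtype.val (hzc x)
  · exact congrArg Subtype.val (hzc y)
  · intro h
    exact hxy (Subtype.ext h.eq)

variable {K : Type u} [Group K] [Finite K] {p : ℕ} [hpp : Fact p.Prime]

/-- transport of the core to `K ≃* K₀` -/
theorem core_iso {K₀ : Type} [Group K₀] (e : K ≃* K₀) {r n : ℕ} [Fact r.Prime]
    (hA : Amb r n K₀) (hs : FixBN.HasSplit r K₀) (hp2 : p ≠ 2) (hpr : p ≠ r) (hl : Loc p K) {S : Sylow p K}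
    (hna : ¬ IsMulCommutative (S : Subgroup K)) :
    r = 2 ∧ r ^ n < 4 := by
  have : Finite K₀ := Finite.of_equiv K e.toEquiv
  obtain ⟨x, y, z, hz, hxz, hyz, hxy⟩ := exists_triple hna
  have hz' : orderOf (e z) = p := by rw [← hz]; exact orderOf_injective e.toMonoidHom e.injective z
  exact core_two hA hs hp2 hpr (x := e x) (y := e y) hz' (hl.congr e _ hz') (by rw [← map_mul, hxz, map_mul])
    (by rw [← map_mul, hyz, map_mul]) (fun hc => hxy (e.injective (by rw [map_mul, map_mul]; exact hc.eq)))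

/-- **Exceptional groups**, `p` odd. -/
theorem exc_row {r : ℕ} (hr : r.Prime) (hK : IsExceptionalChevChar r K ∨ IsTwistedE6D4Char r K) (hp2 : p ≠ 2)
    (hpr : p ≠ r) (hl : Loc p K) {S : Sylow p K} (hna : ¬ IsMulCommutative (S : Subgroup K)) :
    r = 2 ∧
    ((∃ (F : Type) (_ : Field F) (_ : Fintype F), Fintype.card F = 2 ∧
      (Nonempty (K ≃* Lie.chevF4.group F) ∨ Nonempty (K ≃* Lie.chevE6.group F) ∨ Nonempty (K ≃* Lie.chevE7.group F) ∨
        Nonempty (K ≃* Lie.chevE8.group F))) ∨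
    (∃ (F : Type) (_ : Field F) (_ : Fintype F), Fintype.card F = 2 ^ 2 ∧ Nonempty (K ≃* Lie.twistedE6 F 2)) ∨
    (∃ (F : Type) (_ : Field F) (_ : Fintype F), Fintype.card F = 2 ^ 3 ∧ Nonempty (K ≃* Lie.twistedD4 F 2))) := by
  have : Fact r.Prime := ⟨hr⟩
  rcases hK with ⟨F, _, _, _, hF⟩ | ⟨F, _, _, _, q, hqq, hF⟩
  · obtain ⟨n, hn0, hn⟩ := exists_card (F := F) (r := r)
    have hcard : Fintype.card F = r ^ n := by rw [← Nat.card_eq_fintype_card]; exact hn
    have key : ∀ {D : ChevalleyDatum} {l : ℕ} {M : CoxeterMatrix (Fin l)},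
        IsType D l M → IsSimpleGroup ↥(D.group F) → Nonempty (K ≃* D.group F) →
        r = 2 ∧ Fintype.card F = 2 := by
      intro D l M hp hs ⟨e⟩
      obtain ⟨h1, h2⟩ := core_iso e (H238.AmbRows.amb_group hp hn0 hn) (RowsN.hasSplit hp F hs) hp2 hpr hl hna
      refine ⟨h1, ?_⟩
      subst h1
      exact H238.pow_lt_four hn0 hcard h2
    rcases hF with ⟨h3, he⟩ | he | he | he | he
    · have h1 := key g2T (S1055.result (RowsUntw.exists_ne h3)).1 he
      omega
    · have h1 := key f4T (S1054.result chevF4 (by simp)).1 he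
      exact ⟨h1.1, Or.inl ⟨F, inferInstance, inferInstance, h1.2, Or.inl he⟩⟩
    · have h1 := key e6T (S1054.result chevE6 (by simp)).1 he
      exact ⟨h1.1, Or.inl ⟨F, inferInstance, inferInstance, h1.2, Or.inr (Or.inl he)⟩⟩
    · have h1 := key e7T (S1054.result chevE7 (by simp)).1 he
      exact ⟨h1.1, Or.inl ⟨F, inferInstance, inferInstance, h1.2, Or.inr (Or.inr (Or.inl he))⟩⟩
    · have h1 := key e8T (S1054.result chevE8 (by simp)).1 he
      exact ⟨h1.1, Or.inl ⟨F, inferInstance, inferInstance, h1.2, Or.inr (Or.inr (Or.inr he))⟩⟩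
  · rcases hF with ⟨hc, ⟨e⟩⟩ | ⟨hc, ⟨e⟩⟩
    · obtain ⟨n, hn0, hn⟩ := RowsAll.exists_pow (r := r) (m := 2) (by norm_num) hqq hc
      obtain ⟨h1, h2⟩ := core_iso e (H238.AmbRows.amb_twE6 (K := F) hn0 hn hc)
        (FixBN.ReeSplit.hasSplit_of_isTwistedE6D4Char ⟨F, inferInstance, inferInstance, inferInstance, q, hqq,
          Or.inl ⟨hc, ⟨MulEquiv.refl _⟩⟩⟩) hp2 hpr hl hna
      subst h1
      have h3 : q = 2 := H238.pow_lt_four hn0 hn h2
      subst h3
      exact ⟨rfl, Or.inr (Or.inl ⟨F, inferInstance, inferInstance, hc, ⟨e⟩⟩)⟩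
    · obtain ⟨n, hn0, hn⟩ := RowsAll.exists_pow (r := r) (m := 3) (by norm_num) hqq hc
      obtain ⟨h1, h2⟩ := core_iso e (H238.AmbRows.amb_twD4 (K := F) hn0 hn hc)
        (FixBN.ReeSplit.hasSplit_of_isTwistedE6D4Char ⟨F, inferInstance, inferInstance, inferInstance, q, hqq,
          Or.inr ⟨hc, ⟨MulEquiv.refl _⟩⟩⟩) hp2 hpr hl hna
      subst h1
      have h3 : q = 2 := H238.pow_lt_four hn0 hn h2
      subst h3
      exact ⟨rfl, Or.inr (Or.inr ⟨F, inferInstance, inferInstance, hc, ⟨e⟩⟩)⟩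

end Row

end Cfsg.Agent.H182.LP
end

-- part: H182/LP/SuzRee
section
/-!
# Suzuki and Ree groups of local characteristic `p`, `p` odd (helper182, piece (X) of S3046)
-/

set_option autoImplicit false
set_option linter.unusedSectionVars false

namespace Cfsg.Agent.H182.LP

open Subgroup Cfsg Cfsg.Agent.KFacts.TwF4 Cfsg.Agent.KFacts.TwF4.Arc Cfsg.Agent.KFacts.TwF4.Perf
open Cfsg.Agent.H42.Tw Cfsg.Agent.SplitTwo.ZS
open Cfsg.Agent.H238 (Loc)
open Cfsg.Agent.H240.SuzRee

universe u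

/-- **`²F₄(q)` is not of local characteristic 3** -/
theorem not_loc_two_f4 {K : Type u} [Group K] [Finite K] (hK : Lie.Iso2F4 K) : ¬ Loc 3 K := by
  intro hl
  have h3 : Fact (Nat.Prime 3) := ⟨Nat.prime_three⟩
  have hsp := H979.LieSplit.hasSplit_of_iso2F4 hK
  obtain ⟨F, _, _, m, φ, S, hm, hF, ⟨e⟩, hR, hfin, hu⟩ := H187.exists_full hK
  have hz : orderOf (S.o 0 1 * S.o 4 1) = 3 := orderOf_eq_prime (a_pow S) (a_ne S)
  have hz' : orderOf (e.symm (S.o 0 1 * S.o 4 1)) = 3 :=
    (orderOf_injective e.symm.toMonoidHom e.symm.injective _).trans hz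
  have hs : Group.IsSolvable ↥(centralizer ({e.symm (S.o 0 1 * S.o 4 1)} : Set K)) :=
    H238.isSolvable_of_two (fun X _ _ h => Cfsg.Agent.S0205.result h) (by norm_num) hsp hz' (hl _ hz')
  refine B_not_solvable S hu ?_
  have hmn : (S.o 0 1) ∈ (S.XZ 1 ⊔ S.XZ (1 + 8) : Subgroup _) := mem_sup_left ((mem_X1 S).2 ⟨1, rfl⟩)
  have hmn' : (S.o 4 1) ∈ (S.XZ 1 ⊔ S.XZ (1 + 8) : Subgroup _) := mem_sup_right ((mem_X9 S).2 ⟨1, rfl⟩)
  have h1 : (S.XZ (1 + 4) ⊔ S.XZ (1 + 4 + 8) : Subgroup _).map e.symm.toMonoidHom ≤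
      centralizer ({e.symm (S.o 0 1 * S.o 4 1)} : Set K) := by
    rintro _ ⟨w, hw, rfl⟩
    refine mem_centralizer_singleton_iff.2 ?_
    show e.symm w * e.symm _ = e.symm _ * e.symm w
    rw [← map_mul, ← map_mul]
    congr 1
    exact (comm_LM S (mul_mem hmn hmn') hw).symm
  have h2 := isSolvable_le h1 hs
  have e' := (S.XZ (1 + 4) ⊔ S.XZ (1 + 4 + 8) : Subgroup _).equivMapOfInjective e.symm.toMonoidHom
    e.symm.injective
  exact Group.isSolvable_of_isSolvable_injective (f := e'.toMonoidHom) e'.injective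

/-- **Suzuki and Ree groups.** -/
theorem suz_ree {K : Type u} [Group K] [Finite K] {p r : ℕ} [hp : Fact p.Prime] (hpr : p ≠ r) (hp2 : p ≠ 2)
    (hK : (r = 2 ∧ Lie.IsoSuzuki K) ∨ (r = 2 ∧ Lie.Iso2F4 K) ∨ (r = 3 ∧ Lie.IsoRee K)) (hl : Loc p K) {S : Sylow p K}
    (hna : ¬ IsMulCommutative (S : Subgroup K)) : False := by
  rcases hK with ⟨-, hsz⟩ | ⟨-, hF4⟩ | ⟨rfl, F, _, _, m, hm, hF, ⟨e⟩⟩
  · have hcyc : IsCyclic (S : Subgroup K) := Cfsg.Agent.OddRank.SzTits.isCyclic_of_isPGroup hsz hp2 _ S.isPGroup'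
    obtain ⟨g, hg⟩ := hcyc.exists_generator
    refine hna ⟨⟨fun x y => ?_⟩⟩
    obtain ⟨i, hi⟩ := hg x
    obtain ⟨j, hj⟩ := hg y
    rw [← hi, ← hj]
    exact ((Commute.refl g).zpow_zpow i j).eq
  · by_cases hp3 : p = 3
    · subst hp3
      exact not_loc_two_f4 hF4 hl
    · have h5 : 5 ≤ p := by
        have := hp.out.two_le
        have h4 : p ≠ 4 := by
          rintro rfl
          exact absurd hp.out (by norm_num)
        omega
      exact hna (abelian_of_iso2F4 hF4 h5 S.isPGroup')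
  · obtain ⟨x, y, z, hz, hxz, hyz, hxy⟩ := exists_triple hna
    have h1 : orderOf (e z) = p := by
      rw [← hz]
      exact orderOf_injective e.toMonoidHom e.injective z
    have h3 : 3 < p := by
      have := hp.out.two_le
      omega
    have h2 := Cfsg.Agent.H795.comm_of (ree_cent hm hF h3 h1)
      (mem_centralizer_singleton_iff.2 (show e x * e z = e z * e x by rw [← map_mul, hxz, map_mul]))
      (mem_centralizer_singleton_iff.2 (show e y * e z = e z * e y by rw [← map_mul, hyz, map_mul]))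
    rw [← map_mul, ← map_mul] at h2
    exact hxy (e.injective h2)

end Cfsg.Agent.H182.LP
end

-- part: H182/LP/EightFive
section
/-!
# An element of order 5 of `E₈(q)`, `q` even, commuting with `SL₃(2)` (helper182, piece (X) of S3046)

`Twelve e` : the relations of the elementary transvections of `SL₄(2)`; after `H238.Six`.
-/

set_option autoImplicit false
set_option linter.unusedSectionVars false

namespace Cfsg.Agent.H182.LP

open scoped commutatorElement
open Matrix Cfsg.Agent.AGraded Cfsg.Agent.CTFrame.Weyl Cfsg.Agent.CTFrame.Torus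
open Cfsg Cfsg.Lie Cfsg.Lie.ChevalleyDatum
open Cfsg.Agent.H238 (zmod_two grp6 gen6 mem_grp6)
open Cfsg.Agent.H238.LocTwo

universe u

/-- the relations of `SL₄(2)` -/
structure Twelve {G : Type u} [Group G] (e : Fin 4 → Fin 4 → G) : Prop where
  sq : ∀ i j, i ≠ j → e i j * e i j = 1
  comm : ∀ i j k l, i ≠ j → k ≠ l → j ≠ k → i ≠ l → e i j * e k l = e k l * e i j
  br : ∀ i j k, i ≠ j → j ≠ k → i ≠ k → ⁅e i j, e j k⁆ = e i k

/-- the family over `ZMod 2` -/
def fam4 {G : Type u} [Group G] (e : Fin 4 → Fin 4 → G) (i j : Fin 4) (a : ZMod 2) : G := if a = 0 then 1 else e i j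

section

variable {G : Type u} [Group G] {e : Fin 4 → Fin 4 → G}

theorem fam4_zero (i j : Fin 4) : fam4 e i j 0 = 1 := if_pos rfl
theorem fam4_one (i j : Fin 4) : fam4 e i j 1 = e i j := if_neg (by decide)

theorem Twelve.stein (h : Twelve e) : SteinRel (fam4 e) where
  add := by
    intro i j hij a b
    rcases zmod_two a with rfl | rfl <;> rcases zmod_two b with rfl | rfl
    · rw [add_zero, fam4_zero, one_mul]
    · rw [zero_add, fam4_zero, one_mul]
    · rw [add_zero, fam4_zero, mul_one]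
    · rw [show (1 : ZMod 2) + 1 = 0 from by decide, fam4_zero, fam4_one, h.sq i j hij]
  comm := by
    intro i j k l hij hkl hjk hil a b
    rcases zmod_two a with rfl | rfl <;> rcases zmod_two b with rfl | rfl
    · rw [fam4_zero, fam4_zero]
    · rw [fam4_zero, one_mul, mul_one]
    · rw [fam4_zero, one_mul, mul_one]
    · rw [fam4_one, fam4_one, h.comm i j k l hij hkl hjk hil]
  br := by
    intro i j k hij hjk hik a b
    rcases zmod_two a with rfl | rfl <;> rcases zmod_two b with rfl | rfl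
    · rw [zero_mul, fam4_zero, fam4_zero, fam4_zero, commutatorElement_one_left]
    · rw [zero_mul, fam4_zero, fam4_zero, commutatorElement_one_left]
    · rw [mul_zero, fam4_zero, fam4_zero, commutatorElement_one_right]
    · rw [one_mul, fam4_one, fam4_one, fam4_one, h.br i j k hij hjk hik]

theorem Twelve.hrel (h : Twelve e) : HRel (fam4 e) := by
  intro i j hij a b ha hb
  rcases zmod_two a with rfl | rfl
  · exact absurd rfl ha
  rcases zmod_two b with rfl | rfl
  · exact absurd rfl hb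
  have h1 : t (fam4 e) i j 1 = 1 := by
    unfold t w
    have e1 : (-1 : ZMod 2) = 1 := by decide
    rw [e1, inv_one, e1, fam4_one, fam4_one]
    calc e i j * e j i * e i j * (e i j * e j i * e i j) = e i j * (e j i * (e i j * e i j) * e j i) * e i j := by group
      _ = 1 := by rw [h.sq i j hij, mul_one, h.sq j i hij.symm, mul_one, h.sq i j hij]
  rw [one_mul, h1, one_mul]

/-- the group generated -/
def grp12 (e : Fin 4 → Fin 4 → G) : Subgroup G := Subgroup.closure {g | ∃ i j, i ≠ j ∧ g = e i j}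

theorem mem_grp12 (e : Fin 4 → Fin 4 → G) {i j : Fin 4} (hij : i ≠ j) : e i j ∈ grp12 e :=
  Subgroup.subset_closure ⟨i, j, hij, rfl⟩

/-- an element of order 5 of `SL₄(2)` -/
def g5 : _root_.Matrix.SpecialLinearGroup (Fin 4) (ZMod 2) := ⟨!![0,0,0,1;1,0,0,1;0,1,0,1;0,0,1,1], by decide +kernel⟩

/-- a transvection -/
def t5 : _root_.Matrix.SpecialLinearGroup (Fin 4) (ZMod 2) := ⟨!![1,1,0,0;0,1,0,0;0,0,1,0;0,0,0,1], by decide +kernel⟩

theorem g5_pow : g5 ^ 5 = 1 := by decide +kernel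

theorem g5_not_mem : g5 ∉ Subgroup.center (_root_.Matrix.SpecialLinearGroup (Fin 4) (ZMod 2)) := by
  intro h
  have := (Subgroup.mem_center_iff.1 h) t5
  revert this
  decide +kernel

/-- an element of order 5 -/
theorem Twelve.exists_elt (h : Twelve e) {i j : Fin 4} (hij : i ≠ j) (hne : e i j ≠ 1) :
    ∃ x ∈ grp12 e, x ^ 5 = 1 ∧ x ≠ 1 := by
  obtain ⟨π, -, h2, h3⟩ := Cfsg.Agent.CTFrame.Hom.exists_hom h.stein h.hrel (by simp)
  have h4 := h3 ⟨i, j, hij, 1, by rwa [fam4_one]⟩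
  have h5 : π.range ≤ grp12 e := by
    rw [h2, Subgroup.closure_le]
    rintro _ ⟨a, b, hab, c, rfl⟩
    rcases zmod_two c with rfl | rfl
    · rw [fam4_zero]; exact one_mem _
    · rw [fam4_one]; exact mem_grp12 e hab
  exact ⟨π g5, h5 ⟨_, rfl⟩, by rw [← map_pow, g5_pow, map_one], fun h6 => g5_not_mem (h4 h6)⟩

end

/-- the check for a twelve-tuple -/
def okTwelve (D : ChevalleyDatum) (A : Fin 4 → Fin 4 → ℕ) : Bool :=
  decide ((∀ i j k l : Fin 4, i ≠ j → k ≠ l → j ≠ k → i ≠ l → okC D (A i j) (A k l) = true) ∧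
    (∀ i j k : Fin 4, i ≠ j → j ≠ k → i ≠ k → okB D (A j k) (A i j) (A i k) = true))

theorem twelve {D : ChevalleyDatum} (hD : Cfsg.Agent.ChevalleyStructure.Elts.InList D) (F : Type u) [Field F] [CharP F 2]
    {A : Fin 4 → Fin 4 → ℕ} (h : okTwelve D A = true) : Twelve fun i j => el hD F (A i j) := by
  unfold okTwelve at h
  rw [decide_eq_true_eq] at h
  exact ⟨fun i j _ => el_sq hD F _, fun i j k l h1 h2 h3 h4 => el_comm hD F (h.1 i j k l h1 h2 h3 h4),
    fun i j k h1 h2 h3 => el_br hD F (h.2 i j k h1 h2 h3)⟩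

/-- the roots of the system `A₃` -/
def tabA : Fin 4 → Fin 4 → ℕ
  | 0, 1 => 162
  | 0, 2 => 163
  | 0, 3 => 164
  | 1, 0 => 77
  | 1, 2 => 135
  | 1, 3 => 136
  | 2, 0 => 76
  | 2, 1 => 104
  | 2, 3 => 130
  | 3, 0 => 75
  | 3, 1 => 103
  | 3, 2 => 109
  | _, _ => 0

/-- **`E₈(q)`, `q` even: an element of order 5 commutes with a perfect subgroup.** -/
theorem has_e8_five (F : Type u) [Field F] [CharP F 2] : Has 5 ↥(chevE8.group F) := by
  have hD : Cfsg.Agent.ChevalleyStructure.Elts.InList chevE8 := by simp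
  have hA : okTwelve chevE8 tabA = true := by decide +kernel
  have hB : okSix chevE8 (tab 123 121 124 116 118 115) = true := by decide +kernel
  have hC : ∀ (i j : Fin 4) (k l : Fin 3), i ≠ j → k ≠ l →
      okC chevE8 (tabA i j) (tab 123 121 124 116 118 115 k l) = true := by decide +kernel
  obtain ⟨x, hx, hx1, hx2⟩ := (twelve hD F hA).exists_elt (i := 0) (j := 1) (by decide)
    (el_ne hD F (r := tabA 0 1) (by decide +kernel))
  refine ⟨x, grp6 fun i j => el hD F (tab 123 121 124 116 118 115 i j), hx1, hx2, ?_, (six hD F hB).perfect,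
    grp6_ne (el_ne hD F (r := tab 123 121 124 116 118 115 0 1) (by decide +kernel))⟩
  have h1 : (grp12 fun i j => el hD F (tabA i j)) ≤
      Subgroup.centralizer (gen6 fun i j => el hD F (tab 123 121 124 116 118 115 i j)) := by
    rw [grp12, Subgroup.closure_le]
    rintro _ ⟨i, j, hij, rfl⟩
    rw [SetLike.mem_coe, Subgroup.mem_centralizer_iff]
    rintro _ ⟨k, l, hkl, rfl⟩
    exact (el_comm hD F (hC i j k l hij hkl)).symm
  rw [grp6, Subgroup.closure_le]
  intro b hb
  rw [SetLike.mem_coe, Subgroup.mem_centralizer_singleton_iff]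
  exact (Subgroup.mem_centralizer_iff.1 (h1 hx)) b hb

end Cfsg.Agent.H182.LP
end

-- part: H182/LP/TwD4
section
/-!
# An element of order 3 of `³D₄(q)`, `q` even, commuting with `SL₂(q³)` (helper182, piece (X) of S3046)
-/

set_option autoImplicit false
set_option linter.unusedSectionVars false

namespace Cfsg.Agent.H182.LP.TwD4

open Subgroup Cfsg Cfsg.Lie Cfsg.Agent.ChevalleyStructure Cfsg.Agent.ChevalleyStructure.D4Comm
open Cfsg.Agent.ChevalleyStructure.D4U Cfsg.Agent.ChevalleyStructure.D4NConj Cfsg.Agent.ChevalleyStructure.D4Perfect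
open Cfsg.Lie
open Cfsg.Agent.ChevalleyStructure.D4Comm Cfsg.Agent.ChevalleyStructure.D4NCheck
open Cfsg.Agent.ChevalleyStructure.D4NConj Cfsg.Agent.ChevalleyStructure.D4RGD
open Cfsg.Agent.ChevalleyStructure.D4Perm Cfsg.Agent.ChevalleyStructure.D4TwN
open Cfsg.Agent.ChevalleyStructure.D4Cols Cfsg.Agent.ChevalleyStructure.D4Fixed
open Cfsg.Agent.ChevalleyStructure.D4HConj
open scoped commutatorElement
open Cfsg.Agent.OddTab.D4Short (psi psi_up psi_lo psi_mem comm_x)
open Cfsg.Agent.Nodes.RGDTwD4 (xG_eq)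
open Cfsg.Agent.Hexagon.TwD4Rel
open Cfsg.Agent.H238.LocTwo

/-- the elements `x₀(t)` commute with the short root `SL₂(K)` -/
theorem comm_psi {K : Type} [Field K] (φ : K →+* K) (t : K) (g : Matrix.SpecialLinearGroup (Fin 2) K) :
    xG 0 t * psi φ g = psi φ g * xG 0 t := by
  have hc : ∀ r : ℕ, r < 24 → 0 ≠ r → 0 ≠ chevD4.neg r → chevD4.commTerms r 0 = [] → ∀ u : K,
      xG 0 t * xG r u = xG r u * xG 0 t := by
    intro r hr h1 h2 h4 u
    have := comm_x (K := K) hr (by norm_num) h1 h2 h4 u t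
    rw [xG_eq] at this
    exact this
  have h1 : ∀ r ∈ [18, 13, 12, 5, 10, 11], ∀ u : K, xG 0 t * xG r u = xG r u * xG 0 t := by
    intro r hr u
    have htab : ∀ r ∈ [18, 13, 12, 5, 10, 11], r < 24 ∧ 0 ≠ r ∧ 0 ≠ chevD4.neg r ∧ chevD4.commTerms r 0 = [] := by
      decide +kernel
    obtain ⟨k1, k2, k3, k4⟩ := htab r hr
    exact hc r k1 k2 k3 k4 u
  refine Cfsg.Agent.OddHalf.LongSL.commute_range (psi φ) (fun u => ?_) (fun u => ?_) _ ⟨g, rfl⟩
  · rw [psi_up, D4Fixed.X, D4U.xU_eq, D4U.xU_eq, D4U.xU_eq]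
    have a1 := h1 18 (by simp) u
    have a2 := h1 13 (by simp) (φ u)
    have a3 := h1 12 (by simp) (φ (φ u))
    calc xG 0 t * (xG 18 u * xG 13 (φ u) * xG 12 (φ (φ u))) =
        (xG 0 t * xG 18 u) * xG 13 (φ u) * xG 12 (φ (φ u)) := by group
      _ = xG 18 u * (xG 0 t * xG 13 (φ u)) * xG 12 (φ (φ u)) := by rw [a1]; group
      _ = xG 18 u * xG 13 (φ u) * (xG 0 t * xG 12 (φ (φ u))) := by rw [a2]; group
      _ = _ := by rw [a3]; group
  · rw [psi_lo, D4Fixed.Y, D4U.xU_eq, D4U.xU_eq, D4U.xU_eq]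
    have a1 := h1 5 (by simp) u
    have a2 := h1 10 (by simp) (φ u)
    have a3 := h1 11 (by simp) (φ (φ u))
    calc xG 0 t * (xG 5 u * xG 10 (φ u) * xG 11 (φ (φ u))) =
        (xG 0 t * xG 5 u) * xG 10 (φ u) * xG 11 (φ (φ u)) := by group
      _ = xG 5 u * (xG 0 t * xG 10 (φ u)) * xG 11 (φ (φ u)) := by rw [a1]; group
      _ = xG 5 u * xG 10 (φ u) * (xG 0 t * xG 11 (φ (φ u))) := by rw [a2]; group
      _ = _ := by rw [a3]; group

variable {K : Type} [Field K] {φ : K →+* K} {q : ℕ}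

theorem nA_conj_9 (K : Type*) [Field K] : ∃ ε : K, (ε = 1 ∨ ε = -1) ∧
    ∀ v : K, nA K * xG 9 v * (nA K)⁻¹ = xG 1 (ε * v) := by
  obtain ⟨a, ha, h1⟩ := nG_conj' K (i := 3) (s := 9) (by norm_num) (by norm_num)
  obtain ⟨b, hb, h2⟩ := nG_conj' K (i := 2) (s := rfl' 3 9) (by norm_num) (rfl'_lt (by norm_num) (by norm_num))
  obtain ⟨c, hc, h3⟩ := nG_conj' K (i := 0) (s := rfl' 2 (rfl' 3 9)) (by norm_num)
    (rfl'_lt (by norm_num) (rfl'_lt (by norm_num) (by norm_num)))
  refine ⟨c * (b * a), _root_.Cfsg.Agent.ChevalleyStructure.D4Perfect.sign_mul hc (_root_.Cfsg.Agent.ChevalleyStructure.D4Perfect.sign_mul hb ha), fun v => ?_⟩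
  have e : nA K * xG 9 v * (nA K)⁻¹ =
      nG K 0 * (nG K 2 * (nG K 3 * xG 9 v * (nG K 3)⁻¹) * (nG K 2)⁻¹) * (nG K 0)⁻¹ := by
    rw [nA_def]; group
  rw [e, h1, h2, h3]
  have e2 : rfl' 0 (rfl' 2 (rfl' 3 9)) = 1 := by decide +kernel
  rw [e2, mul_assoc, mul_assoc]

theorem nB_conj_1 (K : Type*) [Field K] : ∃ ε : K, (ε = 1 ∨ ε = -1) ∧
    ∀ v : K, nB K * xG 1 v * (nB K)⁻¹ = xG 0 (ε * v) := by
  obtain ⟨a, ha, h1⟩ := nG_conj' K (i := 1) (s := 1) (by norm_num) (by norm_num)
  refine ⟨a, ha, fun v => ?_⟩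
  have e2 : rfl' 1 1 = 0 := by decide +kernel
  rw [nB_def, h1, e2]

theorem x0_mem (hφ : ∀ x, φ x = x ^ q) {v : K} (hv : φ v = v) : xG 0 v ∈ twistedD4 K q := by
  obtain ⟨ε, hε, h⟩ := nA_conj_9 K
  obtain ⟨ε', hε', h'⟩ := nB_conj_1 K
  have h1 := mul_mem (mul_mem (nA_mem_twisted hφ) (C_le (x9_mem_C hφ (phi_sign hε (phi_sign hε' hv)))))
    (inv_mem (nA_mem_twisted hφ))
  rw [h, _root_.Cfsg.Agent.ChevalleyStructure.D4Perfect.sign_mul_self hε] at h1
  have h2 := mul_mem (mul_mem (nB_mem_twisted hφ) h1) (inv_mem (nB_mem_twisted hφ))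
  rwa [h', _root_.Cfsg.Agent.ChevalleyStructure.D4Perfect.sign_mul_self hε'] at h2

theorem hD : Elts.InList chevD4 := by simp

/-- **`³D₄(q)`, `q` even.** -/
theorem has_twD4 [Fintype K] [CharP K 2] (hq : IsPrimePow q) (hK : Fintype.card K = q ^ 3) :
    Has 3 ↥(twistedD4 K q) := by
  obtain ⟨φ, hφ⟩ := D4Fixed.exists_frob hq hK
  have hq1 := hq.one_lt
  have e23 : (el hD K 23 : GL chevD4.Idx K) = xG 23 1 := congrFun (congrFun xG_eq 23) 1
  have e0 : (el hD K 0 : GL chevD4.Idx K) = xG 0 1 := congrFun (congrFun xG_eq 0) 1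
  have hx3 : (el hD K 23 * el hD K 0) ^ 3 = 1 := el_three hD K (r := 23) (by decide +kernel)
  have hx1 : el hD K 23 * el hD K 0 ≠ 1 :=
    el_mul_ne hD K (r := 23) (s := 1) (v := 14) (by decide +kernel) (by decide +kernel) (by decide +kernel)
  refine has_of_le (x := xG 23 1 * xG 0 1) (M := (psi φ).range) ?_ ?_ ?_ ?_ ?_ ?_ ?_
  · exact mul_mem (C_le (x23_mem_C hφ (map_one φ))) (x0_mem hφ (map_one φ))
  · rintro _ ⟨g, rfl⟩
    exact psi_mem φ hφ g
  · have := congrArg Subtype.val hx3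
    rw [← e23, ← e0]
    exact this
  · intro h
    apply hx1
    rw [← e23, ← e0] at h
    exact Subtype.ext h
  · rintro _ ⟨g, rfl⟩
    have h1 := H240.TwD4Z.comm_psi φ 1 g
    have h2 := comm_psi φ 1 g
    calc psi φ g * (xG 23 1 * xG 0 1) = (psi φ g * xG 23 1) * xG 0 1 := by group
      _ = xG 23 1 * (psi φ g * xG 0 1) := by rw [← h1]; group
      _ = _ := by rw [← h2]; group
  · have h4 : 4 ≤ Nat.card K := by
      rw [Nat.card_eq_fintype_card, hK]
      calc 4 ≤ 2 ^ 3 := by norm_num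
        _ ≤ q ^ 3 := Nat.pow_le_pow_left hq1 3
    have hperf := (Cfsg.Agent.SignalizersComponents.SLQuasisimple.isQuasisimple_two (F := K) h4).1
    have h1 : _root_.commutator (Matrix.SpecialLinearGroup (Fin 2) K) = ⊤ := hperf.commutator_eq_top
    rw [MonoidHom.range_eq_map, ← Subgroup.map_commutator, ← commutator_def, h1]
  · intro h
    have h1 : psi φ (SL2Hom.up 1) ∈ (psi φ).range := ⟨_, rfl⟩
    rw [h, Subgroup.mem_bot, psi_up] at h1
    let σ : K ≃+* K := RingEquiv.ofBijective φ ⟨φ.injective, Finite.surjective_of_injective φ.injective⟩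
    rw [← Hexagon.TwD4Par.X1_eq σ φ (fun _ => rfl)] at h1
    have h6 := H240.HexZ.z1 (hexRel (σ := σ) (phi3 hK hφ))
    exact one_ne_zero (Hexagon.TwD4Par.X1_inj σ (h1.trans h6.symm))

end Cfsg.Agent.H182.LP.TwD4
end

-- part: H182/LP/Exc
section
/-!
# Exceptional groups of local characteristic `p`, `p` odd (helper182, piece (X) of S3046)

`exc` : an exceptional group of characteristic `r ≠ p` with a non-abelian Sylow `p`-subgroup and `p ^ 4` dividing the
order is not of local characteristic `p`.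
-/

set_option autoImplicit false
set_option maxRecDepth 100000

namespace Cfsg.Agent.H182.LP

open Cfsg Cfsg.Lie Subgroup
open Cfsg.Agent.H238 (Loc)
open Cfsg.Agent.H238.LocTwo
open Cfsg.Agent.BpExc.RowsUntw Cfsg.Agent.BpExc

universe u

theorem prime_mem {p : ℕ} (hp : p.Prime) : ∀ l : List ℕ, (∀ q ∈ l, q.Prime) → p ∣ l.prod → p ∈ l
  | [], _, h => by
    rw [List.prod_nil, Nat.dvd_one] at h
    exact absurd h hp.one_lt.ne'
  | a :: l, hl, h => by
    rw [List.prod_cons] at h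
    rcases hp.dvd_mul.1 h with h1 | h1
    · rw [(Nat.prime_dvd_prime_iff_eq hp (hl a List.mem_cons_self)).1 h1]
      exact List.mem_cons_self
    · exact List.mem_cons_of_mem _ (prime_mem hp l (fun q hq => hl q (List.mem_cons_of_mem _ hq)) h1)

theorem four_cases {p : ℕ} (hp : p.Prime) (hp2 : p ≠ 2) {n : ℕ} (l : List ℕ) (hl : ∀ q ∈ l, q.Prime) (N : ℕ)
    (hn : n ∣ l.prod ^ N) (h4 : p ^ 4 ∣ n) (l' : List ℕ)
    (hf : l.filter (fun q => decide (q ≠ 2) && decide (q ^ 4 ∣ n)) = l') : p ∈ l' := by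
  have h1 : p ∈ l := prime_mem hp l hl (hp.dvd_of_dvd_pow (((dvd_pow_self p (by norm_num)).trans h4).trans hn))
  rw [← hf, List.mem_filter]
  exact ⟨h1, by simp [hp2, h4]⟩

/-- an element of order `p` commuting with a perfect group, characteristic two -/
theorem not_loc_of_has {K : Type u} [Group K] [Finite K] {K₀ : Type} [Group K₀] (e : K ≃* K₀)
    (hs : FixBN.HasSplit 2 K₀) {p : ℕ} [hp : Fact p.Prime] (hp2 : p ≠ 2) (h : Has p K₀) : ¬ Loc p K := by
  intro hl
  have hfin : Finite K₀ := Finite.of_equiv K e.toEquiv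
  obtain ⟨x, M, h1, h2, h3, h4, h5⟩ := h
  have hx : orderOf x = p := orderOf_eq_prime h1 h2
  have hsol : Group.IsSolvable ↥(centralizer ({x} : Set K₀)) :=
    H238.isSolvable_of_two (fun X _ _ h => Cfsg.Agent.S0205.result h) hp2 hs hx (hl.congr e x hx)
  have : Group.IsSolvable ↥M := Group.isSolvable_of_isSolvable_injective (Subgroup.inclusion_injective h3)
  exact h5 (H238.eq_bot_of_perfect_of_isSolvable h4 this)

theorem charP_two_of_card {F : Type} [Field F] [Fintype F] {n : ℕ} (hn : n ≠ 0) (h : Fintype.card F = 2 ^ n) :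
    CharP F 2 := by
  obtain ⟨p, hF⟩ := CharP.exists F
  have hp := CharP.char_is_prime F p
  obtain ⟨m, -, hm⟩ := FiniteField.card F p
  rw [h] at hm
  have h1 : 2 ∣ p ^ (m : ℕ) := by rw [← hm]; exact dvd_pow_self 2 hn
  have h2 := (Nat.prime_dvd_prime_iff_eq Nat.prime_two hp).1 (Nat.prime_two.dvd_of_dvd_pow h1)
  rw [h2]
  exact hF

variable {K : Type u} [Group K] [Finite K] {p : ℕ} [hp : Fact p.Prime]

theorem f4_two {F : Type} [Field F] [Fintype F] (hF : Fintype.card F = 2) (hp2 : p ≠ 2) (e : K ≃* chevF4.group F)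
    (h4 : p ^ 4 ∣ Nat.card K) : ¬ Loc p K := by
  have : CharP F 2 := charP_two_of_card (n := 1) one_ne_zero (by rw [hF, pow_one])
  rw [Nat.card_congr e.toEquiv, Cfsg.Agent.S1062.result hF] at h4
  have := four_cases hp.out hp2 [2, 3, 5, 7, 13, 17] (by decide) 24 (by norm_num) h4 [3] (by decide +kernel)
  simp only [List.mem_singleton] at this
  subst this
  exact not_loc_of_has e (RowsN.hasSplit f4T F (S1054.result chevF4 (by simp)).1) (by norm_num) (has_f4 F)

theorem e6_two {F : Type} [Field F] [Fintype F] (hF : Fintype.card F = 2) (hp2 : p ≠ 2) (e : K ≃* chevE6.group F)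
    (h4 : p ^ 4 ∣ Nat.card K) : ¬ Loc p K := by
  have : CharP F 2 := charP_two_of_card (n := 1) one_ne_zero (by rw [hF, pow_one])
  have hc := Cfsg.Agent.S1063.result hF
  rw [Nat.card_congr e.toEquiv] at h4
  have h5 : Nat.card (chevE6.group F) ∣ Nat.gcd 3 (2 - 1) * Nat.card (chevE6.group F) := Dvd.intro_left _ rfl
  rw [hc] at h5
  have := four_cases hp.out hp2 [2, 3, 5, 7, 13, 17, 31, 73] (by decide) 36 (by norm_num) (h4.trans h5) [3]
    (by decide +kernel)
  simp only [List.mem_singleton] at this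
  subst this
  exact not_loc_of_has e (RowsN.hasSplit e6T F (S1054.result chevE6 (by simp)).1) (by norm_num) (has_e6 F).1

theorem e7_two {F : Type} [Field F] [Fintype F] (hF : Fintype.card F = 2) (hp2 : p ≠ 2) (e : K ≃* chevE7.group F)
    (h4 : p ^ 4 ∣ Nat.card K) : ¬ Loc p K := by
  have : CharP F 2 := charP_two_of_card (n := 1) one_ne_zero (by rw [hF, pow_one])
  have hc := Cfsg.Agent.S1064.result hF
  rw [Nat.card_congr e.toEquiv] at h4
  have h5 : Nat.card (chevE7.group F) ∣ Nat.gcd 2 (2 - 1) * Nat.card (chevE7.group F) := Dvd.intro_left _ rfl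
  rw [hc] at h5
  have := four_cases hp.out hp2 [2, 3, 5, 7, 11, 13, 17, 19, 31, 43, 73, 127] (by decide +kernel) 63 (by norm_num)
    (h4.trans h5) [3] (by decide +kernel)
  simp only [List.mem_singleton] at this
  subst this
  exact not_loc_of_has e (RowsN.hasSplit e7T F (S1054.result chevE7 (by simp)).1) (by norm_num) (has_e7 F).1

theorem e8_two {F : Type} [Field F] [Fintype F] (hF : Fintype.card F = 2) (hp2 : p ≠ 2) (e : K ≃* chevE8.group F)
    (h4 : p ^ 4 ∣ Nat.card K) : ¬ Loc p K := by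
  have : CharP F 2 := charP_two_of_card (n := 1) one_ne_zero (by rw [hF, pow_one])
  rw [Nat.card_congr e.toEquiv, Cfsg.Agent.S1065.result hF] at h4
  have := four_cases hp.out hp2 [2, 3, 5, 7, 11, 13, 17, 19, 31, 41, 43, 73, 127, 151, 241, 331] (by decide +kernel) 120
    (by norm_num) h4 [3, 5, 7] (by decide +kernel)
  simp only [List.mem_cons, List.not_mem_nil, or_false] at this
  have hs := RowsN.hasSplit e8T F (r := 2) (S1054.result chevE8 (by simp)).1
  rcases this with rfl | rfl | rfl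
  · exact not_loc_of_has e hs (by norm_num) (has_e8 F).1
  · exact not_loc_of_has e hs (by norm_num) (has_e8_five F)
  · exact not_loc_of_has e hs (by norm_num) (has_e8 F).2

theorem twE6_two {F : Type} [Field F] [Fintype F] (hF : Fintype.card F = 2 ^ 2) (hp2 : p ≠ 2)
    (e : K ≃* twistedE6 F 2) (h4 : p ^ 4 ∣ Nat.card K) : ¬ Loc p K := by
  have : CharP F 2 := charP_two_of_card (n := 2) two_ne_zero hF
  have hq : IsPrimePow 2 := Nat.prime_two.isPrimePow
  have hc := Cfsg.Agent.S1066.result hq hF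
  rw [Nat.card_congr e.toEquiv] at h4
  have h5 : Nat.card (twistedE6 F 2) ∣ Nat.gcd 3 (2 + 1) * Nat.card (twistedE6 F 2) := Dvd.intro_left _ rfl
  rw [hc] at h5
  have := four_cases hp.out hp2 [2, 3, 5, 7, 11, 13, 17, 19] (by decide) 36 (by norm_num) (h4.trans h5) [3]
    (by decide +kernel)
  simp only [List.mem_singleton] at this
  subst this
  exact not_loc_of_has e (FixBN.ReeSplit.hasSplit_of_isTwistedE6D4Char ⟨F, inferInstance, inferInstance, inferInstance,
    2, hq, Or.inl ⟨hF, ⟨MulEquiv.refl _⟩⟩⟩) (by norm_num) (has_twE6 F)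

theorem twD4_two {F : Type} [Field F] [Fintype F] (hF : Fintype.card F = 2 ^ 3) (hp2 : p ≠ 2)
    (e : K ≃* twistedD4 F 2) (h4 : p ^ 4 ∣ Nat.card K) : ¬ Loc p K := by
  have : CharP F 2 := charP_two_of_card (n := 3) three_ne_zero hF
  have hq : IsPrimePow 2 := Nat.prime_two.isPrimePow
  rw [Nat.card_congr e.toEquiv, Cfsg.Agent.S1067.result hq hF] at h4
  have := four_cases hp.out hp2 [2, 3, 7, 13] (by decide) 12 (by norm_num) h4 [3]
    (by decide +kernel)
  simp only [List.mem_singleton] at this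
  subst this
  exact not_loc_of_has e (FixBN.ReeSplit.hasSplit_of_isTwistedE6D4Char ⟨F, inferInstance, inferInstance, inferInstance,
    2, hq, Or.inr ⟨hF, ⟨MulEquiv.refl _⟩⟩⟩) (by norm_num) (TwD4.has_twD4 hq hF)

/-- **Exceptional groups are not of local characteristic `p`.** -/
theorem exc {r : ℕ} (hr : r.Prime) (hp2 : p ≠ 2) (hpr : p ≠ r) (hK : H226.KLevel.IsExc r K) {S : Sylow p K}
    (hna : ¬ IsMulCommutative (S : Subgroup K)) (h4 : p ^ 4 ∣ Nat.card K) : ¬ Loc p K := by
  intro hl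
  have hK' : (IsExceptionalChevChar r K ∨ IsTwistedE6D4Char r K) ∨ ((r = 2 ∧ Lie.IsoSuzuki K) ∨ (r = 2 ∧ Lie.Iso2F4 K) ∨
      (r = 3 ∧ Lie.IsoRee K)) := by
    rcases hK with h | h | h
    · exact Or.inl (Or.inl h)
    · exact Or.inl (Or.inr h)
    · exact Or.inr h
  rcases hK' with h | h
  · obtain ⟨-, ⟨F, _, _, hF, h1⟩ | ⟨F, _, _, hF, ⟨e⟩⟩ | ⟨F, _, _, hF, ⟨e⟩⟩⟩ := exc_row hr h hp2 hpr hl hna
    · rcases h1 with ⟨⟨e⟩⟩ | ⟨⟨e⟩⟩ | ⟨⟨e⟩⟩ | ⟨⟨e⟩⟩
      · exact f4_two hF hp2 e h4 hl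
      · exact e6_two hF hp2 e h4 hl
      · exact e7_two hF hp2 e h4 hl
      · exact e8_two hF hp2 e h4 hl
    · exact twE6_two hF hp2 e h4 hl
    · exact twD4_two hF hp2 e h4 hl
  · have : Fact r.Prime := ⟨hr⟩
    exact suz_ree hpr hp2 h hl hna

end Cfsg.Agent.H182.LP
end

-- part: H250/LP/Pair
section
/-!
# A commutator of order `p` central in its arguments (helper250, piece (X) of S3046)

* `exists_pair` : in a nonabelian Sylow `p`-subgroup there are `X`, `Y` whose commutator `Z` has order `p` and commutes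
  with `X` and `Y`;
* `exists_pair_lift` : the same upstairs, from a quotient.
-/

set_option autoImplicit false

namespace Cfsg.Agent.H250.LP

open Subgroup

variable {G : Type*} [Group G] {p : ℕ} [hp : Fact p.Prime]

theorem exists_pair_pgroup [Finite G] (hG : IsPGroup p G) (hn : ∃ a b : G, a * b ≠ b * a) :
    ∃ X Y Z : G, X * Y * X⁻¹ * Y⁻¹ = Z ∧ X * Z = Z * X ∧ Y * Z = Z * Y ∧ Z ^ p = 1 ∧ Z ≠ 1 := by
  obtain ⟨a, b, hab⟩ := hn
  have hC : a ∉ center G := fun h => hab ((mem_center_iff.1 h b).symm)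
  have hnt : Nontrivial (G ⧸ center G) := by
    refine ⟨⟨(a : G ⧸ center G), 1, fun h => hC ((QuotientGroup.eq_one_iff _).1 h)⟩⟩
  have hQ : IsPGroup p (G ⧸ center G) := hG.to_quotient _
  have hZ := hQ.center_nontrivial
  obtain ⟨⟨y', hy'⟩, hy1⟩ := exists_ne (1 : center (G ⧸ center G))
  obtain ⟨y, rfl⟩ := QuotientGroup.mk_surjective y'
  have hyC : y ∉ center G := by
    intro h
    apply hy1
    apply Subtype.ext
    exact (QuotientGroup.eq_one_iff _).2 h
  have hx : ∃ x : G, x * y ≠ y * x := by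
    by_contra h
    push Not at h
    exact hyC (mem_center_iff.2 fun x => h x)
  obtain ⟨x, hxy⟩ := hx
  have hc : x * y * x⁻¹ * y⁻¹ ∈ center G := by
    rw [← QuotientGroup.eq_one_iff]
    have h1 := mem_center_iff.1 hy' (x : G ⧸ center G)
    rw [QuotientGroup.mk_mul, QuotientGroup.mk_mul, QuotientGroup.mk_mul, QuotientGroup.mk_inv, QuotientGroup.mk_inv, h1]
    group
  set c := x * y * x⁻¹ * y⁻¹ with hcdef
  have hc1 : c ≠ 1 := by
    intro h
    apply hxy
    rw [hcdef, mul_inv_eq_one, mul_inv_eq_iff_eq_mul] at h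
    exact h
  obtain ⟨k, hk⟩ := (IsPGroup.iff_orderOf.1 hG) c
  have hk0 : k ≠ 0 := by
    rintro rfl
    rw [pow_zero, orderOf_eq_one_iff] at hk
    exact hc1 hk
  obtain ⟨m, rfl⟩ := Nat.exists_eq_succ_of_ne_zero hk0
  have hcy : x * y * x⁻¹ = c * y := by rw [hcdef]; group
  have hcomm : Commute c y := (mem_center_iff.1 hc y).symm
  have hpow : x * y ^ p ^ m * x⁻¹ = c ^ p ^ m * y ^ p ^ m := by
    rw [← conj_pow, hcy, hcomm.mul_pow]
  have hcen : ∀ g : G, g * c ^ p ^ m = c ^ p ^ m * g := fun g => mem_center_iff.1 (pow_mem hc _) g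
  refine ⟨x, y ^ p ^ m, c ^ p ^ m, ?_, hcen _, hcen _, ?_, ?_⟩
  · rw [hpow, mul_inv_cancel_right]
  · rw [← pow_mul, ← pow_succ, ← hk, pow_orderOf_eq_one]
  · intro h
    have h1 := orderOf_dvd_of_pow_eq_one h
    rw [hk] at h1
    have h2 := (Nat.pow_dvd_pow_iff_le_right hp.out.one_lt).1 h1
    omega

theorem exists_pair [Finite G] (P : Sylow p G) (hn : ¬ IsMulCommutative ↥(P : Subgroup G)) :
    ∃ X Y Z : G, X * Y * X⁻¹ * Y⁻¹ = Z ∧ X * Z = Z * X ∧ Y * Z = Z * Y ∧ Z ^ p = 1 ∧ Z ≠ 1 := by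
  have h1 : ∃ a b : ↥(P : Subgroup G), a * b ≠ b * a := by
    by_contra h
    push Not at h
    exact hn ⟨⟨fun a b => h a b⟩⟩
  obtain ⟨X, Y, Z, h2, h3, h4, h5, h6⟩ := exists_pair_pgroup P.isPGroup' h1
  refine ⟨X, Y, Z, ?_, ?_, ?_, ?_, ?_⟩
  · rw [← h2]; rfl
  · exact congrArg Subtype.val h3
  · exact congrArg Subtype.val h4
  · exact congrArg Subtype.val h5
  · intro h
    exact h6 (Subtype.ext h)

theorem exists_pair_lift [Finite G] {K : Type*} [Group K] [Finite K] (π : G →* K) (hπ : Function.Surjective π)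
    (hna : ∀ S : Sylow p K, ¬ IsMulCommutative ↥(S : Subgroup K)) :
    ∃ X Y Z : G, X * Y * X⁻¹ * Y⁻¹ = Z ∧ X * Z = Z * X ∧ Y * Z = Z * Y ∧ Z ^ p = 1 ∧ Z ≠ 1 := by
  obtain ⟨P⟩ : Nonempty (Sylow p G) := inferInstance
  refine exists_pair P fun hc => hna (P.mapSurjective hπ) ?_
  refine ⟨⟨?_⟩⟩
  rintro ⟨a, ha⟩ ⟨b, hb⟩
  rw [Sylow.coe_mapSurjective] at ha hb
  obtain ⟨a, ha', rfl⟩ := ha
  obtain ⟨b, hb', rfl⟩ := hb
  have h1 := congrArg Subtype.val (hc.is_comm.comm ⟨a, ha'⟩ ⟨b, hb'⟩)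
  apply Subtype.ext
  change π a * π b = π b * π a
  rw [← map_mul, ← map_mul]
  exact congrArg π h1

end Cfsg.Agent.H250.LP
end

-- part: H250/LP/Psl
section
/-!
# `PSL_n(q)` is not of local characteristic `p`, `p` odd, `p ∤ q`, nonabelian Sylow subgroup, rank at least 3 (helper250)

Piece (X) of S3046.
-/

set_option autoImplicit false
set_option linter.unusedSectionVars false

namespace Cfsg.Agent.H250.LP

open Subgroup Cfsg Cfsg.Agent.BpLin Matrix Cfsg.Agent.H236
open Cfsg.Agent.H238 (Loc)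
open Cfsg.Agent.H674.SUBlock (blk blk_one blk_mul det_blk blk_inj blk_castAdd blk_natAdd)

universe u v

theorem ws_of_loc {K : Type u} [Group K] [Finite K] [IsSimpleGroup K] {p r : ℕ} [Fact p.Prime] [hr : Fact r.Prime]
    (hpr : p ≠ r) (hK : IsLieTypeChar r K) (hl : Loc p K) {K' : Type v} [Group K'] (e : K ≃* K') {x : K'}
    (hx : orderOf x = p) : WS r ↥(centralizer ({x} : Set K')) := by
  have h1 : orderOf (e.symm x) = p := by
    rw [← hx]
    exact orderOf_injective e.symm.toMonoidHom e.symm.injective x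
  have h2 := (rs_centralizer hpr (H996.AllSplit.hasSplit_of_lie hr.out hK) (e.symm x)
    (by rw [← h1, pow_orderOf_eq_one]) (hl _ h1)).ws
  have h3 := ws_equiv e h2
  rwa [e.apply_symm_apply] at h3

theorem na_congr {K : Type*} {K' : Type*} [Group K] [Group K'] [Finite K] {p : ℕ} [Fact p.Prime] (e : K ≃* K')
    (hna : ∀ S : Sylow p K, ¬ IsMulCommutative ↥(S : Subgroup K)) (S : Sylow p K') :
    ¬ IsMulCommutative ↥(S : Subgroup K') := by
  have : Finite K' := Finite.of_equiv K e.toEquiv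
  intro hc
  have hs : Function.Surjective e.symm.toMonoidHom := fun x => e.symm.surjective x
  refine hna (S.mapSurjective hs) ⟨⟨?_⟩⟩
  rintro ⟨a, ha⟩ ⟨b, hb⟩
  rw [Sylow.coe_mapSurjective] at ha hb
  obtain ⟨a, ha', rfl⟩ := ha
  obtain ⟨b, hb', rfl⟩ := hb
  have h1 := congrArg Subtype.val (hc.is_comm.comm ⟨a, ha'⟩ ⟨b, hb'⟩)
  apply Subtype.ext
  change e.symm a * e.symm b = e.symm b * e.symm a
  rw [← map_mul, ← map_mul]
  exact congrArg e.symm h1

section SL

variable {F : Type u} [Field F] {d k : ℕ}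

/-- `SL_d → SL_{d+k}` -/
def extSL : Matrix.SpecialLinearGroup (Fin d) F →* Matrix.SpecialLinearGroup (Fin (d + k)) F where
  toFun x := ⟨blk x.1 (1 : Matrix (Fin k) (Fin k) F), by rw [det_blk, x.2, Matrix.det_one, one_mul]⟩
  map_one' := Subtype.ext blk_one
  map_mul' x y := Subtype.ext (by
    change blk (x.1 * y.1) 1 = blk x.1 1 * blk y.1 1
    rw [← blk_mul, one_mul])

theorem extSL_injective : Function.Injective
    (extSL : Matrix.SpecialLinearGroup (Fin d) F →* Matrix.SpecialLinearGroup (Fin (d + k)) F) := by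
  intro x y h
  exact Subtype.ext (blk_inj (congrArg Subtype.val h)).1

theorem not_ws_blk [Finite F] {r : ℕ} [Fact r.Prime] [CharP F r] (hd : 2 ≤ d) (h4 : d = 2 → 4 ≤ Nat.card F) {a : F}
    {B : Matrix (Fin k) (Fin k) F} {Z : Matrix.SpecialLinearGroup (Fin (d + k)) F} (hZ : Z.1 = blk (a • 1) B) :
    ¬ WS r ↥(centralizer ({Z} : Set (Matrix.SpecialLinearGroup (Fin (d + k)) F))) := by
  intro h
  have hc : ∀ x : Matrix.SpecialLinearGroup (Fin d) F,
      (extSL x : Matrix.SpecialLinearGroup (Fin (d + k)) F) ∈ centralizer ({Z} : Set (Matrix.SpecialLinearGroup (Fin (d + k)) F)) := by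
    intro x
    rw [mem_centralizer_singleton_iff]
    apply Subtype.ext
    change blk x.1 1 * Z.1 = Z.1 * blk x.1 1
    rw [hZ, ← blk_mul, ← blk_mul, one_mul, mul_one, mul_smul_comm, smul_mul_assoc, one_mul, mul_one]
  refine not_ws_sl (F := F) (r := r) hd h4 (h.of_injective (extSL.codRestrict _ hc) ?_)
  intro x y hxy
  exact extSL_injective (congrArg Subtype.val hxy)

end SL

/-- **`PSL_n(q)`.** -/
theorem not_loc_psl {K : Type u} [Group K] [Finite K] [IsSimpleGroup K] {p r : ℕ} [hp : Fact p.Prime]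
    [hr : Fact r.Prime] (hp2 : p ≠ 2) (hpr : p ≠ r) (hK : IsPSLChar r K) (hrk : PRankAtLeast p 3 K)
    (hna : ∀ S : Sylow p K, ¬ IsMulCommutative ↥(S : Subgroup K)) : ¬ Loc p K := by
  intro hl
  have hL : IsLieTypeChar r K := Or.inl hK
  obtain ⟨F, _, _, hc, n, h2, h4, ⟨e⟩⟩ := hK
  have hpF : (p : F) ≠ 0 := by
    intro h
    rw [CharP.cast_eq_zero_iff F r] at h
    exact hpr ((Nat.prime_dvd_prime_iff_eq hr.out hp.out).1 h).symm
  let π := QuotientGroup.mk' (Subgroup.center (Matrix.SpecialLinearGroup (Fin n) F))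
  obtain ⟨X, Y, Z, hXY, hXZ, hYZ, hZp, hZ1⟩ := exists_pair_lift (p := p) π (QuotientGroup.mk'_surjective _)
    (na_congr e hna)
  by_cases hZ : Z ∈ Subgroup.center (Matrix.SpecialLinearGroup (Fin n) F)
  · obtain ⟨c, hcn, hcZ⟩ := Matrix.SpecialLinearGroup.mem_center_iff.1 hZ
    rw [Fintype.card_fin] at hcn
    have hn : NeZero n := ⟨by omega⟩
    have hc1 : c ≠ 1 := by
      rintro rfl
      apply hZ1
      apply Subtype.ext
      rw [← hcZ, map_one]
      rfl
    have hcp : c ^ p = 1 := by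
      have h5 := congrArg Subtype.val hZp
      rw [Matrix.SpecialLinearGroup.coe_pow, ← hcZ, ← map_pow] at h5
      have h6 := congrFun (congrFun h5 0) 0
      rw [Matrix.scalar_apply, Matrix.diagonal_apply_eq] at h6
      rw [h6]
      exact Matrix.one_apply_eq _
    have hco : orderOf c = p := orderOf_eq_prime hcp hc1
    have hpn : p ∣ n := by
      rw [← hco]
      exact orderOf_dvd_of_pow_eq_one hcn
    have hp3 : 3 ≤ p := by
      have := hp.out.two_le
      omega
    have hn3 : 3 ≤ n := hp3.trans (Nat.le_of_dvd (by omega) hpn)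
    rcases Nat.eq_or_lt_of_le hn3 with h3 | hn4
    · subst h3
      have h5 : p = 3 := (Nat.prime_dvd_prime_iff_eq hp.out Nat.prime_three).1 hpn
      subst h5
      refine H328.NLRank.not_rank_psl (F := F) (by exact_mod_cast hpF) (Or.inr rfl) ?_
      obtain ⟨A, h6, h7, h8⟩ := hrk
      refine ⟨A.map e.toMonoidHom, ⟨⟨?_⟩⟩, ?_, ?_⟩
      · rintro ⟨_, ⟨a, ha, rfl⟩⟩ ⟨_, ⟨b, hb, rfl⟩⟩
        have := congrArg (fun x : A => e (x : K)) (h6.is_comm.comm ⟨a, ha⟩ ⟨b, hb⟩)
        apply Subtype.ext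
        change e a * e b = e b * e a
        rw [← map_mul, ← map_mul]
        exact this
      · rintro _ ⟨a, ha, rfl⟩
        rw [← map_pow, h7 a ha, map_one]
      · rw [Nat.card_congr (A.equivMapOfInjective _ e.injective).symm.toEquiv]
        exact h8
    · obtain ⟨d, rfl⟩ : ∃ d, n = d + 2 := ⟨n - 2, by omega⟩
      have hc0 : c ≠ 0 := by
        rintro rfl
        rw [zero_pow hp.out.ne_zero] at hcp
        exact zero_ne_one hcp
      have hdet : (blk ((1 : F) • 1 : Matrix (Fin d) (Fin d) F) (Matrix.diagonal ![c, c⁻¹])).det = 1 := by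
        rw [det_blk, one_smul, Matrix.det_one, one_mul, Matrix.det_diagonal, Fin.prod_univ_two]
        exact mul_inv_cancel₀ hc0
      let W : Matrix.SpecialLinearGroup (Fin (d + 2)) F := ⟨blk ((1 : F) • 1) (Matrix.diagonal ![c, c⁻¹]), hdet⟩
      have hpow : ∀ k : ℕ, (W ^ k).1 = blk 1 (Matrix.diagonal ![c ^ k, c⁻¹ ^ k]) := by
        intro k
        induction k with
        | zero =>
          rw [pow_zero, pow_zero, pow_zero]
          change (1 : Matrix (Fin (d + 2)) (Fin (d + 2)) F) = _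
          rw [← blk_one, ← Matrix.diagonal_one]
          congr 2
          funext i
          fin_cases i <;> rfl
        | succ k ih =>
          rw [pow_succ]
          change (W ^ k).1 * blk ((1 : F) • 1) (Matrix.diagonal ![c, c⁻¹]) = _
          rw [ih, ← blk_mul, one_smul, one_mul, Matrix.diagonal_mul_diagonal]
          congr 2
          funext i
          fin_cases i
          · exact (pow_succ c k).symm
          · exact (pow_succ c⁻¹ k).symm
      have hWp : W ^ p = 1 := by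
        apply Subtype.ext
        rw [hpow, hcp, inv_pow, hcp, inv_one]
        change _ = (1 : Matrix (Fin (d + 2)) (Fin (d + 2)) F)
        rw [← blk_one, ← Matrix.diagonal_one]
        congr 2
        funext i
        fin_cases i <;> rfl
      have hWc : W ∉ Subgroup.center (Matrix.SpecialLinearGroup (Fin (d + 2)) F) := by
        intro h
        obtain ⟨b, -, hb⟩ := Matrix.SpecialLinearGroup.mem_center_iff.1 h
        have hd : NeZero d := ⟨by omega⟩
        have h5 := congrFun (congrFun hb (Fin.castAdd 2 0)) (Fin.castAdd 2 0)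
        have h6 := congrFun (congrFun hb (Fin.natAdd d 0)) (Fin.natAdd d 0)
        change _ = blk ((1 : F) • 1) (Matrix.diagonal ![c, c⁻¹]) _ _ at h5
        change _ = blk ((1 : F) • 1) (Matrix.diagonal ![c, c⁻¹]) _ _ at h6
        rw [blk_castAdd, Matrix.scalar_apply, Matrix.diagonal_apply_eq, one_smul, Matrix.one_apply_eq] at h5
        rw [blk_natAdd, Matrix.scalar_apply, Matrix.diagonal_apply_eq, Matrix.diagonal_apply_eq, h5] at h6
        exact hc1 h6.symm
      have hWo : orderOf (QuotientGroup.mk' (Subgroup.center (Matrix.SpecialLinearGroup (Fin (d + 2)) F)) W) = p := by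
        apply orderOf_eq_prime
        · rw [← map_pow, hWp, map_one]
        · intro h
          exact hWc ((QuotientGroup.eq_one_iff _).1 h)
      have h5 := ws_of_loc hpr hL hl e hWo
      have h6 : WS r ↥(centralizer ({W} : Set (Matrix.SpecialLinearGroup (Fin (d + 2)) F))) :=
        ws_lift (π := QuotientGroup.mk' (Subgroup.center (Matrix.SpecialLinearGroup (Fin (d + 2)) F)))
          (by rw [QuotientGroup.ker_mk']) h5
      refine not_ws_blk (r := r) (d := d) (k := 2) (by omega) (fun _ => ?_) (a := 1) (B := Matrix.diagonal ![c, c⁻¹]) rfl h6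
      have h7 : orderOf (Units.mk0 c hc0) = p := by
        rw [← hco, ← orderOf_units, Units.val_mk0]
      have h8 : orderOf (Units.mk0 c hc0) ∣ Nat.card Fˣ := _root_.orderOf_dvd_natCard _
      rw [h7, Nat.card_units] at h8
      have h9 : 0 < Nat.card F - 1 := by
        have : 1 < Nat.card F := Finite.one_lt_card
        omega
      have := Nat.le_of_dvd h9 h8
      omega
  · have hzo : orderOf (π Z) = p := by
      apply orderOf_eq_prime
      · rw [← map_pow, hZp, map_one]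
      · intro h
        exact hZ ((QuotientGroup.eq_one_iff _).1 h)
    have h5 := ws_of_loc hpr hL hl e hzo
    have h6 : WS r ↥(centralizer ({Z} : Set (Matrix.SpecialLinearGroup (Fin n) F))) :=
      ws_lift (π := π) (by rw [QuotientGroup.ker_mk']) h5
    refine Cfsg.Agent.H236.mat_odd (r := r) hp2 hpF (X := X.toGL) (Y := Y.toGL) (Z := Z.toGL) ?_ ?_ ?_ ?_ ?_ (ws_CM h6)
    · rw [← hXY, map_mul, map_mul, map_mul, map_inv, map_inv]
    · rw [← map_mul, hXZ, map_mul]
    · rw [← map_mul, hYZ, map_mul]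
    · rw [← map_pow, hZp, map_one]
    · intro h
      exact hZ1 (Matrix.SpecialLinearGroup.toGL_injective (by rw [h, map_one]))

end Cfsg.Agent.H250.LP
end

private theorem dce_87be3c5234a4 : _root_.True := by
  try have : _root_.True := by simp only [_root_.Cfsg.Agent.H182.LP.grp12.eq_1]
  exact _root_.True.intro
end
end

-- part: H182/LP/Main
section
set_option linter.all false
open scoped Cfsg.Agent.FastGrp

-- part: H182/LP/SporA
section
/-!
# Sporadic groups of local characteristic `p`, `p` odd (helper182, piece (X) of S3046)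

`J3, Suz, O'N, Co3, Co1, HN` are not of local characteristic 3, `HN` is not of local characteristic 5.
-/

set_option autoImplicit false
set_option maxRecDepth 100000

namespace Cfsg.Agent.H182.LP

open Cfsg Subgroup Equiv
open Cfsg.Agent.H238 (Loc)

universe u

theorem not_loc_j3 {K : Type u} [Group K] [Finite K] (h : Spor.IsoJ3 K) : ¬ Loc 3 K := by
  intro hl
  have f5 : Fact (Nat.Prime 5) := ⟨by norm_num⟩
  have f3 : Fact (Nat.Prime 3) := ⟨by norm_num⟩
  obtain ⟨c, hc3, -, hcC⟩ := CpAutJThree.exc h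
  obtain ⟨z, hz⟩ : ∃ z : centralizer ({c} : Set K), orderOf z = 5 :=
    exists_prime_orderOf_dvd_card' 5 (by rw [hcC]; norm_num)
  refine no_commute hl (r := 5) (a := 3) hc3 Nat.prime_five (by norm_num)
    (z := (z : K)) (by rw [Subgroup.orderOf_coe, hz]) (mem_centralizer_singleton_iff.1 z.2) ?_ ?_
  · rw [hcC]
    norm_num
  · intro j h1 h2
    interval_cases j <;> norm_num

theorem not_loc_suz {K : Type u} [Group K] [Finite K] (h : Spor.IsoSuz K) : ¬ Loc 3 K := by
  intro hl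
  obtain ⟨e⟩ := h
  have hl' : Loc 3 Spor.Suz := hl.congr e
  have hfin : Finite Spor.Suz := Finite.of_equiv K e.toEquiv
  have f5 : Fact (Nat.Prime 5) := ⟨by norm_num⟩
  have f3 : Fact (Nat.Prime 3) := ⟨by norm_num⟩
  obtain ⟨x, hx⟩ := exists_prime_orderOf_dvd_card' (G := PreUniq.Spor.SuzP.E) 3 (by
    rw [PreUniq.Spor.SuzP.card_E]; norm_num)
  have hx3 : orderOf (x : Spor.Suz) = 3 := by rw [Subgroup.orderOf_coe, hx]
  have hc := CpAutSuz.ThreeC.card_centralizer x.2 (by
    intro h1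
    rw [h1, orderOf_one] at hx3
    norm_num at hx3)
  obtain ⟨z, hz⟩ : ∃ z : centralizer ({(x : Spor.Suz)} : Set Spor.Suz), orderOf z = 5 :=
    exists_prime_orderOf_dvd_card' 5 (by rw [hc]; norm_num)
  refine no_commute hl' (r := 5) (a := 4) hx3 Nat.prime_five (by norm_num)
    (z := (z : Spor.Suz)) (by rw [Subgroup.orderOf_coe, hz]) (mem_centralizer_singleton_iff.1 z.2) ?_ ?_
  · rw [hc]
    norm_num
  · intro j h1 h2
    interval_cases j <;> norm_num

theorem not_loc_on {K : Type u} [Group K] [Finite K] (h : Spor.IsoON K) : ¬ Loc 3 K := by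
  intro hl
  have hcK := NotCT.Orders.on h
  obtain ⟨e⟩ := h
  have hl' : Loc 3 Spor.ON := hl.congr e
  have hfin : Finite Spor.ON := Finite.of_equiv K e.toEquiv
  have hcard : Nat.card Spor.ON = 460815505920 := by rw [← hcK]; exact (Nat.card_congr e.toEquiv).symm
  have f5 : Fact (Nat.Prime 5) := ⟨by norm_num⟩
  have f3 : Fact (Nat.Prime 3) := ⟨by norm_num⟩
  obtain ⟨y, hy⟩ := exists_prime_orderOf_dvd_card' (G := Spor.ON) 5 (by rw [hcard]; norm_num)
  obtain ⟨x, hx⟩ := exists_prime_orderOf_dvd_card' (G := ↥(centralizer ({y} : Set Spor.ON))) 3 (by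
    rw [H474.ONC.card_cent_five hy]; norm_num)
  refine no_commute' hl' (r := 5) (a := 4) (y := (x : Spor.ON)) (by rw [Subgroup.orderOf_coe, hx]) Nat.prime_five
    (by norm_num) hy (mem_centralizer_singleton_iff.1 x.2).symm ?_ ?_
  · rw [hcard]
    norm_num
  · intro j h1 h2
    interval_cases j <;> norm_num

theorem exists_three_co3 {T : Type u} [Group T] (h : Spor.IsoCo3 T) [Finite T] {z : T} (hz : orderOf z = 7) :
    ∃ y : T, orderOf y = 3 ∧ z * y = y * z := by
  obtain ⟨k, m, hkm, h1⟩ := Cfsg.Agent.H555.TwoSp.cn7 h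
  have h2 := (h1 (zpowers z) (by rw [Nat.card_zpowers, hz])).1
  have h3 : 3 ∣ Nat.card ↥(centralizer ((zpowers z : Subgroup T) : Set T)) := by
    rw [h2]
    rcases hkm with ⟨rfl, -⟩ | ⟨rfl, -⟩ | ⟨rfl, -⟩ | ⟨rfl, -⟩ <;> norm_num
  have h4 : Fact (Nat.Prime 3) := ⟨Nat.prime_three⟩
  obtain ⟨⟨y, hy⟩, hyo⟩ := exists_prime_orderOf_dvd_card' (G := ↥(centralizer ((zpowers z : Subgroup T) : Set T))) 3 h3
  rw [Subgroup.orderOf_mk] at hyo
  exact ⟨y, hyo, mem_centralizer_iff.1 hy z (mem_zpowers z)⟩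

theorem not_loc_co3 {K : Type u} [Group K] [Finite K] (h : Spor.IsoCo3 K) : ¬ Loc 3 K := by
  intro hl
  have hc : Nat.card K = 495766656000 := NotCT.Orders.co3 h
  have f7 : Fact (Nat.Prime 7) := ⟨by norm_num⟩
  have f3 : Fact (Nat.Prime 3) := ⟨by norm_num⟩
  obtain ⟨e⟩ := h
  have hl' : Loc 3 Spor.Co3 := hl.congr e
  have hfin : Finite Spor.Co3 := Finite.of_equiv K e.toEquiv
  have hc' : Nat.card Spor.Co3 = 495766656000 := by rw [← hc]; exact (Nat.card_congr e.toEquiv).symm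
  obtain ⟨z, hz⟩ := exists_prime_orderOf_dvd_card' (G := Spor.Co3) 7 (by rw [hc']; norm_num)
  obtain ⟨y, hy, hzy⟩ := exists_three_co3 (T := Spor.Co3) ⟨MulEquiv.refl _⟩ hz
  obtain ⟨x, hx⟩ := H604.Sax.McLEl.exists_nine_co3
  refine no_nine hl' (x := x) (r := 7) (a := 7) hy (by norm_num) (by norm_num) hz hzy (by rw [hc']; norm_num) ?_
    (by norm_num) hx
  intro j h1 h3
  have h4 : j < 6 := by omega
  clear h3
  interval_cases j <;> norm_num

theorem not_loc_co1_three {K : Type u} [Group K] [Finite K] (h : Spor.IsoCo1 K) : ¬ Loc 3 K := by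
  intro hl
  have f3 : Fact (Nat.Prime 3) := ⟨by norm_num⟩
  obtain ⟨e⟩ := h
  have hl' : Loc 3 Spor.Co1 := hl.congr e
  have hfin : Finite Spor.Co1 := Finite.of_equiv K e.toEquiv
  obtain ⟨z, hz, hzx⟩ := H493.NB.exists_seven
  refine no_commute hl' (r := 7) (a := 5) LThreeCo1T8.Main.order_x (by norm_num) (by norm_num) hz hzx
    H493.NB.not_dvd_cent ?_
  intro j hj hj5
  interval_cases j <;> norm_num

open Cfsg.Agent.H813.CoSevenMain in
/-- an element of order `35` of `Co1` -/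
theorem exists_35 : ∃ w : Spor.Co1, orderOf w = 35 := by
  have : Fact (Nat.Prime 5) := ⟨by norm_num⟩
  obtain ⟨b, hb⟩ := exists_prime_orderOf_dvd_card' (G := ↥BB) 5 (by rw [card_BB]; norm_num)
  have hb' : orderOf (b : Spor.Co1) = 5 := by rw [Subgroup.orderOf_coe, hb]
  have hpp : orderOf pp = 7 := by
    have : Fact (Nat.Prime 7) := ⟨by norm_num⟩
    exact orderOf_eq_prime pp_pow pp_ne
  have hc : Commute (b : Spor.Co1) pp := mem_centralizer_singleton_iff.1 (BB_le b.2)
  refine ⟨(b : Spor.Co1) * pp, ?_⟩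
  rw [hc.orderOf_mul_eq_mul_orderOf_of_coprime (by rw [hb', hpp]; norm_num), hb', hpp]

theorem not_loc_co1_five {K : Type u} [Group K] [Finite K] (h : Spor.IsoCo1 K) : ¬ Loc 5 K := by
  intro hl
  have hcard := NotCT.Orders.co1 h
  have : Fact (Nat.Prime 5) := ⟨by norm_num⟩
  refine no_order (r := 7) (a := 4) hl (by norm_num) (by norm_num) ?_ (by rw [hcard]; norm_num) ?_
  · obtain ⟨e⟩ := h
    obtain ⟨x, hx⟩ := exists_35
    refine ⟨e.symm x, ?_⟩
    have h5 : orderOf (e.symm x) = orderOf x := MulEquiv.orderOf_eq e.symm x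
    rw [h5, hx]
  · intro j h5 h6
    interval_cases j <;> norm_num

/-! ### `HN` -/

theorem exists_order (σ : Perm (Fin 12)) (n : ℕ) (hn : 0 < n) (hs : Perm.sign σ = 1) (h1 : σ ^ n = 1)
    (h2 : ∀ m < n, 0 < m → m ∣ n → σ ^ m ≠ 1) : ∃ g : alternatingGroup (Fin 12), orderOf g = n := by
  refine ⟨⟨σ, Perm.mem_alternatingGroup.2 hs⟩, ?_⟩
  rw [Subgroup.orderOf_mk]
  have hd : orderOf σ ∣ n := orderOf_dvd_of_pow_eq_one h1
  by_contra hne
  exact h2 _ (lt_of_le_of_ne (Nat.le_of_dvd hn hd) hne) (orderOf_pos σ) hd (pow_orderOf_eq_one σ)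

theorem o21 : ∃ g : alternatingGroup (Fin 12), orderOf g = 21 :=
  exists_order (c[0,1,2,3,4,5,6] * c[7,8,9]) 21
  (by norm_num) (by decide +kernel) (by decide +kernel) (by decide +kernel)

theorem o35 : ∃ g : alternatingGroup (Fin 12), orderOf g = 35 :=
  exists_order (c[0,1,2,3,4,5,6] * c[7,8,9,10,11]) 35
  (by norm_num) (by decide +kernel) (by decide +kernel) (by decide +kernel)

theorem hn_alt {K : Type u} [Group K] (h : Spor.IsoHN K) {n : ℕ} (ho : ∃ g : alternatingGroup (Fin 12), orderOf g = n) :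
    ∃ g : K, orderOf g = n := by
  obtain ⟨e⟩ := h
  have := Cfsg.Agent.S1701.result.1
  obtain ⟨L, ⟨f⟩⟩ := Cfsg.Agent.HN.A12Group.exists_alternating
  obtain ⟨g, hg⟩ := ho
  refine ⟨e.symm ((f.symm g : L) : Spor.HN), ?_⟩
  rw [MulEquiv.orderOf_eq, Subgroup.orderOf_coe, MulEquiv.orderOf_eq, hg]

theorem not_loc_hn_three {K : Type u} [Group K] [Finite K] (h : Spor.IsoHN K) : ¬ Loc 3 K := by
  intro hl
  have hc : Nat.card K = 273030912000000 := by
    obtain ⟨e⟩ := h
    rw [Nat.card_congr e.toEquiv]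
    exact Cfsg.Agent.S1701.result.2
  have f3 : Fact (Nat.Prime 3) := ⟨by norm_num⟩
  obtain ⟨w, hw⟩ := hn_alt h o21
  refine no_order hl (r := 7) (a := 6) (by norm_num) (by norm_num) ⟨w, by rw [hw]⟩ (by rw [hc]; norm_num) ?_
  intro j h1 h2
  interval_cases j <;> norm_num

theorem not_loc_hn_five {K : Type u} [Group K] [Finite K] (h : Spor.IsoHN K) : ¬ Loc 5 K := by
  intro hl
  have hc : Nat.card K = 273030912000000 := by
    obtain ⟨e⟩ := h
    rw [Nat.card_congr e.toEquiv]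
    exact Cfsg.Agent.S1701.result.2
  have f5 : Fact (Nat.Prime 5) := ⟨by norm_num⟩
  obtain ⟨w, hw⟩ := hn_alt h o35
  refine no_order hl (r := 7) (a := 6) (by norm_num) (by norm_num) ⟨w, by rw [hw]⟩ (by rw [hc]; norm_num) ?_
  intro j h1 h2
  interval_cases j <;> norm_num

end Cfsg.Agent.H182.LP
end

-- part: H182/LP/SporB
section
/-!
# Sporadic groups of local characteristic `p`, `p` odd (helper182, piece (X) of S3046)

`Ly` and `Th` are not of local characteristic 3.
-/

set_option autoImplicit false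

namespace Cfsg.Agent.H182.LP

open Cfsg Subgroup
open Cfsg.Agent.H238 (Loc)
open Cfsg.Agent.H239.CharPLocal (CP)

universe u

/-- a central extension of a nonabelian simple group is not of characteristic `p` -/
theorem not_cp_of_quot {p : ℕ} {H S : Type*} [Group H] [Finite H] [Group S] [IsSimpleGroup S]
    (π : H →* S) (hs : Function.Surjective π) (hk : π.ker ≤ center H) (hna : ¬ IsPGroup p S) : ¬ CP p H := by
  intro hc
  have hN := Cfsg.Agent.Lib.Cores.pCore_normal (G := H) p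
  have hP : IsPGroup p (pCore p H) := Cfsg.Agent.Lib.Cores.pCore_isPGroup p
  have h1 : ((pCore p H).map π).Normal := hN.map π hs
  have h2 : IsPGroup p ((pCore p H).map π) := hP.map π
  rcases h1.eq_bot_or_eq_top with h3 | h3
  · have h4 : pCore p H ≤ center H := ((Subgroup.map_eq_bot_iff _).1 h3).trans hk
    have h5 : (⊤ : Subgroup H) ≤ pCore p H := by
      refine le_trans ?_ hc
      intro g _
      rw [mem_centralizer_iff]
      intro x hx
      exact (mem_center_iff.1 (h4 hx) g).symm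
    apply hna
    have h6 : IsPGroup p (⊤ : Subgroup H) := hP.to_le h5
    have h7 : IsPGroup p H := h6.of_equiv Subgroup.topEquiv
    exact h7.of_surjective π hs
  · rw [h3] at h2
    exact hna (h2.of_equiv Subgroup.topEquiv)

theorem not_loc_ly {K : Type u} [Group K] [Finite K] (h : Spor.IsoLy K) : ¬ Loc 3 K := by
  intro hl
  obtain ⟨e'⟩ := h
  have hl' : Loc 3 Spor.Ly := hl.congr e'
  have hfin : Finite Spor.Ly := Cfsg.Agent.Ly.Setup.finite_ly
  have hp : Fact (Nat.Prime 3) := ⟨Nat.prime_three⟩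
  have hA0 : Nat.card Cfsg.Agent.Ly.McL.Cent.A0 ≤ 378000 :=
    Cfsg.Agent.Ly.McL.ClassX.card_centralizer_x_le Cfsg.Agent.Ly.T1.card_Hhat
  obtain ⟨h1, h2, h3, h4⟩ := Cfsg.Agent.Ly.McL.Main.main Cfsg.Agent.Ly.Index.data Cfsg.Agent.Ly.Pres.closure_gens
    Cfsg.Agent.Ly.Setup.card_ly hA0
  have hx := Cfsg.Agent.Ly.McL.Main.order_x' Cfsg.Agent.Ly.Index.data Cfsg.Agent.Ly.Pres.closure_gens
    Cfsg.Agent.Ly.Setup.card_ly
  obtain ⟨L⟩ := TypeM.FactsLy.exists_mt_ly
  obtain ⟨g, h, hgh⟩ := TypeM.OutLyFin.exists_commutator Cfsg.Agent.Ly.Index.data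
  obtain ⟨L', htx, h5, h6, L8, hL8⟩ := TypeM.OutLyFin.exists_out_data L hx h1 h2 h3 hgh
  obtain ⟨e⟩ := Cfsg.Agent.McLLyComp.FactsAutMT.iso_mcl L8
  have hcp := hl' _ hx
  have hM : IsSimpleGroup Cfsg.Spor.McL := by
    have := h3
    exact e.symm.isSimpleGroup
  refine not_cp_of_quot (e.toMonoidHom.comp (QuotientGroup.mk' (center _)))
    (e.surjective.comp (QuotientGroup.mk'_surjective _)) ?_ ?_ hcp
  · intro y hy
    have h7 : e ((QuotientGroup.mk' (center _)) y) = 1 := hy
    rw [map_eq_one_iff _ e.injective] at h7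
    exact (QuotientGroup.eq_one_iff y).1 h7
  · intro h7
    have hM' : Finite Cfsg.Spor.McL := Finite.of_equiv _ e.toEquiv
    obtain ⟨n, hn⟩ := IsPGroup.iff_card.1 h7
    rw [NotCT.Orders.mcl (K := Spor.McL) ⟨MulEquiv.refl _⟩] at hn
    have h8 : 2 ∣ 3 ^ n := by rw [← hn]; norm_num
    have h9 := Nat.prime_two.dvd_of_dvd_pow h8
    norm_num at h9

/-! ### `Th` -/

section

open Cfsg.Agent.Th.Base Cfsg.Agent.Th.Word Cfsg.Agent.Th.RelWords Cfsg.Agent.Th.PermTab
  Cfsg.Agent.Th.KOracle Cfsg.Agent.Th.KPerm Cfsg.Agent.Th.NineAct Cfsg.Agent.Th.CStruct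
  Cfsg.Agent.Th.COracleDef Cfsg.Agent.Th.COracleSound
open Cfsg.Agent.KFacts.Th.Mask Cfsg.Agent.KFacts.Th.Struct
open Cfsg.Agent.CpAutTh.Data Cfsg.Agent.CpAutTh.Alt Cfsg.Agent.CpAutTh.RankOne Cfsg.Agent.CpAutTh.Local
  Cfsg.Agent.CpAutTh.Mid Cfsg.Agent.CpAutTh.ThreePerm Cfsg.Agent.CpAutTh.ThreeE
open Cfsg.Agent.H94.NBC

variable {G : Type u} [Group G] {γ : ℕ → G} (h : Ctx γ)
  (hone : ∀ u : G, orderOf u = 2 → ∃ g : G, g * u * g⁻¹ = γ 1)
include h hone

theorem th_aux [Finite G] (hl : Loc 3 G) : False := by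
  have : Fact (Nat.Prime 3) := ⟨Nat.prime_three⟩
  obtain ⟨f, F⟩ := Cfsg.Agent.CpAutTh.Local.exists_epi h
  have hox : orderOf (ev γ X33) = 3 := by
    have := o33 h F
    rwa [Subgroup.orderOf_mk] at this
  have hc0 : cc γ 0 ∈ E γ := c_mem_E h (Or.inl rfl)
  have hc0a : cc γ 0 * γ 1 = γ 1 * cc γ 0 := (h.Q_comm (E_le h hc0)).symm
  have hcc : cc γ 0 * cc γ 0 = 1 := h.data.cc 0
  have hc1 : cc γ 0 ≠ 1 := by
    intro h1
    have h2 := mask_c h.data 0
    rw [h1] at h2
    exact absurd (unique h.data h2 (mask_one h.data)) (by decide +kernel)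
  have hc0ne : cc γ 0 ≠ γ 1 := by
    intro h1
    have h2 := mask_c h.data 0
    rw [h1] at h2
    exact absurd (unique h.data h2 (mask_a h.data)) (by decide +kernel)
  have hcH : cc γ 0 ∈ centralizer ({ev γ X33} : Set G) := hc0.2
  have haH : γ 1 ∈ centralizer ({ev γ X33} : Set G) :=
    mem_centralizer_singleton_iff.2 (h.mem_C.1 (ev_mem_sub c33)).symm
  have hcent : ∀ R : Subgroup G, IsPGroup 3 R → R ≤ centralizer ({ev γ X33} : Set G) →
      (∀ c ∈ centralizer ({ev γ X33} : Set G), ∀ z ∈ R, c * z * c⁻¹ ∈ R) →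
      ∀ z ∈ R, γ 1 * z = z * γ 1 := by
    intro R hR hRC hRn
    have hodd : Odd (Nat.card R) := by
      obtain ⟨k, hk⟩ := IsPGroup.iff_card.1 hR
      rw [hk]
      exact Odd.pow (by decide)
    refine four_cent (H := centralizer ({ev γ X33} : Set G)) (E := Q0 γ) hodd hRn hRC
      (IsPGroup.of_card (n := 9) (by rw [h.cardQ]; norm_num)) (s := γ 1) (e := cc γ 0) haH hcH h.aa hcc hc0a.symm
      (E_le h hc0) h.a_mem ?_ ?_ ?_
    · intro c _ hcs z hz
      have h1 := h.Q_conj (_root_.InvMemClass.inv_mem (h.mem_C.2 hcs)) hz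
      rwa [inv_inv] at h1
    · exact th_conj h hone _ hcH (orderOf_eq_prime (by rw [pow_two, hcc]) hc1)
    · refine th_conj h hone _ (mul_mem haH hcH) (orderOf_eq_prime ?_ ?_)
      · rw [pow_two]
        calc γ 1 * cc γ 0 * (γ 1 * cc γ 0) = γ 1 * (cc γ 0 * γ 1) * cc γ 0 := by group
          _ = γ 1 * (γ 1 * cc γ 0) * cc γ 0 := by rw [hc0a]
          _ = (γ 1 * γ 1) * (cc γ 0 * cc γ 0) := by group
          _ = 1 := by rw [h.aa, hcc, one_mul]
      · intro h1
        apply hc0ne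
        calc cc γ 0 = (γ 1 * γ 1) * cc γ 0 := by rw [h.aa, one_mul]
          _ = γ 1 * (γ 1 * cc γ 0) := by group
          _ = γ 1 := by rw [h1, mul_one]
  obtain ⟨P, hP⟩ := exists_P hl hox
  have h1 := hP.self (γ 1) fun z hz => hcent P hP.pg hP.le
    (fun c hc z hz => hP.norm c (mem_centralizer_singleton_iff.1 hc) z hz) z hz
  obtain ⟨k, hk⟩ := hP.pg ⟨γ 1, h1⟩
  have hk' : (γ 1) ^ 3 ^ k = 1 := congrArg Subtype.val hk
  have h2 : orderOf (γ 1) = 2 := orderOf_eq_prime (by rw [pow_two]; exact h.aa) h.a1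
  have h3 := orderOf_dvd_of_pow_eq_one hk'
  rw [h2] at h3
  have h4 := Nat.prime_two.dvd_of_dvd_pow h3
  norm_num at h4

end

theorem not_loc_th {K : Type u} [Group K] [Finite K] (h : Spor.IsoTh K) : ¬ Loc 3 K := by
  intro hl
  obtain ⟨e⟩ := h
  have hl' : Loc 3 Spor.Th := hl.congr e
  have hfin : Finite Spor.Th := Finite.of_equiv K e.toEquiv
  exact th_aux Cfsg.Agent.KFacts.Th.Main.ctx
    (fun u hu => isConj_iff.1 (Cfsg.Agent.MonsterX.ThOneClass.oneClass u (Cfsg.Agent.Th.IndexUpper.gTh 1) hu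
      Cfsg.Agent.MonsterX.ThOneClass.orderOf_a)) hl'

end Cfsg.Agent.H182.LP
end

-- part: H182/LP/SporF
section
/-!
# `Fi24'` is not of local characteristic 3 (helper182, piece (X) of S3046)

The centraliser of the product of the generators `l`, `k` contains `Ω7(3)` (after `H978.NB.FiTF`, helper978).
-/

set_option autoImplicit false

namespace Cfsg.Agent.H182.LP.FiTF

open Cfsg Subgroup
open Cfsg.Agent.Fischer.Fi24RepDef Cfsg.Agent.Fischer.Fi24Rep Cfsg.Agent.Fischer.Y322 Cfsg.Agent.Fischer.Y322Iso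
open Cfsg.Agent.R08.FiTwentyFour (index_commutator odd)
open Cfsg.Spor (Fi24 Fi24')
open Cfsg.Agent.H238 (Loc)

universe u

theorem phi_mem_comm (x : H8) : Cfsg.Agent.H840.Lk.phi x ∈ _root_.commutator Fi24 := by
  let q : H8 →* Fi24 ⧸ _root_.commutator Fi24 := (QuotientGroup.mk' (_root_.commutator Fi24)).comp Cfsg.Agent.H840.Lk.phi
  have hs := simple_H8
  have hq : q.ker = ⊤ := by
    rcases (inferInstance : q.ker.Normal).eq_bot_or_eq_top with h | h
    · exfalso
      have h1 : Nat.card H8 ∣ Nat.card (Fi24 ⧸ _root_.commutator Fi24) := by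
        rw [Nat.card_congr (MonoidHom.ofInjective ((MonoidHom.ker_eq_bot_iff q).1 h)).toEquiv]
        exact card_subgroup_dvd_card _
      have h2 : Nat.card (Fi24 ⧸ _root_.commutator Fi24) = 2 := index_commutator
      rw [h2, card_H8] at h1
      revert h1
      norm_num
    · exact h
  have h1 : x ∈ q.ker := by rw [hq]; exact mem_top x
  exact (QuotientGroup.eq_one_iff _).1 h1

theorem mem_lk : gen .l * gen .k ∈ _root_.commutator Fi24 :=
  (Subgroup.mul_mem_iff_of_index_two index_commutator).2 (iff_of_false (odd (Cfsg.Agent.H840.Lk.gen_mem .l))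
    (odd (Cfsg.Agent.H840.Lk.gen_mem .k)))


theorem not_loc {K : Type u} [Group K] [Finite K] (h : Spor.IsoFi24' K) : ¬ Loc 3 K := by
  intro hl
  obtain ⟨e⟩ := h
  have hl' : Loc 3 Fi24' := hl.congr e
  have hfin : Finite Fi24' := Finite.of_equiv K e.toEquiv
  have h3 : Fact (Nat.Prime 3) := ⟨Nat.prime_three⟩
  have hs := simple_H8
  have hf : Finite H8 := Nat.finite_of_card_ne_zero (by rw [card_H8]; norm_num)
  let y : Fi24' := ⟨gen .l * gen .k, mem_lk⟩
  have hy : orderOf y = 3 := by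
    rw [Subgroup.orderOf_mk, Cfsg.Agent.H843.OCSpor.order_lk]
  let f : H8 →* Fi24' := Cfsg.Agent.H840.Lk.phi.codRestrict (_root_.commutator Fi24) phi_mem_comm
  have hfi : Function.Injective f := fun a b hab => Cfsg.Agent.H840.Lk.phi_injective (congrArg Subtype.val hab)
  have hfc : ∀ x, f x * y = y * f x := by
    intro x
    apply Subtype.ext
    show Cfsg.Agent.H840.Lk.phi x * (gen .l * gen .k) = gen .l * gen .k * Cfsg.Agent.H840.Lk.phi x
    obtain ⟨h1, h2⟩ := Cfsg.Agent.H840.Lk.mem_Clk.1 (Cfsg.Agent.H840.Lk.B8_le_Clk (Cfsg.Agent.H840.Lk.phi_mem x))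
    exact (Commute.mul_right h1 h2).eq
  have hC : Nat.card ↥(centralizer ({y} : Set Fi24')) ∣ 3 * 29713078886400 := by
    have := Cfsg.Agent.H843.OCSpor.finite_fi24
    refine Dvd.dvd.trans ?_ Cfsg.Agent.H843.OCSpor.card_cent_lk_dvd
    rw [← card_map_of_injective (K := centralizer ({y} : Set Fi24')) (Subgroup.subtype_injective (commutator Fi24))]
    refine card_dvd_of_le ?_
    rintro _ ⟨x, hx, rfl⟩
    rw [mem_centralizer_singleton_iff]
    exact congrArg Subtype.val (mem_centralizer_singleton_iff.1 hx)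
  refine no_simple hl' (r := 7) (a := 6) hy f hfi hfc (by norm_num) (by norm_num) (by rw [card_H8]; norm_num) ?_ hC ?_
  · intro j hj1 hj2
    interval_cases j <;> norm_num
  · rw [card_H8]
    norm_num

end Cfsg.Agent.H182.LP.FiTF
end

-- part: H182/LP/SporM
section
/-!
# The Monster is not of local characteristic 3, 5, 7 (helper182, piece (X) of S3046)

`3.Fi24'`, `5 × HN`, `7 × He`. `exists_five`, `exists_three` are from `H872.NB.M` (helper872).
-/

set_option autoImplicit false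

namespace Cfsg.Agent.H182.LP.M

open Cfsg Subgroup
open Cfsg.Agent.MonsterX
open Cfsg.Agent.H238 (Loc)

universe u

theorem card_M : Nat.card Spor.Monster = 808017424794512875886459904961710757005754368000000000 :=
  Cfsg.Agent.MonsterP.Equiv.isM.2

theorem finite_M : Finite Spor.Monster := Nat.finite_of_card_ne_zero (by rw [card_M]; norm_num)

/-- commuting elements of orders 5 and 19 -/
theorem exists_five : ∃ x z : Spor.Monster, orderOf x = 5 ∧ orderOf z = 19 ∧ z * x = x * z := by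
  obtain ⟨e⟩ : Nonempty (Spor.Monster ≃* ↥Conc.G) := Cfsg.Agent.MonsterP.Equiv.equiv
  have hfin := finite_M
  obtain ⟨x, hx, K, hK, hHN⟩ := HNFive.five InstanceFinal.pack Instance.mTrans Cfsg.Agent.S1701.result
  have h19 : Fact (Nat.Prime 19) := ⟨by norm_num⟩
  have hcK : Nat.card K = 273030912000000 := hHN.2
  have hfK : Finite K := Nat.finite_of_card_ne_zero (by rw [hcK]; norm_num)
  obtain ⟨z, hz⟩ := exists_prime_orderOf_dvd_card' (G := K) 19 (by rw [hcK]; norm_num)
  have h1 : (z : Conc.G) * x = x * z := mem_centralizer_singleton_iff.1 (hK z.2)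
  refine ⟨e.symm x, e.symm (z : Conc.G), ?_, ?_, ?_⟩
  · exact (MulEquiv.orderOf_eq e.symm x).trans hx
  · exact (MulEquiv.orderOf_eq e.symm _).trans ((Subgroup.orderOf_coe z).trans hz)
  · rw [← map_mul, h1, map_mul]

/-- commuting elements of orders 3 and 29 -/
theorem exists_three : ∃ x z : Spor.Monster, orderOf x = 3 ∧ orderOf z = 29 ∧ z * x = x * z := by
  have hfin := finite_M
  obtain ⟨X, N, hX, hN, ⟨hn, ⟨f⟩⟩, -⟩ := Cfsg.Agent.S5535.result
  have h29 : Fact (Nat.Prime 29) := ⟨by norm_num⟩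
  have h3 : Fact (Nat.Prime 3) := ⟨Nat.prime_three⟩
  have hc : Nat.card ↥(_root_.commutator Cfsg.Spor.Fi24) = 1255205709190661721292800 :=
    Cfsg.Agent.R08.FiTwentyFour.card_commutator
  have hd : 29 ∣ Nat.card N := by
    have h1 : Nat.card ↥(_root_.commutator Cfsg.Spor.Fi24) ∣ Nat.card Cfsg.Spor.Fi24 := card_subgroup_dvd_card _
    rw [hc, ← Nat.card_congr f.toEquiv] at h1
    have h2 : Nat.card (↥N ⧸ X.subgroupOf N) ∣ Nat.card N := card_quotient_dvd_card _
    exact (show 29 ∣ 1255205709190661721292800 by norm_num).trans (h1.trans h2)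
  obtain ⟨z, hz⟩ := exists_prime_orderOf_dvd_card' (G := N) 29 hd
  obtain ⟨x, hx⟩ := exists_prime_orderOf_dvd_card' (G := X) 3 (by rw [hX])
  have hxo : orderOf (x : Spor.Monster) = 3 := by rw [Subgroup.orderOf_coe, hx]
  have hzo : orderOf (z : Spor.Monster) = 29 := by rw [Subgroup.orderOf_coe, hz]
  refine ⟨x, z, hxo, hzo, ?_⟩
  have hXz : zpowers (x : Spor.Monster) = X := by
    refine eq_of_le_of_card_ge (by rw [zpowers_le]; exact x.2) ?_
    rw [Nat.card_zpowers, hxo, hX]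
  have hzN : (z : Spor.Monster) ∈ normalizer (X : Set Spor.Monster) := by rw [← hN]; exact z.2
  have hm : (z : Spor.Monster) * x * (z : Spor.Monster)⁻¹ ∈ zpowers (x : Spor.Monster) := by
    rw [hXz]
    exact (mem_normalizer_iff.1 hzN _).1 x.2
  classical
  have hfo : IsOfFinOrder (x : Spor.Monster) := isOfFinOrder_of_finite _
  obtain ⟨i, hi, hix⟩ : ∃ i < 3, (x : Spor.Monster) ^ i = (z : Spor.Monster) * x * (z : Spor.Monster)⁻¹ := by
    have h1 := hfo.mem_zpowers_iff_mem_range_orderOf.1 hm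
    rw [Finset.mem_image, hxo] at h1
    obtain ⟨i, hi, h2⟩ := h1
    exact ⟨i, Finset.mem_range.1 hi, h2⟩
  generalize (z : Spor.Monster) = w at *
  generalize (x : Spor.Monster) = y at *
  have hy3 : y ^ 3 = 1 := by rw [← hxo, pow_orderOf_eq_one]
  -- `w ^ 2` commutes with `y`
  have h2 : (w * w) * y * (w * w)⁻¹ = y := by
    have h5 : (w * w) * y * (w * w)⁻¹ = y ^ (i * i) := by
      calc (w * w) * y * (w * w)⁻¹ = w * (w * y * w⁻¹) * w⁻¹ := by group
        _ = w * y ^ i * w⁻¹ := by rw [← hix]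
        _ = (w * y * w⁻¹) ^ i := by rw [conj_pow]
        _ = (y ^ i) ^ i := by rw [← hix]
        _ = y ^ (i * i) := by rw [← pow_mul]
    rw [h5]
    interval_cases i
    · exfalso
      have h6 : w * y * w⁻¹ = 1 := by rw [← hix, pow_zero]
      rw [conj_eq_one_iff] at h6
      rw [h6, orderOf_one] at hxo
      norm_num at hxo
    · rw [one_mul, pow_one]
    · rw [show 2 * 2 = 3 + 1 from rfl, pow_succ, hy3, one_mul]
  have h4 : Commute (w * w) y := mul_inv_eq_iff_eq_mul.1 h2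
  have h5 : (w * w) ^ 15 = w := by
    rw [← pow_two, ← pow_mul]
    have h6 : w ^ 29 = 1 := by rw [← hzo, pow_orderOf_eq_one]
    rw [show 2 * 15 = 29 + 1 from rfl, pow_succ, h6, one_mul]
  have h6 := h4.pow_left 15
  rw [h5] at h6
  exact h6.eq


/-- commuting elements of orders 7 and 17 -/
theorem exists_seven : ∃ x z : Spor.Monster, orderOf x = 7 ∧ orderOf z = 17 ∧ z * x = x * z := by
  obtain ⟨e⟩ : Nonempty (Spor.Monster ≃* ↥Conc.G) := Cfsg.Agent.MonsterP.Equiv.equiv
  have hfin := finite_M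
  obtain ⟨x, hx, K, hK, hHe⟩ := HeM.Main.he_part InstanceFinal.pack Cfsg.Agent.S1695.result
  have h17 : Fact (Nat.Prime 17) := ⟨by norm_num⟩
  have hcK : Nat.card K = 4030387200 := hHe.2
  have hfK : Finite K := Nat.finite_of_card_ne_zero (by rw [hcK]; norm_num)
  obtain ⟨z, hz⟩ := exists_prime_orderOf_dvd_card' (G := K) 17 (by rw [hcK]; norm_num)
  have h1 : (z : Conc.G) * x = x * z := mem_centralizer_singleton_iff.1 (hK z.2)
  refine ⟨e.symm x, e.symm (z : Conc.G), ?_, ?_, ?_⟩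
  · exact (MulEquiv.orderOf_eq e.symm x).trans hx
  · exact (MulEquiv.orderOf_eq e.symm _).trans ((Subgroup.orderOf_coe z).trans hz)
  · rw [← map_mul, h1, map_mul]

theorem not_loc_three {K : Type u} [Group K] [Finite K] (h : Spor.IsoM K) : ¬ Loc 3 K := by
  intro hl
  obtain ⟨e⟩ := h
  have hfin := finite_M
  have h3 : Fact (Nat.Prime 3) := ⟨Nat.prime_three⟩
  obtain ⟨x, z, hx, hz, hzx⟩ := exists_three
  refine no_commute' (hl.congr e) (r := 29) (a := 20) hx (by norm_num) (by norm_num) hz hzx ?_ ?_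
  · rw [card_M]
    norm_num
  · intro j hj1 hj2
    interval_cases j <;> norm_num

theorem not_loc_five {K : Type u} [Group K] [Finite K] (h : Spor.IsoM K) : ¬ Loc 5 K := by
  intro hl
  obtain ⟨e⟩ := h
  have hfin := finite_M
  have h3 : Fact (Nat.Prime 5) := ⟨Nat.prime_five⟩
  obtain ⟨x, z, hx, hz, hzx⟩ := exists_five
  refine no_commute' (hl.congr e) (r := 19) (a := 9) hx (by norm_num) (by norm_num) hz hzx ?_ ?_
  · rw [card_M]
    norm_num
  · intro j hj1 hj2
    interval_cases j <;> norm_num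

theorem not_loc_seven {K : Type u} [Group K] [Finite K] (h : Spor.IsoM K) : ¬ Loc 7 K := by
  intro hl
  obtain ⟨e⟩ := h
  have hfin := finite_M
  have h3 : Fact (Nat.Prime 7) := ⟨by norm_num⟩
  obtain ⟨x, z, hx, hz, hzx⟩ := exists_seven
  refine no_commute' (hl.congr e) (r := 17) (a := 6) hx (by norm_num) (by norm_num) hz hzx ?_ ?_
  · rw [card_M]
    norm_num
  · intro j hj1 hj2
    interval_cases j <;> norm_num

end Cfsg.Agent.H182.LP.M
end

-- part: H182/LP/Spor
section
/-!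
# Sporadic groups of local characteristic `p`, `p` odd (helper182, piece (X) of S3046)

`spor` : a sporadic group of local characteristic `p`, `p` odd, `p ^ 4` dividing the order, is `McL` (`p = 3`) or `Ly`
(`p = 5`). `not_tits`: `p ^ 4` does not divide the order of the Tits group.
-/

set_option autoImplicit false
set_option maxRecDepth 100000

namespace Cfsg.Agent.H182.LP

open Cfsg Subgroup
open Cfsg.Agent.H238 (Loc)

universe u

theorem prime_cases {p : ℕ} (hp : p.Prime) : ∀ l : List ℕ, (∀ q ∈ l, q.Prime) → p ∣ l.prod → p ∈ l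
  | [], _, h => by
    rw [List.prod_nil, Nat.dvd_one] at h
    exact absurd h hp.one_lt.ne'
  | a :: l, hl, h => by
    rw [List.prod_cons] at h
    rcases hp.dvd_mul.1 h with h1 | h1
    · rw [(Nat.prime_dvd_prime_iff_eq hp (hl a List.mem_cons_self)).1 h1]
      exact List.mem_cons_self
    · exact List.mem_cons_of_mem _ (prime_cases hp l (fun q hq => hl q (List.mem_cons_of_mem _ hq)) h1)

theorem cases4 {p : ℕ} (hp : p.Prime) (hp2 : p ≠ 2) {n : ℕ} (l : List ℕ) (hl : ∀ q ∈ l, q.Prime) (N : ℕ)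
    (hn : n ∣ l.prod ^ N) (h4 : p ^ 4 ∣ n) (l' : List ℕ)
    (hf : l.filter (fun q => decide (q ≠ 2) && decide (q ^ 4 ∣ n)) = l') : p ∈ l' := by
  have h1 : p ∈ l := prime_cases hp l hl (hp.dvd_of_dvd_pow (((dvd_pow_self p (by norm_num)).trans h4).trans hn))
  rw [← hf, List.mem_filter]
  exact ⟨h1, by simp [hp2, h4]⟩

variable {K : Type u} [Group K] [Finite K] {p : ℕ} [hp : Fact p.Prime]

/-- **Sporadic groups of local characteristic `p`.** -/
theorem spor (hp2 : p ≠ 2) (hK : IsSporadicGroup K) (hl : Loc p K) (h4 : p ^ 4 ∣ Nat.card K) :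
    (p = 3 ∧ Spor.IsoMcL K) ∨ (p = 5 ∧ Spor.IsoLy K) := by
  rcases hK with h | h | h | h | h | h | h | h | h | h | h | h | h | h | h | h | h | h | h | h | h | h | h | h | h | h
  · exfalso
    rw [NotCT.Orders.m11 h] at h4
    have := cases4 hp.out hp2 [2, 3, 5, 11] (by decide) 10 (by norm_num) h4 [] (by decide +kernel)
    simp at this
  · exfalso
    rw [NotCT.Orders.m12 h] at h4
    have := cases4 hp.out hp2 [2, 3, 5, 11] (by decide) 10 (by norm_num) h4 [] (by decide +kernel)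
    simp at this
  · exfalso
    rw [NotCT.Orders.m22 h] at h4
    have := cases4 hp.out hp2 [2, 3, 5, 7, 11] (by decide) 10 (by norm_num) h4 [] (by decide +kernel)
    simp at this
  · exfalso
    rw [NotCT.Orders.m23 h] at h4
    have := cases4 hp.out hp2 [2, 3, 5, 7, 11, 23] (by decide) 10 (by norm_num) h4 [] (by decide +kernel)
    simp at this
  · exfalso
    rw [NotCT.Orders.m24 h] at h4
    have := cases4 hp.out hp2 [2, 3, 5, 7, 11, 23] (by decide) 10 (by norm_num) h4 [] (by decide +kernel)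
    simp at this
  · exfalso
    rw [NotCT.Orders.j1 h] at h4
    have := cases4 hp.out hp2 [2, 3, 5, 7, 11, 19] (by decide) 10 (by norm_num) h4 [] (by decide +kernel)
    simp at this
  · exfalso
    rw [NotCT.Orders.j2 h] at h4
    have := cases4 hp.out hp2 [2, 3, 5, 7] (by decide) 10 (by norm_num) h4 [] (by decide +kernel)
    simp at this
  · exfalso
    have h5 := h4
    rw [NotCT.Orders.j3 h] at h5
    have := cases4 hp.out hp2 [2, 3, 5, 17, 19] (by decide) 10 (by norm_num) h5 [3] (by decide +kernel)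
    simp only [List.mem_singleton] at this
    subst this
    exact not_loc_j3 h hl
  · exfalso
    rw [NotCT.Orders.j4 h] at h4
    have := cases4 hp.out hp2 [2, 3, 5, 7, 11, 23, 29, 31, 37, 43] (by decide +kernel) 21 (by norm_num) h4 []
      (by decide +kernel)
    simp at this
  · exfalso
    have h5 := h4
    rw [NotCT.Orders.co1 h] at h5
    have := cases4 hp.out hp2 [2, 3, 5, 7, 11, 13, 23] (by decide) 21 (by norm_num) h5 [3, 5] (by decide +kernel)
    simp only [List.mem_cons, List.not_mem_nil, or_false] at this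
    rcases this with rfl | rfl
    · exact not_loc_co1_three h hl
    · exact not_loc_co1_five h hl
  · exfalso
    have h5 := h4
    rw [NotCT.Orders.co2 h] at h5
    have := cases4 hp.out hp2 [2, 3, 5, 7, 11, 23] (by decide) 18 (by norm_num) h5 [3] (by decide +kernel)
    simp only [List.mem_singleton] at this
    subst this
    exact H240.NotLoc.not_loc_co2 h hl
  · exfalso
    have h5 := h4
    rw [NotCT.Orders.co3 h] at h5
    have := cases4 hp.out hp2 [2, 3, 5, 7, 11, 23] (by decide) 18 (by norm_num) h5 [3] (by decide +kernel)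
    simp only [List.mem_singleton] at this
    subst this
    exact not_loc_co3 h hl
  · left
    have h5 := h4
    rw [NotCT.Orders.mcl h] at h5
    have := cases4 hp.out hp2 [2, 3, 5, 7, 11] (by decide) 18 (by norm_num) h5 [3] (by decide +kernel)
    simp only [List.mem_singleton] at this
    exact ⟨this, h⟩
  · exfalso
    rw [NotCT.Orders.hs h] at h4
    have := cases4 hp.out hp2 [2, 3, 5, 7, 11] (by decide) 10 (by norm_num) h4 [] (by decide +kernel)
    simp at this
  · exfalso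
    have h5 := h4
    rw [NotCT.Orders.suz h] at h5
    have := cases4 hp.out hp2 [2, 3, 5, 7, 11, 13] (by decide) 18 (by norm_num) h5 [3] (by decide +kernel)
    simp only [List.mem_singleton] at this
    subst this
    exact not_loc_suz h hl
  · exfalso
    rw [NotCT.Orders.he h] at h4
    have := cases4 hp.out hp2 [2, 3, 5, 7, 17] (by decide) 10 (by norm_num) h4 [] (by decide +kernel)
    simp at this
  · exfalso
    rw [NotCT.Orders.ru h] at h4
    have := cases4 hp.out hp2 [2, 3, 5, 7, 13, 29] (by decide) 14 (by norm_num) h4 [] (by decide +kernel)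
    simp at this
  · exfalso
    have h5 := h4
    rw [NotCT.Orders.on h] at h5
    have := cases4 hp.out hp2 [2, 3, 5, 7, 11, 19, 31] (by decide) 18 (by norm_num) h5 [3] (by decide +kernel)
    simp only [List.mem_singleton] at this
    subst this
    exact not_loc_on h hl
  · have h5 := h4
    rw [NotCT.Orders.ly h] at h5
    have := cases4 hp.out hp2 [2, 3, 5, 7, 11, 31, 37, 67] (by decide +kernel) 18 (by norm_num) h5 [3, 5] (by decide +kernel)
    simp only [List.mem_cons, List.not_mem_nil, or_false] at this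
    rcases this with rfl | rfl
    · exact absurd hl (not_loc_ly h)
    · exact Or.inr ⟨rfl, h⟩
  · exfalso
    have h5 := h4
    rw [NotCT.Orders.fi22 h] at h5
    have := cases4 hp.out hp2 [2, 3, 5, 7, 11, 13] (by decide) 18 (by norm_num) h5 [3] (by decide +kernel)
    simp only [List.mem_singleton] at this
    subst this
    exact H240.NotLoc.not_loc_fi22 h hl
  · exfalso
    have h5 := h4
    rw [NotCT.Orders.fi23 h] at h5
    have := cases4 hp.out hp2 [2, 3, 5, 7, 11, 13, 17, 23] (by decide) 18 (by norm_num) h5 [3] (by decide +kernel)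
    simp only [List.mem_singleton] at this
    subst this
    exact H240.NotLoc.not_loc_fi23 h hl
  · exfalso
    have h5 := h4
    rw [NotCT.Orders.fi24 h] at h5
    have := cases4 hp.out hp2 [2, 3, 5, 7, 11, 13, 17, 23, 29] (by decide) 21 (by norm_num) h5 [3] (by decide +kernel)
    simp only [List.mem_singleton] at this
    subst this
    exact FiTF.not_loc h hl
  · exfalso
    have h5 := h4
    rw [NotCT.Orders.hn h] at h5
    have := cases4 hp.out hp2 [2, 3, 5, 7, 11, 19] (by decide) 21 (by norm_num) h5 [3, 5] (by decide +kernel)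
    simp only [List.mem_cons, List.not_mem_nil, or_false] at this
    rcases this with rfl | rfl
    · exact not_loc_hn_three h hl
    · exact not_loc_hn_five h hl
  · exfalso
    have h5 := h4
    rw [NotCT.Orders.th h] at h5
    have := cases4 hp.out hp2 [2, 3, 5, 7, 13, 19, 31] (by decide) 18 (by norm_num) h5 [3] (by decide +kernel)
    simp only [List.mem_singleton] at this
    subst this
    exact not_loc_th h hl
  · exfalso
    have h5 := h4
    rw [NotCT.Orders.b h] at h5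
    have := cases4 hp.out hp2 [2, 3, 5, 7, 11, 13, 17, 19, 23, 31, 47] (by decide +kernel) 41 (by norm_num) h5 [3, 5]
      (by decide +kernel)
    simp only [List.mem_cons, List.not_mem_nil, or_false] at this
    rcases this with rfl | rfl
    · exact H240.NotLoc.not_loc_b h hl
    · exact H240.NotLoc.not_loc_b_five h hl
  · exfalso
    have h5 := h4
    rw [NotCT.Orders.m h] at h5
    have := cases4 hp.out hp2 [2, 3, 5, 7, 11, 13, 17, 19, 23, 29, 31, 41, 47, 59, 71] (by decide +kernel) 46 (by norm_num) h5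
      [3, 5, 7] (by decide +kernel)
    simp only [List.mem_cons, List.not_mem_nil, or_false] at this
    rcases this with rfl | rfl | rfl
    · exact M.not_loc_three h hl
    · exact M.not_loc_five h hl
    · exact M.not_loc_seven h hl

/-- the Tits group -/
theorem not_tits (hp2 : p ≠ 2) (h : Lie.IsoTits K) (h4 : p ^ 4 ∣ Nat.card K) : False := by
  rw [NotCT.Orders.tits h] at h4
  have := cases4 hp.out hp2 [2, 3, 5, 13] (by decide) 11 (by norm_num) h4 [] (by decide +kernel)
  simp at this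

end Cfsg.Agent.H182.LP
end

-- part: H250/LP/Psu
section
/-!
# `PSU_n(q)` is not of local characteristic `p`, `p` odd, `p ∤ q`, nonabelian Sylow subgroup, rank at least 3,
except `PSU₄(2)` for `p = 3` (helper250)

Piece (X) of S3046.
-/

set_option autoImplicit false
set_option linter.unusedSectionVars false

namespace Cfsg.Agent.H250.LP

open Subgroup Cfsg Cfsg.Agent.BpLin Matrix Cfsg.Agent.H236
open Cfsg.Agent.H238 (Loc)
open Cfsg.Agent.H674.SUTools Cfsg.Agent.H674.SUBlock Cfsg.Agent.LieClassical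

universe u v

section SU

variable {F : Type u} [Field F] [Fintype F] {d k q : ℕ}

theorem not_ws_blkSU {r : ℕ} [Fact r.Prime] (hF : Fintype.card F = q ^ 2) (hd : ¬ WS r ↥(SU d F q)) {a : F}
    {B : Matrix (Fin k) (Fin k) F} {Z : SU (d + k) F q} (hZ : cm Z = blk (a • 1) B) :
    ¬ WS r ↥(centralizer ({Z} : Set (SU (d + k) F q))) := by
  intro h
  have hc : ∀ x : SU d F q, _root_.Cfsg.Agent.H674.SUBlock.ext hF k x ∈ centralizer ({Z} : Set (SU (d + k) F q)) := by
    intro x
    rw [mem_centralizer_singleton_iff]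
    apply cm_injective
    rw [map_mul, map_mul, cm_ext, hZ, ← blk_mul, ← blk_mul, one_mul, mul_one, mul_smul_comm, smul_mul_assoc,
      one_mul, mul_one]
  refine hd (h.of_injective ((_root_.Cfsg.Agent.H674.SUBlock.ext hF k).codRestrict _ hc) ?_)
  intro x y hxy
  exact ext_injective hF (congrArg Subtype.val hxy)

/-- an element of `SU` of order `p` that is not central -/
theorem ws_lift_su {K : Type v} [Group K] [Finite K] [IsSimpleGroup K] {p r : ℕ} [Fact p.Prime] [hr : Fact r.Prime]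
    (hpr : p ≠ r) (hK : IsLieTypeChar r K) (hl : Loc p K) {n : ℕ} (e : K ≃* PSU n F q) {Z : SU n F q} (hZp : Z ^ p = 1)
    (hZ : Z ∉ Subgroup.center (SU n F q)) : WS r ↥(centralizer ({Z} : Set (SU n F q))) := by
  have hzo : orderOf (QuotientGroup.mk' (Subgroup.center (SU n F q)) Z) = p := by
    apply orderOf_eq_prime
    · rw [← map_pow, hZp, map_one]
    · intro h
      exact hZ ((QuotientGroup.eq_one_iff _).1 h)
  exact ws_lift (π := QuotientGroup.mk' (Subgroup.center (SU n F q))) (by rw [QuotientGroup.ker_mk'])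
    (ws_of_loc hpr hK hl e hzo)

/-- `diag(1, …, 1, c, c⁻¹)` -/
theorem exists_diag {p : ℕ} (hF : Fintype.card F = q ^ 2) (hd : 1 ≤ d) {c : F} (hcp : c ^ p = 1)
    (hcq : c ^ (q + 1) = 1) (hc1 : c ≠ 1) :
    ∃ Z : SU (d + 2) F q, cm Z = blk ((1 : F) • 1) (Matrix.diagonal ![c, c⁻¹]) ∧ Z ^ p = 1 ∧
      Z ∉ Subgroup.center (SU (d + 2) F q) := by
  have hc0 : c ≠ 0 := by
    rintro rfl
    rw [zero_pow (Nat.succ_ne_zero q)] at hcq
    exact zero_ne_one hcq
  let B : Matrix (Fin 2) (Fin 2) F := Matrix.diagonal ![c, c⁻¹]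
  have hBB : ∀ k : ℕ, B ^ k = Matrix.diagonal ![c ^ k, c⁻¹ ^ k] := by
    intro k
    rw [Matrix.diagonal_pow]
    congr 1
    funext i
    fin_cases i <;> rfl
  have hdet : B.det = 1 := by
    rw [Matrix.det_diagonal, Fin.prod_univ_two]
    exact mul_inv_cancel₀ hc0
  have hiso : Bᵀ * B.map (GUOrder.frob hF) = 1 := by
    rw [Matrix.diagonal_transpose, Matrix.diagonal_map (map_zero _), Matrix.diagonal_mul_diagonal, ← Matrix.diagonal_one]
    congr 1
    funext i
    fin_cases i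
    · change c * c ^ q = 1
      rw [← pow_succ', hcq]
    · change c⁻¹ * c⁻¹ ^ q = 1
      rw [← pow_succ', inv_pow, hcq, inv_one]
  let Z : SU (d + 2) F q := mkSU hF (blk (1 : Matrix (Fin d) (Fin d) F) B) (by rw [det_blk, hdet, Matrix.det_one, one_mul])
    (isom_blk hF (isom_one hF) hiso)
  have hcmZ : cm Z = blk (1 : Matrix (Fin d) (Fin d) F) B := cm_mkSU hF _ _ _
  have hpow : ∀ k : ℕ, cm Z ^ k = blk (1 : Matrix (Fin d) (Fin d) F) (B ^ k) := by
    intro k
    induction k with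
    | zero => rw [pow_zero, pow_zero, blk_one]
    | succ k ih => rw [pow_succ, ih, hcmZ, ← blk_mul, one_mul, ← pow_succ]
  refine ⟨Z, by rw [one_smul]; exact hcmZ, ?_, ?_⟩
  · rw [← cm_eq_one_iff, map_pow, hpow, hBB, hcp, inv_pow, hcp, inv_one, ← blk_one, ← Matrix.diagonal_one]
    congr 2
    funext i
    fin_cases i <;> rfl
  · intro hc
    obtain ⟨b, hcn, hcq', h1⟩ := (SUBasic.mem_center_SU_iff hF (by omega) _).1 hc
    have hd' : NeZero d := ⟨by omega⟩
    have h3 : blk (1 : Matrix (Fin d) (Fin d) F) B = Matrix.diagonal (fun _ => b) := by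
      rw [← hcmZ, h1]
      rfl
    have h4 := congrFun (congrFun h3 (Fin.castAdd 2 0)) (Fin.castAdd 2 0)
    rw [blk_castAdd, Matrix.one_apply_eq, Matrix.diagonal_apply_eq] at h4
    have h5 := congrFun (congrFun h3 (Fin.natAdd d 0)) (Fin.natAdd d 0)
    rw [blk_natAdd, Matrix.diagonal_apply_eq, ← h4] at h5
    exact hc1 h5

/-- `diag(w, w, w, w, w²)` in `SU₅(2)` -/
theorem exists_five (hF : Fintype.card F = 2 ^ 2) :
    ∃ (Z : SU (4 + 1) F 2) (w : F), cm Z = blk (w • 1) (w ^ 2 • 1) ∧ Z ^ 3 = 1 ∧ Z ∉ Subgroup.center (SU (4 + 1) F 2) := by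
  obtain ⟨w, hw, h2⟩ := exists_omega (F := F) (by rw [Nat.card_eq_fintype_card, hF]; norm_num)
  have hw3 : w ^ 3 = 1 := by linear_combination (w - 1) * hw
  have hw1 : w ≠ 1 := by
    rintro rfl
    have : (1 : F) = 0 := by linear_combination hw - h2
    exact one_ne_zero this
  have hsc : ∀ (m : ℕ) (a : F), a ^ 3 = 1 → (a • (1 : Matrix (Fin m) (Fin m) F))ᵀ * (a • (1 : Matrix (Fin m) (Fin m) F)).map
      (GUOrder.frob hF) = 1 := by
    intro m a ha
    rw [Matrix.smul_one_eq_diagonal, Matrix.diagonal_transpose, Matrix.diagonal_map (map_zero _),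
      Matrix.diagonal_mul_diagonal, ← Matrix.diagonal_one]
    congr 1
    funext i
    change a * a ^ 2 = 1
    rw [← pow_succ', ha]
  have hdet : (blk (w • (1 : Matrix (Fin 4) (Fin 4) F)) (w ^ 2 • (1 : Matrix (Fin 1) (Fin 1) F))).det = 1 := by
    rw [det_blk, Matrix.det_smul, Matrix.det_smul, Matrix.det_one, Matrix.det_one, Fintype.card_fin, Fintype.card_fin]
    linear_combination (w ^ 3 + 1) * hw3
  let Z : SU (4 + 1) F 2 := mkSU hF (blk (w • 1) (w ^ 2 • 1)) hdet
    (isom_blk hF (hsc 4 w hw3) (hsc 1 (w ^ 2) (by linear_combination (w ^ 3 + 1) * hw3)))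
  have hcmZ : cm Z = blk (w • (1 : Matrix (Fin 4) (Fin 4) F)) (w ^ 2 • (1 : Matrix (Fin 1) (Fin 1) F)) :=
    cm_mkSU hF _ _ _
  refine ⟨Z, w, hcmZ, ?_, ?_⟩
  · rw [← cm_eq_one_iff, map_pow, hcmZ, pow_succ, pow_two, ← blk_mul, ← blk_mul, ← blk_one]
    congr 1
    · rw [smul_mul_smul_comm, smul_mul_smul_comm, one_mul, one_mul, show w * w * w = 1 by linear_combination hw3, one_smul]
    · rw [smul_mul_smul_comm, smul_mul_smul_comm, one_mul, one_mul,
        show w ^ 2 * w ^ 2 * w ^ 2 = 1 by linear_combination (w ^ 3 + 1) * hw3, one_smul]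
  · intro hc
    obtain ⟨b, hcn, hcq', h1⟩ := (SUBasic.mem_center_SU_iff hF (by omega) _).1 hc
    have h3 : blk (w • (1 : Matrix (Fin 4) (Fin 4) F)) (w ^ 2 • (1 : Matrix (Fin 1) (Fin 1) F)) =
        Matrix.diagonal (fun _ => b) := by
      rw [← hcmZ, h1]
      rfl
    have h4 := congrFun (congrFun h3 (Fin.castAdd 1 0)) (Fin.castAdd 1 0)
    rw [blk_castAdd, Matrix.diagonal_apply_eq, Matrix.smul_apply, Matrix.one_apply_eq, smul_eq_mul, mul_one] at h4
    have h5 := congrFun (congrFun h3 (Fin.natAdd 4 0)) (Fin.natAdd 4 0)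
    rw [blk_natAdd, Matrix.diagonal_apply_eq, Matrix.smul_apply, Matrix.one_apply_eq, smul_eq_mul, mul_one, ← h4] at h5
    have hw0 : w ≠ 0 := by
      rintro rfl
      rw [zero_pow three_ne_zero] at hw3
      exact zero_ne_one hw3
    apply hw1
    have h6 : w * (w - 1) = 0 := by linear_combination h5
    rcases mul_eq_zero.1 h6 with h | h
    · exact absurd h hw0
    · exact sub_eq_zero.1 h

end SU

/-- **`PSU_n(q)`.** -/
theorem not_loc_psu {K : Type u} [Group K] [Finite K] [IsSimpleGroup K] {p r : ℕ} [hp : Fact p.Prime]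
    [hr : Fact r.Prime] (hp2 : p ≠ 2) (hpr : p ≠ r) (hK : IsPSUChar r K) (hnl : ¬ IsChevSimple p K)
    (hrk : PRankAtLeast p 3 K) (hna : ∀ S : Sylow p K, ¬ IsMulCommutative ↥(S : Subgroup K)) : ¬ Loc p K := by
  intro hl
  have hL : IsLieTypeChar r K := Or.inr (Or.inr (Or.inl hK))
  obtain ⟨F, _, _, hc, n, q, hF, hn3, hn, ⟨e⟩⟩ := hK
  have hpF : (p : F) ≠ 0 := by
    intro h
    rw [CharP.cast_eq_zero_iff F r] at h
    exact hpr ((Nat.prime_dvd_prime_iff_eq hr.out hp.out).1 h).symm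
  have hq : 2 ≤ q := by
    have h4 : 1 < Fintype.card F := Fintype.one_lt_card
    rw [hF] at h4
    by_contra hlt
    interval_cases q
    · omega
    · omega
  by_cases hpq : p = 3 ∧ q = 2
  · obtain ⟨rfl, rfl⟩ := hpq
    obtain ⟨w, hw, h2⟩ := exists_omega (F := F) (by rw [Nat.card_eq_fintype_card, hF]; norm_num)
    have hw3 : w ^ 3 = 1 := by linear_combination (w - 1) * hw
    have hw1 : w ≠ 1 := by
      rintro rfl
      have : (1 : F) = 0 := by linear_combination hw - h2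
      exact one_ne_zero this
    rcases (show n = 3 ∨ n = 4 ∨ n = 5 ∨ 6 ≤ n by omega) with rfl | rfl | rfl | h6
    · exact hn ⟨rfl, rfl⟩
    · apply hnl
      obtain ⟨f⟩ := Cfsg.Agent.S0822.result (F := F) (K := ZMod 3) (by rw [hF]; norm_num) (by simp [ZMod.card])
      exact Or.inl (Or.inr (Or.inl ⟨ZMod 3, inferInstance, inferInstance, inferInstance, 2, le_rfl,
        fun _ => by simp [ZMod.card], ⟨e.trans f⟩⟩))
    · obtain ⟨Z, w, hcm, hZp, hZ⟩ := exists_five hF
      exact not_ws_blkSU (r := r) hF (not_ws_su hF (by norm_num) (by omega)) hcm (ws_lift_su hpr hL hl e hZp hZ)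
    · obtain ⟨d, rfl⟩ : ∃ d, n = d + 2 := ⟨n - 2, by omega⟩
      obtain ⟨Z, hcm, hZp, hZ⟩ := exists_diag (d := d) (p := 3) hF (by omega) hw3 hw3 hw1
      exact not_ws_blkSU (r := r) hF (not_ws_su hF (by omega) (by omega)) hcm (ws_lift_su hpr hL hl e hZp hZ)
  · obtain ⟨X, Y, Z, hXY, hXZ, hYZ, hZp, hZ1⟩ := exists_pair_lift (p := p)
      (QuotientGroup.mk' (Subgroup.center (SU n F q))) (QuotientGroup.mk'_surjective _) (na_congr e hna)
    by_cases hZ : Z ∈ Subgroup.center (SU n F q)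
    · obtain ⟨c, hcn, hcq, hcZ⟩ := (SUBasic.mem_center_SU_iff hF hn3 _).1 hZ
      have hcm : ∀ k : ℕ, cm Z ^ k = Matrix.diagonal (fun _ => c ^ k) := by
        intro k
        have h1 : cm Z = Matrix.diagonal (fun _ => c) := by
          rw [hcZ]
          rfl
        rw [h1, Matrix.diagonal_pow]
        rfl
      have hn0 : NeZero n := ⟨by omega⟩
      have hc1 : c ≠ 1 := by
        rintro rfl
        apply hZ1
        rw [← cm_eq_one_iff, ← pow_one (cm Z), hcm, one_pow, ← Matrix.diagonal_one]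
      have hcp : c ^ p = 1 := by
        have h5 := congrArg cm hZp
        rw [map_pow, hcm, map_one] at h5
        have h6 := congrFun (congrFun h5 0) 0
        rw [Matrix.diagonal_apply_eq, Matrix.one_apply_eq] at h6
        exact h6
      have hco : orderOf c = p := orderOf_eq_prime hcp hc1
      have hpn : p ∣ n := by
        rw [← hco]
        exact orderOf_dvd_of_pow_eq_one hcn
      have hpq' : p ∣ q + 1 := by
        rw [← hco]
        exact orderOf_dvd_of_pow_eq_one hcq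
      have hp3 : 3 ≤ p := by
        have := hp.out.two_le
        omega
      rcases Nat.eq_or_lt_of_le hn3 with h3 | hn4
      · subst h3
        have h5 : p = 3 := (Nat.prime_dvd_prime_iff_eq hp.out Nat.prime_three).1 hpn
        subst h5
        refine H328.NLRank.not_rank_psu3 (F := F) (by exact_mod_cast hpF) hF ?_
        obtain ⟨A, h6, h7, h8⟩ := hrk
        refine ⟨A.map e.toMonoidHom, ⟨⟨?_⟩⟩, ?_, ?_⟩
        · rintro ⟨_, ⟨a, ha, rfl⟩⟩ ⟨_, ⟨b, hb, rfl⟩⟩
          have := congrArg (fun x : A => e (x : K)) (h6.is_comm.comm ⟨a, ha⟩ ⟨b, hb⟩)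
          apply Subtype.ext
          change e a * e b = e b * e a
          rw [← map_mul, ← map_mul]
          exact this
        · rintro _ ⟨a, ha, rfl⟩
          rw [← map_pow, h7 a ha, map_one]
        · rw [Nat.card_congr (A.equivMapOfInjective _ e.injective).symm.toEquiv]
          exact h8
      · obtain ⟨d, rfl⟩ : ∃ d, n = d + 2 := ⟨n - 2, by omega⟩
        obtain ⟨Z', hcm', hZp', hZ'⟩ := exists_diag (d := d) (p := p) hF (by omega) hcp hcq hc1
        have hd3 : 3 ≤ d := by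
          by_contra hlt
          obtain rfl : d = 2 := by omega
          have h5 : p ∣ 2 ^ 2 := hpn
          exact hp2 ((Nat.prime_dvd_prime_iff_eq hp.out Nat.prime_two).1 (hp.out.dvd_of_dvd_pow h5))
        refine not_ws_blkSU (r := r) hF (not_ws_su hF hd3 ?_) hcm' (ws_lift_su hpr hL hl e hZp' hZ')
        rintro ⟨-, rfl⟩
        exact hpq ⟨(Nat.prime_dvd_prime_iff_eq hp.out Nat.prime_three).1 hpq', rfl⟩
    · obtain ⟨s, b, b', hb, hs, hU⟩ := exists_inv (r := r) hF Z (ws_lift_su hpr hL hl e hZp hZ)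
      have h5 := herm_odd (r := r) hp2 hpF (by rw [Nat.card_eq_fintype_card, hF]; nlinarith only [hq])
        (X := (X : Matrix.SpecialLinearGroup (Fin n) F).toGL) (Y := (Y : Matrix.SpecialLinearGroup (Fin n) F).toGL)
        (Z := (Z : Matrix.SpecialLinearGroup (Fin n) F).toGL) (by
          rw [← hXY]
          rw [Subgroup.coe_mul, Subgroup.coe_mul, Subgroup.coe_mul, Subgroup.coe_inv, Subgroup.coe_inv,
            map_mul, map_mul, map_mul, map_inv, map_inv])
        (by rw [← map_mul, ← map_mul, ← Subgroup.coe_mul, hXZ, Subgroup.coe_mul])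
        (by rw [← map_mul, ← map_mul, ← Subgroup.coe_mul, hYZ, Subgroup.coe_mul])
        (by rw [← map_pow, ← SubgroupClass.coe_pow, hZp, OneMemClass.coe_one, map_one])
        (by
          intro h
          apply hZ1
          have h4 : (Z : Matrix.SpecialLinearGroup (Fin n) F) = 1 :=
            Matrix.SpecialLinearGroup.toGL_injective (by rw [h, map_one])
          exact Subtype.ext h4) s hb hs hU
      refine hpq ⟨h5.1, ?_⟩
      have h6 := h5.2.1
      rw [Nat.card_eq_fintype_card, hF] at h6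
      nlinarith only [h6]

end Cfsg.Agent.H250.LP
end

-- part: H250/LP/Psp
section
/-!
# `PSp_2m(q)` is not of local characteristic `p`, `p` odd, `p ∤ q`, nonabelian Sylow subgroup (helper250)

Piece (X) of S3046.
-/

set_option autoImplicit false
set_option linter.unusedSectionVars false

namespace Cfsg.Agent.H250.LP

open Subgroup Cfsg Cfsg.Agent.BpLin Matrix Cfsg.Agent.H236 Cfsg.Agent.BpCl Cfsg.Agent.BpCl.Free
open Cfsg.Agent.ClassicalGeometry.SympBasic Cfsg.Agent.ClassicalGeometry.SympAutSemi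
  Cfsg.Agent.ClassicalGeometry.SympGamma Cfsg.Agent.ClassicalGeometry
open Cfsg.Agent.H238 (Loc)

universe u v

/-- **`PSp_2m(q)`.** -/
theorem not_loc_psp {K : Type u} [Group K] [Finite K] [IsSimpleGroup K] {p r : ℕ} [hp : Fact p.Prime]
    [hr : Fact r.Prime] (hp2 : p ≠ 2) (hpr : p ≠ r) (hK : IsPSpChar r K)
    (hna : ∀ S : Sylow p K, ¬ IsMulCommutative ↥(S : Subgroup K)) : ¬ Loc p K := by
  intro hl
  have hL : IsLieTypeChar r K := Or.inr (Or.inl hK)
  obtain ⟨F, _, _, hc, m, hm2, hm, ⟨e⟩⟩ := hK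
  have hpF : (p : F) ≠ 0 := by
    intro h
    rw [CharP.cast_eq_zero_iff F r] at h
    exact hpr ((Nat.prime_dvd_prime_iff_eq hr.out hp.out).1 h).symm
  by_cases hpq : p = 3 ∧ Nat.card F = 2
  · obtain ⟨rfl, hF⟩ := hpq
    have hm3 : 3 ≤ m := by
      by_contra hlt
      have h1 := hm (by omega)
      rw [← Nat.card_eq_fintype_card, hF] at h1
      omega
    obtain ⟨z, hz, h⟩ := LocSp.sp_three (r := r) (F := F) (m := m) hF hm3
    exact h (ws_of_loc hpr hL hl e hz)
  obtain ⟨X, Y, Z, hXY, hXZ, hYZ, hZp, hZ1⟩ := exists_pair_lift (p := p)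
    (QuotientGroup.mk' (Subgroup.center (Matrix.symplecticGroup (Fin m) F))) (QuotientGroup.mk'_surjective _)
    (na_congr e hna)
  have hZ : Z ∉ Subgroup.center (Matrix.symplecticGroup (Fin m) F) := by
    intro hZ
    obtain ⟨a, ha⟩ := (LieClassical.SympCenter.mem_center_iff m _).1 hZ
    let u : Fin m ⊕ Fin m → F := Pi.single (Sum.inl ⟨0, by omega⟩) 1
    let v : Fin m ⊕ Fin m → F := Pi.single (Sum.inr ⟨0, by omega⟩) 1
    have huv : sympForm m F v u = 1 := by
      change sympForm m F (Pi.single (Sum.inr ⟨0, by omega⟩) 1) (Pi.single (Sum.inl ⟨0, by omega⟩) 1) = 1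
      rw [sympForm_single_inr_left, Pi.single_eq_same]
    have hZu : ∀ w, spLin m F Z w = a • w := by
      intro w
      change (Z : Matrix (Fin m ⊕ Fin m) (Fin m ⊕ Fin m) F).mulVec w = _
      rw [ha, Matrix.smul_mulVec, Matrix.one_mulVec]
    have h1 : a * a = 1 := by
      have h2 : sympForm m F (spLin m F Z v) (spLin m F Z u) = sympForm m F v u := sympForm_rho Z v u
      rw [hZu, hZu, sympForm_smul_left, sympForm_smul_right, huv, mul_one] at h2
      exact h2
    have h2 : ∀ k : ℕ, ((Z ^ k : Matrix.symplecticGroup (Fin m) F) : Matrix (Fin m ⊕ Fin m) (Fin m ⊕ Fin m) F) =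
        a ^ k • 1 := by
      intro k
      induction k with
      | zero => rw [pow_zero, pow_zero, one_smul]; rfl
      | succ k ih =>
        rw [pow_succ]
        change (Z ^ k : Matrix.symplecticGroup (Fin m) F).1 * Z.1 = _
        rw [ih, ha, smul_mul_smul_comm, one_mul, pow_succ]
    have h3 : a ^ p = 1 := by
      have h4 := h2 p
      rw [hZp] at h4
      have h5 := congrFun (congrFun h4 (Sum.inl ⟨0, by omega⟩)) (Sum.inl ⟨0, by omega⟩)
      rw [Matrix.smul_apply, Matrix.one_apply_eq, smul_eq_mul, mul_one] at h5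
      rw [← h5]
      exact Matrix.one_apply_eq _
    obtain ⟨c, hc⟩ := hp.out.odd_of_ne_two hp2
    have h4 : a = 1 := by
      rw [hc, pow_succ, pow_mul, pow_two, h1, one_pow, one_mul] at h3
      exact h3
    apply hZ1
    have h5 := h2 1
    rw [pow_one, pow_one, h4, one_smul] at h5
    exact Subtype.ext h5
  have hzo : orderOf (QuotientGroup.mk' (Subgroup.center (Matrix.symplecticGroup (Fin m) F)) Z) = p := by
    apply orderOf_eq_prime
    · rw [← map_pow, hZp, map_one]
    · intro h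
      exact hZ ((QuotientGroup.eq_one_iff _).1 h)
  have h3 : WS r ↥(centralizer ({Z} : Set (Matrix.symplecticGroup (Fin m) F))) :=
    ws_lift (π := QuotientGroup.mk' (Subgroup.center (Matrix.symplecticGroup (Fin m) F)))
      (by rw [QuotientGroup.ker_mk']) (ws_of_loc hpr hL hl e hzo)
  have h4 := sp_odd (r := r) hp.out hp2 hpF (B := sympBilin m F) (fun v => sympForm_self v)
    (fun u hu => eq_zero_of_forall_sympForm_right hu) (X := spLin m F X) (Y := spLin m F Y) (g := spLin m F Z)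
    (fun u v => sympForm_rho X u v) (fun u v => sympForm_rho Y u v) (fun u v => sympForm_rho Z u v)
    (by rw [← hXY, map_mul, map_mul, map_mul, map_inv, map_inv])
    (fun v => LinearEquiv.congr_fun (show spLin m F X * spLin m F Z = spLin m F Z * spLin m F X by
      rw [← map_mul, hXZ, map_mul]) v)
    (fun v => LinearEquiv.congr_fun (show spLin m F Y * spLin m F Z = spLin m F Z * spLin m F Y by
      rw [← map_mul, hYZ, map_mul]) v)
    (by rw [← map_pow, hZp, map_one])
    (by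
      intro h
      exact hZ1 (spLin_injective (by rw [h, map_one]))) (ws_spLin h3)
  exact hpq ⟨h4.1, h4.2.1⟩

end Cfsg.Agent.H250.LP
end

-- part: H331/LP/Orth
section
/-!
# S3046, piece (X): orthogonal groups in cross characteristic (helper331)

`p` odd, `K = PΩ(V)` of characteristic `r ≠ p`, `dim V ≥ 7`, the Sylow `p`-subgroups of `K` are not abelian: `K` is not of
local characteristic `p`.

* `exists_comm` : a nonabelian `p`-group has `x`, `y` such that `[x, y]` has order `p` and commutes with `x` and `y`;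
* `exists_comm_of_sylow` : the same in a group `G` with a surjective homomorphism to a group with nonabelian Sylow
  `p`-subgroups;
* `ws_of_loc` (helper236) : `WS r` for the centralizers of the elements of order `p`;
* `no_orth`, `not_loc_omegaOdd`, `not_loc_omegaPlus`, `not_loc_omegaMinus`.
-/

set_option autoImplicit false

namespace Cfsg.Agent.H331.LP

open Subgroup Cfsg Module Cfsg.Agent.H236 Cfsg.Agent.BpLin Cfsg.Agent.BpCl QuadraticMap
open Cfsg.Agent.H238 (Loc)
open Cfsg.Agent.LieClassical.OrthCore Cfsg.Agent.LieClassical.OrthTrans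

universe u v w

/-! ### Commutators of order `p` -/

/-- A nonabelian `p`-group. -/
theorem exists_comm {P : Type*} [Group P] [Finite P] {p : ℕ} [hp : Fact p.Prime] (hP : IsPGroup p P)
    (hna : ∃ a b : P, a * b ≠ b * a) :
    ∃ x y : P, orderOf (x * y * x⁻¹ * y⁻¹) = p ∧ x * (x * y * x⁻¹ * y⁻¹) = (x * y * x⁻¹ * y⁻¹) * x ∧
      y * (x * y * x⁻¹ * y⁻¹) = (x * y * x⁻¹ * y⁻¹) * y := by
  obtain ⟨a, b, hab⟩ := hna
  have hnt : Nontrivial (P ⧸ center P) := by
    refine ⟨⟨QuotientGroup.mk a, 1, fun h => hab ?_⟩⟩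
    exact (mem_center_iff.1 ((QuotientGroup.eq_one_iff a).1 h) b).symm
  have h1 : Nontrivial (center (P ⧸ center P)) := (hP.to_quotient (center P)).center_nontrivial
  obtain ⟨⟨z, hz⟩, hz1⟩ := exists_ne (1 : center (P ⧸ center P))
  obtain ⟨x, rfl⟩ := QuotientGroup.mk_surjective z
  have hx : x ∉ center P := fun h => hz1 (Subtype.ext ((QuotientGroup.eq_one_iff x).2 h))
  have hc : ∀ y, x * y * x⁻¹ * y⁻¹ ∈ center P := by
    intro y
    rw [← QuotientGroup.eq_one_iff, QuotientGroup.mk_mul, QuotientGroup.mk_mul, QuotientGroup.mk_mul,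
      QuotientGroup.mk_inv, QuotientGroup.mk_inv, ← mem_center_iff.1 hz (QuotientGroup.mk y)]
    group
  obtain ⟨y, hy⟩ : ∃ y, y * x ≠ x * y := by
    by_contra hcon
    push Not at hcon
    exact hx (mem_center_iff.2 hcon)
  set c := x * y * x⁻¹ * y⁻¹ with hcdef
  have hcc : ∀ g, g * c = c * g := mem_center_iff.1 (hc y)
  have hc1 : c ≠ 1 := by
    intro h
    rw [hcdef, mul_inv_eq_one, mul_inv_eq_iff_eq_mul] at h
    exact hy h.symm
  have hpow : ∀ n : ℕ, x * y ^ n * x⁻¹ * (y ^ n)⁻¹ = c ^ n := by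
    intro n
    induction n with
    | zero => simp
    | succ n ih =>
      have h2 : x * y ^ n * x⁻¹ = c ^ n * y ^ n := mul_inv_eq_iff_eq_mul.1 ih
      have h3 : x * y * x⁻¹ = c * y := by rw [hcdef]; group
      rw [mul_inv_eq_iff_eq_mul]
      calc x * y ^ (n + 1) * x⁻¹ = (x * y ^ n * x⁻¹) * (x * y * x⁻¹) := by rw [pow_succ]; group
        _ = c ^ n * (y ^ n * c) * y := by rw [h2, h3]; group
        _ = c ^ n * c * (y ^ n * y) := by rw [hcc]; group
        _ = c ^ (n + 1) * y ^ (n + 1) := by rw [pow_succ, pow_succ]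
  obtain ⟨k, hk⟩ := (IsPGroup.iff_orderOf.1 hP) c
  have hk0 : k ≠ 0 := by
    rintro rfl
    rw [pow_zero, orderOf_eq_one_iff] at hk
    exact hc1 hk
  obtain ⟨j, rfl⟩ := Nat.exists_eq_succ_of_ne_zero hk0
  refine ⟨x, y ^ p ^ j, ?_, ?_, ?_⟩
  · rw [hpow, orderOf_pow_of_dvd (pow_ne_zero _ hp.out.ne_zero) (by rw [hk]; exact pow_dvd_pow p (by omega)), hk,
      Nat.pow_div (by omega) hp.out.pos]
    simp
  · rw [hpow]
    exact ((Commute.pow_right (show Commute x c from hcc x) _)).eq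
  · rw [hpow]
    exact ((Commute.pow_right (show Commute (y ^ p ^ j) c from hcc _) _)).eq

/-- The same in a group mapping onto a group with nonabelian Sylow `p`-subgroups. -/
theorem exists_comm_of_sylow {G K : Type*} [Group G] [Finite G] [Group K] {p : ℕ} [hp : Fact p.Prime] (f : G →* K)
    (hf : Function.Surjective f) (hna : ∀ S : Sylow p K, ¬ IsMulCommutative (S : Subgroup K)) :
    ∃ x y : G, orderOf (x * y * x⁻¹ * y⁻¹) = p ∧ x * (x * y * x⁻¹ * y⁻¹) = (x * y * x⁻¹ * y⁻¹) * x ∧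
      y * (x * y * x⁻¹ * y⁻¹) = (x * y * x⁻¹ * y⁻¹) * y := by
  obtain ⟨P⟩ : Nonempty (Sylow p G) := inferInstance
  obtain ⟨x, y, h1, h2, h3⟩ := exists_comm (P := P) P.isPGroup' (by
    by_contra hcon
    push Not at hcon
    refine hna (P.mapSurjective hf) ⟨⟨?_⟩⟩
    rintro ⟨_, a, ha, rfl⟩ ⟨_, b, hb, rfl⟩
    apply Subtype.ext
    have h4 : a * b = b * a := congrArg Subtype.val (hcon ⟨a, ha⟩ ⟨b, hb⟩)
    change f a * f b = f b * f a
    rw [← map_mul, h4, map_mul])
  exact ⟨x, y, (Subgroup.orderOf_coe (x * y * x⁻¹ * y⁻¹)).trans h1, congrArg Subtype.val h2, congrArg Subtype.val h3⟩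

/-! ### Local characteristic -/

theorem ws_of_loc {K : Type u} [Group K] [Finite K] [IsSimpleGroup K] {p r : ℕ} [Fact p.Prime] [hr : Fact r.Prime]
    (hpr : p ≠ r) (hK : IsLieTypeChar r K) (hl : Loc p K) {K' : Type v} [Group K'] (e : K ≃* K') {x : K'}
    (hx : orderOf x = p) : WS r ↥(centralizer ({x} : Set K')) := by
  have h1 : orderOf (e.symm x) = p := by
    rw [← hx]
    exact orderOf_injective e.symm.toMonoidHom e.symm.injective x
  have h2 := (rs_centralizer hpr (H996.AllSplit.hasSplit_of_lie hr.out hK) (e.symm x)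
    (by rw [← h1, pow_orderOf_eq_one]) (hl _ h1)).ws
  have hfin : Finite K' := Finite.of_equiv K e.toEquiv
  have e1 : (centralizer ({e.symm x} : Set K)).map e.toMonoidHom = centralizer ({x} : Set K') := by
    ext y
    rw [Subgroup.mem_map]
    constructor
    · rintro ⟨w, hw, rfl⟩
      rw [mem_centralizer_singleton_iff] at hw ⊢
      have := congrArg e hw
      simpa only [_root_.MulEquiv.toMonoidHom_eq_coe, _root_.MonoidHom.coe_coe, _root_.map_mul, _root_.MulEquiv.apply_symm_apply] using this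
    · intro hy
      refine ⟨e.symm y, ?_, by simp⟩
      rw [mem_centralizer_singleton_iff] at hy ⊢
      rw [← map_mul, hy, map_mul]
  rw [← e1]
  exact h2.congr ((centralizer ({e.symm x} : Set K)).equivMapOfInjective _ e.injective).symm

/-! ### The orthogonal groups -/

/-- **`PΩ(V)`, `dim V ≥ 7`, cross characteristic.** -/
theorem no_orth {K : Type u} [Group K] [Finite K] [IsSimpleGroup K] {p r : ℕ} [hp : Fact p.Prime] [hr : Fact r.Prime]
    (hp2 : p ≠ 2) (hpr : p ≠ r) (hK : IsLieTypeChar r K) {F : Type v} {V : Type w} [Field F] [Finite F]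
    [AddCommGroup V] [Module F V] [Module.Finite F V] [CharP F r] {Q : QuadraticForm F V} (hG : Good Q)
    (hd : 7 ≤ finrank F V) (e : K ≃* ↥(E Q) ⧸ Subgroup.center ↥(E Q))
    (hna : ∀ S : Sylow p K, ¬ IsMulCommutative (S : Subgroup K)) (hl : Loc p K) : False := by
  have hfin : Finite ↥(E Q) := finite_subgroup _
  have hpF : (p : F) ≠ 0 := by
    intro h
    exact hpr ((Nat.prime_dvd_prime_iff_eq hr.out hp.out).1 ((CharP.cast_eq_zero_iff F r p).1 h)).symm
  let π : ↥(E Q) →* ↥(E Q) ⧸ Subgroup.center ↥(E Q) := QuotientGroup.mk' (Subgroup.center ↥(E Q))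
  have hπ : Function.Surjective π := QuotientGroup.mk'_surjective _
  obtain ⟨X, Y, hZo, hXZ, hYZ⟩ := exists_comm_of_sylow (p := p) (e.symm.toMonoidHom.comp π)
    (e.symm.surjective.comp hπ) hna
  set Z : ↥(E Q) := X * Y * X⁻¹ * Y⁻¹ with hZ
  have hZp : Z ^ p = 1 := by rw [← hZo, pow_orderOf_eq_one]
  have hZ1 : Z ≠ 1 := by
    intro h
    rw [h, orderOf_one] at hZo
    exact hp.out.one_lt.ne hZo
  have hO : ∀ (W : ↥(E Q)) (v : V), Q ((W : V ≃ₗ[F] V) v) = Q v := fun W v => E_le_O W.2 v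
  have hZc : Z ∉ Subgroup.center ↥(E Q) := by
    intro hc
    obtain ⟨a, ha⟩ := ClassicalGeometry.OrthAut1.center_scalar hG hc
    obtain ⟨w, hw, -⟩ := LocOrth.exists_pair hG
    have h1 : a * a = 1 := by
      have h2 := hO Z w
      rw [ha, QuadraticMap.map_smul, smul_eq_mul] at h2
      exact mul_right_cancel₀ hw (by rw [h2, one_mul])
    have hw0 : w ≠ 0 := fun h => hw (by rw [h, QuadraticMap.map_zero])
    have hpw : ∀ n : ℕ, ((Z ^ n : ↥(E Q)) : V ≃ₗ[F] V) w = a ^ n • w := by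
      intro n
      induction n with
      | zero => rw [pow_zero, pow_zero, one_smul]; rfl
      | succ n ih =>
        rw [pow_succ', pow_succ', Subgroup.coe_mul, LinearEquiv.mul_apply, ih, map_smul, ha, smul_smul,
          mul_comm]
    have h2 : a ^ p = 1 := by
      have h3 := hpw p
      rw [hZp] at h3
      have h4 : (a ^ p - 1) • w = 0 := by
        rw [sub_smul, ← h3, one_smul]
        exact sub_self w
      exact sub_eq_zero.1 ((smul_eq_zero.1 h4).resolve_right hw0)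
    have h3 : a = 1 := by
      obtain ⟨k, hk⟩ := hp.out.odd_of_ne_two hp2
      rw [hk, pow_succ, pow_mul, pow_two, h1, one_pow, one_mul] at h2
      exact h2
    apply hZ1
    apply Subtype.ext
    apply LinearEquiv.ext
    intro v
    rw [ha, h3, one_smul]
    rfl
  have hπZ : orderOf (π Z) = p := by
    apply orderOf_eq_prime
    · rw [← map_pow, hZp, map_one]
    · intro h
      exact hZc ((QuotientGroup.eq_one_iff _).1 h)
  have h3 : WS r ↥(centralizer ({Z} : Set ↥(E Q))) :=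
    ws_lift (π := π) (by rw [QuotientGroup.ker_mk']) (ws_of_loc hpr hK hl e hπZ)
  have h4 := orth_odd (r := r) hp.out hp2 hpF hG.nondeg (X := (X : V ≃ₗ[F] V)) (Y := (Y : V ≃ₗ[F] V))
    (g := (Z : V ≃ₗ[F] V)) (hO X) (hO Y) (hO Z) (by rw [hZ]; rfl)
    (fun v => LinearEquiv.congr_fun (congrArg Subtype.val hXZ) v)
    (fun v => LinearEquiv.congr_fun (congrArg Subtype.val hYZ) v)
    (by rw [← SubgroupClass.coe_pow, hZp]; rfl)
    (fun h => hZ1 (Subtype.ext h)) (ws_E hG h3)
  obtain ⟨z, hz, hnz⟩ := LocOrth.orth_three (r := r) hG h4.2.1 hd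
  exact hnz (ws_of_loc hpr hK hl e (hz.trans h4.1.symm))

section Families

open Cfsg.Agent.ClassicalGeometry.OrthSemi Cfsg.Agent.ClassicalGeometry.OrthSemiForms
  Cfsg.Agent.LieClassical.QuadForms

variable {K : Type u} [Group K] [Finite K] [IsSimpleGroup K] {p r : ℕ} [hp : Fact p.Prime] [hr : Fact r.Prime]

/-- **`PΩ_{2m+1}(q)`, cross characteristic.** -/
theorem not_loc_omegaOdd (hp2 : p ≠ 2) (hpr : p ≠ r) (hK : IsPOmegaOddChar r K)
    (hna : ∀ S : Sylow p K, ¬ IsMulCommutative (S : Subgroup K)) : ¬ Loc p K := by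
  intro hl
  have hK' := hK
  obtain ⟨F, i1, i2, hch, m, hm, hodd, ⟨e⟩⟩ := hK
  have h2 : (2 : F) ≠ 0 := by
    intro h
    obtain ⟨k, hk⟩ := hodd
    have h1 := Nat.cast_card_eq_zero F
    rw [hk] at h1
    push_cast at h1
    rw [h, zero_mul, zero_add] at h1
    exact one_ne_zero h1
  have hG : Good (oddForm m F) := AutOrth.Main.good_odd (by omega) h2
  have e' : K ≃* POmega F ⇑(oddForm m F) := by
    rw [coe_oddForm]
    exact e
  refine no_orth hp2 hpr (Or.inr (Or.inr (Or.inr (Or.inl hK')))) hG ?_ (e'.trans (pomegaEquiv hG)) hna hl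
  rw [Module.finrank_fintype_fun_eq_card]
  simp only [_root_.Fintype.card_sum, _root_.Fintype.card_unique, _root_.Fintype.card_fin]
  omega

/-- **`PΩ⁺_{2m}(q)`, cross characteristic.** -/
theorem not_loc_omegaPlus (hp2 : p ≠ 2) (hpr : p ≠ r) (hK : IsPOmegaPlusChar r K)
    (hna : ∀ S : Sylow p K, ¬ IsMulCommutative (S : Subgroup K)) : ¬ Loc p K := by
  intro hl
  have hK' := hK
  obtain ⟨F, i1, i2, hch, m, hm, ⟨e⟩⟩ := hK
  have hG : Good (plusForm m F) := AutOrth.Main.good_plus (by omega)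
  have e' : K ≃* POmega F ⇑(plusForm m F) := by
    rw [coe_plusForm]
    exact e
  refine no_orth hp2 hpr (Or.inr (Or.inr (Or.inr (Or.inr (Or.inl hK'))))) hG ?_ (e'.trans (pomegaEquiv hG)) hna hl
  rw [Module.finrank_fintype_fun_eq_card]
  simp only [_root_.Fintype.card_sum, _root_.Fintype.card_fin]
  omega

/-- **`PΩ⁻_{2m}(q)`, cross characteristic.** -/
theorem not_loc_omegaMinus (hp2 : p ≠ 2) (hpr : p ≠ r) (hK : IsPOmegaMinusChar r K)
    (hna : ∀ S : Sylow p K, ¬ IsMulCommutative (S : Subgroup K)) : ¬ Loc p K := by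
  intro hl
  have hK' := hK
  obtain ⟨F, i1, i2, hch, m, a, b, hm, hab, ⟨e⟩⟩ := hK
  have hG : Good (minusForm (m - 1) F a b) := AutOrth.Main.good_minus (by omega) hab
  have e' : K ≃* POmega F ⇑(minusForm (m - 1) F a b) := by
    rw [coe_minusForm]
    exact e
  refine no_orth hp2 hpr (Or.inr (Or.inr (Or.inr (Or.inr (Or.inr (Or.inl hK')))))) hG ?_ (e'.trans (pomegaEquiv hG))
    hna hl
  rw [Module.finrank_fintype_fun_eq_card]
  simp only [_root_.Fintype.card_sum, _root_.Fintype.card_fin, _root_.Nat.reduceLeDiff]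
  omega

end Families

end Cfsg.Agent.H331.LP
end

-- part: H182/LP/Alt
section
/-!
# Alternating groups of local characteristic `p`, `p` odd (helper182, S3046 piece X)

The centraliser of a `p`-cycle contains the alternating group on its fixed points.
-/

set_option autoImplicit false

namespace Cfsg.Agent.H182.LP

open Cfsg Subgroup Equiv Equiv.Perm
open Cfsg.Agent.H238 (Loc)

universe u

theorem exists_cycle {p n : ℕ} (hp : p.Prime) (hp2 : p ≠ 2) (hpn : p ≤ n) :
    ∃ g : ↥(alternatingGroup (Fin n)), orderOf g = p ∧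
      Fintype.card {ω // (g : Perm (Fin n)) ω = ω} = n - p := by
  obtain ⟨σ, hσ⟩ := (Equiv.Perm.exists_with_cycleType_iff (α := Fin n) (m := {p})).2
    ⟨by rw [Multiset.sum_singleton, Fintype.card_fin]; exact hpn, by
      intro a ha
      rw [Multiset.mem_singleton] at ha
      rw [ha]
      exact hp.two_le⟩
  have hsgn : Equiv.Perm.sign σ = 1 := by
    rw [Equiv.Perm.sign_of_cycleType, hσ, Multiset.sum_singleton, Multiset.card_singleton]
    exact Even.neg_one_pow (by
      obtain ⟨c, hc⟩ := hp.odd_of_ne_two hp2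
      exact ⟨c + 1, by omega⟩)
  refine ⟨⟨σ, Equiv.Perm.mem_alternatingGroup.2 hsgn⟩, ?_, ?_⟩
  · rw [Subgroup.orderOf_mk, ← Equiv.Perm.lcm_cycleType, hσ, Multiset.lcm_singleton, normalize_eq]
  · have h1 : σ.support.card = p := by rw [← Equiv.Perm.sum_cycleType, hσ, Multiset.sum_singleton]
    show Fintype.card {ω // σ ω = ω} = n - p
    rw [Fintype.card_subtype]
    have h2 : (Finset.univ.filter fun ω => σ ω = ω) = σ.supportᶜ := by
      ext ω
      simp only [Equiv.Perm.mem_support, _root_.Finset.mem_filter, _root_.Finset.mem_univ, _root_.true_and, _root_.Finset.mem_compl, _root_.ne_eq, _root_.Decidable.not_not]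
    rw [h2, Finset.card_compl, Fintype.card_fin, h1]

theorem sq_dvd_factorial {p n : ℕ} (hp : p.Prime) (h : p ^ 2 ∣ n.factorial) : 2 * p ≤ n := by
  by_contra hlt
  push Not at hlt
  have h1 := (hp.pow_dvd_factorial_iff (b := n + 1) (n := n) (r := 2) ?_).1 h
  · have h2 : ∑ i ∈ Finset.Ico 1 (n + 1), n / p ^ i ≤ 1 := by
      rcases Nat.eq_zero_or_pos n with rfl | hn
      · simp
      have h3 : ∑ i ∈ Finset.Ico 1 (n + 1), n / p ^ i = n / p := by
        rw [Finset.sum_eq_single 1]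
        · rw [pow_one]
        · intro i hi hi1
          rw [Finset.mem_Ico] at hi
          apply Nat.div_eq_of_lt
          calc n < 2 * p := hlt
            _ ≤ p * p := Nat.mul_le_mul_right p hp.two_le
            _ = p ^ 2 := (pow_two p).symm
            _ ≤ p ^ i := Nat.pow_le_pow_right hp.pos (by omega)
        · intro h4
          exact absurd (Finset.mem_Ico.2 ⟨le_rfl, by omega⟩) h4
      rw [h3]
      have := (Nat.div_lt_iff_lt_mul hp.pos).2 hlt
      omega
    omega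
  · exact (Nat.log_lt_of_lt_pow (by
      rintro rfl
      rw [Nat.factorial_zero] at h
      have := Nat.le_of_dvd one_pos h
      nlinarith [hp.two_le]) (Nat.lt_pow_self hp.one_lt)).trans (Nat.lt_succ_self n)

/-- **Alternating groups are not of local characteristic `p`.** -/
theorem not_loc_alt {K : Type u} [Group K] [Finite K] {p n : ℕ} [hp : Fact p.Prime] (hp2 : p ≠ 2)
    (e : K ≃* ↥(alternatingGroup (Fin n))) (h4 : p ^ 4 ∣ Nat.card K) : ¬ Loc p K := by
  intro hl
  have hcard : Nat.card K ∣ n.factorial := by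
    rw [Nat.card_congr e.toEquiv]
    have := card_subgroup_dvd_card (alternatingGroup (Fin n))
    rwa [Nat.card_perm, Nat.card_fin] at this
  have h4' : p ^ 4 ∣ n.factorial := h4.trans hcard
  have h2 := sq_dvd_factorial hp.out ((pow_dvd_pow p (by norm_num)).trans h4')
  have hp3 : 3 ≤ p := by
    have := hp.out.two_le
    omega
  obtain ⟨g, hg, hfix⟩ := exists_cycle hp.out hp2 (show p ≤ n by omega)
  have h5 := H237.AltCP.cp_cent ((hl.congr e) g hg)
  rw [hfix] at h5
  rcases h5 with h5 | ⟨h5, rfl⟩ | ⟨-, h5⟩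
  · omega
  · obtain rfl : n = 6 := by omega
    revert h4'
    decide
  · exact hp2 h5

end Cfsg.Agent.H182.LP
end

-- part: H182/LP/Asm
section
/-!
# Simple groups of local characteristic `p`, `p` odd, not of Lie type in characteristic `p` (helper182, S3046 piece X)

* `pow_four_dvd` : `p`-rank at least three and non-abelian Sylow `p`-subgroups: `p ^ 4` divides the order;
* `main` : the assembly.
-/

set_option autoImplicit false

namespace Cfsg.Agent.H182.LP

open Cfsg Subgroup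
open Cfsg.Agent.H238 (Loc)

universe u

theorem pow_four_dvd {K : Type u} [Group K] [Finite K] {p : ℕ} [hp : Fact p.Prime] (hrk : PRankAtLeast p 3 K)
    (hna : ∀ S : Sylow p K, ¬ IsMulCommutative ↥(S : Subgroup K)) : p ^ 4 ∣ Nat.card K := by
  obtain ⟨A, hA, hAp, hAc⟩ := hrk
  have hAg : IsPGroup p A := by
    rintro ⟨a, ha⟩
    exact ⟨1, Subtype.ext (by rw [pow_one]; exact hAp a ha)⟩
  obtain ⟨S, hS⟩ := hAg.exists_le_sylow
  obtain ⟨n, hn⟩ := IsPGroup.iff_card.1 S.isPGroup'
  obtain ⟨m, hm⟩ := IsPGroup.iff_card.1 hAg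
  rw [hm] at hAc
  have h3 : 3 ≤ m := (Nat.pow_le_pow_iff_right hp.out.one_lt).1 hAc
  have hmn : p ^ m ∣ p ^ n := by rw [← hm, ← hn]; exact card_dvd_of_le hS
  have hmn' : m ≤ n := (Nat.pow_dvd_pow_iff_le_right hp.out.one_lt).1 hmn
  have h4 : 4 ≤ n := by
    by_contra h
    have h5 : m = n := by omega
    have h6 : A = (S : Subgroup K) := eq_of_le_of_card_ge hS (by rw [hm, hn, h5])
    apply hna S
    rw [← h6]
    exact hA
  exact (pow_dvd_pow p h4).trans (by rw [← hn]; exact card_subgroup_dvd_card _)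

/-- the hypotheses on `K` -/
structure Hyp (p : ℕ) (K : Type u) [Group K] [Finite K] : Prop where
  ne_two : p ≠ 2
  rank : PRankAtLeast p 3 K
  na : ∀ S : Sylow p K, ¬ IsMulCommutative ↥(S : Subgroup K)
  nl : ¬ IsChevSimple p K

/-- **The assembly.** -/
theorem main {K : Type u} [Group K] [Finite K] [hs : IsSimpleGroup K] {p : ℕ} [hp : Fact p.Prime]
    (hk : IsKnownSimple' K) (h : Hyp p K) (hl : Loc p K) : (p = 3 ∧ Spor.IsoMcL K) ∨ (p = 5 ∧ Spor.IsoLy K) := by
  have h4 : p ^ 4 ∣ Nat.card K := pow_four_dvd h.rank h.na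
  have hc : ¬ IsPrimeCyclic K := by
    intro hc
    have h1 : (Nat.card K).Prime := hc
    have h2 : p ∣ Nat.card K := (dvd_pow_self p (by norm_num)).trans h4
    have h3 := (Nat.prime_dvd_prime_iff_eq hp.out h1).1 h2
    rw [← h3] at h4
    have h5 := Nat.le_of_dvd hp.out.pos h4
    have h6 : p ^ 1 < p ^ 4 := Nat.pow_lt_pow_right hp.out.one_lt (by norm_num)
    rw [pow_one] at h6
    omega
  obtain ⟨S⟩ : Nonempty (Sylow p K) := inferInstance
  rcases H912.Known.known_split hk hc with ⟨n, hn, ⟨e⟩⟩ | ⟨r, hr, hK⟩ | hK | hK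
  · exact absurd hl (not_loc_alt h.ne_two e h4)
  · exfalso
    by_cases hpr : p = r
    · subst hpr
      exact h.nl (Or.inl hK)
    · have : Fact r.Prime := ⟨hr⟩
      rcases hK with h1 | h1 | h1 | h1 | h1 | h1 | h1
      · exact H250.LP.not_loc_psl h.ne_two hpr h1 h.rank h.na hl
      · exact H250.LP.not_loc_psp h.ne_two hpr h1 h.na hl
      · exact H250.LP.not_loc_psu h.ne_two hpr h1 h.nl h.rank h.na hl
      · exact H331.LP.not_loc_omegaOdd h.ne_two hpr h1 h.na hl
      · exact H331.LP.not_loc_omegaPlus h.ne_two hpr h1 h.na hl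
      · exact H331.LP.not_loc_omegaMinus h.ne_two hpr h1 h.na hl
      · exact exc hr h.ne_two hpr h1 (h.na S) h4 hl
  · exact (not_tits h.ne_two hK h4).elim
  · exact spor h.ne_two hK hl h4

end Cfsg.Agent.H182.LP
end

-- part: H182/LP/Main
section
/-!
# S3046, case B: the row (X) of helper271 (helper182)
-/

set_option autoImplicit false

namespace Cfsg.Agent.H182.LP

open Cfsg Subgroup

universe u

/-- **Row (X).** -/
theorem oddRow : H271.PU.OddRow.{u} := by
  intro K _ _ _ p _ hp2 hk hnl hl _ hA hT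
  refine main hk ⟨hp2, ?_, fun S hS => ?_, hnl⟩ hl
  · obtain ⟨A, hA, h3⟩ := hA
    exact ⟨A, hA.1, hA.2, h3⟩
  · obtain ⟨a, ha, b, hb, hab⟩ := hT S
    exact hab (congrArg Subtype.val (hS.is_comm.comm ⟨a, ha⟩ ⟨b, hb⟩))

end Cfsg.Agent.H182.LP
end
end
end
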