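import Mathlib
import Cfsg.Prelude.Def_Solvable
import Cfsg.Prelude.Def_PLocal
import Cfsg.Prelude.Def_LocalEven
import Cfsg.Prelude.Def_LocalStructure
import Cfsg.Prelude.Def_AlmostLie
import Cfsg.Agent.H229.PRed
import Cfsg.Agent.H777.PGrp
import Cfsg.Agent.S0542
import Cfsg.Agent.H237.OSevenG
import Cfsg.Agent.H239.LocRed
import Cfsg.Agent.H245.RedTwo
import Cfsg.Agent.Lib.MinNormal
import Cfsg.Agent.Lib.CoprimeHyperplane
import Cfsg.Agent.H239.CharPLocal
import Cfsg.Agent.OddHalf.D4.Spor.MTwentyFour_m3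
import Cfsg.Agent.OddHalf.D4.Spor.M2223
import Cfsg.Agent.H47.Wk.McLThree
import Cfsg.Agent.H582.Ly.Three_m3
import Cfsg.Agent.TypeM.FactsLy
import Cfsg.Agent.SporadicA.GolayFast
import Cfsg.Agent.H229.Base
import Cfsg.Agent.H371.PU.Base
import Cfsg.Agent.H273.PMinimal
import Cfsg.Agent.H221.PReduced
import Cfsg.Agent.H187.TwF4SQ
import Cfsg.Agent.Mrg.Omega.TwoF.RowTh_m3
import Cfsg.Agent.KFacts.TwF4.OutTwo
import Cfsg.Agent.S1074
import Cfsg.Agent.H229.Large
import Cfsg.Agent.H229.Asym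
import Cfsg.Agent.H230.RelTwo
import Cfsg.Agent.H250.FFSym3
import Cfsg.Agent.H250.FFOff_mg
import Cfsg.Agent.Lib.GoldschmidtFusion
import Cfsg.Agent.Lib.Hyperfocal
import Cfsg.Agent.H238.Base
import Cfsg.Prelude.Def_EvenType
import Cfsg.Agent.KFacts.RgdDiag
import Cfsg.Agent.KFacts.RgdTI
import Cfsg.Agent.KFacts.RgdSL
import Cfsg.Agent.FastGrp
import Cfsg.Agent.Prune
set_option linter.all false

section
prune_inst 0x7f00000000000000000000000000000000000000000000000000000000000000000000000000000000000000000000000000000000000000000000000000000000000000000000000000000000000000003fffffffffffffffffffffffffffbeffbdffffffff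

-- part: H271/PU/Iface
section
set_option linter.all false

/-!
# S3046 (the P!-theorem): interface (helper271)

* `Hyp p S C Q P` : the hypotheses of S3046 (with `Z` substituted).
* `CaseB p S C Q P V W` : what is used in case B (`W = ⟨V^C⟩` abelian) by the rows.
-/

set_option autoImplicit false

namespace Cfsg.Agent.H271.PU

open Subgroup Cfsg

variable {H : Type*} [Group H]

/-- the hypotheses of S3046, `Z = Ω₁(Z(S))` substituted -/
structure Hyp (p : ℕ) (S : Sylow p H) (C Q P : Subgroup H) : Prop where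
  div : p ∣ Nat.card H
  kp : Cfsg.IsKpGroup p H
  loc : Cfsg.IsOfLocalCharacteristic p H
  Cloc : ∃ T : Subgroup H, IsPGroup p ↥T ∧ T ≠ ⊥ ∧ C = Subgroup.normalizer (T : Set H)
  Cmax : ∀ L : Subgroup H, (∃ T : Subgroup H, IsPGroup p ↥T ∧ T ≠ ⊥ ∧ L = Subgroup.normalizer (T : Set H)) → C ≤ L → L = C
  NZ : Subgroup.normalizer ((Cfsg.omegaOne p ((S : Subgroup H) ⊓ Subgroup.centralizer ((S : Subgroup H) : Set H)) :
    Subgroup H) : Set H) ≤ C
  Qeq : Q = (Cfsg.pCore p ↥C).map C.subtype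
  Quniq : ∀ x ∈ Q ⊓ Subgroup.centralizer (Q : Set H), x ≠ 1 → Subgroup.centralizer ({x} : Set H) ≤ C
  SP : (S : Subgroup H) ≤ P
  Pmin : Cfsg.IsPMinimal p ↥P
  Pchar : Subgroup.centralizer (((Cfsg.pCore p ↥P).map P.subtype : Subgroup H) : Set H) ≤ (Cfsg.pCore p ↥P).map P.subtype
  PC : ¬ P ≤ C
  YM : ∀ M : Subgroup H, P ≤ M →
    Subgroup.centralizer (((Cfsg.pCore p ↥M).map M.subtype : Subgroup H) : Set H) ≤ (Cfsg.pCore p ↥M).map M.subtype →
      (∀ M' : Subgroup H, M ≤ M' →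
        Subgroup.centralizer (((Cfsg.pCore p ↥M').map M'.subtype : Subgroup H) : Set H) ≤ (Cfsg.pCore p ↥M').map M'.subtype →
          M' = M) → Cfsg.largestPReducedOf p M ≤ Q

/-- The data of case B of S3046: `V = Y_P`, `W = ⟨V^C⟩` elementary abelian. Only these facts are used by the rows. -/
structure CaseB (p : ℕ) (S : Sylow p H) (C Q P V W : Subgroup H) : Prop where
  loc : Cfsg.IsOfLocalCharacteristic p H
  Cloc : ∃ T : Subgroup H, IsPGroup p ↥T ∧ T ≠ ⊥ ∧ C = Subgroup.normalizer (T : Set H)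
  Cmax : ∀ L : Subgroup H, (∃ T : Subgroup H, IsPGroup p ↥T ∧ T ≠ ⊥ ∧ L = Subgroup.normalizer (T : Set H)) → C ≤ L → L = C
  /-- `N_H(Ω₁ Z(S)) ≤ C` -/
  NZ : Subgroup.normalizer ((Cfsg.omegaOne p ((S : Subgroup H) ⊓ Subgroup.centralizer ((S : Subgroup H) : Set H)) :
    Subgroup H) : Set H) ≤ C
  Qeq : Q = (Cfsg.pCore p ↥C).map C.subtype
  CQ : Subgroup.centralizer (Q : Set H) ≤ Q
  /-- `N_H(A) ≤ C` for `1 ≠ A ≤ Z(Q)` -/
  uniq : ∀ A : Subgroup H, A ≤ Q → A ≤ Subgroup.centralizer (Q : Set H) → A ≠ ⊥ → Subgroup.normalizer (A : Set H) ≤ C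
  Quniq : ∀ x ∈ Q ⊓ Subgroup.centralizer (Q : Set H), x ≠ 1 → Subgroup.centralizer ({x} : Set H) ≤ C
  SC : (S : Subgroup H) ≤ C
  SP : (S : Subgroup H) ≤ P
  Pmin : Cfsg.IsPMinimal p ↥P
  PC : ¬ P ≤ C
  Pchar : Subgroup.centralizer (((Cfsg.pCore p ↥P).map P.subtype : Subgroup H) : Set H) ≤ (Cfsg.pCore p ↥P).map P.subtype
  PV : P ≤ Subgroup.normalizer (V : Set H)
  ZV : Cfsg.omegaOne p ((S : Subgroup H) ⊓ Subgroup.centralizer ((S : Subgroup H) : Set H)) ≤ V
  VW : V ≤ W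
  WQ : W ≤ Q
  CW : C ≤ Subgroup.normalizer (W : Set H)
  Welem : Cfsg.IsElementaryAbelian p W

end Cfsg.Agent.H271.PU
end

-- part: H271/PU/RowB
section
set_option linter.all false
open scoped Cfsg.Agent.FastGrp

-- part: H271/PU/Row
section
/-!
# S3046, case B: general row lemmas (helper271)

`K` is a normal subgroup of `H` of order divisible by `p`, `Z₁ = Z ∩ K`, `V₁ = V ∩ K`, `W₁ = W ∩ K`.
-/

set_option autoImplicit false

namespace Cfsg.Agent.H271.PU

open Subgroup Cfsg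
open Cfsg.Agent.H229

variable {H : Type*} [Group H] [Finite H] {p : ℕ} [Fact p.Prime] {S : Sylow p H} {C Q P V W K : Subgroup H}

/-- the elements of `Ω₁(Z(S))` -/
theorem mem_om {S : Sylow p H} {x : H} :
    x ∈ omegaOne p ((S : Subgroup H) ⊓ centralizer ((S : Subgroup H) : Set H)) ↔
      x ∈ (S : Subgroup H) ∧ (∀ s ∈ (S : Subgroup H), s * x = x * s) ∧ x ^ p = 1 := by
  constructor
  · intro hx
    unfold omegaOne at hx
    have h1 : x ∈ zOmega p (S : Subgroup H) := by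
      refine (closure_le (K := zOmega p (S : Subgroup H))).2 ?_ hx
      rintro y ⟨⟨hy1, hy2⟩, hy3⟩
      exact ⟨hy1, hy2, hy3⟩
    exact ⟨h1.1, fun s hs => mem_centralizer_iff.1 h1.2.1 s hs, h1.2.2⟩
  · rintro ⟨h1, h2, h3⟩
    exact subset_closure ⟨⟨h1, mem_centralizer_iff.2 h2⟩, h3⟩

/-- a normal subgroup of order divisible by `p` meets `Ω₁(Z(S))` -/
theorem exists_z (S : Sylow p H) (hK : K.Normal) (hp : p ∣ Nat.card K) :
    ∃ z ∈ K, z ∈ omegaOne p ((S : Subgroup H) ⊓ centralizer ((S : Subgroup H) : Set H)) ∧ z ≠ 1 := by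
  obtain ⟨x, hx⟩ := exists_prime_orderOf_dvd_card' p hp
  have hx' : orderOf (x : H) = p := by rw [Subgroup.orderOf_coe, hx]
  have hxp : IsPGroup p ↥(zpowers (x : H)) := IsPGroup.of_card (n := 1) (by rw [Nat.card_zpowers, hx', pow_one])
  obtain ⟨R, hR⟩ := hxp.exists_le_sylow
  obtain ⟨g, hg⟩ := MulAction.exists_smul_eq H R S
  have hgx : g * x * g⁻¹ ∈ (S : Subgroup H) := by
    rw [← hg]
    have h1 := Subgroup.smul_mem_pointwise_smul _ (MulAut.conj g) (R : Subgroup H) (hR (mem_zpowers (x : H)))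
    rw [← Sylow.coe_subgroup_smul] at h1
    exact h1
  have hne : K.subgroupOf (S : Subgroup H) ≠ ⊥ := by
    intro h
    have h1 : (⟨g * x * g⁻¹, hgx⟩ : ↥(S : Subgroup H)) ∈ K.subgroupOf (S : Subgroup H) := by
      rw [mem_subgroupOf]
      exact hK.conj_mem x x.2 g
    rw [h, mem_bot] at h1
    have h2 : g * x * g⁻¹ = 1 := congrArg Subtype.val h1
    have h3 : (x : H) = 1 := by
      rw [mul_inv_eq_one] at h2
      exact mul_eq_left.1 h2
    rw [h3, orderOf_one] at hx'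
    exact (Fact.out : p.Prime).one_lt.ne hx'
  obtain ⟨b, hb, hb1, hbc⟩ := H777.PGrp.inf_center_ne_bot S.isPGroup' hne inferInstance
  obtain ⟨k, hk⟩ := IsPGroup.iff_orderOf.1 S.isPGroup' b
  have hk0 : k ≠ 0 := by
    rintro rfl
    rw [pow_zero, orderOf_eq_one_iff] at hk
    exact hb1 hk
  obtain ⟨j, rfl⟩ := Nat.exists_eq_succ_of_ne_zero hk0
  have hbp : (b ^ p ^ j) ^ p = 1 := by
    rw [← pow_mul, ← pow_succ, ← Nat.succ_eq_add_one, ← hk]
    exact pow_orderOf_eq_one b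
  refine ⟨((b ^ p ^ j : ↥(S : Subgroup H)) : H), ?_, ?_, ?_⟩
  · exact mem_subgroupOf.1 (pow_mem hb _)
  · rw [mem_om]
    refine ⟨(b ^ p ^ j).2, fun s hs => ?_, ?_⟩
    · have h1 := Commute.pow_right (show Commute (⟨s, hs⟩ : ↥(S : Subgroup H)) b from hbc ⟨s, hs⟩) (p ^ j)
      exact congrArg Subtype.val h1.eq
    · have := congrArg Subtype.val hbp
      simpa only [_root_.SubmonoidClass.coe_pow, _root_.OneMemClass.coe_one] using this
  · intro h
    have h1 : b ^ p ^ j = 1 := Subtype.ext h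
    have h2 := orderOf_dvd_of_pow_eq_one h1
    rw [hk] at h2
    have h3 := (Nat.pow_dvd_pow_iff_le_right (Fact.out : p.Prime).one_lt).1 h2
    exact absurd h3 (by simp)

namespace CaseB

variable (h : CaseB p S C Q P V W)
include h

theorem Qeq' : Q = pCoreOf p C := h.Qeq

theorem Q_isPGroup : IsPGroup p ↥Q := by
  rw [h.Qeq']
  exact isPGroup_pCoreOf p C

theorem CQn : C ≤ normalizer (Q : Set H) := by
  rw [h.Qeq']
  exact le_norm_pCoreOf p C

theorem QC : Q ≤ C := by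
  rw [h.Qeq']
  exact pCoreOf_le p C

theorem QS : Q ≤ (S : Subgroup H) := by
  have hs : (normalizer (Q : Set H)) ≥ (S : Subgroup H) := h.SC.trans h.CQn
  have h1 : IsPGroup p ↥((S : Subgroup H) ⊔ Q : Subgroup H) := by
    rw [sup_comm]
    exact isPGroup_sup_of_norm h.Q_isPGroup S.isPGroup' hs
  have h2 := S.is_maximal' h1 le_sup_left
  exact le_sup_right.trans h2.le

/-- `C` is the normalizer of each nontrivial `p`-subgroup it normalizes -/
theorem norm_eq {A : Subgroup H} (hA : IsPGroup p ↥A) (hne : A ≠ ⊥) (hC : C ≤ normalizer (A : Set H)) :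
    normalizer (A : Set H) = C := h.Cmax _ ⟨A, hA, hne, rfl⟩ hC

theorem VQ : V ≤ Q := h.VW.trans h.WQ

theorem ZQ : omegaOne p ((S : Subgroup H) ⊓ centralizer ((S : Subgroup H) : Set H)) ≤ Q := h.ZV.trans h.VQ

theorem ZCQ : omegaOne p ((S : Subgroup H) ⊓ centralizer ((S : Subgroup H) : Set H)) ≤ centralizer (Q : Set H) := by
  intro x hx
  rw [mem_om] at hx
  rw [mem_centralizer_iff]
  exact fun q hq => hx.2.1 q (h.QS hq)

/-- no nontrivial subgroup of `Z(Q)` is normalized by `P` -/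
theorem not_P_le {A : Subgroup H} (hA : A ≤ Q) (hAc : A ≤ centralizer (Q : Set H)) (hne : A ≠ ⊥) :
    ¬ P ≤ normalizer (A : Set H) := fun hP => h.PC (hP.trans (h.uniq A hA hAc hne))

section
variable (hK : K.Normal)
include hK

theorem P_norm_V₁ : P ≤ normalizer ((V ⊓ K : Subgroup H) : Set H) := by
  refine le_trans ?_ (norm_inf_le _ _)
  exact le_inf h.PV (le_top.trans (normalizer_eq_top_iff.2 hK).ge)

theorem C_norm_W₁ : C ≤ normalizer ((W ⊓ K : Subgroup H) : Set H) := by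
  refine le_trans ?_ (norm_inf_le _ _)
  exact le_inf h.CW (le_top.trans (normalizer_eq_top_iff.2 hK).ge)

theorem W₁_isPGroup : IsPGroup p ↥(W ⊓ K : Subgroup H) := (ea_isPGroup h.Welem).to_le inf_le_left

variable (hp : p ∣ Nat.card K)
include hp

theorem Z₁_ne : omegaOne p ((S : Subgroup H) ⊓ centralizer ((S : Subgroup H) : Set H)) ⊓ K ≠ ⊥ := by
  obtain ⟨z, hz, hz1, hz2⟩ := exists_z S hK hp
  intro h0
  exact hz2 (mem_bot.1 (h0 ▸ ⟨hz1, hz⟩))

theorem V₁_ne : V ⊓ K ≠ ⊥ := by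
  intro h0
  refine h.Z₁_ne hK hp (le_bot_iff.1 ?_)
  rw [← h0]
  exact inf_le_inf_right K h.ZV

theorem W₁_ne : W ⊓ K ≠ ⊥ := by
  intro h0
  refine h.V₁_ne hK hp (le_bot_iff.1 ?_)
  rw [← h0]
  exact inf_le_inf_right K h.VW

theorem norm_W₁ : normalizer ((W ⊓ K : Subgroup H) : Set H) = C :=
  h.norm_eq (h.W₁_isPGroup hK) (h.W₁_ne hK hp) (h.C_norm_W₁ hK)

/-- `V₁` is not contained in `Z(Q)` -/
theorem V₁_not_le : ¬ V ⊓ K ≤ centralizer (Q : Set H) := fun h0 =>
  h.not_P_le (inf_le_left.trans h.VQ) h0 (h.V₁_ne hK hp) (h.P_norm_V₁ hK)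

theorem lt_V₁ : omegaOne p ((S : Subgroup H) ⊓ centralizer ((S : Subgroup H) : Set H)) ⊓ K < V ⊓ K := by
  refine lt_of_le_of_ne (inf_le_inf_right K h.ZV) fun h0 => h.V₁_not_le hK hp ?_
  rw [← h0]
  exact inf_le_left.trans h.ZCQ

theorem V₁_lt : V ⊓ K < W ⊓ K := by
  refine lt_of_le_of_ne (inf_le_inf_right K h.VW) fun h0 => h.PC ?_
  have h1 := h.P_norm_V₁ hK
  rwa [h0, h.norm_W₁ hK hp] at h1

theorem card_W₁ : p ^ 3 ≤ Nat.card ↥(W ⊓ K : Subgroup H) := by
  have hpr : p.Prime := Fact.out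
  have hZp : IsPGroup p ↥(omegaOne p ((S : Subgroup H) ⊓ centralizer ((S : Subgroup H) : Set H)) ⊓ K : Subgroup H) :=
    h.Q_isPGroup.to_le (inf_le_left.trans h.ZQ)
  have hVp : IsPGroup p ↥(V ⊓ K : Subgroup H) := h.Q_isPGroup.to_le (inf_le_left.trans h.VQ)
  obtain ⟨a, ha⟩ := IsPGroup.iff_card.1 hZp
  obtain ⟨b, hb⟩ := IsPGroup.iff_card.1 hVp
  obtain ⟨c, hc⟩ := IsPGroup.iff_card.1 (h.W₁_isPGroup hK)
  have h0 : a ≠ 0 := by
    rintro rfl
    rw [pow_zero] at ha
    exact h.Z₁_ne hK hp (Subgroup.card_eq_one.1 ha)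
  have h1 : a < b := by
    rw [← Nat.pow_lt_pow_iff_right hpr.one_lt, ← ha, ← hb]
    exact Set.ncard_lt_ncard (show ((_ : Subgroup H) : Set H) ⊂ (_ : Set H) from h.lt_V₁ hK hp) (Set.toFinite _)
  have h2 : b < c := by
    rw [← Nat.pow_lt_pow_iff_right hpr.one_lt, ← hb, ← hc]
    exact Set.ncard_lt_ncard (show ((_ : Subgroup H) : Set H) ⊂ (_ : Set H) from h.V₁_lt hK hp) (Set.toFinite _)
  rw [hc]
  exact Nat.pow_le_pow_right hpr.pos (by omega)

/-- **G0.** the `p`-rank of `K` is at least 3 -/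
theorem rank : ∃ A : Subgroup H, A ≤ K ∧ IsElementaryAbelian p A ∧ p ^ 3 ≤ Nat.card A :=
  ⟨W ⊓ K, inf_le_right, ea_mono h.Welem inf_le_left, h.card_W₁ hK hp⟩

/-- `C_K(Q ∩ K) ≤ Q ∩ K` -/
theorem cent_QK : K ⊓ centralizer ((Q ⊓ K : Subgroup H) : Set H) ≤ Q ⊓ K := by
  have hKC : C ≤ normalizer ((C ⊓ K : Subgroup H) : Set H) := by
    refine le_trans ?_ (norm_inf_le _ _)
    exact le_inf le_normalizer (le_top.trans (normalizer_eq_top_iff.2 hK).ge)
  have hcp : ChP p C := by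
    unfold ChP
    rw [← h.Qeq']
    exact inf_le_right.trans h.CQ
  have h1 : ChP p (C ⊓ K) := hcp.normal inf_le_left hKC
  have h2 : pCoreOf p (C ⊓ K) = Q ⊓ K := by
    apply le_antisymm
    · refine le_inf ?_ ((pCoreOf_le _ _).trans inf_le_right)
      rw [h.Qeq']
      exact pCoreOf_le_pCoreOf inf_le_left hKC
    · refine le_pCoreOf (inf_le_inf_right K h.QC) ?_ (h.Q_isPGroup.to_le inf_le_left)
      refine le_trans ?_ (norm_inf_le _ _)
      exact le_inf (inf_le_left.trans h.CQn) (le_top.trans (normalizer_eq_top_iff.2 hK).ge)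
  unfold ChP at h1
  rw [h2] at h1
  intro x hx
  refine h1 ⟨⟨?_, hx.1⟩, hx.2⟩
  refine h.uniq _ (inf_le_left.trans h.ZQ) (inf_le_left.trans h.ZCQ) (h.Z₁_ne hK hp) ?_
  refine centralizer_le_normalizer _ ?_
  exact centralizer_le (show (_ : Set H) ⊆ _ from inf_le_inf_right K h.ZQ) hx.2

end

/-- `C_{P ∩ K}(D ∩ K) ≤ D ∩ K`, `D = O_p(P)` -/
theorem cent_DK (hK : K.Normal) :
    P ⊓ K ⊓ centralizer ((pCoreOf p P ⊓ K : Subgroup H) : Set H) ≤ pCoreOf p P ⊓ K := by
  have hKC : P ≤ normalizer ((P ⊓ K : Subgroup H) : Set H) := by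
    refine le_trans ?_ (norm_inf_le _ _)
    exact le_inf le_normalizer (le_top.trans (normalizer_eq_top_iff.2 hK).ge)
  have hcp : ChP p P := by
    unfold ChP
    exact inf_le_right.trans h.Pchar
  have h1 : ChP p (P ⊓ K) := hcp.normal inf_le_left hKC
  have h2 : pCoreOf p (P ⊓ K) = pCoreOf p P ⊓ K := by
    apply le_antisymm
    · exact le_inf (pCoreOf_le_pCoreOf inf_le_left hKC) ((pCoreOf_le _ _).trans inf_le_right)
    · refine le_pCoreOf (inf_le_inf_right K (pCoreOf_le _ _)) ?_ ((isPGroup_pCoreOf p P).to_le inf_le_left)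
      refine le_trans ?_ (norm_inf_le _ _)
      exact le_inf (inf_le_left.trans (le_norm_pCoreOf p P)) (le_top.trans (normalizer_eq_top_iff.2 hK).ge)
  unfold ChP at h1
  rwa [h2] at h1

/-- if `S ∩ K` is normalized by `C` and `P` then contradiction -/
theorem not_both (hK : K.Normal) (hp : p ∣ Nat.card K) (hC : C ≤ normalizer (((S : Subgroup H) ⊓ K : Subgroup H) : Set H))
    (hP : P ≤ normalizer (((S : Subgroup H) ⊓ K : Subgroup H) : Set H)) : False := by
  have hne : (S : Subgroup H) ⊓ K ≠ ⊥ := by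
    intro h0
    refine h.Z₁_ne hK hp (le_bot_iff.1 ?_)
    rw [← h0]
    exact inf_le_inf_right K (h.ZQ.trans h.QS)
  have h1 := h.norm_eq (S.isPGroup'.to_le inf_le_left) hne hC
  exact h.PC (hP.trans h1.le)

/-- **G1.** the Sylow `p`-subgroup `S ∩ K` of `K` is not abelian -/
theorem not_abelian (hK : K.Normal) (hp : p ∣ Nat.card K)
    (hab : ∀ a ∈ (S : Subgroup H) ⊓ K, ∀ b ∈ (S : Subgroup H) ⊓ K, a * b = b * a) : False := by
  have h1 : (S : Subgroup H) ⊓ K = Q ⊓ K := by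
    apply le_antisymm
    · intro x hx
      refine h.cent_QK hK hp ⟨hx.2, mem_centralizer_iff.2 fun y hy => hab y ⟨h.QS hy.1, hy.2⟩ x hx⟩
    · exact inf_le_inf_right K h.QS
  have hDS : pCoreOf p P ≤ (S : Subgroup H) := by
    have h2 : IsPGroup p ↥((S : Subgroup H) ⊔ pCoreOf p P : Subgroup H) := by
      rw [sup_comm]
      exact isPGroup_sup_of_norm (isPGroup_pCoreOf p P) S.isPGroup' (h.SP.trans (le_norm_pCoreOf p P))
    exact le_sup_right.trans (S.is_maximal' h2 le_sup_left).le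
  have h2 : (S : Subgroup H) ⊓ K = pCoreOf p P ⊓ K := by
    apply le_antisymm
    · intro x hx
      refine h.cent_DK hK ⟨⟨h.SP hx.1, hx.2⟩, mem_centralizer_iff.2 fun y hy => hab y ⟨hDS hy.1, hy.2⟩ x hx⟩
    · exact inf_le_inf_right K hDS
  refine h.not_both hK hp ?_ ?_
  · rw [h1]
    refine le_trans ?_ (norm_inf_le _ _)
    exact le_inf h.CQn (le_top.trans (normalizer_eq_top_iff.2 hK).ge)
  · rw [h2]
    refine le_trans ?_ (norm_inf_le _ _)
    exact le_inf (le_norm_pCoreOf p P) (le_top.trans (normalizer_eq_top_iff.2 hK).ge)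

/-- **G2.** `S ∩ K` is not a TI subgroup of `H` -/
theorem not_TI (hK : K.Normal) (hp : p ∣ Nat.card K)
    (hTI : ∀ g : H, (S : Subgroup H) ⊓ K ⊓ cj g ((S : Subgroup H) ⊓ K) ≠ ⊥ →
      cj g ((S : Subgroup H) ⊓ K) = (S : Subgroup H) ⊓ K) : False := by
  have key : ∀ A : Subgroup H, A ≤ (S : Subgroup H) ⊓ K → A ≠ ⊥ →
      normalizer (A : Set H) ≤ normalizer (((S : Subgroup H) ⊓ K : Subgroup H) : Set H) := by
    intro A hA hne g hg
    have h1 : cj g A = A := mem_norm.1 hg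
    have h2 : A ≤ (S : Subgroup H) ⊓ K ⊓ cj g ((S : Subgroup H) ⊓ K) := le_inf hA (by
      rw [← h1]
      exact cj_mono hA)
    exact mem_norm.2 (hTI g fun h0 => hne (le_bot_iff.1 (h0 ▸ h2)))
  refine h.not_both hK hp ?_ ?_
  · exact (h.C_norm_W₁ hK).trans (key _ (inf_le_inf_right K (h.WQ.trans h.QS)) (h.W₁_ne hK hp))
  · exact (h.P_norm_V₁ hK).trans (key _ (inf_le_inf_right K (h.VQ.trans h.QS)) (h.V₁_ne hK hp))

/-- the centralizer of an element `z ≠ 1` of `Z₁` lies in `C`, normalizes `W₁` and contains it -/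
theorem centralizer_le_norm_W₁ (hK : K.Normal) {z : H}
    (hz : z ∈ omegaOne p ((S : Subgroup H) ⊓ centralizer ((S : Subgroup H) : Set H))) (hz1 : z ≠ 1) :
    centralizer ({z} : Set H) ≤ normalizer ((W ⊓ K : Subgroup H) : Set H) ∧ W ⊓ K ≤ centralizer ({z} : Set H) := by
  constructor
  · exact (h.Quniq z ⟨h.ZQ hz, h.ZCQ hz⟩ hz1).trans (h.C_norm_W₁ hK)
  · intro w hw
    rw [mem_centralizer_singleton_iff]
    exact mem_centralizer_iff.1 (h.ZCQ hz) w (h.WQ hw.1)

/-- **G4.** `C` is not irreducible on `W₁` -/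
theorem not_irr (hK : K.Normal) (hp : p ∣ Nat.card K)
    (hirr : ∀ A : Subgroup H, A ≤ W ⊓ K → A ≠ ⊥ → C ≤ normalizer (A : Set H) → A = W ⊓ K) : False := by
  have hn : C ≤ normalizer (((W ⊓ K) ⊓ centralizer (Q : Set H) : Subgroup H) : Set H) := by
    refine le_trans ?_ (norm_inf_le _ _)
    exact le_inf (h.C_norm_W₁ hK) (h.CQn.trans (norm_le_norm_centralizer _))
  have hne : (W ⊓ K) ⊓ centralizer (Q : Set H) ≠ ⊥ := by
    intro h0
    refine h.Z₁_ne hK hp (le_bot_iff.1 ?_)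
    rw [← h0]
    exact le_inf (inf_le_inf_right K (h.ZV.trans h.VW)) (inf_le_left.trans h.ZCQ)
  have h1 := hirr _ inf_le_left hne hn
  refine h.V₁_not_le hK hp ((inf_le_inf_right K h.VW).trans ?_)
  rw [← h1]
  exact inf_le_right

end CaseB

end Cfsg.Agent.H271.PU
end

-- part: H271/PU/RowB
section
/-!
# S3046, case B: the row predicate `RowB` (helper271)

`RowB p G` is a property of the finite (simple) group `G`: for `z` of order `p` centralized by a Sylow `p`-subgroup and `A ∋ z`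
elementary abelian of order at least `p ^ 3`, normal in `C_G(z)`: either `N_G(A)` is irreducible on `A`, or there is a
`p`-subgroup `E ≠ 1`, invariant under all automorphisms fixing `A`, whose normalizer is not contained in `N_G(A)`.

* `CaseB.rowB` : case B of S3046 is impossible if a normal subgroup `K` of order divisible by `p` satisfies `RowB p K`;
* `rowB_of_card` : `RowB` if there is no `A`;
* `rowB_of_center` : it is enough to consider one element `z₀` if `Ω₁(Z(T)) = ⟨z₀⟩`;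
* `RowB.congr` : invariance under isomorphisms.
-/

set_option autoImplicit false

namespace Cfsg.Agent.H271.PU

open Subgroup Cfsg
open Cfsg.Agent.H229

/-- `z` has order `p` and is centralized by a Sylow `p`-subgroup -/
def PCen (p : ℕ) {G : Type*} [Group G] (z : G) : Prop :=
  orderOf z = p ∧ ∃ T : Sylow p G, (T : Subgroup G) ≤ centralizer ({z} : Set G)

/-- the condition on a pair `(z, A)` -/
def RowAt (p : ℕ) {G : Type*} [Group G] (z : G) : Prop :=
  ∀ A : Subgroup G, IsElementaryAbelian p A → z ∈ A → A ≤ centralizer ({z} : Set G) →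
    centralizer ({z} : Set G) ≤ normalizer (A : Set G) → p ^ 3 ≤ Nat.card A →
      (∀ B : Subgroup G, B ≤ A → B ≠ ⊥ → normalizer (A : Set G) ≤ normalizer (B : Set G) → B = A) ∨
      (∃ E : Subgroup G, E ≠ ⊥ ∧ IsPGroup p E ∧ ¬ normalizer (E : Set G) ≤ normalizer (A : Set G) ∧
        ∀ α : MulAut G, A.map α.toMonoidHom = A → E.map α.toMonoidHom = E)

/-- the row predicate -/
def RowB (p : ℕ) (G : Type*) [Group G] : Prop := ∀ z : G, PCen p z → RowAt p z

section Transport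

variable {G G' : Type*} [Group G] [Group G']

theorem map_centralizer (e : G ≃* G') (z : G) :
    (centralizer ({z} : Set G)).map e.toMonoidHom = centralizer ({e z} : Set G') := by
  ext x
  constructor
  · rintro ⟨y, hy, rfl⟩
    rw [SetLike.mem_coe, mem_centralizer_singleton_iff] at hy
    rw [mem_centralizer_singleton_iff]
    change e y * e z = e z * e y
    rw [← map_mul, hy, map_mul]
  · intro hx
    rw [mem_centralizer_singleton_iff] at hx
    refine ⟨e.symm x, ?_, e.apply_symm_apply x⟩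
    rw [SetLike.mem_coe, mem_centralizer_singleton_iff]
    apply e.injective
    rw [map_mul, map_mul, e.apply_symm_apply]
    exact hx

theorem map_norm (e : G ≃* G') (A : Subgroup G) :
    (normalizer (A : Set G)).map e.toMonoidHom = normalizer ((A.map e.toMonoidHom : Subgroup G') : Set G') :=
  Subgroup.map_equiv_normalizer_eq A e

theorem ea_map_equiv (e : G ≃* G') {p : ℕ} {A : Subgroup G} (h : IsElementaryAbelian p A) :
    IsElementaryAbelian p (A.map e.toMonoidHom) := ea_map h _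

theorem map_map_symm (e : G ≃* G') (A : Subgroup G) : (A.map e.toMonoidHom).map e.symm.toMonoidHom = A := by
  rw [Subgroup.map_map]
  have : e.symm.toMonoidHom.comp e.toMonoidHom = MonoidHom.id G := by
    ext x
    exact e.symm_apply_apply x
  rw [this, Subgroup.map_id]

theorem RowAt.map {p : ℕ} {z : G} (h : RowAt p z) (e : G ≃* G') : RowAt p (e z) := by
  intro A hA hz hAc hN hcard
  set A' : Subgroup G := A.map e.symm.toMonoidHom with hA'
  have hAA : A'.map e.toMonoidHom = A := map_map_symm e.symm A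
  have hinj : Function.Injective (Subgroup.map e.toMonoidHom) := Subgroup.map_injective e.injective
  have hle : ∀ {X Y : Subgroup G}, X.map e.toMonoidHom ≤ Y.map e.toMonoidHom ↔ X ≤ Y := by
    intro X Y
    exact Subgroup.map_le_map_iff_of_injective e.injective
  have h1 := h A' (ea_map_equiv e.symm hA) ⟨e z, hz, e.symm_apply_apply z⟩
    (by rw [← hle, hAA, map_centralizer]; exact hAc)
    (by rw [← hle, map_centralizer, map_norm, hAA]; exact hN)
    (by
      rw [hA', Nat.card_congr (A.equivMapOfInjective e.symm.toMonoidHom e.symm.injective).symm.toEquiv]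
      exact hcard)
  rcases h1 with h1 | ⟨E, hE, hEp, hEn, hEa⟩
  · left
    intro B hBA hB hBn
    set B' : Subgroup G := B.map e.symm.toMonoidHom with hB'
    have hBB : B'.map e.toMonoidHom = B := map_map_symm e.symm B
    have h2 := h1 B' (by rw [← hle, hBB, hAA]; exact hBA) (by
      intro h0
      apply hB
      rw [← hBB, h0, Subgroup.map_bot]) (by rw [← hle, map_norm, map_norm, hBB, hAA]; exact hBn)
    rw [← hBB, ← hAA, h2]
  · right
    refine ⟨E.map e.toMonoidHom, ?_, hEp.map _, ?_, ?_⟩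
    · intro h0
      apply hE
      rwa [Subgroup.map_eq_bot_iff_of_injective _ e.injective] at h0
    · rw [← map_norm, ← hAA, ← map_norm, hle]
      exact hEn
    · intro α hα
      have h3 := hEa ((e.trans α).trans e.symm) (by
        rw [← hAA] at hα
        apply hinj
        rw [Subgroup.map_map] at hα ⊢
        rw [← hα]
        congr 1
        ext x
        exact e.apply_symm_apply _)
      have h4 := congrArg (Subgroup.map e.toMonoidHom) h3
      rw [Subgroup.map_map] at h4 ⊢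
      rw [← h4]
      congr 1
      ext x
      exact (e.apply_symm_apply _).symm

theorem PCen.map [Finite G] {p : ℕ} [Fact p.Prime] {z : G} (h : PCen p z) (e : G ≃* G') : PCen p (e z) := by
  obtain ⟨h1, T, hT⟩ := h
  have hs : Function.Surjective e.toMonoidHom := e.surjective
  refine ⟨by rw [MulEquiv.orderOf_eq, h1], T.mapSurjective hs, ?_⟩
  rw [Sylow.coe_mapSurjective, ← map_centralizer]
  exact Subgroup.map_mono hT

/-- invariance under isomorphisms -/
theorem RowB.congr [Finite G] {p : ℕ} [Fact p.Prime] (h : RowB p G) (e : G ≃* G') : RowB p G' := by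
  have : Finite G' := Finite.of_equiv G e.toEquiv
  intro z hz
  have h1 := h (e.symm z) (hz.map e.symm)
  have h2 := h1.map e
  rwa [e.apply_symm_apply] at h2

end Transport

/-- It is enough to consider one element `z₀` if `Ω₁(Z(T)) = ⟨z₀⟩`. -/
theorem rowB_of_center {p : ℕ} [Fact p.Prime] {G : Type*} [Group G] [Finite G] {T : Sylow p G} {z₀ : G}
    (hT : ∀ y ∈ (T : Subgroup G), (∀ t ∈ (T : Subgroup G), t * y = y * t) → y ^ p = 1 → y ∈ zpowers z₀)
    (hz₀ : orderOf z₀ = p) (h : RowAt p z₀) : RowB p G := by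
  rintro z ⟨hz, T', hT'⟩
  obtain ⟨g, hg⟩ := MulAction.exists_smul_eq G T' T
  -- `z ∈ T'`
  have hzT : z ∈ (T' : Subgroup G) := by
    have h1 : (T' : Subgroup G) ≤ normalizer ((zpowers z : Subgroup G) : Set G) := by
      refine hT'.trans ?_
      refine le_trans ?_ (Subgroup.centralizer_le_normalizer _)
      intro x hx
      rw [mem_centralizer_singleton_iff] at hx
      rw [mem_centralizer_iff]
      rintro y ⟨k, rfl⟩
      exact (((show Commute x z from hx).zpow_right k).eq).symm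
    have h2 : IsPGroup p ↥(zpowers z) := IsPGroup.of_card (n := 1) (by rw [Nat.card_zpowers, hz, pow_one])
    have h3 : IsPGroup p ↥((T' : Subgroup G) ⊔ zpowers z : Subgroup G) := by
      rw [sup_comm]
      exact isPGroup_sup_of_norm h2 T'.isPGroup' h1
    have h4 := T'.is_maximal' h3 le_sup_left
    rw [← h4]
    exact mem_sup_right (mem_zpowers z)
  have hgz : MulAut.conj g z ∈ zpowers z₀ := by
    apply hT
    · rw [← hg]
      have h1 := Subgroup.smul_mem_pointwise_smul _ (MulAut.conj g) (T' : Subgroup G) hzT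
      rw [← Sylow.coe_subgroup_smul] at h1
      exact h1
    · intro t ht
      rw [← hg] at ht
      rw [Sylow.coe_subgroup_smul] at ht
      obtain ⟨t', ht', rfl⟩ := (Subgroup.mem_smul_pointwise_iff_exists _ _ _).1 ht
      have h1 := mem_centralizer_singleton_iff.1 (hT' ht')
      change MulAut.conj g t' * MulAut.conj g z = MulAut.conj g z * MulAut.conj g t'
      rw [← map_mul, h1, map_mul]
    · rw [← map_pow, ← hz, pow_orderOf_eq_one, map_one]
  have ho : orderOf (MulAut.conj g z) = p := by rw [MulEquiv.orderOf_eq, hz]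
  have heq : zpowers (MulAut.conj g z) = zpowers z₀ := by
    apply Subgroup.eq_of_le_of_card_ge (zpowers_le.2 hgz)
    rw [Nat.card_zpowers, Nat.card_zpowers, ho, hz₀]
  have hcent : centralizer ({MulAut.conj g z} : Set G) = centralizer ({z₀} : Set G) := by
    have key : ∀ {a b : G}, a ∈ zpowers b → centralizer ({b} : Set G) ≤ centralizer ({a} : Set G) := by
      rintro _ b ⟨k, rfl⟩ x hx
      rw [mem_centralizer_singleton_iff] at hx ⊢
      exact ((show Commute x b from hx).zpow_right k).eq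
    refine le_antisymm (key ?_) (key hgz)
    rw [heq]
    exact mem_zpowers z₀
  have h1 : RowAt p (MulAut.conj g z) := by
    intro A hA hzA hAc hN hcard
    rw [hcent] at hAc hN
    refine h A hA ?_ hAc hN hcard
    have h2 : z₀ ∈ zpowers (MulAut.conj g z) := by
      rw [heq]
      exact mem_zpowers z₀
    exact (zpowers_le.2 hzA) h2
  have h2 := h1.map (MulAut.conj g).symm
  rwa [MulEquiv.symm_apply_apply] at h2

variable {H : Type*} [Group H] [Finite H] {p : ℕ} [Fact p.Prime] {S : Sylow p H} {C Q P V W K : Subgroup H}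

/-- the normalizer of a subgroup of the normal subgroup `K` -/
theorem subgroupOf_normalizer_le (hK : K.Normal) {A B : Subgroup H} (hA : A ≤ K) (hB : B ≤ K)
    (h : normalizer (A : Set H) ≤ normalizer (B : Set H)) :
    normalizer ((A.subgroupOf K : Subgroup K) : Set K) ≤ normalizer ((B.subgroupOf K : Subgroup K) : Set K) := by
  intro x hx
  have h1 : (x : H) ∈ normalizer (A : Set H) := by
    rw [mem_normalizer_iff] at hx ⊢
    intro a
    constructor
    · intro ha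
      exact mem_subgroupOf.1 ((hx ⟨a, hA ha⟩).1 (mem_subgroupOf.2 ha))
    · intro ha
      have haK : a ∈ K := by
        have h2 := hK.conj_mem _ (hA ha) (x : H)⁻¹
        simpa [mul_assoc] using h2
      exact mem_subgroupOf.1 ((hx ⟨a, haK⟩).2 (mem_subgroupOf.2 ha))
  have h2 := h h1
  rw [mem_normalizer_iff] at h2 ⊢
  intro b
  rw [mem_subgroupOf, mem_subgroupOf]
  exact h2 b

theorem subgroupOf_inj {A B : Subgroup H} (hA : A ≤ K) (hB : B ≤ K) (h : A.subgroupOf K = B.subgroupOf K) : A = B := by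
  have h1 := congrArg (Subgroup.map K.subtype) h
  rwa [subgroupOf_map_subtype, subgroupOf_map_subtype, inf_eq_left.2 hA, inf_eq_left.2 hB] at h1

/-- **The row lemma.** -/
theorem CaseB.rowB (h : CaseB p S C Q P V W) (hK : K.Normal) (hp : p ∣ Nat.card K) (hrow : RowB p ↥K) : False := by
  have hpr : p.Prime := Fact.out
  obtain ⟨z, hzK, hzZ, hz1⟩ := exists_z S hK hp
  have hzo : orderOf z = p := orderOf_eq_prime (mem_om.1 hzZ).2.2 hz1
  have hW₁ : (W ⊓ K).subgroupOf K = W.subgroupOf K := by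
    ext x
    simp [mem_subgroupOf]
  obtain ⟨hcN, hWc⟩ := h.centralizer_le_norm_W₁ hK hzZ hz1
  have hrow1 := hrow ⟨z, hzK⟩ ⟨by rw [Subgroup.orderOf_mk, hzo], by
    obtain ⟨R, hR⟩ := S0542.result p K hK.isSubnormal S
    refine ⟨R, ?_⟩
    rw [hR]
    intro x hx
    rw [mem_centralizer_singleton_iff]
    exact Subtype.ext ((mem_om.1 hzZ).2.1 x (mem_subgroupOf.1 hx))⟩
  have hcent : ∀ x : K, x ∈ centralizer ({(⟨z, hzK⟩ : K)} : Set K) → (x : H) ∈ centralizer ({z} : Set H) := by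
    intro x hx
    rw [mem_centralizer_singleton_iff] at hx ⊢
    exact congrArg Subtype.val hx
  have hnorm : ∀ x : K, (x : H) ∈ normalizer ((W ⊓ K : Subgroup H) : Set H) →
      x ∈ normalizer (((W ⊓ K).subgroupOf K : Subgroup K) : Set K) := by
    intro x hx
    rw [mem_normalizer_iff] at hx ⊢
    intro b
    rw [mem_subgroupOf, mem_subgroupOf]
    exact hx b
  have hrow2 := hrow1 ((W ⊓ K).subgroupOf K) (by
      refine ea_of_comm ?_ ?_
      · intro a ha b hb
        exact Subtype.ext (ea_comm h.Welem (mem_subgroupOf.1 ha).1 (mem_subgroupOf.1 hb).1)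
      · intro a ha
        exact Subtype.ext (h.Welem.2 _ (mem_subgroupOf.1 ha).1))
    (mem_subgroupOf.2 ⟨h.VW (h.ZV hzZ), hzK⟩)
    (by
      intro x hx
      rw [mem_centralizer_singleton_iff]
      have h1 := hWc (mem_subgroupOf.1 hx)
      rw [mem_centralizer_singleton_iff] at h1
      exact Subtype.ext h1)
    (fun x hx => hnorm x (hcN (hcent x hx)))
    (by
      rw [Nat.card_congr (subgroupOfEquivOfLe (show W ⊓ K ≤ K from inf_le_right)).toEquiv]
      exact h.card_W₁ hK hp)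
  rcases hrow2 with h2 | ⟨E, hE, hEp, hEn, hEa⟩
  · refine h.not_irr hK hp fun B hB hB1 hBn => ?_
    have hBK : B ≤ K := hB.trans inf_le_right
    refine subgroupOf_inj hBK inf_le_right (h2 _ ?_ ?_ ?_)
    · intro x hx
      exact mem_subgroupOf.2 (hB (mem_subgroupOf.1 hx))
    · intro h0
      apply hB1
      rw [subgroupOf_eq_bot, disjoint_iff, inf_eq_left.2 hBK] at h0
      exact h0
    · refine subgroupOf_normalizer_le hK inf_le_right hBK ?_
      rw [h.norm_W₁ hK hp]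
      exact hBn
  · apply hEn
    have hEH : E.map K.subtype ≤ K := map_subtype_le _
    have hEE : (E.map K.subtype).subgroupOf K = E := by
      rw [Subgroup.subgroupOf, Subgroup.comap_map_eq_self_of_injective K.subtype_injective]
    have hC : C ≤ normalizer ((E.map K.subtype : Subgroup H) : Set H) := by
      intro c hc
      have h3 : ((W ⊓ K).subgroupOf K).map (MulAut.conjNormal c).toMonoidHom = (W ⊓ K).subgroupOf K := by
        have hcW := h.C_norm_W₁ hK hc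
        ext x
        constructor
        · rintro ⟨y, hy, rfl⟩
          rw [mem_subgroupOf]
          have h4 := ((mem_normalizer_iff.1 hcW) y).1 (mem_subgroupOf.1 hy)
          simpa only [_root_.MulEquiv.toMonoidHom_eq_coe, _root_.MonoidHom.coe_coe, _root_.MulAut.conjNormal_apply, _root_.Subgroup.mem_inf] using h4
        · intro hx
          refine ⟨(MulAut.conjNormal c)⁻¹ x, ?_, ?_⟩
          · rw [SetLike.mem_coe, mem_subgroupOf]
            have h4 := ((mem_normalizer_iff.1 (inv_mem hcW)) x).1 (mem_subgroupOf.1 hx)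
            rw [← map_inv]
            simpa only [_root_.map_inv, _root_.MulAut.inv_apply, _root_.MulAut.conjNormal_symm_apply, _root_.Subgroup.mem_inf, _root_.inv_inv] using h4
          · change (MulAut.conjNormal c) ((MulAut.conjNormal c)⁻¹ x) = x
            rw [← MulAut.mul_apply, mul_inv_cancel, MulAut.one_apply]
      have h5 := hEa _ h3
      have key : ∀ c : H, E.map (MulAut.conjNormal c : MulAut K).toMonoidHom = E → ∀ e ∈ E.map K.subtype,
          c * e * c⁻¹ ∈ E.map K.subtype := by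
        rintro c h5 _ ⟨e, he, rfl⟩
        refine ⟨MulAut.conjNormal c e, ?_, by simp only [_root_.Subgroup.subtype_apply, _root_.MulAut.conjNormal_apply]⟩
        rw [← h5]
        exact mem_map_of_mem _ he
      have h6 : E.map (MulAut.conjNormal c⁻¹ : MulAut K).toMonoidHom = E := by
        nth_rw 1 [← h5]
        rw [Subgroup.map_map]
        have h7 : (MulAut.conjNormal c⁻¹ : MulAut K).toMonoidHom.comp (MulAut.conjNormal c : MulAut K).toMonoidHom =
            MonoidHom.id K := by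
          ext x
          simp only [mul_assoc, _root_.map_inv, _root_.MulEquiv.toMonoidHom_eq_coe, _root_.MonoidHom.coe_comp, _root_.MonoidHom.coe_coe, _root_.MulAut.coe_inv, _root_.Function.comp_apply, _root_.MulEquiv.symm_apply_apply, _root_.MonoidHom.id_apply]
        rw [h7, Subgroup.map_id]
      rw [mem_normalizer_iff]
      intro e
      refine ⟨key c h5 e, fun he => ?_⟩
      have h8 := key c⁻¹ h6 _ he
      simpa only [mul_assoc, _root_.Subgroup.mem_map, _root_.Subgroup.subtype_apply, _root_.Subtype.exists, _root_.exists_and_right, _root_.exists_eq_right, _root_.inv_mul_cancel_left, _root_.inv_inv, _root_.inv_mul_cancel, _root_.mul_one] using h8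
    have hne : E.map K.subtype ≠ ⊥ := by
      intro h0
      apply hE
      rwa [Subgroup.map_eq_bot_iff_of_injective _ K.subtype_injective] at h0
    have h9 := h.norm_eq (hEp.map _) hne hC
    have h10 := subgroupOf_normalizer_le hK hEH (show W ⊓ K ≤ K from inf_le_right) (by rw [h9, h.norm_W₁ hK hp])
    rwa [hEE] at h10

end Cfsg.Agent.H271.PU
end
end

-- part: H271/PU/LocK_mg
section
set_option linter.all false
open scoped Cfsg.Agent.FastGrp

-- part: H271/PU/Red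
section
/-!
# S3046, case B: `F*(H)` is simple (helper271)
-/

set_option autoImplicit false

namespace Cfsg.Agent.H271.PU

open Subgroup Cfsg
open Cfsg.Agent.H229

universe u

variable {H : Type u} [Group H] [Finite H] {p : ℕ} [Fact p.Prime] {S : Sylow p H} {C Q P V W K : Subgroup H}

/-- a non-abelian simple group is not a `p`-group -/
theorem not_isPGroup_of_simple {T : Type*} [Group T] [Finite T] (hs : IsSimpleGroup T) (hna : ¬ IsMulCommutative T)
    (hp : IsPGroup p T) : False := by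
  have : Nontrivial T := hs.toNontrivial
  have h1 : Nontrivial (center T) := hp.center_nontrivial
  rcases (inferInstance : (center T).Normal).eq_bot_or_eq_top with h2 | h2
  · exact (Subgroup.nontrivial_iff_ne_bot _).1 h1 h2
  · apply hna
    refine ⟨⟨fun a b => ?_⟩⟩
    have h3 : b ∈ center T := h2 ▸ mem_top b
    exact (mem_center_iff.1 h3 a)

/-- a group of characteristic `p` has no non-abelian simple normal subgroup -/
theorem no_simple_normal {X T : Subgroup H} (hX : ChP p X) (hTX : T ≤ X) (hn : X ≤ normalizer (T : Set H))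
    (hs : IsSimpleGroup T) (hna : ¬ IsMulCommutative T) : False := by
  have hD := isPGroup_pCoreOf p X
  have h1 : T ≤ normalizer ((T ⊓ pCoreOf p X : Subgroup H) : Set H) := by
    refine le_trans ?_ (norm_inf_le _ _)
    exact le_inf le_normalizer (hTX.trans (le_norm_pCoreOf p X))
  rcases H245.Red.simple_cases hs inf_le_left h1 with h2 | h2
  · have h3 : T ≤ centralizer (pCoreOf p X : Set H) := by
      intro t ht
      rw [mem_centralizer_iff]
      intro d hd
      have h4 : d * t * d⁻¹ * t⁻¹ ∈ T ⊓ pCoreOf p X := by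
        refine ⟨?_, ?_⟩
        · exact T.mul_mem (((mem_normalizer_iff.1 (hn (pCoreOf_le p X hd))) t).1 ht) (T.inv_mem ht)
        · rw [show d * t * d⁻¹ * t⁻¹ = d * (t * d⁻¹ * t⁻¹) by group]
          exact (pCoreOf p X).mul_mem hd (((mem_normalizer_iff.1 (le_norm_pCoreOf p X (hTX ht))) _).1
            ((pCoreOf p X).inv_mem hd))
      rw [h2, mem_bot, mul_inv_eq_one, mul_inv_eq_iff_eq_mul] at h4
      exact h4
    have h5 : T ≤ T ⊓ pCoreOf p X := le_inf le_rfl ((le_inf hTX h3).trans hX)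
    rw [h2, le_bot_iff] at h5
    have := hs.toNontrivial
    exact (Subgroup.nontrivial_iff_ne_bot T).1 inferInstance h5
  · exact not_isPGroup_of_simple hs hna (hD.to_le (inf_eq_left.1 h2))

/-- centralizers of elements of order `p` in a group of local characteristic `p` -/
theorem chP_centralizer (hloc : IsOfLocalCharacteristic p H) {x : H} (hx : orderOf x = p) :
    ChP p (centralizer ({x} : Set H)) :=
  chP_iff.2 (H226.ParRed.cp_centralizer_of_local hloc hx)

/-- nontrivial elements of an elementary abelian group have order `p` -/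
theorem orderOf_of_ea {A : Subgroup H} (hA : IsElementaryAbelian p A) {a : H} (ha : a ∈ A) (h1 : a ≠ 1) :
    orderOf a = p := orderOf_eq_prime (hA.2 a ha) h1

namespace CaseB

variable (h : CaseB p S C Q P V W)
include h

theorem dvd : p ∣ Nat.card H := h.loc.1

/-- `O_p(H) = 1` -/
theorem no_normal_p {N : Subgroup H} (hN : N.Normal) (hp : IsPGroup p N) : N = ⊥ := by
  by_contra hne
  have h1 := h.norm_eq hp hne (by rw [normalizer_eq_top_iff.2 hN]; exact le_top)
  rw [normalizer_eq_top_iff.2 hN] at h1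
  exact h.PC (h1 ▸ le_top)

theorem card_V : p ^ 2 ≤ Nat.card V := by
  have hpr : p.Prime := Fact.out
  have htop : (⊤ : Subgroup H).Normal := inferInstance
  have hd : p ∣ Nat.card (⊤ : Subgroup H) := by
    rw [Nat.card_congr (topEquiv (G := H)).toEquiv]
    exact h.dvd
  have h1 := h.lt_V₁ htop hd
  have h2 := h.Z₁_ne htop hd
  rw [inf_top_eq] at h1 h2
  rw [inf_top_eq] at h1
  have hZp : IsPGroup p ↥(omegaOne p ((S : Subgroup H) ⊓ centralizer ((S : Subgroup H) : Set H))) :=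
    h.Q_isPGroup.to_le h.ZQ
  have hVp : IsPGroup p ↥V := h.Q_isPGroup.to_le h.VQ
  obtain ⟨a, ha⟩ := IsPGroup.iff_card.1 hZp
  obtain ⟨b, hb⟩ := IsPGroup.iff_card.1 hVp
  have h0 : a ≠ 0 := by
    rintro rfl
    rw [pow_zero] at ha
    exact h2 (Subgroup.card_eq_one.1 ha)
  have h3 : a < b := by
    rw [← Nat.pow_lt_pow_iff_right hpr.one_lt, ← ha, ← hb]
    exact Set.ncard_lt_ncard (show ((_ : Subgroup H) : Set H) ⊂ (_ : Set H) from h1) (Set.toFinite _)
  rw [hb]
  exact Nat.pow_le_pow_right hpr.pos (by omega)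

/-- `O_{p'}(H) = 1` -/
theorem no_normal_p' {N : Subgroup H} (hN : N.Normal) (hp : ¬ p ∣ Nat.card N) : N = ⊥ := by
  have hpr : p.Prime := Fact.out
  have hVe : IsElementaryAbelian p V := ea_mono h.Welem h.VW
  have hV := h.card_V
  have hV1 : V ≠ ⊥ := by
    rintro rfl
    rw [Subgroup.card_bot] at hV
    exact absurd (hpr.one_lt.trans_le ((Nat.le_self_pow two_ne_zero p).trans hV)) (lt_irrefl 1)
  have h1 := Lib.CoprimeHyperplane.iSup_centralizer_hyperplane hVe hV1 hp (by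
    rw [normalizer_eq_top_iff.2 hN]; exact le_top)
  rw [eq_bot_iff, ← h1]
  refine iSup_le fun B => ?_
  obtain ⟨B, hBV, hB⟩ := B
  have hB1 : B ≠ ⊥ := by
    rintro rfl
    rw [relIndex_bot_left] at hB
    rw [hB, pow_two] at hV
    exact absurd hV (not_le_of_gt (by nlinarith [hpr.one_lt]))
  obtain ⟨b, hb, hb1⟩ : ∃ b ∈ B, b ≠ 1 := by
    by_contra hcon
    push Not at hcon
    exact hB1 (eq_bot_iff.2 fun b hb => mem_bot.2 (hcon b hb))
  have h2 := H226.ParRed.inf_centralizer_eq_bot hN hp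
    (H226.ParRed.cp_centralizer_of_local h.loc (orderOf_of_ea hVe (hBV hb) hb1))
  rw [← h2]
  exact inf_le_inf_left _ (centralizer_le (by simpa using hb))

/-- **`F*(H)` is simple.** -/
theorem exists_simple : ∃ K : Subgroup H, K.Normal ∧ IsSimpleGroup K ∧ ¬ IsMulCommutative K ∧ p ∣ Nat.card K ∧
    centralizer (K : Set H) = ⊥ := by
  have hpr : p.Prime := Fact.out
  have : Nontrivial H := by
    by_contra hnt
    rw [not_nontrivial_iff_subsingleton] at hnt
    have := h.dvd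
    rw [Nat.card_of_subsingleton (1 : H)] at this
    exact hpr.one_lt.ne' (Nat.dvd_one.1 this)
  obtain ⟨N, hN, hN0, hmin⟩ := H245.Red.exists_min (G := H)
  have hpN : p ∣ Nat.card N := by
    by_contra hp
    exact hN0 (h.no_normal_p' hN hp)
  obtain ⟨m, T, hm, hTN, hTs, hTn, hconj, hcomm, hinj, hind, hsup⟩ :=
    Lib.MinNormal.exists_internal_decomposition N hN0 hmin
  have hcard : ∀ i, Nat.card (T i) = Nat.card (T ⟨0, hm⟩) := by
    intro i
    obtain ⟨g, hg⟩ := hconj ⟨0, hm⟩ i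
    rw [hg]
    exact card_map_of_injective (MulAut.conj g).injective
  have hcN : Nat.card N = Nat.card (T ⟨0, hm⟩) ^ m := by
    obtain ⟨e⟩ := Lib.MinNormal.mulEquiv_pi_of_iSupIndep T (fun i j hij x y hx hy => hcomm i j hij x hx y hy)
      hind hsup
    rw [Nat.card_congr e.toEquiv, Nat.card_pi, Finset.prod_congr rfl (fun i _ => hcard i), Finset.prod_const,
      Finset.card_univ, Fintype.card_fin]
  have hpT : ∀ i, p ∣ Nat.card (T i) := by
    intro i
    rw [hcard]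
    rw [hcN] at hpN
    exact hpr.dvd_of_dvd_pow hpN
  have hna : ∀ i, ¬ IsMulCommutative (T i) := by
    intro i hc
    have h1 : (Nat.card (T i)).Prime := by
      have := hTs i
      have : IsMulCommutative (T i) := hc
      letI : CommGroup (T i) := { (inferInstance : Group (T i)) with mul_comm := hc.is_comm.comm }
      exact IsSimpleGroup.prime_card
    have h2 : Nat.card (T i) = p := ((Nat.prime_dvd_prime_iff_eq hpr h1).1 (hpT i)).symm
    rw [hcard] at h2
    rw [h2] at hcN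
    exact hN0 (h.no_normal_p hN (IsPGroup.of_card hcN))
  have hm1 : m = 1 := by
    by_contra hne
    have hne2 : (⟨0, hm⟩ : Fin m) ≠ ⟨1, by omega⟩ := by
      intro h
      have := congrArg Fin.val h
      simp at this
    obtain ⟨x, hx⟩ := exists_prime_orderOf_dvd_card' p (hpT ⟨0, hm⟩)
    have hx' : orderOf (x : H) = p := by rw [Subgroup.orderOf_coe, hx]
    have h1 : ChP p (centralizer ({(x : H)} : Set H) ⊓ N) := by
      refine (chP_centralizer h.loc hx').normal inf_le_left ?_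
      refine le_trans ?_ (norm_inf_le _ _)
      exact le_inf le_normalizer (le_top.trans (normalizer_eq_top_iff.2 hN).ge)
    refine no_simple_normal h1 (T := T ⟨1, by omega⟩) ?_ (inf_le_right.trans (hTn _)) (hTs _) (hna _)
    refine le_inf ?_ (hTN _)
    intro t ht
    rw [mem_centralizer_singleton_iff]
    exact (hcomm _ _ hne2 x x.2 t ht).eq.symm
  subst hm1
  have hNT : N = T ⟨0, hm⟩ := by
    rw [← hsup]
    apply le_antisymm
    · exact iSup_le fun i => by rw [Subsingleton.elim i ⟨0, hm⟩]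
    · exact le_iSup T _
  have hNs : IsSimpleGroup N := by rw [hNT]; exact hTs _
  have hNna : ¬ IsMulCommutative N := by rw [hNT]; exact hna _
  refine ⟨N, hN, hNs, hNna, hpN, ?_⟩
  by_contra hC0
  have hCn : (centralizer (N : Set H)).Normal := inferInstance
  have hpC : p ∣ Nat.card (centralizer (N : Set H)) := by
    by_contra hp
    exact hC0 (h.no_normal_p' hCn hp)
  obtain ⟨y, hy⟩ := exists_prime_orderOf_dvd_card' p hpC
  have hy' : orderOf (y : H) = p := by rw [Subgroup.orderOf_coe, hy]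
  refine no_simple_normal (chP_centralizer h.loc hy') (T := N) ?_ ?_ hNs hNna
  · intro n hn
    rw [mem_centralizer_singleton_iff]
    exact mem_centralizer_iff.1 y.2 n hn
  · rw [normalizer_eq_top_iff.2 hN]
    exact le_top

/-- elements of order `p` of `K` have centralizers of characteristic `p` -/
theorem loc_K (hK : K.Normal) : H238.Loc p ↥K :=
  H239.LocRed.loc_sub (H239.LocRed.loc_of_local h.loc) hK

end CaseB

end Cfsg.Agent.H271.PU
end

-- part: H271/PU/LocK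
section
/-!
# Local characteristic `p` for normal subgroups (helper271)
-/

set_option autoImplicit false

namespace Cfsg.Agent.H271.PU

open Subgroup Cfsg
open Cfsg.Agent.H229
open Cfsg.Agent.H239.CharPLocal (CP)

universe u

variable {H : Type u} [Group H] [Finite H] {p : ℕ} [Fact p.Prime] {K : Subgroup H}

/-- local characteristic `p` passes to normal subgroups of order divisible by `p` -/
theorem local_of_normal (hloc : IsOfLocalCharacteristic p H) (hK : K.Normal) (hp : p ∣ Nat.card K) :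
    IsOfLocalCharacteristic p ↥K := by
  refine ⟨hp, fun T hT hT1 => ?_⟩
  have hT1' : T.map K.subtype ≠ ⊥ := by
    intro h0
    apply hT1
    rwa [Subgroup.map_eq_bot_iff_of_injective _ K.subtype_injective] at h0
  have h1 : CP p ↥(normalizer ((T.map K.subtype : Subgroup H) : Set H)) := hloc.2 _ (hT.map _) hT1'
  have h2 : (K.subgroupOf (normalizer ((T.map K.subtype : Subgroup H) : Set H))).Normal := inferInstance
  have h3 := h1.normal (K.subgroupOf (normalizer ((T.map K.subtype : Subgroup H) : Set H)))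
  have e1 : (K.subgroupOf (normalizer ((T.map K.subtype : Subgroup H) : Set H))).map
      (normalizer ((T.map K.subtype : Subgroup H) : Set H)).subtype = (normalizer (T : Set K)).map K.subtype := by
    rw [subgroupOf_map_subtype]
    ext x
    constructor
    · rintro ⟨hxK, hxN⟩
      refine ⟨⟨x, hxK⟩, ?_, rfl⟩
      rw [SetLike.mem_coe, mem_normalizer_iff] at *
      intro t
      have h4 := hxN (t : H)
      constructor
      · intro ht
        obtain ⟨t', ht', h5⟩ := h4.1 ⟨t, ht, rfl⟩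
        have h6 : t' = ⟨x, hxK⟩ * t * (⟨x, hxK⟩ : K)⁻¹ := Subtype.ext h5
        rwa [← h6]
      · intro ht
        obtain ⟨t', ht', h5⟩ := h4.2 ⟨_, ht, rfl⟩
        have h6 : t' = t := Subtype.ext h5
        rwa [← h6]
    · rintro ⟨y, hy, rfl⟩
      refine ⟨y.2, ?_⟩
      rw [SetLike.mem_coe, mem_normalizer_iff] at *
      intro t
      constructor
      · rintro ⟨t', ht', rfl⟩
        exact ⟨y * t' * y⁻¹, (hy t').1 ht', rfl⟩
      · rintro ⟨t', ht', h5⟩
        refine ⟨y⁻¹ * t' * y, ?_, ?_⟩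
        · rw [SetLike.mem_coe, hy]
          simpa [mul_assoc] using ht'
        · have h6 : (t' : H) = y * t * (y : H)⁻¹ := h5
          change (y : H)⁻¹ * (t' : H) * y = t
          rw [h6]
          group
  have e2 := (K.subgroupOf (normalizer ((T.map K.subtype : Subgroup H) : Set H))).equivMapOfInjective _
    (normalizer ((T.map K.subtype : Subgroup H) : Set H)).subtype_injective
  have e3 := (normalizer (T : Set K)).equivMapOfInjective _ K.subtype_injective
  exact (h3.of_equiv e2).of_equiv ((MulEquiv.subgroupCongr e1).trans e3.symm)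

/-- the case `p = 2` -/
theorem charTwoType_of_normal {H : Type u} [Group H] [Finite H] {K : Subgroup H} (hloc : IsOfLocalCharacteristic 2 H)
    (hK : K.Normal) (hp : 2 ∣ Nat.card K) : IsCharacteristicTwoType ↥K := by
  have : Fact (Nat.Prime 2) := ⟨Nat.prime_two⟩
  have h1 := local_of_normal hloc hK hp
  exact ⟨(even_iff_two_dvd).2 h1.1, h1.2⟩

end Cfsg.Agent.H271.PU
end

-- part: H17/PU/Mathieu
section
/-!
# S3046, case B, `p = 2`: the row `M24` and the local facts for `M22`, `M23` (helper17)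

`RowB 2 G` for `G ≅ M24`. `z` = the 2-central involution, `E1` = the octad group, `E2` = the other normal elementary abelian
subgroup of order 16 of `C(z)`: an elementary abelian normal subgroup `A ∋ z` of `C(z)` is `⟨z⟩`, `E1` or `E2`.
-/

set_option autoImplicit false

namespace Cfsg.Agent.H17.PU.Mathieu

open Subgroup Cfsg Cfsg.Agent.KFacts.M24Two Cfsg.Agent.KFacts.M24Pair.Letters
open Cfsg.Agent.SporadicA.GolayBase Cfsg.Agent.SporadicA.GolayPerm Cfsg.Agent.SporadicStructure.M24El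
open Cfsg.Agent.KFacts.M24Two.CentZ (z zz z_ne z_eq C mem_C E1 E2 mem_E1 mem_E2 E1_normal E2_normal xx_mem_C
  mem_E1_of_comm E1_trans E2_trans E1_comm ev_mem_cl xx_mem ev_singleton conj_of_weq)
open Cfsg.Agent.OddHalf.D4.Spor.MTwentyFour (E1_sq E2_sq E1_cent_E2 cen_z center_sylow isPGroup_of_sq)
open Cfsg.Agent.H271.PU
open Cfsg.Agent.H229

theorem z_mem_E1 : z ∈ E1 := xx_mem (r := 3) (by decide)

theorem z_mem_E2 : z ∈ E2 := xx_mem (rs := [3, 6, 8, 9]) (r := 3) (by decide)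

section

variable {A : Subgroup M24}

theorem E1_le_of (hz : z ∈ A) (hN : ∀ c ∈ C, ∀ a ∈ A, c * a * c⁻¹ ∈ A) {b : M24} (hb : b ∈ A) (hbE : b ∈ E1)
    (h1 : b ≠ 1) (h2 : b ≠ z) : E1 ≤ A := by
  intro x hx
  by_cases hx1 : x = 1
  · rw [hx1]; exact A.one_mem
  by_cases hxz : x = z
  · rw [hxz]; exact hz
  obtain ⟨c, hc, hc'⟩ := E1_trans hx hx1 hxz
  obtain ⟨d, hd, hd'⟩ := E1_trans hbE h1 h2
  have h3 : x = c * d⁻¹ * b * (c * d⁻¹)⁻¹ := by rw [← hc', ← hd']; group
  rw [h3]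
  exact hN _ (C.mul_mem hc (C.inv_mem hd)) _ hb

theorem E2_le_of (hz : z ∈ A) (hN : ∀ c ∈ C, ∀ a ∈ A, c * a * c⁻¹ ∈ A) {b : M24} (hb : b ∈ A) (hbE : b ∈ E2)
    (h1 : b ≠ 1) (h2 : b ≠ z) : E2 ≤ A := by
  intro x hx
  by_cases hx1 : x = 1
  · rw [hx1]; exact A.one_mem
  by_cases hxz : x = z
  · rw [hxz]; exact hz
  obtain ⟨c, hc, hc'⟩ := E2_trans hx hx1 hxz
  obtain ⟨d, hd, hd'⟩ := E2_trans hbE h1 h2
  have h3 : x = c * d⁻¹ * b * (c * d⁻¹)⁻¹ := by rw [← hc', ← hd']; group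
  rw [h3]
  exact hN _ (C.mul_mem hc (C.inv_mem hd)) _ hb

/-- words for the elements of a normal subgroup `A` of `C ∩ K` with `A ∩ E1 ≤ ⟨z⟩` -/
theorem words_of (hAC : A ≤ C) (hN : ∀ r < 4, ∀ a ∈ A, xx r * a * (xx r)⁻¹ ∈ A)
    (h : ∀ b ∈ A, b ∈ E1 → b = 1 ∨ b = z) {a : M24} (ha : a ∈ A) :
    ∃ f ∈ QGroup.LF, ∃ e ∈ CentZ.LE1, a = ev (f ++ e) := by
  apply QGroup.mem_words (hAC ha)
  intro r hr
  have hr4 : r < 4 := by revert r; decide
  have hr12 : r < 12 := by omega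
  have hrE : xx r ∈ E1 := xx_mem (by revert r; decide)
  have haC := hAC ha
  have h1 : a * xx r * a⁻¹ * (xx r)⁻¹ ∈ E1 := mul_mem (E1_normal haC hrE) (inv_mem hrE)
  have h2 : a * xx r * a⁻¹ * (xx r)⁻¹ ∈ A := by
    have e1 : a * xx r * a⁻¹ * (xx r)⁻¹ = a * (xx r * a⁻¹ * (xx r)⁻¹) := by group
    rw [e1]
    exact mul_mem ha (hN r hr4 _ (inv_mem ha))
  rcases h _ h2 h1 with h3 | h3
  · left
    rwa [mul_inv_eq_one] at h3
  · right
    have h4 : a * xx r * a⁻¹ = z * xx r := by rw [← h3]; group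
    rw [h4]
    exact (mem_C.1 (xx_mem_C hr12)).symm

theorem ev_LF_mem {f : List ℕ} (hf : f ∈ QGroup.LF) : ev f ∈ E2 := ev_mem_cl (QGroup.LF_sub f hf)

private noncomputable def _root_.Cfsg.Agent.GolayF.f0 : {f // @Cfsg.Agent.KFacts.M24Pair.Letters.weqb = f} :=
  ⟨_, by delta Cfsg.Agent.KFacts.M24Pair.Letters.weqb Cfsg.Agent.SporadicStructure.M24El.prodW Cfsg.Agent.SporadicStructure.M24El.prodW._f; rewrite [Cfsg.Agent.GolayF.pcomp_eq]; exact rfl⟩

/-- the letters `4, 5, 10` (commuting with `X14`) move the elements of `E2 - ⟨z⟩` modulo `⟨z⟩` -/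
theorem move_E2 : ∀ w ∈ CentZ.LE2, w = [] ∨ w = [3] ∨ ∃ k ∈ [4, 5, 10], ∃ v ∈ CentZ.LE2,
    weqb (k :: w) (v ++ [k]) = true ∧ ∃ u ∈ CentZ.LE2, weqb v (u ++ w) = true ∧ u ≠ [] ∧ u ≠ [3] := by
  (rewrite [Cfsg.Agent.GolayF.f0.2]; decide +kernel)

private noncomputable def _root_.Cfsg.Agent.GolayF.f1 : {f // @Cfsg.Agent.KFacts.M24Two.Octad.wneb = f} :=
  ⟨_, by delta Cfsg.Agent.KFacts.M24Two.Octad.wneb Cfsg.Agent.SporadicStructure.M24El.prodW Cfsg.Agent.SporadicStructure.M24El.prodW._f; rewrite [Cfsg.Agent.GolayF.papp_eq, Cfsg.Agent.GolayF.pcomp_eq]; exact rfl⟩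

theorem LE2_ne {u : List ℕ} (hu : u ∈ CentZ.LE2) (h1 : u ≠ []) (h2 : u ≠ [3]) : ev u ≠ 1 ∧ ev u ≠ z := by
  have key : ∀ u ∈ CentZ.LE2, u = [] ∨ u = [3] ∨ (Octad.wneb u [] && Octad.wneb u [3]) = true := by (rewrite [Cfsg.Agent.GolayF.f1.2]; decide +kernel)
  rcases key u hu with h | h | h
  · exact absurd h h1
  · exact absurd h h2
  · rw [Bool.and_eq_true] at h
    have h3 := Octad.ne_of_wneb h.1
    have h4 := Octad.ne_of_wneb h.2
    rw [ev_nil] at h3
    rw [ev_singleton, ← z_eq] at h4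
    exact ⟨h3, h4⟩

/-- **The elementary abelian normal subgroups of `C(z)` containing `z`.** -/
theorem dich (hcomm : ∀ a ∈ A, ∀ b ∈ A, a * b = b * a) (hz : z ∈ A) (hAC : A ≤ C)
    (hN : ∀ c ∈ C, ∀ a ∈ A, c * a * c⁻¹ ∈ A) : A = E1 ∨ A = E2 ∨ ∀ a ∈ A, a = 1 ∨ a = z := by
  by_cases hA1 : ∃ b ∈ A, b ∈ E1 ∧ b ≠ 1 ∧ b ≠ z
  · left
    obtain ⟨b, hb, hbE, h1, h2⟩ := hA1
    have h3 := E1_le_of hz hN hb hbE h1 h2
    refine le_antisymm (fun a ha => ?_) h3
    apply mem_E1_of_comm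
    intro r hr
    exact hcomm a ha _ (h3 (xx_mem hr))
  right
  push Not at hA1
  have hE1 : ∀ b ∈ A, b ∈ E1 → b = 1 ∨ b = z := by
    intro b hb hbE
    by_cases h1 : b = 1
    · exact Or.inl h1
    · exact Or.inr (hA1 b hb hbE h1)
  have hw : ∀ a ∈ A, ∃ f ∈ QGroup.LF, ∃ e ∈ CentZ.LE1, a = ev (f ++ e) := fun a ha =>
    words_of hAC (fun r hr a ha => hN _ (xx_mem_C (by omega)) a ha) hE1 ha
  by_cases hA2 : ∃ b ∈ A, b ∈ E2 ∧ b ≠ 1 ∧ b ≠ z
  · left
    obtain ⟨b, hb, hbE, h1, h2⟩ := hA2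
    have h3 := E2_le_of hz hN hb hbE h1 h2
    refine le_antisymm (fun a ha => ?_) h3
    obtain ⟨f, hf, e, he, rfl⟩ := hw a ha
    have hfE := ev_LF_mem hf
    rw [ev_append] at ha ⊢
    have h4 : ev e ∈ A := by
      have := A.mul_mem (A.inv_mem (h3 hfE)) ha
      rwa [inv_mul_cancel_left] at this
    refine E2.mul_mem hfE ?_
    rcases hE1 _ h4 (mem_E1.2 ⟨e, he, rfl⟩) with h5 | h5
    · rw [h5]; exact E2.one_mem
    · rw [h5]; exact z_mem_E2
  · right
    push Not at hA2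
    intro a ha
    obtain ⟨f, hf, e, he, h0⟩ := hw a ha
    rw [ev_append] at h0
    have hfE := ev_LF_mem hf
    have heE : ev e ∈ E1 := mem_E1.2 ⟨e, he, rfl⟩
    by_cases he1 : ev e = 1
    · have h1 : a ∈ E2 := by rw [h0, he1, mul_one]; exact hfE
      by_cases h2 : a = 1
      · exact Or.inl h2
      · exact Or.inr (hA2 a ha h1 h2)
    by_cases hez : ev e = z
    · have h1 : a ∈ E2 := by rw [h0, hez]; exact E2.mul_mem hfE z_mem_E2
      by_cases h2 : a = 1
      · exact Or.inl h2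
      · exact Or.inr (hA2 a ha h1 h2)
    exfalso
    obtain ⟨c, hc, hc'⟩ := E1_trans heE he1 hez
    -- `a' = f' X14`
    have ha' : c⁻¹ * a * c ∈ A := by
      have := hN _ (C.inv_mem hc) a ha
      rwa [inv_inv] at this
    have hf' : c⁻¹ * ev f * c ∈ E2 := by
      have := E2_normal (C.inv_mem hc) hfE
      rwa [inv_inv] at this
    have h1 : c⁻¹ * a * c = c⁻¹ * ev f * c * xx 2 := by
      rw [h0, ← hc']; group
    obtain ⟨w, hw', hw2⟩ := mem_E2.1 hf'
    rw [hw2] at h1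
    have h2E : xx 2 ∈ E1 := xx_mem (by decide)
    rcases move_E2 w hw' with rfl | rfl | ⟨k, hk, v, hv, h3, u, hu, h4, h5, h6⟩
    · rw [ev_nil, one_mul] at h1
      rw [h1] at ha'
      rcases hE1 _ ha' h2E with h2 | h2
      · exact Octad.x14_ne h2
      · exact Octad.z_ne_x14 h2.symm
    · rw [ev_singleton, ← z_eq] at h1
      have h7 : xx 2 ∈ A := by
        have := A.mul_mem (A.inv_mem hz) ha'
        rwa [h1, inv_mul_cancel_left] at this
      rcases hE1 _ h7 h2E with h2 | h2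
      · exact Octad.x14_ne h2
      · exact Octad.z_ne_x14 h2.symm
    · have hk12 : k < 12 := by
        clear h3
        revert k; decide
      have hk2 : xx k * xx 2 * (xx k)⁻¹ = xx 2 := by
        have h8 : ∀ k ∈ [4, 5, 10], weqb ([k] ++ [2]) ([2] ++ [k]) = true := by (rewrite [Cfsg.Agent.GolayF.f0.2]; decide +kernel)
        have := conj_of_weq (h8 k hk)
        rwa [ev_singleton, ev_singleton] at this
      have h7 : xx k * ev w * (xx k)⁻¹ = ev u * ev w := by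
        have := conj_of_weq (c := [k]) (r := w) (w := v) h3
        rw [ev_singleton] at this
        rw [this, weq h4, ev_append]
      have h8 : ev u ∈ A := by
        have h9 := A.mul_mem (hN _ (xx_mem_C hk12) _ ha') (A.inv_mem ha')
        have h10 : xx k * (c⁻¹ * a * c) * (xx k)⁻¹ * (c⁻¹ * a * c)⁻¹ = ev u := by
          rw [h1]
          calc xx k * (ev w * xx 2) * (xx k)⁻¹ * (ev w * xx 2)⁻¹
              = (xx k * ev w * (xx k)⁻¹) * (xx k * xx 2 * (xx k)⁻¹) * (ev w * xx 2)⁻¹ := by group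
            _ = ev u * ev w * xx 2 * (ev w * xx 2)⁻¹ := by rw [h7, hk2]
            _ = ev u := by group
        rwa [h10] at h9
      obtain ⟨h9, h10⟩ := LE2_ne hu h5 h6
      exact h10 (hA2 _ h8 (mem_E2.2 ⟨u, hu, rfl⟩) h9)

end

/-! ### The row `M24` -/

/-- no element normalising `E2` maps `z` to `X25` -/
theorem no_k (k : M24) (hkE : ∀ f ∈ E2, k * f * k⁻¹ ∈ E2) : k * z * k⁻¹ ≠ xx 6 := by
  intro hkz
  have hkE' : ∀ f ∈ E2, k⁻¹ * f * k ∈ E2 := by
    intro f hf
    have h1 : E2.map (MulAut.conj k).toMonoidHom = E2 := by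
      apply Subgroup.eq_of_le_of_card_ge
      · rintro _ ⟨x, hx, rfl⟩
        exact hkE x hx
      · exact (Nat.card_congr (E2.equivMapOfInjective _ (MulAut.conj k).injective).toEquiv).le
    rw [← h1] at hf
    obtain ⟨x, hx, rfl⟩ := hf
    have e1 : k⁻¹ * (MulAut.conj k).toMonoidHom x * k = x := by
      show k⁻¹ * (k * x * k⁻¹) * k = x
      group
    rw [e1]
    exact hx
  set d := ev [12, 0, 13] with hd
  have hd6 : d * xx 6 = xx 6 * d := by
    have h1 := weq Out.c_comm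
    have h2 : ev [12, 0, 13, 6] = d * xx 6 := by
      rw [show [12, 0, 13, 6] = [12, 0, 13] ++ [6] from rfl, ev_append, ev_singleton]
    have h3 : ev [6, 12, 0, 13] = xx 6 * d := ev_cons _ _
    rw [← h2, ← h3, h1]
  have hdC : k⁻¹ * d * k ∈ C := by
    rw [mem_C]
    have e1 : z = k⁻¹ * xx 6 * k := by rw [← hkz]; group
    calc k⁻¹ * d * k * z = k⁻¹ * d * k * (k⁻¹ * xx 6 * k) := by rw [← e1]
      _ = k⁻¹ * (d * xx 6) * k := by group
      _ = k⁻¹ * xx 6 * k * (k⁻¹ * d * k) := by rw [hd6]; group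
      _ = z * (k⁻¹ * d * k) := by rw [← e1]
  have h8 : d * xx 8 * d⁻¹ ∈ E2 := by
    have h1 := hkE _ (E2_normal hdC (hkE' _ (xx_mem (rs := [3, 6, 8, 9]) (r := 8) (by decide))))
    have e1 : k * (k⁻¹ * d * k * (k⁻¹ * xx 8 * k) * (k⁻¹ * d * k)⁻¹) * k⁻¹ = d * xx 8 * d⁻¹ := by group
    rwa [e1] at h1
  obtain ⟨w, hw, h9⟩ := mem_E2.1 h8
  apply Octad.ne_of_wneb (List.all_eq_true.1 Out.c_move w hw)
  rw [ev_append, ev_append, ev_singleton, ← h9, ← hd]; group

/-- `N(E2) ≤ C(z)` -/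
theorem fix_z_of_E2 (g : M24) (hg : ∀ f ∈ E2, g * f * g⁻¹ ∈ E2) : g ∈ C := by
  rw [mem_C]
  by_contra hne
  have h1 : g * z * g⁻¹ ∈ E2 := hg _ z_mem_E2
  have h2 : g * z * g⁻¹ ≠ 1 := by
    intro h
    apply z_ne
    calc z = g⁻¹ * (g * z * g⁻¹) * g := by group
      _ = 1 := by rw [h]; group
  have h3 : g * z * g⁻¹ ≠ z := by
    intro h
    apply hne
    calc g * z = g * z * g⁻¹ * g := by group
      _ = z * g := by rw [h]
  obtain ⟨c, hc, hc'⟩ := E2_trans h1 h2 h3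
  apply no_k (c⁻¹ * g)
  · intro f hf
    have h4 := E2_normal (C.inv_mem hc) (hg f hf)
    have e1 : c⁻¹ * g * f * (c⁻¹ * g)⁻¹ = c⁻¹ * (g * f * g⁻¹) * c⁻¹⁻¹ := by group
    rw [e1]; exact h4
  · have e1 : c⁻¹ * g * z * (c⁻¹ * g)⁻¹ = c⁻¹ * (g * z * g⁻¹) * c := by group
    rw [e1, ← hc']; group

/-- `N(E1)` is transitive on `E1 - 1` -/
theorem trans_N {u : M24} (hu : u ∈ E1) (hu1 : u ≠ 1) : ∃ k ∈ Octad.N, k * z * k⁻¹ = u := by
  by_cases h : u = xx 2
  · obtain ⟨k, hk, hk', -⟩ := Octad.exists_pair hu z_mem_E1 hu1 z_ne (by rw [h]; exact Octad.z_ne_x14.symm)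
    exact ⟨k, hk, hk'⟩
  · obtain ⟨k, hk, hk', -⟩ := Octad.exists_pair hu Octad.x14_mem hu1 Octad.x14_ne h
    exact ⟨k, hk, hk'⟩

theorem conj_mem_of_le_normalizer {G : Type*} [Group G] {A B : Subgroup G} (h : B ≤ normalizer (A : Set G)) {c : G}
    (hc : c ∈ B) : ∀ a ∈ A, c * a * c⁻¹ ∈ A := fun a ha => (mem_normalizer_iff.1 (h hc) a).1 ha

theorem card_le_two {G : Type*} [Group G] {A : Subgroup G} {z : G} (h : ∀ a ∈ A, a = 1 ∨ a = z) : Nat.card A ≤ 2 := by
  by_cases hz : z ∈ A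
  · have h3 : Function.Surjective (fun i : Fin 2 => if i = 0 then (1 : A) else ⟨z, hz⟩) := by
      intro x
      rcases h x x.2 with h4 | h4
      · refine ⟨0, ?_⟩
        show (if (0 : Fin 2) = 0 then (1 : A) else ⟨z, hz⟩) = x
        rw [if_pos rfl]; exact Subtype.ext h4.symm
      · refine ⟨1, ?_⟩
        show (if (1 : Fin 2) = 0 then (1 : A) else ⟨z, hz⟩) = x
        rw [if_neg (by decide)]; exact Subtype.ext h4.symm
    have h4 := Nat.card_le_card_of_surjective _ h3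
    rwa [Nat.card_eq_fintype_card (α := Fin 2), Fintype.card_fin] at h4
  · have h1 : A = ⊥ := by
      rw [eq_bot_iff_forall]
      intro x hx
      rcases h x hx with h2 | h2
      · exact h2
      · exact absurd (h2 ▸ hx) hz
    rw [h1, Subgroup.card_bot]
    norm_num

theorem rowAt_z : RowAt 2 z := by
  intro A hA hz hAc hN hcard
  have hN' : ∀ c ∈ C, ∀ a ∈ A, c * a * c⁻¹ ∈ A := fun c hc => conj_mem_of_le_normalizer hN hc
  have hcomm : ∀ a ∈ A, ∀ b ∈ A, a * b = b * a := fun a ha b hb => ea_comm hA ha hb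
  rcases dich hcomm hz hAc hN' with rfl | rfl | h
  · left
    intro B hB hB1 hBn
    refine le_antisymm hB fun x hx => ?_
    by_cases hx1 : x = 1
    · rw [hx1]; exact B.one_mem
    obtain ⟨b, hb, hb1⟩ : ∃ b ∈ B, b ≠ 1 := by
      by_contra hcon
      push Not at hcon
      exact hB1 (eq_bot_iff_forall _ |>.2 hcon)
    obtain ⟨k, hk, hk'⟩ := trans_N hx hx1
    obtain ⟨l, hl, hl'⟩ := trans_N (hB hb) hb1
    have h3 : x = k * l⁻¹ * b * (k * l⁻¹)⁻¹ := by rw [← hk', ← hl']; group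
    rw [h3]
    exact conj_mem_of_le_normalizer hBn (mul_mem hk (inv_mem hl)) _ hb
  · right
    refine ⟨E1, ?_, isPGroup_of_sq fun x hx => E1_sq hx, ?_, ?_⟩
    · intro h
      have h1 := z_mem_E1
      rw [h, mem_bot] at h1
      exact z_ne h1
    · intro h
      have h14 : xx 14 ∈ normalizer (E1 : Set M24) := Octad.xx_mem_N (Or.inr (Or.inl rfl))
      have h1 := conj_mem_of_le_normalizer h h14 _ z_mem_E2
      have hgz : xx 14 * z * (xx 14)⁻¹ = xx 2 := by
        have h1 := conj_of_weq (c := [14]) (r := [3]) (w := [2]) (by (rewrite [Cfsg.Agent.GolayF.f0.2]; decide +kernel))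
        simpa only [ev_singleton, z_eq] using h1
      rw [hgz] at h1
      rcases E1_cent_E2 Octad.x14_mem (fun y hy => hcomm _ h1 _ hy) with h2 | h2
      · exact Octad.x14_ne h2
      · exact Octad.z_ne_x14 h2.symm
    · intro α hα
      obtain ⟨k, rfl⟩ := Out.exists_conj α
      have hk : k ∈ C := by
        apply fix_z_of_E2
        intro f hf
        have h1 : (MulAut.conj k).toMonoidHom f ∈ E2 := by
          rw [← hα]; exact mem_map_of_mem _ hf
        exact h1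
      apply Subgroup.eq_of_le_of_card_ge
      · rintro _ ⟨x, hx, rfl⟩
        exact E1_normal hk hx
      · exact (Nat.card_congr (E1.equivMapOfInjective _ (MulAut.conj k).injective).toEquiv).le
  · exfalso
    have h1 := card_le_two h
    have h2 := hcard.trans h1
    norm_num at h2

/-- **The row `M24`.** -/
theorem rowB_M24 : RowB 2 M24 := by
  have := Fact.mk Nat.prime_two
  obtain ⟨S, hS⟩ := cen_z
  refine rowB_of_center (T := S) (z₀ := z) (fun y _ hy _ => ?_) (orderOf_eq_prime (by rw [pow_two]; exact zz) z_ne) rowAt_z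
  rcases center_sylow hS hy with h | h
  · rw [h]; exact one_mem _
  · rw [h]; exact mem_zpowers z

theorem rowB_m24 {K : Type*} [Group K] [Finite K] (h : Spor.IsoM24 K) : RowB 2 K := by
  have := Fact.mk Nat.prime_two
  obtain ⟨e⟩ := h
  exact rowB_M24.congr e.symm

end Cfsg.Agent.H17.PU.Mathieu
end

-- part: H17/PU/MathieuSmall
section
/-!
# S3046, case B, `p = 2`: the rows `M22`, `M23` (helper17)

`K ≤ M24` between the stabilizer of the points `6`, `15` and the stabilizer of the point `6` of the octad of `z`.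
-/

set_option autoImplicit false

namespace Cfsg.Agent.H17.PU.MathieuSmall

open Subgroup Cfsg Cfsg.Agent.KFacts.M24Two Cfsg.Agent.KFacts.M24Pair.Letters
open Cfsg.Agent.SporadicA.GolayBase Cfsg.Agent.SporadicA.GolayPerm Cfsg.Agent.SporadicStructure.M24El
open Cfsg.Agent.KFacts.M24Two.CentZ (z zz z_ne z_eq C mem_C E1 mem_E1 E1_normal xx_mem_C
  mem_E1_of_comm E1_comm ev_mem xx_mem ev_singleton conj_of_weq ev_smul papp_word_lt)
open Cfsg.Agent.OddHalf.D4.Spor.MTwentyFour (E1_sq isPGroup_of_sq)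
open Cfsg.Agent.H17.PU.Mathieu
open Cfsg.Agent.H271.PU
open Cfsg.Agent.H229

/-! ### Data -/

/-- `(w, c)`: `c X13 c⁻¹ = w` -/
def T6 : List (List ℕ × List ℕ) := [([1], []), ([2], [11, 7]), ([1, 2], [7, 6]), ([1, 3], [8, 6, 5]),
  ([2, 3], [11, 4, 8, 7, 4]), ([1, 2, 3], [8, 7, 5])]

/-- `(w, c)`: `c X12 c⁻¹ = w` -/
def T8 : List (List ℕ × List ℕ) := [([0], []), ([0, 1], [11, 9, 4]), ([0, 2], [8, 7, 5]), ([0, 3], [7, 6]),
  ([0, 1, 2], [7, 9, 4]), ([0, 1, 3], [9, 6, 4]), ([0, 2, 3], [8, 6, 5]), ([0, 1, 2, 3], [5, 9, 8, 4])]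

/-- `(w, c)`: `c X15 c⁻¹ = w` -/
def TN : List (List ℕ × List ℕ) := [([0], [6, 14, 11, 10, 11, 15, 10]), ([1], [7, 11, 14, 4, 10]),
  ([2], [14, 4, 10]), ([3], []), ([0, 1], [15, 5, 10, 11, 14, 10]), ([0, 2], [6, 14, 11, 10, 11, 14, 4]),
  ([0, 3], [8, 14, 11, 10, 11, 15, 5]), ([1, 2], [11, 14, 4, 10, 6]), ([1, 3], [7, 11, 15, 10, 4]),
  ([2, 3], [15, 10, 4]), ([0, 1, 2], [10, 11, 14, 5, 11, 10, 4]), ([0, 1, 3], [15, 10, 11, 14, 10, 6]),
  ([0, 2, 3], [14, 11, 10, 11, 14, 9]), ([1, 2, 3], [11, 15, 10, 9]), ([0, 1, 2, 3], [7, 15, 10, 11, 14, 10])]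

/-- the word `c` fixes the points `6` and `15` -/
def fixb (c : List ℕ) : Bool := Nat.beq (papp (prodW gx c) 6) 6 && Nat.beq (papp (prodW gx c) 15) 15

private noncomputable def _root_.Cfsg.Agent.GolayF.f2 : {f // @Cfsg.Agent.H17.PU.MathieuSmall.fixb = f} :=
  ⟨_, by delta Cfsg.Agent.H17.PU.MathieuSmall.fixb Cfsg.Agent.SporadicStructure.M24El.prodW Cfsg.Agent.SporadicStructure.M24El.prodW._f; rewrite [Cfsg.Agent.GolayF.papp_eq, Cfsg.Agent.GolayF.pcomp_eq]; exact rfl⟩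

theorem T6_ok : (T6.all fun e => weqb (e.2 ++ [1]) (e.1 ++ e.2) && (e.2.all fun k => Nat.blt k 12) && fixb e.2) =
    true := by (rewrite [Cfsg.Agent.GolayF.f2.2, Cfsg.Agent.GolayF.f0.2]; decide +kernel)

theorem T8_ok : (T8.all fun e => weqb (e.2 ++ [0]) (e.1 ++ e.2) && (e.2.all fun k => Nat.blt k 12) && fixb e.2) =
    true := by (rewrite [Cfsg.Agent.GolayF.f2.2, Cfsg.Agent.GolayF.f0.2]; decide +kernel)

theorem TN_ok : (TN.all fun e => weqb (e.2 ++ [3]) (e.1 ++ e.2) && e.2.all Octad.nl && fixb e.2) = true := by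
  (rewrite [Cfsg.Agent.GolayF.f2.2, Cfsg.Agent.GolayF.f0.2]; decide +kernel)

theorem T_all : ∀ w ∈ CentZ.LE1, w = [] ∨ w = [3] ∨ (∃ e ∈ T6, e.1 = w) ∨ ∃ e ∈ T8, e.1 = w := by decide

theorem TN_all : ∀ w ∈ CentZ.LE1, w = [] ∨ ∃ e ∈ TN, e.1 = w := by decide

theorem E_fix : (CentZ.LE1.all fun w => fixb w) = true := by (rewrite [Cfsg.Agent.GolayF.f2.2]; decide +kernel)

private noncomputable def _root_.Cfsg.Agent.GolayF.f3 : {f // @Cfsg.Agent.SporadicStructure.M24El.prodW = f} :=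
  ⟨_, by delta Cfsg.Agent.SporadicStructure.M24El.prodW Cfsg.Agent.SporadicStructure.M24El.prodW._f; rewrite [Cfsg.Agent.GolayF.pcomp_eq]; exact rfl⟩

theorem move6 : ((QGroup.LF ++ Octad.LV).all fun w => w.isEmpty || !(Nat.beq (papp (prodW gx w) 6) 6)) = true := by
  (rewrite [Cfsg.Agent.GolayF.f3.2, Cfsg.Agent.GolayF.papp_eq]; decide +kernel)

/-! ### The subgroups `K` -/

/-- `K` is between the stabilizer of two points and of one point -/
structure Btw (K : Subgroup M24) : Prop where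
  big : ∀ g : M24, g • pt 6 = pt 6 → g • pt 15 = pt 15 → g ∈ K
  fix : ∀ g ∈ K, g • pt 6 = pt 6

variable {K : Subgroup M24}

theorem Btw.word (hK : Btw K) {w : List ℕ} (h : fixb w = true) : ev w ∈ K := by
  unfold fixb at h
  rw [Bool.and_eq_true] at h
  apply hK.big
  · rw [ev_smul w (by norm_num), Nat.eq_of_beq_eq_true h.1]
  · rw [ev_smul w (by norm_num), Nat.eq_of_beq_eq_true h.2]

theorem Btw.E1_le (hK : Btw K) : E1 ≤ K := by
  intro x hx
  obtain ⟨w, hw, rfl⟩ := mem_E1.1 hx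
  exact hK.word (List.all_eq_true.1 E_fix w hw)

/-- an element `ev (f ++ e)` of `K` with `e` in `E1` and `f` in one of the two lists is in `E1` -/
theorem Btw.mem_E1_of_word (hK : Btw K) {f e : List ℕ} (hf : f ∈ QGroup.LF ++ Octad.LV) (he : e ∈ CentZ.LE1)
    (h : ev (f ++ e) ∈ K) : ev (f ++ e) ∈ E1 := by
  have heE : ev e ∈ E1 := mem_E1.2 ⟨e, he, rfl⟩
  rw [ev_append] at h ⊢
  have h1 : ev f ∈ K := by
    have := K.mul_mem h (K.inv_mem (hK.E1_le heE))
    rwa [mul_inv_cancel_right] at this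
  have h2 := hK.fix _ h1
  rw [ev_smul f (by norm_num)] at h2
  have h3 := congrArg idx h2
  rw [idx_pt (papp_word_lt _ (by norm_num)), idx_pt (by norm_num)] at h3
  have h4 := List.all_eq_true.1 move6 f hf
  rw [Bool.or_eq_true, List.isEmpty_iff, h3] at h4
  rcases h4 with rfl | h4
  · rw [ev_nil, one_mul]; exact heE
  · exact absurd h4 (by decide)

theorem Btw.mem_E1_of_cent (hK : Btw K) {q : M24} (hq : q ∈ K) (h : ∀ r ∈ [1, 2, 3], q * xx r = xx r * q) :
    q ∈ E1 := by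
  obtain ⟨v, hv, e, he, rfl⟩ := Octad.cent_A h
  exact hK.mem_E1_of_word (List.mem_append_right _ hv) he hq

section

variable {A : Subgroup M24}

theorem V8_of (hK : Btw K) (hz : z ∈ A) (hN : ∀ c ∈ C, c ∈ K → ∀ a ∈ A, c * a * c⁻¹ ∈ A) {b : M24} (hb : b ∈ A)
    (hbE : b ∈ E1) (h1 : b ≠ 1) (h2 : b ≠ z) : ∀ r ∈ [1, 2, 3], xx r ∈ A := by
  have h3 : xx 3 ∈ A := hz
  -- conjugation by a word and its inverse
  have key : ∀ {w c : List ℕ} {r : ℕ}, (weqb (c ++ [r]) (w ++ c) && (c.all fun k => Nat.blt k 12) && fixb c) = true →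
      (xx r ∈ A ↔ ev w ∈ A) := by
    intro w c r h
    rw [Bool.and_eq_true, Bool.and_eq_true] at h
    obtain ⟨⟨h4, h5⟩, h6⟩ := h
    have hcC : ev c ∈ C := ev_mem fun k hk => xx_mem_C (Nat.blt_eq.mp (List.all_eq_true.1 h5 k hk))
    have hcK := hK.word h6
    have h7 := conj_of_weq h4
    rw [ev_singleton] at h7
    constructor
    · intro h8
      rw [← h7]
      exact hN _ hcC hcK _ h8
    · intro h8
      have h9 := hN _ (C.inv_mem hcC) (K.inv_mem hcK) _ h8
      rw [← h7] at h9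
      have e1 : (ev c)⁻¹ * (ev c * xx r * (ev c)⁻¹) * (ev c)⁻¹⁻¹ = xx r := by group
      rwa [e1] at h9
  have hmem6 : xx 1 ∈ A → ∀ e ∈ T6, ev e.1 ∈ A := fun h e he => (key (List.all_eq_true.1 T6_ok e he)).1 h
  have hmem8 : xx 0 ∈ A → ∀ e ∈ T8, ev e.1 ∈ A := fun h e he => (key (List.all_eq_true.1 T8_ok e he)).1 h
  have h12 : xx 1 ∈ A ∧ xx 2 ∈ A := by
    obtain ⟨w, hw, rfl⟩ := mem_E1.1 hbE
    rcases T_all w hw with rfl | rfl | ⟨e, he, rfl⟩ | ⟨e, he, rfl⟩
    · exact absurd ev_nil h1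
    · exact absurd (ev_singleton 3) h2
    · have h4 := (key (List.all_eq_true.1 T6_ok e he)).2 hb
      have h5 := hmem6 h4 ([2], [11, 7]) (by decide)
      rw [ev_singleton] at h5
      exact ⟨h4, h5⟩
    · have h4 := (key (List.all_eq_true.1 T8_ok e he)).2 hb
      have h5 := hmem8 h4 ([0, 1], [11, 9, 4]) (by decide)
      have h6 := hmem8 h4 ([0, 2], [8, 7, 5]) (by decide)
      rw [ev_cons, ev_singleton] at h5 h6
      have h7 := A.mul_mem (A.inv_mem h4) h5
      have h8 := A.mul_mem (A.inv_mem h4) h6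
      rw [inv_mul_cancel_left] at h7 h8
      exact ⟨h7, h8⟩
  intro r hr
  have hr' : r = 1 ∨ r = 2 ∨ r = 3 := by revert r; decide
  rcases hr' with rfl | rfl | rfl
  · exact h12.1
  · exact h12.2
  · exact h3

/-- **The elementary abelian normal subgroups of `C_K(z)` containing `z`.** -/
theorem core (hK : Btw K) (hAK : A ≤ K) (hcomm : ∀ a ∈ A, ∀ b ∈ A, a * b = b * a) (hz : z ∈ A) (hAC : A ≤ C)
    (hN : ∀ c ∈ C, c ∈ K → ∀ a ∈ A, c * a * c⁻¹ ∈ A) :
    ((∀ r ∈ [1, 2, 3], xx r ∈ A) ∧ A ≤ E1) ∨ ∀ a ∈ A, a = 1 ∨ a = z := by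
  by_cases hA1 : ∃ b ∈ A, b ∈ E1 ∧ b ≠ 1 ∧ b ≠ z
  · left
    obtain ⟨b, hb, hbE, h1, h2⟩ := hA1
    have h3 := V8_of hK hz hN hb hbE h1 h2
    exact ⟨h3, fun a ha => hK.mem_E1_of_cent (hAK ha) fun r hr => hcomm a ha _ (h3 r hr)⟩
  · right
    push Not at hA1
    have hE1 : ∀ b ∈ A, b ∈ E1 → b = 1 ∨ b = z := by
      intro b hb hbE
      by_cases h1 : b = 1
      · exact Or.inl h1
      · exact Or.inr (hA1 b hb hbE h1)
    intro a ha
    obtain ⟨f, hf, e, he, rfl⟩ := words_of hAC (fun r hr a ha => hN _ (xx_mem_C (by omega))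
      (hK.E1_le (xx_mem (by interval_cases r <;> decide))) a ha) hE1 ha
    exact hE1 _ ha (hK.mem_E1_of_word (List.mem_append_left _ hf) he (hAK ha))

end

/-- `N_K(E1)` is transitive on `E1 - 1` -/
theorem Btw.trans (hK : Btw K) {u : M24} (hu : u ∈ E1) (hu1 : u ≠ 1) : ∃ k ∈ Octad.N, k ∈ K ∧ k * z * k⁻¹ = u := by
  obtain ⟨w, hw, rfl⟩ := mem_E1.1 hu
  rcases TN_all w hw with rfl | ⟨e, he, rfl⟩
  · exact absurd ev_nil hu1
  · have h := List.all_eq_true.1 TN_ok e he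
    rw [Bool.and_eq_true, Bool.and_eq_true] at h
    refine ⟨ev e.2, Octad.ev_mem_N h.1.2, hK.word h.2, ?_⟩
    have := conj_of_weq (c := e.2) (r := [3]) h.1.1
    rwa [ev_singleton] at this

theorem Btw.z_mem (hK : Btw K) : z ∈ K := hK.E1_le z_mem_E1

theorem rowAt (hK : Btw K) : RowAt 2 (⟨z, hK.z_mem⟩ : K) := by
  intro A hA hz hAc hN hcard
  set A' : Subgroup M24 := A.map K.subtype with hA'
  have hmem : ∀ x : K, (x : M24) ∈ A' ↔ x ∈ A := by
    intro x
    constructor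
    · rintro ⟨y, hy, hyx⟩
      rwa [← (Subtype.ext hyx : y = x)]
    · intro hx
      exact ⟨x, hx, rfl⟩
  have hAK : A' ≤ K := map_subtype_le _
  have hcomm : ∀ a ∈ A', ∀ b ∈ A', a * b = b * a := by
    rintro _ ⟨a, ha, rfl⟩ _ ⟨b, hb, rfl⟩
    exact congrArg Subtype.val (ea_comm hA ha hb)
  have hAC : A' ≤ C := by
    rintro _ ⟨a, ha, rfl⟩
    rw [mem_C]
    exact congrArg Subtype.val (mem_centralizer_singleton_iff.1 (hAc ha))
  have hN' : ∀ c ∈ C, c ∈ K → ∀ a ∈ A', c * a * c⁻¹ ∈ A' := by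
    rintro c hc hcK _ ⟨a, ha, rfl⟩
    have h1 : (⟨c, hcK⟩ : K) ∈ centralizer ({(⟨z, hK.z_mem⟩ : K)} : Set K) := by
      rw [mem_centralizer_singleton_iff]
      exact Subtype.ext (mem_C.1 hc)
    exact ⟨_, conj_mem_of_le_normalizer hN h1 a ha, rfl⟩
  rcases core hK hAK hcomm ((hmem ⟨z, hK.z_mem⟩).2 hz) hAC hN' with ⟨h8, hAE⟩ | h
  swap
  · exfalso
    have h1 : Nat.card A ≤ 2 := by
      refine card_le_two (z := (⟨z, hK.z_mem⟩ : K)) fun a ha => ?_
      rcases h _ ((hmem a).2 ha) with h1 | h1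
      · exact Or.inl (Subtype.ext h1)
      · exact Or.inr (Subtype.ext h1)
    have h2 := hcard.trans h1
    norm_num at h2
  have hEc : ∀ x : K, x ∈ E1.subgroupOf K ↔ x ∈ centralizer (A : Set K) := by
    intro x
    rw [mem_subgroupOf, mem_centralizer_iff]
    constructor
    · intro hx a ha
      exact Subtype.ext (E1_comm (hAE ((hmem a).2 ha)) hx)
    · intro h
      apply hK.mem_E1_of_cent x.2
      intro r hr
      have h1 := h8 r hr
      have h2 := h ⟨xx r, hAK h1⟩ ((hmem _).1 h1)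
      exact (congrArg Subtype.val h2).symm
  by_cases hNE : normalizer ((E1.subgroupOf K : Subgroup K) : Set K) ≤ normalizer (A : Set K)
  · left
    intro B hB hB1 hBn
    refine le_antisymm hB fun x hx => ?_
    by_cases hx1 : x = 1
    · rw [hx1]; exact B.one_mem
    obtain ⟨b, hb, hb1⟩ : ∃ b ∈ B, b ≠ 1 := by
      by_contra hcon
      push Not at hcon
      exact hB1 (eq_bot_iff_forall _ |>.2 hcon)
    obtain ⟨k, hk, hkK, hk'⟩ := hK.trans (hAE ((hmem x).2 hx)) fun h => hx1 (Subtype.ext h)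
    obtain ⟨l, hl, hlK, hl'⟩ := hK.trans (hAE ((hmem b).2 (hB hb))) fun h => hb1 (Subtype.ext h)
    have h3 : x = (⟨k, hkK⟩ * ⟨l, hlK⟩⁻¹ : K) * b * (⟨k, hkK⟩ * ⟨l, hlK⟩⁻¹ : K)⁻¹ := by
      apply Subtype.ext
      show (x : M24) = k * l⁻¹ * (b : M24) * (k * l⁻¹)⁻¹
      rw [← hk', ← hl']; group
    rw [h3]
    refine conj_mem_of_le_normalizer (hNE.trans hBn) ?_ _ hb
    rw [mem_normalizer_iff]
    intro y
    rw [mem_subgroupOf, mem_subgroupOf]
    exact mem_normalizer_iff.1 (mul_mem hk (inv_mem hl)) y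
  · right
    refine ⟨E1.subgroupOf K, ?_, ?_, hNE, ?_⟩
    · intro h
      have h1 : (⟨z, hK.z_mem⟩ : K) ∈ E1.subgroupOf K := mem_subgroupOf.2 z_mem_E1
      rw [h, mem_bot] at h1
      exact z_ne (congrArg Subtype.val h1)
    · exact (isPGroup_of_sq fun x hx => E1_sq hx).of_equiv (subgroupOfEquivOfLe hK.E1_le).symm
    · intro α hα
      apply Subgroup.eq_of_le_of_card_ge
      · rintro _ ⟨x, hx, rfl⟩
        rw [hEc, mem_centralizer_iff]
        intro a ha
        rw [SetLike.mem_coe, ← hα] at ha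
        obtain ⟨b, hb, rfl⟩ := ha
        have h1 := mem_centralizer_iff.1 ((hEc x).1 hx) b hb
        show α b * α x = α x * α b
        rw [← map_mul, h1, map_mul]
      · exact (Nat.card_congr ((E1.subgroupOf K).equivMapOfInjective _ α.injective).toEquiv).le

/-! ### The transport to `M23` and `M22` -/

/-- the element mapping the points `6`, `15` to the points `23`, `0` -/
noncomputable def g0 : M24 := ev [11, 14, 13, 4]

theorem g0_six : g0 • pt 6 = none := by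
  rw [g0, ev_smul _ (by norm_num), show papp (prodW gx [11, 14, 13, 4]) 6 = 23 by (rewrite [Cfsg.Agent.GolayF.f3.2, Cfsg.Agent.GolayF.papp_eq]; decide +kernel)]
  rfl

theorem g0_fifteen : g0 • pt 15 = some 0 := by
  rw [g0, ev_smul _ (by norm_num), show papp (prodW gx [11, 14, 13, 4]) 15 = 0 by (rewrite [Cfsg.Agent.GolayF.f3.2, Cfsg.Agent.GolayF.papp_eq]; decide +kernel)]
  rfl

/-- the isomorphism given by the conjugation by `g` -/
noncomputable def equivOf (g : M24) {K : Subgroup M24} {L : Subgroup (Equiv.Perm GolayPt)} (hL : L ≤ M24)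
    (h : ∀ x : M24, x ∈ K ↔ ((g * x * g⁻¹ : M24) : Equiv.Perm GolayPt) ∈ L) : K ≃* L :=
  have h1 : K.map (MulAut.conj g).toMonoidHom = L.subgroupOf M24 := by
    ext x
    rw [mem_subgroupOf]
    constructor
    · rintro ⟨y, hy, rfl⟩
      exact (h y).1 hy
    · intro hx
      refine ⟨g⁻¹ * x * g, ?_, ?_⟩
      · rw [SetLike.mem_coe, h]
        have e1 : g * (g⁻¹ * x * g) * g⁻¹ = x := by group
        rwa [e1]
      · show g * (g⁻¹ * x * g) * g⁻¹ = x
        group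
  ((K.equivMapOfInjective _ (MulAut.conj g).injective).trans (MulEquiv.subgroupCongr h1)).trans
    (subgroupOfEquivOfLe hL)

theorem row_of {K : Subgroup M24} (hK : Btw K) {L : Subgroup (Equiv.Perm GolayPt)} (e : K ≃* L)
    (h1 : ∀ x y : L, x * x = 1 → x ≠ 1 → y * y = 1 → y ≠ 1 → ∃ g : L, g * x * g⁻¹ = y) : RowB 2 L := by
  rintro y ⟨hy, -⟩
  have h2 := (rowAt hK).map e
  obtain ⟨g, hg⟩ := h1 (e ⟨z, hK.z_mem⟩) y (by
    rw [← map_mul, show (⟨z, hK.z_mem⟩ : K) * ⟨z, hK.z_mem⟩ = 1 from Subtype.ext zz, map_one]) (by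
    intro h
    rw [EmbeddingLike.map_eq_one_iff] at h
    exact z_ne (congrArg Subtype.val h)) (by rw [← pow_two, ← hy, pow_orderOf_eq_one]) (by
    rintro rfl
    rw [orderOf_one] at hy
    norm_num at hy)
  have h3 := h2.map (MulAut.conj g)
  rw [MulAut.conj_apply, hg] at h3
  exact h3

theorem conj_trans {L : Type*} [Group L] {t : L} (h : ∀ y : L, y * y = 1 → y ≠ 1 → ∃ g : L, g * t * g⁻¹ = y) (x y : L)
    (hx : x * x = 1) (hx1 : x ≠ 1) (hy : y * y = 1) (hy1 : y ≠ 1) : ∃ g : L, g * x * g⁻¹ = y := by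
  obtain ⟨a, rfl⟩ := h x hx hx1
  obtain ⟨b, rfl⟩ := h y hy hy1
  exact ⟨b * a⁻¹, by group⟩

open Cfsg.Agent.OddHalf.D4.Spor.M2223 Cfsg.Agent.OddHalf.D4.Spor.MathieuSyl
open Cfsg.Agent.Schreier.MTwentyThree (M23_le_M24)
open Cfsg.Agent.SporadicA.MathieuRecog (mem_M23_iff)
open Cfsg.Agent.Schreier.SylMTwentyTwo (T_le)

theorem smul_conj_iff (g x : M24) (p q : GolayPt) (h : g • p = q) :
    ((g * x * g⁻¹ : M24) : Equiv.Perm GolayPt) q = q ↔ x • p = p := by
  have h1 : ((g * x * g⁻¹ : M24) : Equiv.Perm GolayPt) q = (g * x * g⁻¹) • q := rfl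
  rw [h1, ← h, mul_smul, mul_smul, inv_smul_smul]
  constructor
  · exact fun h2 => MulAction.injective g h2
  · exact fun h2 => by rw [h2]

theorem rowB_M23 : RowB 2 Spor.M23 := by
  have hK : Btw (MulAction.stabilizer M24 (pt 6)) :=
    ⟨fun g h _ => MulAction.mem_stabilizer_iff.2 h, fun g h => MulAction.mem_stabilizer_iff.1 h⟩
  refine row_of hK (equivOf g0 M23_le_M24 fun x => ?_) (conj_trans fun y => one_class T_le23 idx23 M22_le_M23 y)
  rw [mem_M23_iff, MulAction.mem_stabilizer_iff, smul_conj_iff g0 x _ _ g0_six]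
  exact ⟨fun h => ⟨(g0 * x * g0⁻¹).2, h⟩, fun h => h.2⟩

theorem rowB_M22 : RowB 2 Spor.M22 := by
  have hK : Btw (MulAction.stabilizer M24 (pt 6) ⊓ MulAction.stabilizer M24 (pt 15)) :=
    ⟨fun g h h' => ⟨MulAction.mem_stabilizer_iff.2 h, MulAction.mem_stabilizer_iff.2 h'⟩,
      fun g h => MulAction.mem_stabilizer_iff.1 h.1⟩
  refine row_of hK (equivOf g0 M22_le_M24 fun x => ?_) (conj_trans fun y => one_class T_le idx22 le_rfl y)
  rw [mem_M22_iff, mem_inf, MulAction.mem_stabilizer_iff, MulAction.mem_stabilizer_iff, smul_conj_iff g0 x _ _ g0_six,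
    smul_conj_iff g0 x _ _ g0_fifteen]
  exact ⟨fun h => ⟨(g0 * x * g0⁻¹).2, h⟩, fun h => h.2⟩

theorem rowB_m23 {K : Type*} [Group K] [Finite K] (h : Spor.IsoM23 K) : RowB 2 K := by
  have := Fact.mk Nat.prime_two
  have := finite23
  obtain ⟨e⟩ := h
  exact rowB_M23.congr e.symm

theorem rowB_m22 {K : Type*} [Group K] [Finite K] (h : Spor.IsoM22 K) : RowB 2 K := by
  have := Fact.mk Nat.prime_two
  have := finite22
  obtain ⟨e⟩ := h
  exact rowB_M22.congr e.symm

end Cfsg.Agent.H17.PU.MathieuSmall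
end

-- part: H23/PU/McL
section
/-!
# S3046, case B: the row of the McLaughlin group (helper23)

`P` (of order 729) is the Sylow 3-subgroup of `K0 ≅ McL` of `McLType.ThreeElts`, `Z(P) = ⟨π 3⟩`, and `Y` is an element of
order 5 of `C(π 3)`.

* `main` : an element `n` of `P` outside `⟨π 3⟩` does not commute with `n ^ Y` or not with `n ^ (Y ^ 2)`;
* `rowB_mcl` : `RowB 3 K` for the McLaughlin group `K`.
-/

set_option autoImplicit false

namespace Cfsg.Agent.H23.PU.McL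

open Subgroup Cfsg
open Cfsg.Agent.SporadicStructure.PermChain Cfsg.Agent.McLType.Chain Cfsg.Agent.McLType.X275
  Cfsg.Agent.McLType.Gens Cfsg.Agent.McLType.Model Cfsg.Agent.McLType.ThreeElts Cfsg.Agent.H47.Wk.McLThree
open Cfsg.Agent.H271.PU Cfsg.Agent.H229

universe u

/-- the table of `Y` -/
def yt : ℕ := 0x4110f24911c22d854318b65a54a41da1753260ef031ea8038bf2483128d1240791e14520e406762242c7cdd6e26d766d5999d60860415802ad831a51b021fb1cf6433d0697c1318be5d432509919e5e31304b0384a87c0c050b01d16a35d24d925426a1c04858413856c00215d1c4131834a0d91a0b444db41918f8da7d3d14e27091c0dcc2293586e242506de6f5870c0fa4069170161d109bcbe961186508ab66b9572ca6f108aae7892713d054bbfcc0fd70c11d8c877895c8e287b11190c1d9cd149a4fa74a2ae0c28a0efb7b9146caa8838da70d413e0fc9973165ecbc2e85562006a8d45c651d0a8a62f770381e6b161a16479700a200b857a25223c6fadd7a4f7f184e4b65a9d596eb7e12d01116a3a4fef110339d0d0049aa02cc850cc98ac781e04cb438998526c6ba0586a53a3141509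

/-- the table of `Y⁻¹` -/
def yi : ℕ := 0x1ec405735a4ca8687704c00b72eb7cf072803702a353b0ace8232e28da4522d93528a24ac40380f378fe0a71123443c193e13d046d2b1b0e637179fdd8eb54291590c03a688e1f2aa3df01866869061412a017a706d428046a02a7194b47e3545a4c74afd0234170a04e0c738e492e519981c010421620f0b50c0c08f3601799efe319e4c47a75190a1023ba218ef95f43c63067aac5ba696099465115d39170855394c0c210e94522a56cb5c700e80bc04c03330a4169e45275d0081e059bc3a7302888ce57b2c547544b30968e84c209cc959388fabc20a6cc2ad162d976111125df6f787298b4ef6c1f960906dbb5fe303390de4c84c9648cab09341a69220115543b5a908123650034dc9843aa5161b633d918fd4b3590c5f8230c94f46a27e1b121e8f95cfa468042ee36131588b378ae5c248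

theorem yt_all : allBelow (fun x => Nat.beq (evalWord 9 tabs yw x) (look 9 yt x)) 275 = true := by decide +kernel

theorem yi_all : allBelow (fun x => Nat.beq (look 9 yt (look 9 yi x)) x && Nat.blt (look 9 yi x) 275) 275 = true := by
  decide +kernel

theorem Y_tab (x : Fin 275) : ((Y x : Fin 275) : ℕ) = look 9 yt x := by
  rw [Y_apply]
  exact Nat.eq_of_beq_eq_true (allBelow_spec _ _ yt_all x x.2)

theorem Yi_tab (x : Fin 275) : ((Y⁻¹ x : Fin 275) : ℕ) = look 9 yi x := by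
  have h := allBelow_spec _ _ yi_all x x.2
  rw [Bool.and_eq_true, Nat.blt_eq] at h
  have h1 : Y ⟨look 9 yi x, h.2⟩ = x := Fin.ext (by
    rw [Y_tab]
    exact Nat.eq_of_beq_eq_true h.1)
  have h2 : Y⁻¹ x = ⟨look 9 yi x, h.2⟩ := by
    rw [Equiv.Perm.inv_eq_iff_eq]
    exact h1.symm
  rw [h2]

/-- the images of a point under the products of `n` and `n ^ Y` in both orders agree -/
def cy (N x : ℕ) : Bool :=
  Nat.beq (evalWord 9 pt (wn 6 0 N) (look 9 yt (evalWord 9 pt (wn 6 0 N) (look 9 yi x))))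
    (look 9 yt (evalWord 9 pt (wn 6 0 N) (look 9 yi (evalWord 9 pt (wn 6 0 N) x))))

/-- the same for `Y ^ 2` -/
def cy2 (N x : ℕ) : Bool :=
  Nat.beq (evalWord 9 pt (wn 6 0 N) (look 9 yt (look 9 yt (evalWord 9 pt (wn 6 0 N) (look 9 yi (look 9 yi x))))))
    (look 9 yt (look 9 yt (evalWord 9 pt (wn 6 0 N) (look 9 yi (look 9 yi (evalWord 9 pt (wn 6 0 N) x))))))

def exc (N : ℕ) : Bool := Nat.beq N 0 || (Nat.beq N 27 || Nat.beq N 54)

theorem main_all : allBelow (fun N => exc N || !(cy N 1 && cy2 N 1)) 729 = true := by decide +kernel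

theorem cent_all : allBelow (fun N => exc N || !(cmB N 1 && (cmB N 3 && (cmB N 9 && (cmB N 27 && (cmB N 81 && cmB N 243))))))
    729 = true := by decide +kernel

theorem z_all : (cmB 27 1 && (cmB 27 3 && (cmB 27 9 && (cmB 27 81 && cmB 27 243)))) = true := by decide +kernel

theorem zY_all : allBelow (fun x => Nat.beq (look 9 yt (look 9 P3 x)) (look 9 P3 (look 9 yt x))) 275 = true := by
  decide +kernel

/-- the centre -/
abbrev Z : Equiv.Perm (Fin 275) := π 3

theorem nf27 : nf 27 = Z := by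
  have h : wn 6 0 27 = [3] := by decide
  rw [nf, h]
  simp

theorem nf54 : nf 54 = Z * Z := by
  have h : wn 6 0 54 = [3, 3] := by decide
  rw [nf, h]
  simp

theorem mem_of_exc {N : ℕ} (h : exc N = true) : nf N ∈ zpowers Z := by
  rw [exc, Bool.or_eq_true, Bool.or_eq_true] at h
  rcases h with h | h | h
  · rw [Nat.eq_of_beq_eq_true h, nf_zero]
    exact one_mem _
  · rw [Nat.eq_of_beq_eq_true h, nf27]
    exact mem_zpowers _
  · rw [Nat.eq_of_beq_eq_true h, nf54]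
    exact mul_mem (mem_zpowers _) (mem_zpowers _)

theorem YZ : Y * Z = Z * Y := by
  refine Equiv.ext fun x => Fin.ext ?_
  rw [Equiv.Perm.mul_apply, Equiv.Perm.mul_apply, Y_tab, π_spec 3 (by norm_num), π_spec 3 (by norm_num), Y_tab]
  exact Nat.eq_of_beq_eq_true (allBelow_spec _ _ zY_all x x.2)

theorem aux {n y : Equiv.Perm (Fin 275)} {fn fy fi : ℕ → ℕ} (hn : ∀ x : Fin 275, ((n x : Fin 275) : ℕ) = fn x)
    (hy : ∀ x : Fin 275, ((y x : Fin 275) : ℕ) = fy x) (hi : ∀ x : Fin 275, ((y⁻¹ x : Fin 275) : ℕ) = fi x)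
    (h : n * (y * n * y⁻¹) = y * n * y⁻¹ * n) (x : Fin 275) (x' : ℕ) (hx : (x : ℕ) = x') :
    fn (fy (fn (fi x'))) = fy (fn (fi (fn x'))) := by
  subst hx
  have e := congrArg (fun p : Equiv.Perm (Fin 275) => ((p x : Fin 275) : ℕ)) h
  simp only [Equiv.Perm.mul_apply, hn, hy, hi] at e
  exact e

theorem aux2 {n y : Equiv.Perm (Fin 275)} {fn fy fi : ℕ → ℕ} (hn : ∀ x : Fin 275, ((n x : Fin 275) : ℕ) = fn x)
    (hy : ∀ x : Fin 275, ((y x : Fin 275) : ℕ) = fy x) (hi : ∀ x : Fin 275, ((y⁻¹ x : Fin 275) : ℕ) = fi x)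
    (h : n * (y * (y * n * y⁻¹) * y⁻¹) = y * (y * n * y⁻¹) * y⁻¹ * n) (x : Fin 275) (x' : ℕ) (hx : (x : ℕ) = x') :
    fn (fy (fy (fn (fi (fi x'))))) = fy (fy (fn (fi (fi (fn x'))))) := by
  subst hx
  have e := congrArg (fun p : Equiv.Perm (Fin 275) => ((p x : Fin 275) : ℕ)) h
  simp only [Equiv.Perm.mul_apply, hn, hy, hi] at e
  exact e

theorem val_one : ((1 : Fin 275) : ℕ) = 1 := rfl

/-- **an element `n` of `P` which commutes with `n ^ Y` and `n ^ (Y ^ 2)` lies in `⟨π 3⟩`** -/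
theorem main {n : Equiv.Perm (Fin 275)} (hn : n ∈ P) (h1 : n * (Y * n * Y⁻¹) = Y * n * Y⁻¹ * n)
    (h2 : n * (Y * (Y * n * Y⁻¹) * Y⁻¹) = Y * (Y * n * Y⁻¹) * Y⁻¹ * n) : n ∈ zpowers Z := by
  obtain ⟨N, hN, rfl⟩ := exists_nf6 hn
  have h := allBelow_spec _ _ main_all N hN
  rw [Bool.or_eq_true] at h
  rcases h with h | h
  · exact mem_of_exc h
  · exfalso
    rw [Bool.not_eq_true', ← Bool.not_eq_true] at h
    apply h
    have e1 := aux (nf_apply N) Y_tab Yi_tab h1 1 1 val_one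
    have e2 := aux2 (nf_apply N) Y_tab Yi_tab h2 1 1 val_one
    rw [Bool.and_eq_true]
    constructor
    · rw [cy, Nat.beq_eq]
      exact e1
    · rw [cy2, Nat.beq_eq]
      exact e2

/-- the centre of `P` -/
theorem center {n : Equiv.Perm (Fin 275)} (hn : n ∈ P) (hc : ∀ p ∈ P, p * n = n * p) : n ∈ zpowers Z := by
  obtain ⟨N, hN, rfl⟩ := exists_nf6 hn
  have h := allBelow_spec _ _ cent_all N hN
  rw [Bool.or_eq_true] at h
  rcases h with h | h
  · exact mem_of_exc h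
  · exfalso
    rw [Bool.not_eq_true', ← Bool.not_eq_true] at h
    apply h
    have key : ∀ M, cmB N M = true := fun M => cmB_iff.2 (hc _ (nf_mem M)).symm
    simp only [key, Bool.and_self]

theorem Z_comm {p : Equiv.Perm (Fin 275)} (hp : p ∈ P) : p * Z = Z * p := by
  have h0 := z_all
  simp only [Bool.and_eq_true] at h0
  obtain ⟨a0, a1, a2, a4, a5⟩ := h0
  have h : P ≤ centralizer ({Z} : Set (Equiv.Perm (Fin 275))) := by
    rw [P, closure_le]
    rintro x ⟨s, -, hs, rfl⟩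
    refine mem_centralizer_singleton_iff.2 ?_
    have hk : ∀ k : Fin 6, nf (3 ^ (k : ℕ)) = π k := by
      intro k
      rw [nf, nf_pow]
      simp
    have h3 := hk ⟨s, hs⟩
    change nf (3 ^ s) = π s at h3
    rw [← h3, ← nf27]
    interval_cases s
    · exact (cmB_iff.1 a0).symm
    · exact (cmB_iff.1 a1).symm
    · exact (cmB_iff.1 a2).symm
    · rfl
    · exact (cmB_iff.1 a4).symm
    · exact (cmB_iff.1 a5).symm
  exact mem_centralizer_singleton_iff.1 (h hp)

theorem Z_ord : orderOf Z = 3 := by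
  have : Fact (Nat.Prime 3) := ⟨Nat.prime_three⟩
  refine orderOf_eq_prime (π_cube 3 (by norm_num)) ?_
  intro h
  have h1 : ((Z 1 : Fin 275) : ℕ) = look 9 P3 1 := π_spec 3 (by norm_num) 1
  rw [h] at h1
  have h2 : Nat.beq (look 9 P3 1) 1 = false := by decide +kernel
  rw [← h1] at h2
  exact absurd h2 (by decide)

/-- the row of `G1` -/
theorem rowB_G1 : RowB 3 G1 := by
  classical
  have hF : Fact (Nat.Prime 3) := ⟨Nat.prime_three⟩
  have hcard : Nat.card (P.comap ψ) = 3 ^ (Nat.card G1).factorization 3 := by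
    have h1 : Nat.card (P.comap ψ) = Nat.card P := by
      have h2 : (P.comap ψ).map ψ = P := by
        rw [Subgroup.map_comap_eq_self]
        intro y hy
        obtain ⟨g, hg⟩ := mem_K0_iff.1 (P_le_K0 hy)
        exact ⟨g, hg⟩
      rw [← h2, Subgroup.comap_map_eq_self_of_injective ψ_injective]
      exact Nat.card_congr ((P.comap ψ).equivMapOfInjective ψ ψ_injective).toEquiv
    rw [h1, card_P, card_G1]
    have h3 : (898128000 : ℕ) = 3 ^ 6 * 1232000 := by norm_num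
    have h4 : (898128000 : ℕ).factorization 3 = 6 := by
      rw [h3, Nat.factorization_mul (by norm_num) (by norm_num), Finsupp.add_apply,
        Nat.factorization_pow, Finsupp.smul_apply, Nat.Prime.factorization_self Nat.prime_three,
        Nat.factorization_eq_zero_of_not_dvd (by norm_num)]
      rfl
    rw [h4]
    norm_num
  let T : Sylow 3 G1 := Sylow.ofCard (P.comap ψ) hcard
  have hT : ∀ {x : G1}, x ∈ (T : Subgroup G1) ↔ ψ x ∈ P := Iff.rfl
  obtain ⟨z, hz⟩ := mem_K0_iff.1 (P_le_K0 (π_mem 3 (by norm_num)))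
  obtain ⟨y, hy⟩ := mem_K0_iff.1 Y_mem
  have hzo : orderOf z = 3 := by
    rw [← orderOf_injective ψ ψ_injective, hz, Z_ord]
  have hzp : ∀ {x : G1}, ψ x ∈ zpowers Z → x ∈ zpowers z := by
    intro x hx
    obtain ⟨k, hk⟩ := mem_zpowers_iff.1 hx
    refine mem_zpowers_iff.2 ⟨k, ψ_injective ?_⟩
    rw [map_zpow, hz]
    exact hk
  refine rowB_of_center (T := T) (z₀ := z) ?_ hzo ?_
  · intro x hx hxc _
    apply hzp
    refine center (hT.1 hx) fun p hp => ?_
    obtain ⟨t, rfl⟩ := mem_K0_iff.1 (P_le_K0 hp)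
    rw [← map_mul, ← map_mul, hxc t (hT.2 hp)]
  · intro A hA hzA hAc hN h27
    exfalso
    have hTN : (T : Subgroup G1) ≤ normalizer (A : Set G1) := by
      refine le_trans ?_ hN
      intro t ht
      refine mem_centralizer_singleton_iff.2 (ψ_injective ?_)
      rw [map_mul, map_mul, hz]
      exact Z_comm (hT.1 ht)
    have hAp : IsPGroup 3 A := fun a => ⟨1, Subtype.ext (by rw [pow_one]; exact hA.2 a a.2)⟩
    have hAT : A ≤ T := by
      have h3 : IsPGroup 3 ↥((T : Subgroup G1) ⊔ A : Subgroup G1) := by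
        rw [sup_comm]
        exact isPGroup_sup_of_norm hAp T.isPGroup' hTN
      have h4 := T.is_maximal' h3 le_sup_left
      rw [← h4]
      exact le_sup_right
    have hyN : y ∈ normalizer (A : Set G1) := by
      apply hN
      refine mem_centralizer_singleton_iff.2 (ψ_injective ?_)
      rw [map_mul, map_mul, hz, hy]
      exact YZ
    have hyA : ∀ a ∈ A, y * a * y⁻¹ ∈ A := fun a ha => ((mem_normalizer_iff.1 hyN) a).1 ha
    have hle : A ≤ zpowers z := by
      intro a ha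
      apply hzp
      refine main (hT.1 (hAT ha)) ?_ ?_
      · have h1 := congrArg ψ (ea_comm hA ha (hyA a ha))
        simpa only [map_mul, map_inv, hy] using h1
      · have h1 := congrArg ψ (ea_comm hA ha (hyA _ (hyA a ha)))
        simpa only [map_mul, map_inv, hy] using h1
    have h1 : Nat.card A ≤ Nat.card (zpowers z) := Nat.card_mono (Set.toFinite _) hle
    rw [Nat.card_zpowers, hzo] at h1
    omega

/-- **The row of the McLaughlin group.** -/
theorem rowB_mcl {M : Type u} [Group M] [Finite M] (hM : Spor.IsoMcL M) : RowB 3 M := by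
  have hF : Fact (Nat.Prime 3) := ⟨Nat.prime_three⟩
  obtain ⟨e⟩ := hM
  obtain ⟨e'⟩ := isoMcL_G1
  exact rowB_G1.congr (e'.trans e.symm)

end Cfsg.Agent.H23.PU.McL
end

-- part: H23/PU/Ly
section
/-!
# S3046, case B: the row of the Lyons group (helper23)

* `fv_lt` : an elementary abelian normal subgroup of `C(f) = 5 ^ (1 + 4) : 2 A₆` containing `f` has order at most 25;
* `rowB_ly` : `RowB 5 K` for the Lyons group `K`.
-/

set_option autoImplicit false

namespace Cfsg.Agent.H23.PU.Ly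

open Subgroup Cfsg
open Cfsg.Agent.H582.Ly Cfsg.Agent.SporRec.LyFiveExtra Cfsg.Agent.H271.PU Cfsg.Agent.H229

universe u

variable {G : Type*} [Group G] [Finite G] {t f : G} {K S A : Subgroup G}

/-- a class of conjugates of `c` under `K` -/
theorem card_le_of_conj {B : Subgroup G} {c : G} (h : ∀ k ∈ K, k * c * k⁻¹ * c⁻¹ ∈ B) :
    Nat.card K ≤ Nat.card (K ⊓ centralizer ({c} : Set G) : Subgroup G) * Nat.card B := by
  rw [← card_inf_mul_relIndex K (centralizer ({c} : Set G))]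
  refine Nat.mul_le_mul_left _ ?_
  let φ : ↥K ⧸ (centralizer ({c} : Set G)).subgroupOf K → ↥B :=
    Quotient.lift (fun k : ↥K => (⟨(k : G) * c * (k : G)⁻¹ * c⁻¹, h k k.2⟩ : ↥B)) (by
      intro a b hab
      have h1 : (a⁻¹ * b : ↥K) ∈ (centralizer ({c} : Set G)).subgroupOf K := QuotientGroup.leftRel_apply.1 hab
      rw [mem_subgroupOf, mem_centralizer_singleton_iff] at h1
      apply Subtype.ext
      change (a : G) * c * (a : G)⁻¹ * c⁻¹ = b * c * (b : G)⁻¹ * c⁻¹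
      have h2 : (a : G)⁻¹ * b * c = c * ((a : G)⁻¹ * b) := h1
      congr 1
      calc (a : G) * c * (a : G)⁻¹ = a * (c * ((a : G)⁻¹ * b)) * (b : G)⁻¹ := by group
        _ = a * ((a : G)⁻¹ * b * c) * (b : G)⁻¹ := by rw [h2]
        _ = b * c * (b : G)⁻¹ := by group)
  have hφ : Function.Injective φ := by
    rintro ⟨a⟩ ⟨b⟩ hab
    apply Quotient.sound
    refine QuotientGroup.leftRel_apply.2 ?_
    rw [mem_subgroupOf, mem_centralizer_singleton_iff]
    have h1 : (a : G) * c * (a : G)⁻¹ * c⁻¹ = b * c * (b : G)⁻¹ * c⁻¹ := congrArg Subtype.val hab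
    have h2 : (a : G) * c * (a : G)⁻¹ = b * c * (b : G)⁻¹ := mul_right_cancel h1
    change (a : G)⁻¹ * b * c = c * ((a : G)⁻¹ * b)
    calc (a : G)⁻¹ * b * c = (a : G)⁻¹ * (b * c * (b : G)⁻¹) * b := by group
      _ = (a : G)⁻¹ * (a * c * (a : G)⁻¹) * b := by rw [h2]
      _ = c * ((a : G)⁻¹ * b) := by group
  exact Nat.card_le_card_of_injective φ hφ

variable (h : Fv t f K S)

include h

/-- `A ≤ K` -/
theorem le_K (hab : ∀ a ∈ A, ∀ b ∈ A, a * b = b * a) (h5 : ∀ a ∈ A, a ^ 5 = 1)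
    (hAc : A ≤ centralizer ({f} : Set G)) (hN : centralizer ({f} : Set G) ≤ normalizer (A : Set G)) : A ≤ K := by
  intro c hc
  by_contra hcK
  have hcf : c * f = f * c := mem_centralizer_singleton_iff.1 (hAc hc)
  have h1 := h.card_le hcf (n := 1) (by rw [pow_one]; exact h5 c hc) hcK
  have h2 : Nat.card K ≤ Nat.card (K ⊓ centralizer ({c} : Set G) : Subgroup G) * Nat.card (A ⊓ K : Subgroup G) := by
    refine card_le_of_conj fun k hk => ⟨?_, ?_⟩
    · have h3 : k ∈ normalizer (A : Set G) := hN (mem_centralizer_singleton_iff.2 (h.h.cent k hk))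
      exact A.mul_mem (((mem_normalizer_iff.1 h3) c).1 hc) (A.inv_mem hc)
    · have h3 : c * k⁻¹ * c⁻¹ ∈ K := h.h.norm c (by rw [hcf, mul_inv_cancel_right]; exact mem_zpowers f) _ (inv_mem hk)
      have e : k * c * k⁻¹ * c⁻¹ = k * (c * k⁻¹ * c⁻¹) := by group
      rw [e]
      exact mul_mem hk h3
  have h3 : Nat.card (A ⊓ K : Subgroup G) ≤ Nat.card (K ⊓ centralizer ({c} : Set G) : Subgroup G) :=
    Nat.card_mono (Set.toFinite _) fun a ha => ⟨ha.2, mem_centralizer_singleton_iff.2 (hab a ha.1 c hc)⟩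
  rw [h.h.card] at h2
  have h4 : Nat.card (K ⊓ centralizer ({c} : Set G) : Subgroup G) * Nat.card (A ⊓ K : Subgroup G) ≤ 25 * 25 :=
    Nat.mul_le_mul h1 (h3.trans h1)
  omega

/-- **the elementary abelian normal subgroups of `C(f)` containing `f` have order less than 125** -/
theorem fv_lt (hA : IsElementaryAbelian 5 A) (hfA : f ∈ A) (hAc : A ≤ centralizer ({f} : Set G))
    (hN : centralizer ({f} : Set G) ≤ normalizer (A : Set G)) : Nat.card A < 5 ^ 3 := by
  have hab : ∀ a ∈ A, ∀ b ∈ A, a * b = b * a := fun a ha b hb => ea_comm hA ha hb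
  have h5 : ∀ a ∈ A, a ^ 5 = 1 := hA.2
  have hAK : A ≤ K := le_K h hab h5 hAc hN
  by_contra hcon
  push Not at hcon
  have hcard : Nat.card A = 5 ^ 3 := le_antisymm (h.card_abelian_K hAK hab) hcon
  have hSA : ∀ s ∈ S, ∀ a ∈ A, s * a * s⁻¹ ∈ A := fun s hs a ha =>
    ((mem_normalizer_iff.1 (hN (mem_centralizer_singleton_iff.2 (h.h.Sf s hs)))) a).1 ha
  -- `S` is faithful on `A`
  have hfaith : ∀ s ∈ S, (∀ a ∈ A, s * a = a * s) → s = 1 := by
    let N : Subgroup ↥S :=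
      { carrier := {s | ∀ a ∈ A, (s : G) * a = a * s}
        one_mem' := fun a _ => by simp
        mul_mem' := by
          intro r s hr hs a ha
          change (r * s : G) * a = a * (r * s)
          rw [mul_assoc, hs a ha, ← mul_assoc, hr a ha, mul_assoc]
        inv_mem' := by
          intro s hs a ha
          change (s : G)⁻¹ * a = a * (s : G)⁻¹
          have h1 : (s : G) * a = a * s := hs a ha
          calc (s : G)⁻¹ * a = (s : G)⁻¹ * (a * s) * (s : G)⁻¹ := by group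
            _ = (s : G)⁻¹ * (s * a) * (s : G)⁻¹ := by rw [h1]
            _ = a * (s : G)⁻¹ := by group }
    have hNn : N.Normal := by
      constructor
      intro s hs r a ha
      change (r * s * (r : G)⁻¹) * a = a * (r * s * (r : G)⁻¹)
      have h1 : (r : G)⁻¹ * a * r ∈ A := by
        have h2 := hSA _ (inv_mem r.2) a ha
        rwa [inv_inv] at h2
      have h2 : (s : G) * ((r : G)⁻¹ * a * r) = ((r : G)⁻¹ * a * r) * s := hs _ h1
      calc (r * s * (r : G)⁻¹) * a = r * (s * ((r : G)⁻¹ * a * r)) * (r : G)⁻¹ := by group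
        _ = r * (((r : G)⁻¹ * a * r) * s) * (r : G)⁻¹ := by rw [h2]
        _ = a * (r * s * (r : G)⁻¹) := by group
    have hN1 : N = ⊥ := by
      refine h.h.six.norm N hNn fun ht => ?_
      have h1 : A ≤ zpowers f := fun a ha => h.h.ct a (hAK ha) ((show t * a = a * t from ht a ha).symm)
      have h2 : Nat.card A ≤ Nat.card (zpowers f) := Nat.card_mono (Set.toFinite _) h1
      rw [h.h.card_F, hcard] at h2
      omega
    intro s hs hsa
    have h1 : (⟨s, hs⟩ : ↥S) ∈ N := hsa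
    rw [hN1, mem_bot] at h1
    exact congrArg Subtype.val h1
  -- generators
  have hFA : zpowers f ≤ A := zpowers_le.2 hfA
  obtain ⟨a, haA, haf⟩ : ∃ a ∈ A, a ∉ zpowers f := by
    by_contra hc
    push Not at hc
    have h2 : Nat.card A ≤ Nat.card (zpowers f) := Nat.card_mono (Set.toFinite _) hc
    rw [h.h.card_F, hcard] at h2
    omega
  set A₁ : Subgroup G := zpowers f ⊔ zpowers a with hA₁
  have hA₁A : A₁ ≤ A := sup_le hFA (zpowers_le.2 haA)
  have hA₁c : Nat.card A₁ ≤ 25 := by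
    have h1 := CpAutLy.Frat.card_sup_mul (K := zpowers f) (H := zpowers a) (by
      intro x hx
      have hxA : x ∈ A := (zpowers_le.2 haA) hx
      rw [mem_normalizer_iff]
      intro y
      constructor
      · intro hy
        rw [hab x hxA y (hFA hy), mul_inv_cancel_right]
        exact hy
      · intro hy
        have h2 : y = x⁻¹ * (x * y * x⁻¹) * x := by group
        have h3 := hab x⁻¹ (inv_mem hxA) _ (hFA hy)
        rw [h3] at h2
        rw [h2, inv_mul_cancel_right]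
        exact hy)
    rw [h.h.card_F] at h1
    have h2 : Nat.card (zpowers a) ≤ 5 := by
      rw [Nat.card_zpowers]
      exact orderOf_le_of_pow_eq_one (by norm_num) (h5 a haA)
    have h3 : 0 < Nat.card (zpowers f ⊓ zpowers a : Subgroup G) := Nat.card_pos
    calc Nat.card A₁ ≤ Nat.card A₁ * Nat.card (zpowers f ⊓ zpowers a : Subgroup G) := Nat.le_mul_of_pos_right _ h3
      _ = 5 * Nat.card (zpowers a) := h1
      _ ≤ 25 := by omega
  obtain ⟨b, hbA, hb1⟩ : ∃ b ∈ A, b ∉ A₁ := by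
    by_contra hc
    push Not at hc
    have h2 : Nat.card A ≤ Nat.card A₁ := Nat.card_mono (Set.toFinite _) hc
    rw [hcard] at h2
    omega
  have hgen : ∀ s : G, s * f = f * s → s * a = a * s → s * b = b * s → ∀ x ∈ A, s * x = x * s := by
    intro s hsf hsa hsb
    set D : Subgroup G := A ⊓ centralizer ({s} : Set G) with hD
    have hmem : ∀ {x : G}, x ∈ A → s * x = x * s → x ∈ D := fun hx hs => ⟨hx, mem_centralizer_singleton_iff.2 hs.symm⟩
    have h1 : A₁ ≤ D := sup_le (zpowers_le.2 (hmem hfA hsf)) (zpowers_le.2 (hmem haA hsa))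
    have d1 : Nat.card A₁ ∣ 5 ^ 3 := by rw [← hcard]; exact card_dvd_of_le hA₁A
    have d2 : Nat.card D ∣ 5 ^ 3 := by rw [← hcard]; exact card_dvd_of_le inf_le_left
    have l1 : Nat.card (zpowers f) < Nat.card A₁ := by
      refine Set.Finite.card_lt_card (Set.toFinite _) ⟨fun x hx => mem_sup_left hx, fun hle => haf (hle ?_)⟩
      exact mem_sup_right (mem_zpowers a)
    have l2 : Nat.card A₁ < Nat.card D := by
      refine Set.Finite.card_lt_card (Set.toFinite _) ⟨h1, fun hle => hb1 (hle ?_)⟩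
      exact hmem hbA hsb
    rw [h.h.card_F] at l1
    obtain ⟨i, hi, hi'⟩ := (Nat.dvd_prime_pow Nat.prime_five).1 d1
    obtain ⟨j, hj, hj'⟩ := (Nat.dvd_prime_pow Nat.prime_five).1 d2
    have hj3 : j = 3 := by
      rw [hi'] at l1 l2
      rw [hj'] at l2
      have e1 : 1 < i := by
        by_contra hc
        push Not at hc
        have := Nat.pow_le_pow_right (n := 5) (by norm_num) hc
        omega
      have e2 : i < j := (Nat.pow_lt_pow_iff_right (by norm_num)).1 l2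
      omega
    have hDA : D = A := Subgroup.eq_of_le_of_card_ge inf_le_left (by rw [hj', hj3, hcard])
    intro x hx
    rw [← hDA] at hx
    exact (mem_centralizer_singleton_iff.1 hx.2).symm
  -- the map to pairs of nonidentity cosets
  let T : Set (G ⧸ zpowers f) := (fun x : G => (x : G ⧸ zpowers f)) '' (A : Set G) \ {((1 : G) : G ⧸ zpowers f)}
  have hTc : T.ncard ≤ 24 := by
    have h1 : ((fun x : G => (x : G ⧸ zpowers f)) '' (A : Set G)).ncard = 25 := by
      let ψ : ↥A ⧸ (zpowers f).subgroupOf A → G ⧸ zpowers f :=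
        Quotient.lift (fun x : ↥A => ((x : G) : G ⧸ zpowers f)) (by
          intro x y hxy
          have h1 : (x⁻¹ * y : ↥A) ∈ (zpowers f).subgroupOf A := QuotientGroup.leftRel_apply.1 hxy
          exact QuotientGroup.eq.2 (mem_subgroupOf.1 h1))
      have hψ : Function.Injective ψ := by
        rintro ⟨x⟩ ⟨y⟩ hxy
        apply Quotient.sound
        refine QuotientGroup.leftRel_apply.2 ?_
        rw [mem_subgroupOf]
        exact QuotientGroup.eq.1 hxy
      have hr : (fun x : G => (x : G ⧸ zpowers f)) '' (A : Set G) = Set.range ψ := by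
        ext y
        constructor
        · rintro ⟨x, hx, rfl⟩
          exact ⟨Quotient.mk _ ⟨x, hx⟩, rfl⟩
        · rintro ⟨⟨x⟩, rfl⟩
          exact ⟨x, x.2, rfl⟩
      rw [hr, ← Nat.card_coe_set_eq, Nat.card_range_of_injective hψ]
      have h2 : Nat.card (zpowers f) * (zpowers f).relIndex A = Nat.card A := card_mul_relIndex hFA
      rw [h.h.card_F, hcard] at h2
      have h3 : (zpowers f).relIndex A = 25 := by omega
      exact h3
    have h2 : ((1 : G) : G ⧸ zpowers f) ∈ (fun x : G => (x : G ⧸ zpowers f)) '' (A : Set G) := ⟨1, one_mem A, rfl⟩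
    have h3 := Set.ncard_sdiff_singleton_add_one h2 (Set.toFinite _)
    rw [h1] at h3
    change T.ncard + 1 = 25 at h3
    omega
  have hT : ∀ s ∈ S, ∀ x ∈ A, x ∉ zpowers f → ((s * x * s⁻¹ : G) : G ⧸ zpowers f) ∈ T := by
    intro s hs x hx hxf
    refine ⟨⟨_, hSA s hs x hx, rfl⟩, fun h1 => hxf ?_⟩
    have h2 : (1 : G)⁻¹ * (s * x * s⁻¹) ∈ zpowers f := QuotientGroup.eq.1 (Set.mem_singleton_iff.1 h1).symm
    rw [inv_one, one_mul] at h2
    have h3 := h.h.S_comm_F hs h2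
    have h4 : x = s * x * s⁻¹ := by
      calc x = s⁻¹ * (s * x * s⁻¹ * s) := by group
        _ = s⁻¹ * (s * (s * x * s⁻¹)) := by rw [h3]
        _ = s * x * s⁻¹ := by group
    rw [h4]
    exact h2
  have hbf : b ∉ zpowers f := fun hb => hb1 (mem_sup_left hb)
  let φ : ↥S → ↥T × ↥T := fun s => (⟨_, hT s s.2 a haA haf⟩, ⟨_, hT s s.2 b hbA hbf⟩)
  have hcomm : ∀ r ∈ S, ∀ s ∈ S, ∀ x ∈ A, ((r * x * r⁻¹ : G) : G ⧸ zpowers f) = ((s * x * s⁻¹ : G) : G ⧸ zpowers f) →
      s⁻¹ * r * x = x * (s⁻¹ * r) := by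
    intro r hr s hs x hx hrs
    refine h.comm_of_mem (mul_mem (inv_mem hs) hr) (hAK hx) ?_
    have h1 : (s * x * s⁻¹)⁻¹ * (r * x * r⁻¹) ∈ zpowers f := QuotientGroup.eq.1 hrs.symm
    set y := (s * x * s⁻¹)⁻¹ * (r * x * r⁻¹) with hy
    have h2 : s⁻¹ * r * x * (s⁻¹ * r)⁻¹ * x⁻¹ = x * (s⁻¹ * y * s) * x⁻¹ := by rw [hy]; group
    have h3 : s⁻¹ * y * s = y := by
      have h4 := h.h.S_comm_F (inv_mem hs) h1
      rw [h4, inv_mul_cancel_right]
    rw [h2, h3, h.h.comm_F (hAK hx) h1, mul_inv_cancel_right]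
    exact h1
  have hφ : Function.Injective φ := by
    intro r s hrs
    have e1 := congrArg Subtype.val (congrArg Prod.fst hrs)
    have e2 := congrArg Subtype.val (congrArg Prod.snd hrs)
    have c1 := hcomm r r.2 s s.2 a haA e1
    have c2 := hcomm r r.2 s s.2 b hbA e2
    have hm : (s : G)⁻¹ * r ∈ S := mul_mem (inv_mem s.2) r.2
    have h1 := hfaith _ hm (hgen _ (h.h.Sf _ hm) c1 c2)
    exact Subtype.ext (inv_mul_eq_one.1 h1).symm
  have h1 := Nat.card_le_card_of_injective φ hφ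
  rw [h.h.six.card, Nat.card_prod, Nat.card_coe_set_eq] at h1
  have h2 : T.ncard * T.ncard ≤ 24 * 24 := Nat.mul_le_mul hTc hTc
  omega

/-- the row, from the data -/
theorem rowB_fv (hc : Nat.card G = 51765179004000000) : RowB 5 G := by
  have h5 : Fact (Nat.Prime 5) := ⟨Nat.prime_five⟩
  obtain ⟨t', f', K', S', h', P, -, hKP, hPf, -⟩ := h.exists_sylow hc (A := ⊥) IsPGroup.of_bot
  refine rowB_of_center (T := P) (z₀ := f') ?_ h'.h.f5 ?_
  · intro y hy hyc _
    refine h'.center y ?_ fun k hk => (hyc k (hKP hk)).symm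
    exact h'.mem_of_comm (mem_centralizer_singleton_iff.1 (hPf hy)) fun k hk => (hyc k (hKP hk)).symm
  · intro A hA hz hAc hN hcard
    exact absurd hcard (not_le_of_gt (fv_lt h' hA hz hAc hN))

omit h in
/-- **The row of the Lyons group.** -/
theorem rowB_ly {M : Type u} [Group M] [Finite M] (hM : Spor.IsoLy M) : RowB 5 M := by
  obtain ⟨-, -, hcard, ⟨L⟩⟩ := TypeM.FactsLy.facts hM
  obtain ⟨f, K, S, h⟩ := exists_fv L
  exact rowB_fv h hcard

end Cfsg.Agent.H23.PU.Ly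
end

private theorem dce_737047528ab3 : _root_.True := by
  try have : _root_.True := by simp only [_root_.Cfsg.Agent.H17.PU.MathieuSmall.g0.eq_1]
  try have : _root_.True := by simp only [_root_.Cfsg.Agent.H23.PU.McL.exc.eq_1]
  try have : _root_.True := by simp only [_root_.Cfsg.Agent.H23.PU.McL.cy.eq_1]
  try have : _root_.True := by simp only [_root_.Cfsg.Agent.H23.PU.McL.cy2.eq_1]
  exact _root_.True.intro
end

-- part: H247/P1/Sl_mg
section
prune_inst 0xfcfcfbaff8bddfdfff7e7fffdddffdfdf9ffffffffffcbffe4efffafff6b0ebfe5fbad9fead2ff1ff6e2beb0ba7853fdffcf7fee6bdc7ffffd5ff45ffbee1ff5f7bd88719f8cb40fbe0fff63f07fce7f000000000000000000000000000000004200000000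
set_option linter.all false
open scoped Cfsg.Agent.FastGrp

-- part: H247/P1/Sl
section
/-!
# Overgroups of a Sylow `p`-subgroup of `SL₂(F)`, `char F = p`
-/

set_option autoImplicit false
set_option linter.unusedSectionVars false
open Cfsg Subgroup
open Cfsg.Agent.H230 Cfsg.Agent.H229

namespace Cfsg.Agent.H247.P1.Sl

variable {F : Type*} [Field F]

local notation "SL2" => Matrix.SpecialLinearGroup (Fin 2) F

theorem sl_ext' {g h : Matrix.SpecialLinearGroup (Fin 2) F} (h00 : g.1 0 0 = h.1 0 0) (h01 : g.1 0 1 = h.1 0 1)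
    (h10 : g.1 1 0 = h.1 1 0) (h11 : g.1 1 1 = h.1 1 1) : g = h := by
  apply Subtype.ext
  ext i j
  fin_cases i <;> fin_cases j <;> assumption

theorem det_eq' (g : SL2) : g.1 0 0 * g.1 1 1 - g.1 0 1 * g.1 1 0 = 1 := by
  rw [← Matrix.det_fin_two]; exact g.2

/-- The upper unitriangular element of `SL₂(F)`. -/
def up (t : F) : SL2 := ⟨!![1, t; 0, 1], by simp⟩

/-- The lower unitriangular element of `SL₂(F)`. -/
def lo (t : F) : SL2 := ⟨!![1, 0; t, 1], by simp⟩

theorem mul_coe (g h : SL2) (i j : Fin 2) : (g * h).1 i j = g.1 i 0 * h.1 0 j + g.1 i 1 * h.1 1 j := by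
  change (g.1 * h.1 : Matrix (Fin 2) (Fin 2) F) i j = _
  simp only [Matrix.mul_apply, Fin.sum_univ_two, _root_.Fin.isValue]

theorem up_add (s t : F) : up (s + t) = up s * up t := by
  apply sl_ext' <;> simp only [mul_coe] <;> simp only [up, add_comm, _root_.Fin.isValue, _root_.Matrix.of_apply, _root_.Matrix.cons_val', _root_.Matrix.cons_val_zero, _root_.Matrix.cons_val_fin_one, _root_.mul_one, _root_.Matrix.cons_val_one, _root_.MulZeroClass.mul_zero, _root_.zero_add, _root_.one_mul, _root_.add_zero, _root_.MulZeroClass.zero_mul]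

theorem up_zero : up (0 : F) = 1 := by
  apply sl_ext' <;> simp only [up, _root_.Fin.isValue, _root_.Matrix.of_apply, _root_.Matrix.cons_val', _root_.Matrix.cons_val_zero, _root_.Matrix.cons_val_fin_one, _root_.Matrix.SpecialLinearGroup.coe_one, _root_.Matrix.one_apply_eq, _root_.Matrix.cons_val_one, _root_.ne_eq, _root_.zero_ne_one, _root_.not_false_eq_true, _root_.Matrix.one_apply_ne, _root_.one_ne_zero]

theorem up_neg (s : F) : up (-s) = (up s)⁻¹ := by
  rw [eq_inv_iff_mul_eq_one, ← up_add, neg_add_cancel, up_zero]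

theorem up_pow (s : F) (n : ℕ) : (up s) ^ n = up (n * s) := by
  induction n with
  | zero => simp [up_zero]
  | succ n ih => rw [pow_succ, ih, ← up_add]; congr 1; push_cast; ring

/-- the group of upper unitriangular elements -/
def U (F : Type*) [Field F] : Subgroup (Matrix.SpecialLinearGroup (Fin 2) F) where
  carrier := Set.range up
  one_mem' := ⟨0, up_zero⟩
  mul_mem' := by
    rintro _ _ ⟨s, rfl⟩ ⟨t, rfl⟩
    exact ⟨s + t, up_add s t⟩
  inv_mem' := by
    rintro _ ⟨s, rfl⟩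
    exact ⟨-s, up_neg s⟩

theorem mem_U {g : SL2} : g ∈ U F ↔ g.1 0 0 = 1 ∧ g.1 1 0 = 0 := by
  constructor
  · rintro ⟨t, rfl⟩
    exact ⟨rfl, rfl⟩
  · rintro ⟨h1, h2⟩
    have h3 := det_eq' g
    rw [h1, h2] at h3
    have h4 : g.1 1 1 = 1 := by linear_combination h3
    exact ⟨g.1 0 1, sl_ext' (by rw [h1]; rfl) rfl (by rw [h2]; rfl) (by rw [h4]; rfl)⟩

theorem isPGroup_U {p : ℕ} [Fact p.Prime] [CharP F p] : IsPGroup p ↥(U F) := by
  rintro ⟨_, s, rfl⟩
  refine ⟨1, Subtype.ext ?_⟩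
  show (up s) ^ p ^ 1 = 1
  rw [up_pow, pow_one, CharP.cast_eq_zero, zero_mul, up_zero]

/-- the action on column vectors -/
def act : MulAction SL2 (Fin 2 → F) where
  smul g v := g.1.mulVec v
  one_smul v := by
    change (1 : Matrix (Fin 2) (Fin 2) F).mulVec v = v
    simp
  mul_smul g h v := by
    change (g.1 * h.1).mulVec v = g.1.mulVec (h.1.mulVec v)
    rw [Matrix.mulVec_mulVec]

theorem exists_conj_fix [Finite F] {p : ℕ} [Fact p.Prime] [CharP F p] {T : Subgroup SL2} (hT : IsPGroup p ↥T) :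
    ∃ g : SL2, cj g T ≤ U F := by
  letI := act (F := F)
  have hp : p ∣ Nat.card (Fin 2 → F) := by
    have h1 : p ∣ Nat.card F := by
      have := Fintype.ofFinite F
      rw [Nat.card_eq_fintype_card]
      obtain ⟨n, _, hn⟩ := FiniteField.card F p
      rw [hn]
      exact dvd_pow_self p n.ne_zero
    rw [Nat.card_pi]
    simp only [Finset.prod_const]
    exact dvd_pow h1 (by simp)
  have h0 : (0 : Fin 2 → F) ∈ MulAction.fixedPoints ↥T (Fin 2 → F) := by
    intro t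
    show (t : SL2).1.mulVec 0 = 0
    exact Matrix.mulVec_zero _
  obtain ⟨v, hv, hv0⟩ := hT.exists_fixed_point_of_prime_dvd_card_of_fixed_point _ hp h0
  have hfix : ∀ t ∈ T, (t : SL2).1.mulVec v = v := fun t ht => hv ⟨t, ht⟩
  -- `g e₁ = v`
  obtain ⟨g, hg⟩ : ∃ g : SL2, g.1 0 0 = v 0 ∧ g.1 1 0 = v 1 := by
    by_cases h : v 0 = 0
    · have h1 : v 1 ≠ 0 := by
        intro h1
        apply hv0
        ext i
        fin_cases i
        · exact h.symm
        · exact h1.symm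
      refine ⟨⟨!![0, -(v 1)⁻¹; v 1, 0], ?_⟩, ?_, ?_⟩
      · rw [Matrix.det_fin_two_of]; field_simp; ring
      · simp [h]
      · simp
    · refine ⟨⟨!![v 0, 0; v 1, (v 0)⁻¹], ?_⟩, ?_, ?_⟩
      · rw [Matrix.det_fin_two_of]; field_simp; ring
      · simp
      · simp
  refine ⟨g⁻¹, ?_⟩
  rintro _ ⟨t, ht, rfl⟩
  show g⁻¹ * t * g⁻¹⁻¹ ∈ U F
  rw [inv_inv]
  set x := g⁻¹ * t * g with hx
  have h1 : g * x = t * g := by rw [hx]; group
  have h2 := hfix t ht
  have h20 : t.1 0 0 * v 0 + t.1 0 1 * v 1 = v 0 := by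
    have := congrFun h2 0
    simpa only [Matrix.mulVec, dotProduct, Fin.sum_univ_two, _root_.Fin.isValue] using this
  have h21 : t.1 1 0 * v 0 + t.1 1 1 * v 1 = v 1 := by
    have := congrFun h2 1
    simpa only [Matrix.mulVec, dotProduct, Fin.sum_univ_two, _root_.Fin.isValue] using this
  have e0 : (g * x).1 0 0 = g.1 0 0 := by
    rw [h1, mul_coe, hg.1, hg.2, h20]
  have e1 : (g * x).1 1 0 = g.1 1 0 := by
    rw [h1, mul_coe, hg.1, hg.2, h21]
  rw [mul_coe] at e0 e1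
  have hd := det_eq' g
  rw [mem_U]
  constructor
  · linear_combination g.1 1 1 * e0 - g.1 0 1 * e1 + (1 - x.1 0 0) * hd
  · linear_combination g.1 0 0 * e1 - g.1 1 0 * e0 - x.1 1 0 * hd

/-- the Sylow `p`-subgroups are conjugate to `U` -/
theorem exists_conj_sylow [Finite F] {p : ℕ} [Fact p.Prime] [CharP F p] (T : Sylow p SL2) :
    ∃ g : SL2, cj g (T : Subgroup SL2) = U F := by
  obtain ⟨g, hg⟩ := exists_conj_fix T.2
  refine ⟨g, ?_⟩
  have h1 : (T : Subgroup SL2) ≤ cj g⁻¹ (U F) := by rwa [le_cj_iff, inv_inv]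
  have h2 := T.3 (isPGroup_cj (g := g⁻¹) (isPGroup_U (p := p))) h1
  rw [cj_eq_iff, ← h2]

/-- a subgroup containing `U` and an element that is not upper triangular is everything -/
theorem eq_top_of {L : Subgroup SL2} (hU : U F ≤ L) {g : SL2} (hg : g ∈ L) (hc : g.1 1 0 ≠ 0) : L = ⊤ := by
  have hu : ∀ t : F, up t ∈ L := fun t => hU ⟨t, rfl⟩
  have hd := det_eq' g
  -- `lo c ∈ L`
  have hlc : lo (g.1 1 0) ∈ L := by
    have : lo (g.1 1 0) = up (-((g.1 0 0 - 1) / g.1 1 0)) * g * up (-((g.1 1 1 - 1) / g.1 1 0)) := by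
      apply sl_ext' <;> simp only [mul_coe] <;> simp only [up, lo, _root_.Fin.isValue, _root_.Matrix.of_apply, _root_.Matrix.cons_val', _root_.Matrix.cons_val_zero, _root_.Matrix.cons_val_fin_one, _root_.one_mul, _root_.Matrix.cons_val_one, _root_.neg_mul, _root_.mul_one, _root_.MulZeroClass.mul_zero, _root_.add_zero, _root_.mul_neg, _root_.MulZeroClass.zero_mul, _root_.zero_add]
      · field_simp; ring
      · field_simp; linear_combination hd
      · field_simp; ring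
    rw [this]
    exact mul_mem (mul_mem (hu _) hg) (hu _)
  set c := g.1 1 0 with hcd
  -- `w ∈ L`
  have hw : up (-c⁻¹) * lo c * up (-c⁻¹) ∈ L := mul_mem (mul_mem (hu _) hlc) (hu _)
  have hlo : ∀ t : F, lo t ∈ L := by
    intro t
    have : lo t = (up (-c⁻¹) * lo c * up (-c⁻¹)) * up (-(c⁻¹ * c⁻¹ * t)) * (up (-c⁻¹) * lo c * up (-c⁻¹))⁻¹ := by
      rw [eq_mul_inv_iff_mul_eq]
      apply sl_ext' <;> simp only [mul_coe] <;> simp only [up, lo, hc, _root_.Fin.isValue, _root_.Matrix.of_apply, _root_.Matrix.cons_val', _root_.Matrix.cons_val_zero, _root_.Matrix.cons_val_fin_one, _root_.mul_one, _root_.Matrix.cons_val_one, _root_.neg_mul, _root_.ne_eq, _root_.not_false_eq_true, _root_.inv_mul_cancel₀, _root_.add_neg_cancel, _root_.MulZeroClass.mul_zero, _root_.zero_add, _root_.add_zero, _root_.one_mul, _root_.MulZeroClass.zero_mul, _root_.mul_neg, _root_.neg_zero, _root_.mul_inv_cancel₀, _root_.neg_add_cancel, _root_.neg_inj] <;> (try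 field_simp) <;> (try ring)
    rw [this]
    exact mul_mem (mul_mem hw (hu _)) (inv_mem hw)
  have key : ∀ x : SL2, x.1 1 0 ≠ 0 → x ∈ L := by
    intro x hx
    have hdx := det_eq' x
    have : x = up ((x.1 0 0 - 1) / x.1 1 0) * lo (x.1 1 0) * up ((x.1 1 1 - 1) / x.1 1 0) := by
      apply sl_ext' <;> simp only [mul_coe] <;> simp only [up, lo, _root_.Fin.isValue, _root_.Matrix.of_apply, _root_.Matrix.cons_val', _root_.Matrix.cons_val_zero, _root_.Matrix.cons_val_fin_one, _root_.mul_one, _root_.Matrix.cons_val_one, _root_.MulZeroClass.mul_zero, _root_.zero_add, _root_.add_zero, _root_.one_mul]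
      · field_simp; ring
      · field_simp; linear_combination (-1 : F) * hdx
      · field_simp; ring
    rw [this]
    exact mul_mem (mul_mem (hu _) (hlo _)) (hu _)
  rw [eq_top_iff]
  intro x _
  by_cases hx : x.1 1 0 = 0
  · have h1 : x * lo 1 ∈ L := by
      apply key
      rw [mul_coe, hx]
      simp [lo]
      intro h2
      have := det_eq' x
      rw [hx, h2] at this
      simp at this
    have h2 := mul_mem h1 (inv_mem (hlo 1))
    rwa [mul_inv_cancel_right] at h2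
  · exact key x hx

/-- A proper overgroup of a Sylow `p`-subgroup `T` of `SL₂(F)` normalises `T`. -/
theorem le_normalizer_of_ne_top [Finite F] {p : ℕ} [Fact p.Prime] [CharP F p] (T : Sylow p SL2) {L : Subgroup SL2}
    (hTL : (T : Subgroup SL2) ≤ L) (hL : L ≠ ⊤) : L ≤ normalizer ((T : Subgroup SL2) : Set SL2) := by
  obtain ⟨g, hg⟩ := exists_conj_sylow T
  have h1 : U F ≤ cj g L := by rw [← hg]; exact cj_mono hTL
  have h2 : cj g L ≠ ⊤ := by
    intro h
    apply hL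
    rw [cj_eq_iff] at h
    rw [h, cj_top]
  have h3 : cj g L ≤ normalizer ((U F : Subgroup SL2) : Set SL2) := by
    rw [le_norm_iff]
    intro x hx y hy
    have hx0 : x.1 1 0 = 0 := by
      by_contra hc
      exact h2 (eq_top_of h1 hx hc)
    obtain ⟨hy1, hy2⟩ := mem_U.1 hy
    have e : x * y = (x * y * x⁻¹) * x := by group
    have hdx := det_eq' x
    rw [hx0] at hdx
    have e0 := congrArg (fun z : SL2 => z.1 0 0) e
    have e1 := congrArg (fun z : SL2 => z.1 1 0) e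
    simp only [mul_coe (x * y * x⁻¹) x, mul_coe x y, hx0, hy1, hy2] at e0 e1
    have hx00 : x.1 0 0 ≠ 0 := by
      intro h; rw [h] at hdx; simp at hdx
    rw [mem_U]
    constructor
    · have : x.1 0 0 * (x * y * x⁻¹).1 0 0 = x.1 0 0 * 1 := by linear_combination -e0
      exact mul_left_cancel₀ hx00 this
    · have : x.1 0 0 * (x * y * x⁻¹).1 1 0 = x.1 0 0 * 0 := by linear_combination -e1
      exact mul_left_cancel₀ hx00 this
  rw [← hg, ← cj_normalizer, cj_le_cj] at h3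
  exact h3

end Cfsg.Agent.H247.P1.Sl
end

-- part: H371/PU/Loc
section
/-!
# S3046, row `²F₄`: the two subgroups `C` and `P` (helper371)
-/

set_option autoImplicit false
set_option linter.unusedSectionVars false

namespace Cfsg.Agent.H371.PU

open Cfsg.Agent.KFacts.TwF4 Cfsg.Agent.KFacts.TwF4.Full Cfsg.Agent.KFacts.TwF4.Arc
open Cfsg.Agent.KFacts.TwF4.Inv Cfsg.Agent.KFacts.TwF4.SylU Cfsg.Agent.KFacts.TwF4.Irr
open Cfsg.Agent.SplitTwo Cfsg.Agent.SplitTwo.ZS Cfsg.Agent.TitsThree.RankTwoZ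
open Cfsg.Agent.SplitTwo.RootSysZ Subgroup Cfsg Cfsg.Lie Cfsg.Agent.H248.TwF4Over

universe u v

/-- an isomorphism from `N ≤ G` to `K ≤ H`, as a function on `G` -/
structure Emb {G : Type u} [Group G] {H : Type v} [Group H] (N : Subgroup G) (K : Subgroup H) where
  j : G → H
  mul : ∀ x ∈ N, ∀ y ∈ N, j (x * y) = j x * j y
  inj : ∀ x ∈ N, ∀ y ∈ N, j x = j y → x = y
  mem : ∀ x ∈ N, j x ∈ K
  surj : ∀ k ∈ K, ∃ x ∈ N, j x = k

section general

variable {H : Type v} [Group H]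

theorem mem_norm_of_le [Finite H] {A : Subgroup H} {g : H} (h : ∀ x ∈ A, g * x * g⁻¹ ∈ A) :
    g ∈ normalizer (A : Set H) := by
  rw [mem_normalizer_iff]
  intro x
  refine ⟨h x, fun hx => ?_⟩
  have hinj : Function.Injective (fun y : ↥A => (⟨g * y * g⁻¹, h y y.2⟩ : ↥A)) := by
    intro y z hyz
    have h1 := congrArg Subtype.val hyz
    apply Subtype.ext
    simpa only [_root_.SetLike.coe_eq_coe, _root_.mul_left_inj, _root_.mul_right_inj] using h1
  obtain ⟨y, hy⟩ := Finite.surjective_of_injective hinj ⟨g * x * g⁻¹, hx⟩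
  have h1 : g * (y : H) * g⁻¹ = g * x * g⁻¹ := congrArg Subtype.val hy
  have h2 : (y : H) = x := by simpa only [_root_.mul_left_inj, _root_.mul_right_inj] using h1
  rw [← h2]
  exact y.2

theorem le_sylow_of_norm [Finite H] {p : ℕ} [Fact p.Prime] (Sy : Sylow p H) {R M : Subgroup H} (hM : (Sy : Subgroup H) ≤ M)
    (hR : IsPGroup p R) (hRM : R ≤ M) (hn : M ≤ normalizer (R : Set H)) : R ≤ (Sy : Subgroup H) := by
  have h1 : (R.subgroupOf M).Normal := (normal_subgroupOf_iff_le_normalizer hRM).2 hn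
  have h2 : IsPGroup p ↥(R.subgroupOf M) := hR.comap_of_injective M.subtype M.subtype_injective
  have h3 := (Lib.Cores.le_pCore h1 h2).trans (Lib.Cores.pCore_le_sylow (Sy.subtype hM))
  intro x hx
  exact h3 (show (⟨x, hRM hx⟩ : ↥M) ∈ R.subgroupOf M from hx)

theorem pCore_map_le {p : ℕ} (M : Subgroup H) : (pCore p ↥M).map M.subtype ≤ M := map_subtype_le _

theorem pCore_map_isPGroup {p : ℕ} (M : Subgroup H) : IsPGroup p ↥((pCore p ↥M).map M.subtype) :=
  (Lib.Cores.pCore_isPGroup p).map _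

theorem pCore_map_norm {p : ℕ} (M : Subgroup H) : M ≤ normalizer (((pCore p ↥M).map M.subtype : Subgroup H) : Set H) := by
  have h1 : (pCore p ↥M).Normal := Lib.Cores.pCore_normal p
  rw [← normal_subgroupOf_iff_le_normalizer (map_subtype_le _), subgroupOf, comap_map_eq_self_of_injective M.subtype_injective]
  exact h1

theorem le_pCore_map {p : ℕ} {R M : Subgroup H} (hR : IsPGroup p R) (hRM : R ≤ M) (hn : M ≤ normalizer (R : Set H)) :
    R ≤ (pCore p ↥M).map M.subtype := by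
  have h1 : (R.subgroupOf M).Normal := (normal_subgroupOf_iff_le_normalizer hRM).2 hn
  have h2 : IsPGroup p ↥(R.subgroupOf M) := hR.comap_of_injective M.subtype M.subtype_injective
  intro x hx
  exact ⟨⟨x, hRM hx⟩, Lib.Cores.le_pCore h1 h2 hx, rfl⟩

theorem omegaOne_eq {p : ℕ} {A : Subgroup H} (h : ∀ x ∈ A, x ^ p = 1) : omegaOne p A = A := by
  unfold omegaOne
  refine le_antisymm ((closure_le _).2 fun x hx => hx.1) fun x hx => subset_closure ⟨hx, h x hx⟩

/-- a normal subgroup of a `p`-minimal group containing a Sylow `p`-subgroup is everything -/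
theorem le_of_pminimal [Finite H] {p : ℕ} [Fact p.Prime] (Sy : Sylow p H) {P L : Subgroup H} (hSP : (Sy : Subgroup H) ≤ P)
    (hP : IsPMinimal p ↥P) (hSL : (Sy : Subgroup H) ≤ L) (hn : P ≤ normalizer (L : Set H)) : P ≤ L := by
  have h1 : (L.subgroupOf P).Normal := by
    refine ⟨fun x hx g => ?_⟩
    exact (mem_normalizer_iff.1 (hn g.2) x).1 hx
  have hnn := (hP (Sy.subtype hSP)).1
  rcases H273.PMinimal.dichotomy hP (Sy.subtype hSP) (L.subgroupOf P) with h | ⟨-, h⟩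
  · exfalso
    apply hnn
    have e : ((Sy.subtype hSP : Sylow p ↥P) : Subgroup ↥P) ⊓ L.subgroupOf P = (Sy.subtype hSP : Subgroup ↥P) :=
      inf_eq_left.2 fun x hx => hSL hx
    rwa [e] at h
  · have h2 : L.subgroupOf P = ⊤ := by
      rw [← h]
      exact (sup_eq_right.2 fun x hx => hSL hx).symm
    exact subgroupOf_eq_top.1 h2

end general

namespace Emb

variable {G : Type u} [Group G] {H : Type v} [Group H] {N : Subgroup G} {K : Subgroup H} (E : Emb N K)

theorem one : E.j 1 = 1 := by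
  have h := E.mul 1 (one_mem _) 1 (one_mem _)
  rw [mul_one] at h
  exact mul_eq_left.1 h.symm

theorem inv {x : G} (hx : x ∈ N) : E.j x⁻¹ = (E.j x)⁻¹ := by
  have h := E.mul x hx x⁻¹ (inv_mem hx)
  rw [mul_inv_cancel, E.one] at h
  exact (inv_eq_of_mul_eq_one_right h.symm).symm

theorem conj {x y : G} (hx : x ∈ N) (hy : y ∈ N) : E.j (x * y * x⁻¹) = E.j x * E.j y * (E.j x)⁻¹ := by
  rw [E.mul _ (mul_mem hx hy) _ (inv_mem hx), E.mul _ hx _ hy, E.inv hx]

theorem eq_one {x : G} (hx : x ∈ N) (h : E.j x = 1) : x = 1 := E.inj x hx 1 (one_mem _) (h.trans E.one.symm)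

/-- the image of `A ∩ N` -/
def I (A : Subgroup G) : Subgroup H where
  carrier := {h | ∃ x ∈ N, x ∈ A ∧ E.j x = h}
  one_mem' := ⟨1, one_mem _, one_mem _, E.one⟩
  mul_mem' := by
    rintro _ _ ⟨x, hx, hxA, rfl⟩ ⟨y, hy, hyA, rfl⟩
    exact ⟨x * y, mul_mem hx hy, mul_mem hxA hyA, E.mul x hx y hy⟩
  inv_mem' := by
    rintro _ ⟨x, hx, hxA, rfl⟩
    exact ⟨x⁻¹, inv_mem hx, inv_mem hxA, E.inv hx⟩

theorem j_mem_I {A : Subgroup G} {x : G} (hx : x ∈ N) : E.j x ∈ E.I A ↔ x ∈ A := by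
  constructor
  · rintro ⟨y, hy, hyA, h⟩
    rw [← E.inj y hy x hx h]
    exact hyA
  · intro h
    exact ⟨x, hx, h, rfl⟩

theorem I_mono {A B : Subgroup G} (h : A ≤ B) : E.I A ≤ E.I B := by
  rintro _ ⟨x, hx, hxA, rfl⟩
  exact ⟨x, hx, h hxA, rfl⟩

theorem I_le_K (A : Subgroup G) : E.I A ≤ K := by
  rintro _ ⟨x, hx, hxA, rfl⟩
  exact E.mem x hx

theorem isPGroup_I {p : ℕ} {A : Subgroup G} (hA : IsPGroup p A) : IsPGroup p ↥(E.I A) := by
  rintro ⟨_, x, hx, hxA, rfl⟩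
  obtain ⟨k, hk⟩ := hA ⟨x, hxA⟩
  refine ⟨k, Subtype.ext ?_⟩
  have h1 : x ^ p ^ k = 1 := congrArg Subtype.val hk
  have h2 : ∀ n : ℕ, E.j (x ^ n) = E.j x ^ n := by
    intro n
    induction n with
    | zero => rw [pow_zero, pow_zero, E.one]
    | succ n ih => rw [pow_succ, pow_succ, E.mul _ (pow_mem hx n) _ hx, ih]
  show E.j x ^ p ^ k = 1
  rw [← h2, h1, E.one]

/-- the preimage of `M ∩ K` -/
def Ph (M : Subgroup H) : Subgroup G where
  carrier := {x | x ∈ N ∧ E.j x ∈ M}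
  one_mem' := ⟨one_mem _, by rw [E.one]; exact one_mem _⟩
  mul_mem' := by
    rintro x y ⟨hx, hx'⟩ ⟨hy, hy'⟩
    exact ⟨mul_mem hx hy, by rw [E.mul x hx y hy]; exact mul_mem hx' hy'⟩
  inv_mem' := by
    rintro x ⟨hx, hx'⟩
    exact ⟨inv_mem hx, by rw [E.inv hx]; exact inv_mem hx'⟩

end Emb

section local_

variable {F : Type*} [Field F] {σ : F →+* F} {G : Type u} [Group G] {S : Full σ G} {N : Subgroup G}
variable {H : Type v} [Group H] {K : Subgroup H} (NF : NFacts S N) (E : Emb N K)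

theorem n1_mem_N (NF : NFacts S N) : S.n1 ∈ N := NF.cond.n1_mem N inf_le_right inf_le_right
theorem n2_mem_N (NF : NFacts S N) : S.n2 ∈ N := NF.cond.n2_mem N inf_le_right inf_le_right

variable {R : Subgroup H} (hR : R ≤ E.I (J S.XZ 1 8))

include NF hR

theorem le_J28 (h : ∀ x ∈ R, E.j S.n1 * x * (E.j S.n1)⁻¹ ∈ R) : R ≤ E.I (J S.XZ 2 8) := by
  intro r hr
  obtain ⟨x, hx, hxU, rfl⟩ := hR hr
  rw [E.j_mem_I hx]
  refine J28_of_n1 S hxU ?_
  rw [← E.j_mem_I (NF.cond.conj _ x hx), E.conj (n1_mem_N NF) hx]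
  exact hR (h _ hr)

theorem le_J17 (h : ∀ x ∈ R, E.j S.n2 * x * (E.j S.n2)⁻¹ ∈ R) : R ≤ E.I (J S.XZ 1 7) := by
  intro r hr
  obtain ⟨x, hx, hxU, rfl⟩ := hR hr
  rw [E.j_mem_I hx]
  refine J17_of_n2 S hxU ?_
  rw [← E.j_mem_I (NF.cond.conj _ x hx), E.conj (n2_mem_N NF) hx]
  exact hR (h _ hr)

theorem eq_bot_of_both (h1 : ∀ x ∈ R, E.j S.n1 * x * (E.j S.n1)⁻¹ ∈ R) (h2 : ∀ x ∈ R, E.j S.n2 * x * (E.j S.n2)⁻¹ ∈ R) :
    R = ⊥ := by
  have h3 : E.Ph R = ⊥ := by
    refine bot_of_inv S ?_ ?_ ?_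
    · rintro x ⟨hx, hxR⟩
      exact (E.j_mem_I hx).1 (hR hxR)
    · rintro x ⟨hx, hxR⟩
      refine ⟨NF.cond.conj _ x hx, ?_⟩
      rw [E.conj (n1_mem_N NF) hx]
      exact h1 _ hxR
    · rintro x ⟨hx, hxR⟩
      refine ⟨NF.cond.conj _ x hx, ?_⟩
      rw [E.conj (n2_mem_N NF) hx]
      exact h2 _ hxR
  rw [eq_bot_iff]
  intro r hr
  obtain ⟨x, hx, hxU, rfl⟩ := hR hr
  have h4 : x ∈ E.Ph R := ⟨hx, hr⟩
  rw [h3] at h4
  rw [mem_bot.1 h4, E.one]
  exact one_mem _

end local_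

section main

variable {F : Type*} [Field F] {σ : F →+* F} {G : Type u} [Group G] [Finite G] {S : Full σ G} {N : Subgroup G}
variable {H : Type v} [Group H] [Finite H] {K : Subgroup H} (NF : NFacts S N) (E : Emb N K)
  (Sy : Sylow 2 H) (hSy : (Sy : Subgroup H) = E.I (J S.XZ 1 8))

include NF hSy

theorem U_le_Ph {M : Subgroup H} (hM : (Sy : Subgroup H) ≤ M) : J S.XZ 1 8 ⊓ N ≤ E.Ph M := by
  rintro x ⟨hx, hxN⟩
  refine ⟨hxN, hM ?_⟩
  rw [hSy]
  exact ⟨x, hxN, hx, rfl⟩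

/-- the centre of `S` -/
theorem center_eq : (Sy : Subgroup H) ⊓ centralizer ((Sy : Subgroup H) : Set H) = E.I (S.Zc 2) := by
  apply le_antisymm
  · rintro h ⟨h1, h2⟩
    rw [hSy] at h1
    obtain ⟨x, hx, hxU, rfl⟩ := h1
    rw [E.j_mem_I hx]
    refine NF.c17 x hx fun y hy => ?_
    replace h2 : E.j x ∈ centralizer ((Sy : Subgroup H) : Set H) := h2
    rw [mem_centralizer_iff] at h2
    have h3 := h2 (E.j y) (by rw [hSy]; exact ⟨y, hy.2, J_mono le_rfl (by norm_num) hy.1, rfl⟩)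
    rw [← E.mul _ hy.2 _ hx, ← E.mul _ hx _ hy.2] at h3
    exact (E.inj _ (mul_mem hy.2 hx) _ (mul_mem hx hy.2) h3).symm
  · rintro _ ⟨x, hx, hxZ, rfl⟩
    refine ⟨?_, ?_⟩
    · rw [hSy]
      refine ⟨x, hx, ?_, rfl⟩
      obtain ⟨u, rfl⟩ := hxZ
      exact X_le_J (X := S.XZ) (k := 4) (by norm_num) (by norm_num) ((mem_X4 S).2 ⟨0, u, rfl⟩)
    · show E.j x ∈ centralizer ((Sy : Subgroup H) : Set H)
      rw [mem_centralizer_iff]
      intro y hy
      rw [hSy] at hy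
      obtain ⟨y, hyN, hyU, rfl⟩ := hy
      rw [← E.mul _ hyN _ hx, ← E.mul _ hx _ hyN, S.comm_PL (J_mono (by norm_num) le_rfl hyU) hxZ]

omit hSy [Finite G] [Finite H] in
theorem sq_Zc {h : H} (hh : h ∈ E.I (S.Zc 2)) : h ^ 2 = 1 := by
  obtain ⟨_, hx, ⟨u, rfl⟩, rfl⟩ := hh
  rw [pow_two, ← E.mul _ hx _ hx, z_sq, E.one]

theorem Z_eq {Z : Subgroup H} (hZ : Z = omegaOne 2 ((Sy : Subgroup H) ⊓ centralizer ((Sy : Subgroup H) : Set H))) :
    Z = E.I (S.Zc 2) := by
  rw [hZ, center_eq NF E Sy hSy]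
  exact omegaOne_eq fun x hx => sq_Zc NF E hx

theorem Sy_le_norm_Z : (Sy : Subgroup H) ≤ normalizer ((E.I (S.Zc 2) : Subgroup H) : Set H) := by
  rw [← center_eq NF E Sy hSy]
  intro s hs
  have h1 : s ∈ centralizer (((Sy : Subgroup H) ⊓ centralizer ((Sy : Subgroup H) : Set H) : Subgroup H) : Set H) := by
    rw [mem_centralizer_iff]
    rintro z ⟨-, hz⟩
    exact (mem_centralizer_iff.1 hz s hs).symm
  exact centralizer_le_normalizer _ h1

omit hSy in
/-- `n2` does not normalise `J 2 8` -/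
theorem n2_not : S.n2 ∉ normalizer (J S.XZ 2 8 : Set G) := by
  intro h
  have he8 : S.e 4 0 1 ∈ S.XZ 8 := (mem_X8 S).2 ⟨0, 1, rfl⟩
  have h2 := (mem_normalizer_iff.1 h (S.e 4 0 1)).1 (X_le_J (X := S.XZ) (k := 8) (by norm_num) (by norm_num) he8)
  have h3 := H127.TwFInv.X0_inf_BT S (S.n2_refl.mem' he8 (by norm_num))
    (mem_sup_left (J_mono (a := 2) (b := 8) (by norm_num) le_rfl h2))
  have e3 : S.e 4 0 1 = S.n2⁻¹ * (S.n2 * S.e 4 0 1 * S.n2⁻¹) * S.n2 := by group
  have h4 : S.e 4 0 1 = 1 := by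
    rw [e3, h3]
    group
  exact one_ne_zero (S.e_eq_one h4).2

theorem over17 {M : Subgroup H} (hM : (Sy : Subgroup H) ≤ M) (h2 : E.j S.n2 ∈ M) (hN : ¬ N ≤ E.Ph M) :
    E.Ph M ≤ normalizer (J S.XZ 1 7 : Set G) := by
  rcases overgroup NF.cond (U_le_Ph NF E Sy hSy hM) with h | h | h
  · exact absurd h hN
  · exact absurd (h ⟨n2_mem_N NF, h2⟩) (n2_not NF)
  · exact h

/-- if `N ≤ Ph M`, then `O_2(M) = 1` -/
theorem core_bot {M R : Subgroup H} (hM : (Sy : Subgroup H) ≤ M) (hN : N ≤ E.Ph M) (hR : IsPGroup 2 R) (hRM : R ≤ M)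
    (hn : M ≤ normalizer (R : Set H)) : R = ⊥ := by
  have h1 : R ≤ E.I (J S.XZ 1 8) := by
    rw [← hSy]
    exact le_sylow_of_norm Sy hM hR hRM hn
  refine eq_bot_of_both NF E h1 ?_ ?_
  · intro x hx
    exact (mem_normalizer_iff.1 (hn (hN (n1_mem_N NF)).2) x).1 hx
  · intro x hx
    exact (mem_normalizer_iff.1 (hn (hN (n2_mem_N NF)).2) x).1 hx

end main

/-! ### the subgroup `C` -/

section C

variable {F : Type*} [Field F] {σ : F →+* F} {G : Type u} [Group G] [Finite G] {S : Full σ G} {N : Subgroup G}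
variable {H : Type v} [Group H] [Finite H] {K : Subgroup H} [K.Normal] (NF : NFacts S N) (E : Emb N K)
  (Sy : Sylow 2 H) (hSy : (Sy : Subgroup H) = E.I (J S.XZ 1 8)) {C Q : Subgroup H}
  (hCloc : ∃ T : Subgroup H, IsPGroup 2 ↥T ∧ T ≠ ⊥ ∧ C = normalizer (T : Set H))
  (hNZ : normalizer ((E.I (S.Zc 2) : Subgroup H) : Set H) ≤ C)
  (hQ : Q = (pCore 2 ↥C).map C.subtype)

include NF hSy hNZ

theorem Sy_le_C : (Sy : Subgroup H) ≤ C := (Sy_le_norm_Z NF E Sy hSy).trans hNZ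

omit hSy in
theorem n2_mem_C : E.j S.n2 ∈ C := by
  apply hNZ
  apply centralizer_le_normalizer
  rw [mem_centralizer_iff]
  rintro _ ⟨x, hx, hxZ, rfl⟩
  rw [← E.mul _ hx _ (n2_mem_N NF), ← E.mul _ (n2_mem_N NF) _ hx, S.comm_PL S.n2_mem hxZ]

include hCloc in
theorem not_le_C : ¬ N ≤ E.Ph C := by
  intro hN
  obtain ⟨T, hT, hT1, rfl⟩ := hCloc
  apply hT1
  exact core_bot NF E Sy hSy (Sy_le_C NF E Sy hSy hNZ) hN hT le_normalizer le_rfl

include hCloc hQ in
theorem Q_eq : Q = E.I (J S.XZ 1 7) := by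
  have hSC := Sy_le_C NF E Sy hSy hNZ
  have hn2 : E.j S.n2 ∈ C := n2_mem_C NF E hNZ
  have hle : ∀ R : Subgroup H, IsPGroup 2 R → R ≤ C ⊓ K → C ⊓ K ≤ normalizer (R : Set H) → R ≤ E.I (J S.XZ 1 7) := by
    intro R hR hRC hn
    have hSK : (Sy : Subgroup H) ≤ C ⊓ K := le_inf hSC (by rw [hSy]; exact E.I_le_K _)
    refine le_J17 NF E ?_ ?_
    · rw [← hSy]
      exact le_sylow_of_norm Sy hSK hR hRC hn
    · intro x hx
      exact (mem_normalizer_iff.1 (hn ⟨hn2, E.mem _ (n2_mem_N NF)⟩) x).1 hx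
  have h17 := over17 NF E Sy hSy hSC hn2 (not_le_C NF E Sy hSy hCloc hNZ)
  -- `R = I (J 1 7)` is normal in `C ∩ K`
  have hRn : C ⊓ K ≤ normalizer ((E.I (J S.XZ 1 7) : Subgroup H) : Set H) := by
    rintro c ⟨hcC, hcK⟩
    obtain ⟨y, hy, rfl⟩ := E.surj c hcK
    refine mem_norm_of_le ?_
    rintro _ ⟨x, hx, hxJ, rfl⟩
    rw [← E.conj hy hx, E.j_mem_I (NF.cond.conj _ x hx)]
    exact (mem_normalizer_iff.1 (h17 ⟨hy, hcC⟩) x).1 hxJ
  have hR2 : IsPGroup 2 ↥(E.I (J S.XZ 1 7)) := E.isPGroup_I (NF.two.to_le (J_mono le_rfl (by norm_num)))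
  have hRS : E.I (J S.XZ 1 7) ≤ (Sy : Subgroup H) := by
    rw [hSy]
    exact E.I_mono (J_mono le_rfl (by norm_num))
  have hRC : C ≤ normalizer ((E.I (J S.XZ 1 7) : Subgroup H) : Set H) := by
    intro c hc
    refine mem_norm_of_le ?_
    intro r hr
    have h1 := hle ((E.I (J S.XZ 1 7)).map (MulAut.conj c).toMonoidHom) (hR2.map _) ?_ ?_
    · exact h1 ⟨r, hr, rfl⟩
    · rintro _ ⟨x, hx, rfl⟩
      show c * x * c⁻¹ ∈ C ⊓ K
      exact ⟨C.mul_mem (C.mul_mem hc (hSC (hRS hx))) (C.inv_mem hc), Normal.conj_mem inferInstance _ (E.I_le_K _ hx) _⟩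
    · rintro d ⟨hdC, hdK⟩
      refine mem_norm_of_le ?_
      rintro _ ⟨x, hx, rfl⟩
      have h2 : c⁻¹ * d * c ∈ C ⊓ K := by
        refine ⟨C.mul_mem (C.mul_mem (C.inv_mem hc) hdC) hc, ?_⟩
        have := Normal.conj_mem (inferInstance : K.Normal) d hdK c⁻¹
        rwa [inv_inv] at this
      refine ⟨(c⁻¹ * d * c) * x * (c⁻¹ * d * c)⁻¹, (mem_normalizer_iff.1 (hRn h2) x).1 hx, ?_⟩
      show c * ((c⁻¹ * d * c) * x * (c⁻¹ * d * c)⁻¹) * c⁻¹ = d * (c * x * c⁻¹) * d⁻¹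
      group
  apply le_antisymm
  · rw [hQ]
    have hQS : (pCore 2 ↥C).map C.subtype ≤ (Sy : Subgroup H) :=
      le_sylow_of_norm Sy hSC (pCore_map_isPGroup C) (pCore_map_le C) (pCore_map_norm C)
    refine hle _ (pCore_map_isPGroup C) (le_inf (pCore_map_le C) (hQS.trans ?_)) (inf_le_left.trans (pCore_map_norm C))
    rw [hSy]
    exact E.I_le_K _
  · rw [hQ]
    exact le_pCore_map hR2 (hRS.trans hSC) hRC

include hCloc hQ in
/-- `Z` is normal in `C` -/
theorem C_norm_Z : C ≤ normalizer ((E.I (S.Zc 2) : Subgroup H) : Set H) := by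
  have hQe := Q_eq NF E Sy hSy hCloc hNZ hQ
  have hCQ : C ≤ normalizer ((E.I (J S.XZ 1 7) : Subgroup H) : Set H) := by
    rw [← hQe, hQ]
    exact pCore_map_norm C
  have h1 : ∀ h : H, h ∈ E.I (S.Zc 2) ↔ h ∈ E.I (J S.XZ 1 7) ∧ ∀ q ∈ E.I (J S.XZ 1 7), h * q = q * h := by
    intro h
    constructor
    · rintro ⟨x, hx, hxZ, rfl⟩
      refine ⟨⟨x, hx, ?_, rfl⟩, ?_⟩
      · obtain ⟨u, rfl⟩ := hxZ
        exact X_le_J (X := S.XZ) (k := 4) (by norm_num) (by norm_num) ((mem_X4 S).2 ⟨0, u, rfl⟩)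
      · rintro _ ⟨y, hy, hyJ, rfl⟩
        rw [← E.mul _ hy _ hx, ← E.mul _ hx _ hy, S.comm_PL (J_mono (by norm_num) (by norm_num) hyJ) hxZ]
    · rintro ⟨⟨x, hx, hxJ, rfl⟩, h2⟩
      rw [E.j_mem_I hx]
      refine NF.c17 x hx fun y hy => ?_
      have h3 := h2 (E.j y) ⟨y, hy.2, hy.1, rfl⟩
      rw [← E.mul _ hy.2 _ hx, ← E.mul _ hx _ hy.2] at h3
      exact E.inj _ (mul_mem hx hy.2) _ (mul_mem hy.2 hx) h3
  intro c hc
  refine mem_norm_of_le ?_
  intro z hz
  rw [h1] at hz ⊢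
  refine ⟨(mem_normalizer_iff.1 (hCQ hc) z).1 hz.1, ?_⟩
  intro q hq
  have h3 : c⁻¹ * q * c⁻¹⁻¹ ∈ E.I (J S.XZ 1 7) := (mem_normalizer_iff.1 (inv_mem (hCQ hc)) q).1 hq
  have h4 := hz.2 _ h3
  calc c * z * c⁻¹ * q = c * (z * (c⁻¹ * q * c⁻¹⁻¹)) * c⁻¹ := by group
    _ = q * (c * z * c⁻¹) := by rw [h4]; group

include hCloc hQ in
theorem norm_Q_le (hCmax : ∀ L : Subgroup H, (∃ T : Subgroup H, IsPGroup 2 ↥T ∧ T ≠ ⊥ ∧ L = normalizer (T : Set H)) → C ≤ L → L = C) :
    normalizer ((E.I (J S.XZ 1 7) : Subgroup H) : Set H) ≤ C := by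
  have hQe := Q_eq NF E Sy hSy hCloc hNZ hQ
  refine le_of_eq (hCmax _ ⟨E.I (J S.XZ 1 7), E.isPGroup_I (NF.two.to_le (J_mono le_rfl (by norm_num))), ?_, rfl⟩ ?_)
  · intro h
    have h1 : E.j (S.o 1 1) ∈ E.I (J S.XZ 1 7) := ⟨_, NF.o_mem _ _,
      X_le_J (X := S.XZ) (k := 3) (by norm_num) (by norm_num) ((mem_X3 S).2 ⟨1, rfl⟩), rfl⟩
    rw [h, mem_bot] at h1
    exact one_ne_zero (S.o_eq_one (E.eq_one (NF.o_mem _ _) h1))
  · rw [← hQe, hQ]
    exact pCore_map_norm C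

end C

end Cfsg.Agent.H371.PU
end

-- part: H371/PU/Row
section
/-!
# S3046, row `²F₄`: the subgroup `P`, the natural module, assembly (helper371)
-/

set_option autoImplicit false
set_option linter.unusedSectionVars false

namespace Cfsg.Agent.H371.PU

open Cfsg.Agent.KFacts.TwF4 Cfsg.Agent.KFacts.TwF4.Full Cfsg.Agent.KFacts.TwF4.Arc
open Cfsg.Agent.KFacts.TwF4.Inv Cfsg.Agent.KFacts.TwF4.SylU Cfsg.Agent.KFacts.TwF4.Irr
open Cfsg.Agent.SplitTwo Cfsg.Agent.SplitTwo.ZS Cfsg.Agent.TitsThree.RankTwoZ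
open Cfsg.Agent.SplitTwo.RootSysZ Subgroup Cfsg Cfsg.Lie Cfsg.Agent.H248.TwF4Over
open Cfsg.Agent.H221.PReduced (isPReducedNormal_iff pCore_le_centralizer le_pCore_of_isPReducedNormal)

universe u v

section P

variable {F : Type*} [Field F] {σ : F →+* F} {G : Type u} [Group G] [Finite G] {S : Full σ G} {N : Subgroup G}
variable {H : Type v} [Group H] [Finite H] {K : Subgroup H} (NF : NFacts S N) (E : Emb N K)
  (Sy : Sylow 2 H) (hSy : (Sy : Subgroup H) = E.I (J S.XZ 1 8))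

include NF hSy

/-- `M` normalises `I A` as soon as `Ph M` normalises `A` -/
theorem norm_I {M : Subgroup H} (hMK : M ≤ K) {A : Subgroup G} (h : E.Ph M ≤ normalizer (A : Set G)) :
    M ≤ normalizer ((E.I A : Subgroup H) : Set H) := by
  intro c hc
  obtain ⟨y, hy, rfl⟩ := E.surj c (hMK hc)
  refine mem_norm_of_le ?_
  rintro _ ⟨x, hx, hxJ, rfl⟩
  rw [← E.conj hy hx, E.j_mem_I (NF.cond.conj _ x hx)]
  exact (mem_normalizer_iff.1 (h ⟨hy, hc⟩) x).1 hxJ

/-- the elements of `M` -/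
theorem form {M : Subgroup H} (hM : (Sy : Subgroup H) ≤ M) (hN : ¬ N ≤ E.Ph M)
    (h28 : E.Ph M ≤ normalizer (J S.XZ 2 8 : Set G)) {y : G} (hy : y ∈ E.Ph M) :
    ∃ b ∈ J S.XZ 1 8, ∃ w, (∃ b' ∈ J S.XZ 1 8, y = b * w * b') ∧
      (Maps S.R.X w (fun k => k) ∨ (Maps S.R.X w (fun k => 10 - k) ∧ Pm S N (E.Ph M) 9)) := by
  obtain ⟨b, hb, t, ht, w, hw, b', hb', rfl⟩ := S.bruhat y
  have hg' : b * (t * w) * b' ∈ E.Ph M := by rwa [← mul_assoc]
  have hU := U_le_Ph NF E Sy hSy hM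
  refine ⟨b, hb, t * w, ⟨b', hb', by group⟩, ?_⟩
  rcases types NF.cond hU hb hb' (torus_mul_maps NF.cond ht hw) hg' with h | h | h | ⟨-, h⟩
  · exact absurd h hN
  · exact Or.inl h
  · exact Or.inr h
  · exact absurd (h28 (_root_.Cfsg.Agent.H248.TwF4Over.n2_mem NF.cond hU h)) (n2_not NF)

theorem norm_J19 {M : Subgroup H} (hM : (Sy : Subgroup H) ≤ M) (hN : ¬ N ≤ E.Ph M)
    (h28 : E.Ph M ≤ normalizer (J S.XZ 2 8 : Set G)) : E.Ph M ≤ normalizer (J S.XZ 1 9 : Set G) := by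
  intro y hy
  obtain ⟨b, hb, w, ⟨b', hb', rfl⟩, hw⟩ := form NF E Sy hSy hM hN h28 hy
  refine mem_norm_of_le fun x hx => ?_
  have hU9 : J S.XZ 1 8 ≤ J S.XZ 1 9 := J_mono le_rfl (by norm_num)
  have h1 : ∀ y ∈ J S.XZ 1 9, w * y * w⁻¹ ∈ J S.XZ 1 9 := by
    intro y hy
    rcases hw with h | ⟨h, -⟩
    · exact conj_J_of_maps NF.cond (Or.inl h) hy
    · exact conj_J_of_maps NF.cond (Or.inr (by exact_mod_cast h)) hy
  have h2 := h1 (b' * x * b'⁻¹) (mul_mem (mul_mem (hU9 hb') hx) (inv_mem (hU9 hb')))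
  have h3 := mul_mem (mul_mem (hU9 hb) h2) (inv_mem (hU9 hb))
  have e : b * (w * (b' * x * b'⁻¹) * w⁻¹) * b⁻¹ = b * w * b' * x * (b * w * b')⁻¹ := by group
  rwa [e] at h3

/-- if `X_9` is not in `M`, then `M` normalises `U` and `Z` -/
theorem norm_of_not {M : Subgroup H} (hM : (Sy : Subgroup H) ≤ M) (hN : ¬ N ≤ E.Ph M)
    (h28 : E.Ph M ≤ normalizer (J S.XZ 2 8 : Set G)) (h9 : ¬ Pm S N (E.Ph M) 9) :
    E.Ph M ≤ normalizer (J S.XZ 1 8 : Set G) ∧ E.Ph M ≤ normalizer (S.Zc 2 : Set G) := by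
  constructor
  · intro y hy
    obtain ⟨b, hb, w, ⟨b', hb', rfl⟩, hw⟩ := form NF E Sy hSy hM hN h28 hy
    refine mem_norm_of_le fun x hx => ?_
    have h1 : ∀ y ∈ J S.XZ 1 8, w * y * w⁻¹ ∈ J S.XZ 1 8 := by
      intro y hy
      rcases hw with h | ⟨-, h⟩
      · exact conj_J_of_maps NF.cond (Or.inl h) hy
      · exact absurd h h9
    have h2 := h1 (b' * x * b'⁻¹) (mul_mem (mul_mem hb' hx) (inv_mem hb'))
    have h3 := mul_mem (mul_mem hb h2) (inv_mem hb)
    have e : b * (w * (b' * x * b'⁻¹) * w⁻¹) * b⁻¹ = b * w * b' * x * (b * w * b')⁻¹ := by group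
    rwa [e] at h3
  · intro y hy
    obtain ⟨b, hb, w, ⟨b', hb', rfl⟩, hw⟩ := form NF E Sy hSy hM hN h28 hy
    refine mem_norm_of_le fun x hx => ?_
    have hwT : w ∈ S.T := by
      rcases hw with h | ⟨-, h⟩
      · exact h
      · exact absurd h h9
    have hbP : b ∈ S.PL := J_mono (by norm_num) le_rfl hb
    have hbP' : b' ∈ S.PL := J_mono (by norm_num) le_rfl hb'
    have e1 : b' * x * b'⁻¹ = x := by rw [S.comm_PL hbP' hx]; group
    have h2 : w * x * w⁻¹ ∈ S.Zc 2 := S.T_conj_Zc hwT hx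
    have e2 : b * (w * x * w⁻¹) * b⁻¹ = w * x * w⁻¹ := by rw [S.comm_PL hbP h2]; group
    have e : b * w * b' * x * (b * w * b')⁻¹ = b * (w * (b' * x * b'⁻¹) * w⁻¹) * b⁻¹ := by group
    rw [e, e1, e2]
    exact h2

/-- `S` and `X_9` generate `J 1 9` -/
theorem J19_le {M : Subgroup H} (hM : (Sy : Subgroup H) ≤ M) (h9 : Pm S N (E.Ph M) 9) : E.I (J S.XZ 1 9) ≤ M := by
  rintro _ ⟨x, hx, hxJ, rfl⟩
  have h1 : (J S.XZ 1 8 ⊓ N) ⊔ (S.XZ 9 ⊓ N) ≤ E.Ph M := sup_le (U_le_Ph NF E Sy hSy hM) h9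
  exact (h1 (NF.j19 ⟨hxJ, hx⟩)).2

/-- the situation for `P` -/
structure PF (E : Emb N K) (S : Full σ G) (Sy : Sylow 2 H) (P : Subgroup H) : Prop where
  hSP : (Sy : Subgroup H) ≤ P
  hPK : P ≤ K
  hN : ¬ N ≤ E.Ph P
  h28 : E.Ph P ≤ normalizer (J S.XZ 2 8 : Set G)
  h9 : Pm S N (E.Ph P) 9

omit NF hSy in
theorem exists_ne_one (NF : NFacts S N) (E : Emb N K) : ∃ h : H, h ≠ 1 :=
  ⟨E.j (S.o 0 1), fun h => one_ne_zero (S.o_eq_one (E.eq_one (NF.o_mem _ _) h))⟩

theorem pf_of [K.Normal] {C P : Subgroup H} (hQC : normalizer ((E.I (J S.XZ 1 7) : Subgroup H) : Set H) ≤ C)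
    (hSP : (Sy : Subgroup H) ≤ P) (hPmin : IsPMinimal 2 ↥P)
    (hPchar : centralizer (((pCore 2 ↥P).map P.subtype : Subgroup H) : Set H) ≤ (pCore 2 ↥P).map P.subtype)
    (hPC : ¬ P ≤ C) : PF E S Sy P := by
  have hSK : (Sy : Subgroup H) ≤ K := by rw [hSy]; exact E.I_le_K _
  have hPK : P ≤ K := le_of_pminimal Sy hSP hPmin hSK (by rw [normalizer_eq_top_iff.2 inferInstance]; exact le_top)
  have hN : ¬ N ≤ E.Ph P := by
    intro hN
    have h1 := core_bot NF E Sy hSy hSP hN (pCore_map_isPGroup P) (pCore_map_le P) (pCore_map_norm P)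
    rw [h1] at hPchar
    obtain ⟨h, hh⟩ := exists_ne_one NF E
    apply hh
    refine mem_bot.1 (hPchar ?_)
    rw [mem_centralizer_iff]
    intro x hx
    have : x = 1 := hx
    rw [this, one_mul, mul_one]
  have h28 : E.Ph P ≤ normalizer (J S.XZ 2 8 : Set G) := by
    rcases overgroup NF.cond (U_le_Ph NF E Sy hSy hSP) with h | h | h
    · exact absurd h hN
    · exact h
    · exact absurd ((norm_I NF E Sy hSy hPK h).trans hQC) hPC
  refine ⟨hSP, hPK, hN, h28, ?_⟩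
  by_contra h9
  have h1 := (norm_of_not NF E Sy hSy hSP hN h28 h9).1
  have h2 := norm_I NF E Sy hSy hPK h1
  rw [← hSy] at h2
  apply (hPmin (Sy.subtype hSP)).1
  exact (normal_subgroupOf_iff_le_normalizer hSP).2 h2

variable {P : Subgroup H} (hP : PF E S Sy P)

include hP

theorem PF.n1_mem : E.j S.n1 ∈ P := (Cfsg.Agent.H248.TwF4Over.n1_mem NF.cond (U_le_Ph NF E Sy hSy hP.hSP) hP.h9).2

/-- `O_2(P)` -/
theorem core_P : (pCore 2 ↥P).map P.subtype = E.I (J S.XZ 2 8) := by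
  apply le_antisymm
  · refine le_J28 NF E ?_ ?_
    · rw [← hSy]
      exact le_sylow_of_norm Sy hP.hSP (pCore_map_isPGroup P) (pCore_map_le P) (pCore_map_norm P)
    · intro x hx
      exact (mem_normalizer_iff.1 (pCore_map_norm P (PF.n1_mem NF E Sy hSy hP)) x).1 hx
  · have h1 : E.I (J S.XZ 2 8) ≤ (Sy : Subgroup H) := by
      rw [hSy]
      exact E.I_mono (J_mono (by norm_num) le_rfl)
    exact le_pCore_map (E.isPGroup_I (NF.two.to_le (J_mono (by norm_num) le_rfl))) (h1.trans hP.hSP)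
      (norm_I NF E Sy hSy hP.hPK hP.h28)

/-- `C_P(W46)` -/
theorem cent_W46 {y : H} (hy : y ∈ K) : (∀ x ∈ E.I S.W46, y * x = x * y) ↔ y ∈ E.I (J S.XZ 2 8) := by
  obtain ⟨y, hyN, rfl⟩ := E.surj y hy
  rw [E.j_mem_I hyN, ← S.centralizer_W46, mem_centralizer_iff]
  have hW : ∀ x ∈ S.W46, x ∈ N := by
    rintro _ ⟨u, v, rfl⟩
    exact mul_mem (NF.z_mem _ _) (NF.z_mem _ _)
  constructor
  · intro h x hx
    have h1 := h (E.j x) ⟨x, hW x hx, hx, rfl⟩
    rw [← E.mul _ hyN _ (hW x hx), ← E.mul _ (hW x hx) _ hyN] at h1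
    exact (E.inj _ (mul_mem hyN (hW x hx)) _ (mul_mem (hW x hx) hyN) h1).symm
  · rintro h _ ⟨x, hx, hxW, rfl⟩
    rw [← E.mul _ hyN _ hx, ← E.mul _ hx _ hyN, h x hxW]

theorem W46_le : E.I S.W46 ≤ E.I (J S.XZ 2 8) := by
  refine E.I_mono ?_
  rintro _ ⟨u, v, rfl⟩
  exact mul_mem (X_le_J (X := S.XZ) (k := 4) (by norm_num) (by norm_num) ((mem_X4 S).2 ⟨0, u, rfl⟩))
    (X_le_J (X := S.XZ) (k := 6) (by norm_num) (by norm_num) ((mem_X6 S).2 ⟨0, v, rfl⟩))

end P


/-! ### `SL₂` is generated by transvections -/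

section SL

variable {F : Type*} [Field F]

/-- upper transvection -/
def up (t : F) : Matrix.SpecialLinearGroup (Fin 2) F := ⟨!![1, t; 0, 1], by simp [Matrix.det_fin_two]⟩
/-- lower transvection -/
def lo (t : F) : Matrix.SpecialLinearGroup (Fin 2) F := ⟨!![1, 0; t, 1], by simp [Matrix.det_fin_two]⟩

theorem sl_top {R : Subgroup (Matrix.SpecialLinearGroup (Fin 2) F)} (h1 : ∀ t, up t ∈ R) (h2 : ∀ t, lo t ∈ R) : R = ⊤ := by
  have hd : ∀ A : Matrix.SpecialLinearGroup (Fin 2) F, (A : Matrix (Fin 2) (Fin 2) F) 0 0 * (A : Matrix (Fin 2) (Fin 2) F) 1 1 -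
      (A : Matrix (Fin 2) (Fin 2) F) 0 1 * (A : Matrix (Fin 2) (Fin 2) F) 1 0 = 1 := by
    intro A
    rw [← Matrix.det_fin_two]; exact A.2
  have key : ∀ A : Matrix.SpecialLinearGroup (Fin 2) F, (A : Matrix (Fin 2) (Fin 2) F) 1 0 ≠ 0 → A ∈ R := by
    intro A hc
    have hdet := hd A
    have e : A = up (((A : Matrix (Fin 2) (Fin 2) F) 0 0 - 1) / (A : Matrix (Fin 2) (Fin 2) F) 1 0) *
        lo ((A : Matrix (Fin 2) (Fin 2) F) 1 0) *
        up (((A : Matrix (Fin 2) (Fin 2) F) 1 1 - 1) / (A : Matrix (Fin 2) (Fin 2) F) 1 0) := by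
      apply Subtype.ext
      generalize (A : Matrix (Fin 2) (Fin 2) F) = B at hc hdet ⊢
      show B = !![1, (B 0 0 - 1) / B 1 0; 0, 1] * !![1, 0; B 1 0, 1] * !![1, (B 1 1 - 1) / B 1 0; 0, 1]
      rw [Matrix.mul_fin_two, Matrix.mul_fin_two]
      conv_lhs => rw [Matrix.eta_fin_two B]
      have a1 : B 0 0 = (1 * 1 + (B 0 0 - 1) / B 1 0 * B 1 0) * 1 + (1 * 0 + (B 0 0 - 1) / B 1 0 * 1) * 0 := by
        field_simp
        ring
      have a2 : B 0 1 = (1 * 1 + (B 0 0 - 1) / B 1 0 * B 1 0) * ((B 1 1 - 1) / B 1 0) + (1 * 0 + (B 0 0 - 1) / B 1 0 * 1) * 1 := by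
        field_simp
        linear_combination -hdet
      have a3 : B 1 0 = (0 * 1 + 1 * B 1 0) * 1 + (0 * 0 + 1 * 1) * 0 := by ring
      have a4 : B 1 1 = (0 * 1 + 1 * B 1 0) * ((B 1 1 - 1) / B 1 0) + (0 * 0 + 1 * 1) * 1 := by
        field_simp
        ring
      rw [← a1, ← a2, ← a3, ← a4]
    rw [e]
    exact mul_mem (mul_mem (h1 _) (h2 _)) (h1 _)
  rw [eq_top_iff]
  intro A _
  by_cases hc : (A : Matrix (Fin 2) (Fin 2) F) 1 0 = 0
  · have h3 : A * lo 1 ∈ R := by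
      apply key
      have hdet := hd A
      rw [hc, mul_zero, sub_zero] at hdet
      have e : ((A * lo 1 : Matrix.SpecialLinearGroup (Fin 2) F) : Matrix (Fin 2) (Fin 2) F) 1 0 =
          (A : Matrix (Fin 2) (Fin 2) F) 1 1 := by
        rw [Matrix.SpecialLinearGroup.coe_mul, Matrix.mul_apply, Fin.sum_univ_two, hc]
        show 0 * _ + (A : Matrix (Fin 2) (Fin 2) F) 1 1 * (1 : F) = _
        ring
      rw [e]
      intro h
      rw [h, mul_zero] at hdet
      exact zero_ne_one hdet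
    have := mul_mem h3 (inv_mem (h2 1))
    rwa [mul_inv_cancel_right] at this
  · exact key A hc

end SL

section nat

variable {F : Type*} [Field F] {σ : F →+* F} {G : Type u} [Group G] [Finite G] {S : Full σ G} {N : Subgroup G}
variable {H : Type v} [Group H] [Finite H] {K : Subgroup H} (NF : NFacts S N) (E : Emb N K)

/-- coordinates on `W46` -/
def jv (S : Full σ G) (E : Emb N K) (w : Fin 2 → F) : H := E.j (S.e 2 0 (w 0) * S.e 3 0 (w 1))

theorem W_mem (NF : NFacts S N) (u v : F) : S.e 2 0 u * S.e 3 0 v ∈ N := mul_mem (NF.z_mem _ _) (NF.z_mem _ _)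

theorem jv_mem (NF : NFacts S N) (w : Fin 2 → F) : jv S E w ∈ E.I S.W46 :=
  ⟨_, W_mem NF _ _, ⟨_, _, rfl⟩, rfl⟩

theorem jv_surj {h : H} (hh : h ∈ E.I S.W46) : ∃ w, jv S E w = h := by
  obtain ⟨_, hx, ⟨u, v, rfl⟩, rfl⟩ := hh
  exact ⟨![u, v], rfl⟩

theorem zz_comm (u v : F) : S.e 3 0 v * S.e 2 0 u = S.e 2 0 u * S.e 3 0 v :=
  S.comm_Z4 (k := 6) (by norm_num) (by norm_num) ((mem_X6 S).2 ⟨0, v, rfl⟩) u

theorem jv_inj (NF : NFacts S N) : Function.Injective (jv S E) := by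
  intro w w' h
  have h1 := E.inj _ (W_mem NF _ _) _ (W_mem NF _ _) h
  have h2 : (S.e 2 0 (w' 0))⁻¹ * S.e 2 0 (w 0) = S.e 3 0 (w' 1) * (S.e 3 0 (w 1))⁻¹ := by
    calc (S.e 2 0 (w' 0))⁻¹ * S.e 2 0 (w 0) = (S.e 2 0 (w' 0))⁻¹ * (S.e 2 0 (w 0) * S.e 3 0 (w 1)) * (S.e 3 0 (w 1))⁻¹ := by group
      _ = _ := by rw [h1]; group
  have h4 : (S.e 2 0 (w' 0))⁻¹ * S.e 2 0 (w 0) ∈ S.XZ 4 :=
    mul_mem (inv_mem ((mem_X4 S).2 ⟨0, _, rfl⟩)) ((mem_X4 S).2 ⟨0, _, rfl⟩)
  have h6 : (S.e 2 0 (w' 0))⁻¹ * S.e 2 0 (w 0) ∈ S.XZ 6 := by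
    rw [h2]
    exact mul_mem ((mem_X6 S).2 ⟨0, _, rfl⟩) (inv_mem ((mem_X6 S).2 ⟨0, _, rfl⟩))
  have h7 := S.X_inf_near (i := 4) (j := 6) (by norm_num) (by norm_num) h4 h6
  have e1 := (S.injE 2 _ _ _ _ (inv_mul_eq_one.1 h7)).2
  rw [h7] at h2
  have e2 := (S.injE 3 _ _ _ _ (mul_inv_eq_one.1 h2.symm)).2
  funext i
  fin_cases i
  · exact e1.symm
  · exact e2.symm

theorem jv_add (NF : NFacts S N) (w w' : Fin 2 → F) : jv S E (w + w') = jv S E w * jv S E w' := by
  unfold jv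
  rw [← E.mul _ (W_mem NF _ _) _ (W_mem NF _ _)]
  congr 1
  have h2 : S.e 2 0 (w 0) * S.e 2 0 (w' 0) = S.e 2 0 (w 0 + w' 0) := by rw [S.e_mul, zero_mul, add_zero, add_zero]
  have h3 : S.e 3 0 (w 1) * S.e 3 0 (w' 1) = S.e 3 0 (w 1 + w' 1) := by rw [S.e_mul, zero_mul, add_zero, add_zero]
  calc S.e 2 0 ((w + w') 0) * S.e 3 0 ((w + w') 1) = (S.e 2 0 (w 0) * S.e 2 0 (w' 0)) * (S.e 3 0 (w 1) * S.e 3 0 (w' 1)) := by
        rw [h2, h3]; rfl
    _ = S.e 2 0 (w 0) * (S.e 2 0 (w' 0) * S.e 3 0 (w 1)) * S.e 3 0 (w' 1) := by group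
    _ = _ := by rw [← zz_comm]; group

/-- `g` acts as the matrix `A` -/
def Act (S : Full σ G) (E : Emb N K) (g : H) (A : Matrix.SpecialLinearGroup (Fin 2) F) : Prop :=
  ∀ w, g * jv S E w * g⁻¹ = jv S E ((A : Matrix (Fin 2) (Fin 2) F).mulVec w)

theorem Act.one : Act S E 1 1 := by
  intro w
  rw [Matrix.SpecialLinearGroup.coe_one, Matrix.one_mulVec]; group

theorem Act.mul {g g' : H} {A A' : Matrix.SpecialLinearGroup (Fin 2) F} (h : Act S E g A) (h' : Act S E g' A') :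
    Act S E (g * g') (A * A') := by
  intro w
  rw [Matrix.SpecialLinearGroup.coe_mul, ← Matrix.mulVec_mulVec, ← h, ← h']
  group

theorem Act.inv {g : H} {A : Matrix.SpecialLinearGroup (Fin 2) F} (h : Act S E g A) : Act S E g⁻¹ A⁻¹ := by
  intro w
  have h1 := h ((↑A⁻¹ : Matrix (Fin 2) (Fin 2) F).mulVec w)
  rw [Matrix.mulVec_mulVec, ← Matrix.SpecialLinearGroup.coe_mul, mul_inv_cancel, Matrix.SpecialLinearGroup.coe_one,
    Matrix.one_mulVec] at h1
  rw [← h1]
  group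

theorem Act.unique (NF : NFacts S N) {g : H} {A B : Matrix.SpecialLinearGroup (Fin 2) F} (h : Act S E g A) (h' : Act S E g B) : A = B := by
  have h1 : ∀ w, (A : Matrix (Fin 2) (Fin 2) F).mulVec w = (B : Matrix (Fin 2) (Fin 2) F).mulVec w := by
    intro w
    apply jv_inj E NF
    rw [← h w, ← h' w]
  apply Subtype.ext
  apply Matrix.mulVec_injective
  funext w
  exact h1 w

theorem act_o0 (NF : NFacts S N) (t : F) : Act S E (E.j (S.o 0 t)) (up t) := by
  intro w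
  have hv : ((up t : Matrix.SpecialLinearGroup (Fin 2) F) : Matrix (Fin 2) (Fin 2) F).mulVec w = ![w 0 + t * w 1, w 1] := by
    funext i
    (revert i; simp only [up, Matrix.mulVec, dotProduct, Fin.sum_univ_two, _root_.Fin.forall_fin_succ, _root_.Matrix.of_apply, _root_.Matrix.cons_val', _root_.Matrix.cons_val_fin_one, Fin.isValue, _root_.Matrix.cons_val_zero, _root_.Matrix.cons_val_one, _root_.Nat.succ_eq_add_one, Nat.reduceAdd, _root_.one_mul, _root_.Matrix.cons_val_succ, _root_.MulZeroClass.zero_mul, _root_.zero_add, _root_.implies_true, _root_.and_self])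
  rw [hv]
  show E.j (S.o 0 t) * E.j (S.e 2 0 (w 0) * S.e 3 0 (w 1)) * (E.j (S.o 0 t))⁻¹ = E.j (S.e 2 0 (w 0 + t * w 1) * S.e 3 0 (w 1))
  rw [← E.conj (NF.o_mem _ _) (W_mem NF _ _)]
  congr 1
  have r4 : S.o 0 t * S.e 2 0 (w 0) = S.e 2 0 (w 0) * S.o 0 t := by
    have := S.o_e2 0 t 0 (w 0)
    simp only [mul_zero, S.e_zero, mul_one] at this
    exact this
  have r5 : S.o 0 t * S.e 3 0 (w 1) = S.e 3 0 (w 1) * S.o 0 t * S.e 2 0 (t * w 1) := by
    have := S.o_e3 0 t 0 (w 1)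
    simp only [map_zero, mul_zero, zero_add, S.o_zero, S.e_zero, mul_one] at this
    exact this
  have r6 : S.o 0 t * S.e 2 0 (t * w 1) = S.e 2 0 (t * w 1) * S.o 0 t := by
    have := S.o_e2 0 t 0 (t * w 1)
    simp only [mul_zero, S.e_zero, mul_one] at this
    exact this
  have h2 : S.e 2 0 (w 0) * S.e 2 0 (t * w 1) = S.e 2 0 (w 0 + t * w 1) := by rw [S.e_mul, zero_mul, add_zero, add_zero]
  calc S.o 0 t * (S.e 2 0 (w 0) * S.e 3 0 (w 1)) * (S.o 0 t)⁻¹ = (S.o 0 t * S.e 2 0 (w 0)) * S.e 3 0 (w 1) * (S.o 0 t)⁻¹ := by group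
    _ = S.e 2 0 (w 0) * (S.o 0 t * S.e 3 0 (w 1)) * (S.o 0 t)⁻¹ := by rw [r4]; group
    _ = S.e 2 0 (w 0) * S.e 3 0 (w 1) * (S.o 0 t * S.e 2 0 (t * w 1)) * (S.o 0 t)⁻¹ := by rw [r5]; group
    _ = S.e 2 0 (w 0) * (S.e 3 0 (w 1) * S.e 2 0 (t * w 1)) := by rw [r6]; group
    _ = S.e 2 0 (w 0) * S.e 2 0 (t * w 1) * S.e 3 0 (w 1) := by rw [zz_comm]; group
    _ = _ := by rw [h2]

theorem act_o4 (NF : NFacts S N) (t : F) : Act S E (E.j (S.o 4 t)) (lo t) := by
  intro w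
  have hv : ((lo t : Matrix.SpecialLinearGroup (Fin 2) F) : Matrix (Fin 2) (Fin 2) F).mulVec w = ![w 0, t * w 0 + w 1] := by
    funext i
    (revert i; simp only [lo, Matrix.mulVec, dotProduct, Fin.sum_univ_two, _root_.Fin.forall_fin_succ, _root_.Matrix.of_apply, _root_.Matrix.cons_val', _root_.Matrix.cons_val_fin_one, Fin.isValue, _root_.Matrix.cons_val_zero, _root_.Matrix.cons_val_one, _root_.Nat.succ_eq_add_one, Nat.reduceAdd, _root_.one_mul, _root_.MulZeroClass.zero_mul, _root_.add_zero, _root_.Matrix.cons_val_succ, _root_.implies_true, _root_.and_self])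
  rw [hv]
  have hn := n1_mem_N NF
  have hn1 : ∀ a b : F, E.j S.n1 * jv S E ![a, b] * (E.j S.n1)⁻¹ = jv S E ![b, a] := by
    intro a b
    show E.j S.n1 * E.j (S.e 2 0 a * S.e 3 0 b) * (E.j S.n1)⁻¹ = E.j (S.e 2 0 b * S.e 3 0 a)
    rw [← E.conj hn (W_mem NF _ _)]
    congr 1
    have h1 : S.n1 * S.e 2 0 a * S.n1⁻¹ = S.e 3 0 a := S.n1_e 2 0 a
    have h2 : S.n1 * S.e 3 0 b * S.n1⁻¹ = S.e 2 0 b := S.n1_e 3 0 b
    calc S.n1 * (S.e 2 0 a * S.e 3 0 b) * S.n1⁻¹ = (S.n1 * S.e 2 0 a * S.n1⁻¹) * (S.n1 * S.e 3 0 b * S.n1⁻¹) := by group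
      _ = _ := by rw [h1, h2, zz_comm]
  have hn2 : S.n1⁻¹ = S.n1 := inv_eq_of_mul_eq_one_left S.n1_sq
  have hjn : (E.j S.n1)⁻¹ = E.j S.n1 := by rw [← E.inv hn, hn2]
  have ho : E.j (S.o 4 t) = E.j S.n1 * E.j (S.o 0 t) * (E.j S.n1)⁻¹ := by
    rw [← E.conj hn (NF.o_mem _ _)]
    congr 1
    exact (S.n1_o 0 t).symm
  have hup := act_o0 E NF t (![w 1, w 0])
  have hv2 : ((up t : Matrix.SpecialLinearGroup (Fin 2) F) : Matrix (Fin 2) (Fin 2) F).mulVec ![w 1, w 0] = ![w 1 + t * w 0, w 0] := by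
    funext i
    (revert i; simp only [up, Matrix.mulVec, dotProduct, Fin.sum_univ_two, _root_.Fin.forall_fin_succ, _root_.Matrix.of_apply, _root_.Matrix.cons_val', _root_.Matrix.cons_val_fin_one, Fin.isValue, _root_.Matrix.cons_val_zero, _root_.Matrix.cons_val_one, _root_.Nat.succ_eq_add_one, Nat.reduceAdd, _root_.one_mul, _root_.Matrix.cons_val_succ, _root_.MulZeroClass.zero_mul, _root_.zero_add, _root_.implies_true, _root_.and_self])
  rw [hv2] at hup
  have hw : w = ![w 0, w 1] := by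
    funext i
    fin_cases i <;> rfl
  have h1 := hn1 (w 0) (w 1)
  rw [ho]
  calc E.j S.n1 * E.j (S.o 0 t) * (E.j S.n1)⁻¹ * jv S E w * (E.j S.n1 * E.j (S.o 0 t) * (E.j S.n1)⁻¹)⁻¹ =
      E.j S.n1 * (E.j (S.o 0 t) * ((E.j S.n1)⁻¹ * jv S E w * E.j S.n1) * (E.j (S.o 0 t))⁻¹) * (E.j S.n1)⁻¹ := by group
    _ = E.j S.n1 * (E.j (S.o 0 t) * (E.j S.n1 * jv S E ![w 0, w 1] * (E.j S.n1)⁻¹) * (E.j (S.o 0 t))⁻¹) * (E.j S.n1)⁻¹ := by
        rw [← hw]
        congr 3
        rw [hjn]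
    _ = E.j S.n1 * jv S E ![w 1 + t * w 0, w 0] * (E.j S.n1)⁻¹ := by rw [h1, hup]
    _ = jv S E ![w 0, t * w 0 + w 1] := by rw [hn1, add_comm]

theorem act_J28 (NF : NFacts S N) {x : G} (hx : x ∈ N) (hJ : x ∈ J S.XZ 2 8) : Act S E (E.j x) 1 := by
  intro w
  rw [Matrix.SpecialLinearGroup.coe_one, Matrix.one_mulVec]
  show E.j x * E.j (S.e 2 0 (w 0) * S.e 3 0 (w 1)) * (E.j x)⁻¹ = E.j (S.e 2 0 (w 0) * S.e 3 0 (w 1))
  rw [← E.conj hx (W_mem NF _ _), S.W46_comm hJ ⟨_, _, rfl⟩, mul_inv_cancel_right]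

/-- every element of `J 1 9` acts as an element of `SL₂` -/
theorem exists_act (NF : NFacts S N) {g : H} (hg : g ∈ E.I (J S.XZ 1 9)) : ∃ A, Act S E g A := by
  obtain ⟨x, hx, hxJ, rfl⟩ := hg
  let L : Subgroup G :=
    { carrier := {y | y ∈ N ∧ ∃ A, Act S E (E.j y) A}
      one_mem' := ⟨one_mem _, 1, by rw [E.one]; exact Act.one E⟩
      mul_mem' := by
        rintro a b ⟨ha, A, hA⟩ ⟨hb, B, hB⟩
        exact ⟨mul_mem ha hb, A * B, by rw [E.mul a ha b hb]; exact Act.mul E hA hB⟩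
      inv_mem' := by
        rintro a ⟨ha, A, hA⟩
        exact ⟨inv_mem ha, A⁻¹, by rw [E.inv ha]; exact Act.inv E hA⟩ }
  have h1 : (J S.XZ 1 8 ⊓ N) ⊔ (S.XZ 9 ⊓ N) ≤ L := by
    refine sup_le ?_ ?_
    · rintro y ⟨hy, hyN⟩
      obtain ⟨a, ha, b, hb, rfl⟩ := S.zsys8.split_ll (a := 1) (b := 8) (by norm_num) (by norm_num) hy
      obtain ⟨t, rfl⟩ := (mem_X1 S).1 ha
      have hbN : b ∈ N := by
        have := N.mul_mem (N.inv_mem (NF.o_mem 0 t)) hyN
        rwa [inv_mul_cancel_left] at this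
      exact L.mul_mem ⟨NF.o_mem 0 t, _, act_o0 E NF t⟩ ⟨hbN, _, act_J28 E NF hbN hb⟩
    · rintro y ⟨hy, hyN⟩
      obtain ⟨t, rfl⟩ := (mem_X9 S).1 hy
      exact ⟨NF.o_mem 4 t, _, act_o4 E NF t⟩
  exact (h1 (NF.j19 ⟨hxJ, hx⟩)).2

end nat


section P

variable {F : Type*} [Field F] {σ : F →+* F} {G : Type u} [Group G] [Finite G] {S : Full σ G} {N : Subgroup G}
variable {H : Type v} [Group H] [Finite H] {K : Subgroup H} (NF : NFacts S N) (E : Emb N K)
  (Sy : Sylow 2 H) (hSy : (Sy : Subgroup H) = E.I (J S.XZ 1 8)) {P : Subgroup H} (hP : PF E S Sy P)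

include NF hSy hP

theorem W46_le_P : E.I S.W46 ≤ P := by
  have h1 := W46_le NF E Sy hSy hP
  refine h1.trans ?_
  rw [← core_P NF E Sy hSy hP]
  exact pCore_map_le P

theorem W46_norm : P ≤ normalizer ((E.I S.W46 : Subgroup H) : Set H) := by
  refine norm_I NF E Sy hSy hP.hPK ?_
  intro y hy
  refine mem_norm_of_le ?_
  intro x hx
  rw [← S.centralizer_J28, mem_centralizer_iff] at hx ⊢
  intro z hz
  have h1 := (mem_normalizer_iff.1 (inv_mem (hP.h28 hy)) z).1 hz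
  have h2 := hx _ h1
  calc z * (y * x * y⁻¹) = y * ((y⁻¹ * z * y⁻¹⁻¹) * x) * y⁻¹ := by group
    _ = _ := by rw [h2]; group

/-- **`Y_P`** -/
theorem largest_eq : largestPReducedOf 2 P = E.I S.W46 := by
  have hcore := core_P NF E Sy hSy hP
  have hmem : ∀ x : ↥P, x ∈ pCore 2 ↥P ↔ (x : H) ∈ E.I (J S.XZ 2 8) := by
    intro x
    rw [← hcore]
    constructor
    · intro h
      exact ⟨x, h, rfl⟩
    · rintro ⟨y, hy, e⟩
      have : y = x := Subtype.ext e
      rwa [← this]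
  have hcent : ∀ x : ↥P, x ∈ centralizer (((E.I S.W46).subgroupOf P : Subgroup ↥P) : Set ↥P) ↔ (x : H) ∈ E.I (J S.XZ 2 8) := by
    intro x
    rw [← cent_W46 NF E Sy hSy hP (hP.hPK x.2), mem_centralizer_iff]
    constructor
    · intro h y hy
      exact (congrArg Subtype.val (h ⟨y, W46_le_P NF E Sy hSy hP hy⟩ hy)).symm
    · intro h y hy
      exact Subtype.ext (h y hy).symm
  have hn : ((E.I S.W46).subgroupOf P).Normal :=
    (normal_subgroupOf_iff_le_normalizer (W46_le_P NF E Sy hSy hP)).2 (W46_norm NF E Sy hSy hP)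
  unfold largestPReducedOf largestPReduced
  apply le_antisymm
  · rintro _ ⟨x, hx, rfl⟩
    have h1 : sSup {V : Subgroup ↥P | IsPReducedNormal 2 V} ≤ (E.I S.W46).subgroupOf P := by
      refine sSup_le ?_
      intro V hV y hy
      have h2 : (y : H) ∈ E.I (J S.XZ 2 8) := (hmem y).1 (le_pCore_of_isPReducedNormal hV hy)
      show (y : H) ∈ E.I S.W46
      obtain ⟨z, hz, hzJ, hzy⟩ := h2
      rw [← hzy, E.j_mem_I hz]
      refine NF.c28 z hz fun w hw => ?_
      have hwC : E.j w ∈ E.I (J S.XZ 2 8) := ⟨w, hw.2, hw.1, rfl⟩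
      have hwP : E.j w ∈ P := by
        rw [← hcore] at hwC
        exact pCore_map_le P hwC
      have h3 := pCore_le_centralizer hV ((hmem ⟨E.j w, hwP⟩).2 hwC)
      have h4 := congrArg Subtype.val (mem_centralizer_iff.1 h3 y hy)
      have h5 : (y : H) * E.j w = E.j w * (y : H) := h4
      rw [← hzy, ← E.mul _ hz _ hw.2, ← E.mul _ hw.2 _ hz] at h5
      exact E.inj _ (mul_mem hz hw.2) _ (mul_mem hw.2 hz) h5
    exact h1 hx
  · intro x hx
    have hxP := W46_le_P NF E Sy hSy hP hx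
    refine ⟨⟨x, hxP⟩, ?_, rfl⟩
    refine (le_sSup (a := (E.I S.W46).subgroupOf P) ?_ : (E.I S.W46).subgroupOf P ≤ _) hx
    show IsPReducedNormal 2 ((E.I S.W46).subgroupOf P)
    rw [isPReducedNormal_iff]
    refine ⟨hn, ⟨⟨⟨?_⟩⟩, ?_⟩, ?_⟩
    · rintro ⟨a, ha⟩ ⟨b, hb⟩
      apply Subtype.ext
      apply Subtype.ext
      show (a : H) * b = b * a
      exact (cent_W46 NF E Sy hSy hP (hP.hPK a.2)).2 (W46_le NF E Sy hSy hP ha) _ hb
    · intro a ha
      apply Subtype.ext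
      show (a : H) ^ 2 = 1
      obtain ⟨w, hw⟩ := jv_surj E (S := S) ha
      replace hw : jv S E w = (a : H) := hw
      rw [← hw, pow_two, ← jv_add E NF]
      have h2 : w + w = 0 := by
        funext i
        have := S.two
        show w i + w i = 0
        rw [← two_mul, this, zero_mul]
      rw [h2]
      show E.j (S.e 2 0 0 * S.e 3 0 0) = 1
      rw [S.e_zero, S.e_zero, mul_one, E.one]
    · intro D hD hp
      have h2 : D ≤ pCore 2 ↥P := by
        refine Lib.Cores.le_pCore hD ?_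
        rintro ⟨x, hx⟩
        obtain ⟨k, hk⟩ := hp x hx
        have h3 := (hmem _).2 ((hcent _).1 hk)
        obtain ⟨l, hl⟩ := Lib.Cores.pCore_isPGroup (G := ↥P) 2 ⟨x ^ 2 ^ k, h3⟩
        refine ⟨k + l, Subtype.ext ?_⟩
        have h4 : (x ^ 2 ^ k) ^ 2 ^ l = 1 := congrArg Subtype.val hl
        show x ^ 2 ^ (k + l) = 1
        rw [pow_add, pow_mul, h4]
      intro x hx
      exact (hcent x).2 ((hmem x).1 (h2 hx))

/-- `P ≤ J 1 9` -/
theorem P_le_J19 (hPmin : IsPMinimal 2 ↥P) : P ≤ E.I (J S.XZ 1 9) := by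
  refine le_of_pminimal Sy hP.hSP hPmin ?_ (norm_I NF E Sy hSy hP.hPK (norm_J19 NF E Sy hSy hP.hSP hP.hN hP.h28))
  rw [hSy]
  exact E.I_mono (J_mono le_rfl (by norm_num))

theorem o0_mem (t : F) : E.j (S.o 0 t) ∈ P := by
  apply hP.hSP
  rw [hSy]
  exact ⟨_, NF.o_mem _ _, X_le_J (X := S.XZ) (k := 1) (by norm_num) (by norm_num) ((mem_X1 S).2 ⟨t, rfl⟩), rfl⟩

theorem o4_mem (t : F) : E.j (S.o 4 t) ∈ P := by
  have h1 : S.o 4 t ∈ S.XZ 9 ⊓ N := ⟨(mem_X9 S).2 ⟨t, rfl⟩, NF.o_mem _ _⟩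
  exact (hP.h9 h1).2

/-- **the natural module** -/
theorem natural (hPmin : IsPMinimal 2 ↥P) : IsNaturalSL2Module F (E.I S.W46) P := by
  refine ⟨W46_norm NF E Sy hSy hP, ?_⟩
  have hact : ∀ l : ↥P, ∃ A, Act S E (l : H) A := fun l => exists_act E NF (P_le_J19 NF E Sy hSy hP hPmin l.2)
  choose ρ hρ using hact
  have hρ1 : ρ 1 = 1 := Act.unique E NF (hρ 1) (Act.one E)
  let ρ' : ↥P →* Matrix.SpecialLinearGroup (Fin 2) F :=
    { toFun := ρ
      map_one' := hρ1
      map_mul' := fun x y => Act.unique E NF (hρ (x * y)) (Act.mul E (hρ x) (hρ y)) }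
  let f : (Fin 2 → F) → Additive ↥(E.I S.W46) := fun w => Additive.ofMul ⟨jv S E w, jv_mem E NF w⟩
  have hf : Function.Bijective f := by
    constructor
    · intro w w' h
      apply jv_inj E NF
      exact congrArg (fun x : Additive ↥(E.I S.W46) => ((Additive.toMul x : ↥(E.I S.W46)) : H)) h
    · intro x
      obtain ⟨w, hw⟩ := jv_surj E (S := S) (Additive.toMul x).2
      exact ⟨w, congrArg Additive.ofMul (Subtype.ext hw)⟩
  let e : (Fin 2 → F) ≃+ Additive ↥(E.I S.W46) :=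
    { Equiv.ofBijective f hf with
      map_add' := by
        intro w w'
        exact congrArg Additive.ofMul (Subtype.ext (jv_add E NF w w') :
          (⟨jv S E (w + w'), jv_mem E NF _⟩ : ↥(E.I S.W46)) = ⟨jv S E w, jv_mem E NF _⟩ * ⟨jv S E w', jv_mem E NF _⟩) }
  have he : ∀ w, e w = Additive.ofMul ⟨jv S E w, jv_mem E NF w⟩ := fun w => rfl
  refine ⟨ρ', e.symm, ?_, ?_, ?_⟩
  · have h1 : ρ'.range = ⊤ := by
      refine sl_top (fun t => ?_) (fun t => ?_)
      · exact ⟨⟨_, o0_mem NF E Sy hSy hP t⟩, Act.unique E NF (hρ _) (act_o0 E NF t)⟩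
      · exact ⟨⟨_, o4_mem NF E Sy hSy hP t⟩, Act.unique E NF (hρ _) (act_o4 E NF t)⟩
    exact MonoidHom.range_eq_top.1 h1
  · ext l
    rw [MonoidHom.mem_ker]
    show ρ l = 1 ↔ (l : H) ∈ centralizer ((E.I S.W46 : Subgroup H) : Set H)
    rw [mem_centralizer_iff]
    constructor
    · intro h x hx
      obtain ⟨w, rfl⟩ := jv_surj E (S := S) hx
      have h1 := hρ l w
      rw [h, Matrix.SpecialLinearGroup.coe_one, Matrix.one_mulVec] at h1
      calc jv S E w * (l : H) = ((l : H) * jv S E w * (l : H)⁻¹) * (l : H) := by rw [h1]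
        _ = _ := by group
    · intro h
      refine Act.unique E NF (hρ l) ?_
      intro w
      rw [Matrix.SpecialLinearGroup.coe_one, Matrix.one_mulVec, ← h _ (jv_mem E NF w)]
      group
  · intro l v
    obtain ⟨w, hw⟩ := jv_surj E (S := S) v.2
    have h1 := hρ l w
    rw [hw] at h1
    refine ⟨⟨jv S E ((ρ l : Matrix (Fin 2) (Fin 2) F).mulVec w), jv_mem E NF _⟩, h1.symm, ?_⟩
    have h2 : (Additive.ofMul v : Additive ↥(E.I S.W46)) = e w := by
      rw [he]
      exact congrArg Additive.ofMul (Subtype.ext hw.symm)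
    rw [h2, ← he, e.symm_apply_apply, e.symm_apply_apply]
    rfl

/-- `P ∩ C(Y_P) = O_2(P)` -/
theorem inf_cent : P ⊓ centralizer ((E.I S.W46 : Subgroup H) : Set H) = (pCore 2 ↥P).map P.subtype := by
  have hcore := core_P NF E Sy hSy hP
  apply le_antisymm
  · rintro x ⟨hx, hx'⟩
    rw [hcore, ← cent_W46 NF E Sy hSy hP (hP.hPK hx)]
    intro y hy
    exact (mem_centralizer_iff.1 hx' y hy).symm
  · intro x hx
    have hxP := pCore_map_le P hx
    refine ⟨hxP, ?_⟩
    rw [hcore] at hx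
    show x ∈ centralizer _
    rw [mem_centralizer_iff]
    intro y hy
    exact ((cent_W46 NF E Sy hSy hP (hP.hPK hxP)).2 hx y hy).symm

/-- `P* = P` -/
theorem pstar_eq (hPmin : IsPMinimal 2 ↥P) {Q Pstar : Subgroup H} (hQ : Q = E.I (J S.XZ 1 7))
    (hPstar : Pstar = (normalClosure ((Q.subgroupOf P : Subgroup ↥P) : Set ↥P)).map P.subtype ⊔ (pCore 2 ↥P).map P.subtype) :
    Pstar = P := by
  have hcore := core_P NF E Sy hSy hP
  rw [hPstar, ← Subgroup.map_sup]
  set L := normalClosure ((Q.subgroupOf P : Subgroup ↥P) : Set ↥P) ⊔ pCore 2 ↥P with hL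
  have hLn : L.Normal := by
    have h1 : (pCore 2 ↥P).Normal := Lib.Cores.pCore_normal 2
    exact inferInstance
  apply le_antisymm (map_subtype_le _)
  refine le_of_pminimal Sy hP.hSP hPmin ?_ ?_
  · intro s hs
    have hs' := hs
    rw [hSy] at hs'
    obtain ⟨x, hx, hxU, rfl⟩ := hs'
    obtain ⟨a, ha, b, hb, rfl⟩ := S.zsys8.split_ll (a := 1) (b := 8) (by norm_num) (by norm_num) hxU
    obtain ⟨t, rfl⟩ := (mem_X1 S).1 ha
    have hbN : b ∈ N := by
      have := N.mul_mem (N.inv_mem (NF.o_mem 0 t)) hx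
      rwa [inv_mul_cancel_left] at this
    rw [E.mul _ (NF.o_mem 0 t) _ hbN]
    refine mul_mem ?_ ?_
    · refine ⟨⟨_, o0_mem NF E Sy hSy hP t⟩, ?_, rfl⟩
      refine (le_sup_left : _ ≤ L) (subset_normalClosure ?_)
      show E.j (S.o 0 t) ∈ Q
      rw [hQ]
      exact ⟨_, NF.o_mem _ _, X_le_J (X := S.XZ) (k := 1) (by norm_num) (by norm_num) ha, rfl⟩
    · have h1 : E.j b ∈ (pCore 2 ↥P).map P.subtype := by
        rw [hcore]
        exact ⟨b, hbN, hb, rfl⟩
      obtain ⟨y, hy, e⟩ := h1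
      exact ⟨y, (le_sup_right : _ ≤ L) hy, e⟩
  · rw [← normal_subgroupOf_iff_le_normalizer (map_subtype_le _), subgroupOf,
      comap_map_eq_self_of_injective P.subtype_injective]
    exact hLn

/-- **the unique maximal overgroup of `S`** -/
theorem uniq_max [K.Normal] (hPmin : IsPMinimal 2 ↥P) {C : Subgroup H}
    (hNZ : normalizer ((E.I (S.Zc 2) : Subgroup H) : Set H) ≤ C) (hPC : ¬ P ≤ C)
    {M : Subgroup H} (hMP : M < P) (hSM : (Sy : Subgroup H) ≤ M) (hmax : ∀ M' : Subgroup H, M ≤ M' → M' < P → M' = M) :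
    M = P ⊓ C := by
  have hMK : M ≤ K := hMP.le.trans hP.hPK
  have hPh : E.Ph M ≤ E.Ph P := fun x hx => ⟨hx.1, hMP.le hx.2⟩
  have hN : ¬ N ≤ E.Ph M := fun h => hP.hN (h.trans hPh)
  have h28 : E.Ph M ≤ normalizer (J S.XZ 2 8 : Set G) := hPh.trans hP.h28
  have h9 : ¬ Pm S N (E.Ph M) 9 := by
    intro h9
    have h1 := J19_le NF E Sy hSy hSM h9
    exact hMP.not_ge ((P_le_J19 NF E Sy hSy hP hPmin).trans h1)
  have h1 := norm_I NF E Sy hSy hMK (norm_of_not NF E Sy hSy hSM hN h28 h9).2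
  exact (hmax (P ⊓ C) (le_inf hMP.le (h1.trans hNZ)) (lt_of_le_of_ne inf_le_left fun h => hPC (inf_eq_left.1 h))).symm

end P

/-- **S3046 for `H` with a normal subgroup of type `²F₄` in coordinates** -/
theorem main {F : Type} [Field F] [Fintype F] (hchar : ringChar F = 2) {σ : F →+* F} {G : Type u} [Group G] [Finite G]
    {S : Full σ G} {N : Subgroup G} {H : Type v} [Group H] [Finite H] {K : Subgroup H} [K.Normal]
    (NF : NFacts S N) (E : Emb N K) (Sy : Sylow 2 H) (hSy : (Sy : Subgroup H) = E.I (J S.XZ 1 8)) (Z C Q : Subgroup H)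
    (hZ : Z = omegaOne 2 ((Sy : Subgroup H) ⊓ centralizer ((Sy : Subgroup H) : Set H)))
    (hCloc : ∃ T : Subgroup H, IsPGroup 2 ↥T ∧ T ≠ ⊥ ∧ C = normalizer (T : Set H))
    (hCmax : ∀ L : Subgroup H, (∃ T : Subgroup H, IsPGroup 2 ↥T ∧ T ≠ ⊥ ∧ L = normalizer (T : Set H)) → C ≤ L → L = C)
    (hNZ : normalizer (Z : Set H) ≤ C) (hQ : Q = (pCore 2 ↥C).map C.subtype)
    (P : Subgroup H) (hSP : (Sy : Subgroup H) ≤ P) (hPmin : IsPMinimal 2 ↥P)
    (hPchar : centralizer (((pCore 2 ↥P).map P.subtype : Subgroup H) : Set H) ≤ (pCore 2 ↥P).map P.subtype)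
    (hPC : ¬ P ≤ C) (Pstar : Subgroup H)
    (hPstar : Pstar = (normalClosure ((Q.subgroupOf P : Subgroup ↥P) : Set ↥P)).map P.subtype ⊔
      (pCore 2 ↥P).map P.subtype) :
    (∃ (F : Type) (_ : Field F) (_ : Fintype F), ringChar F = 2 ∧
       IsNaturalSL2Module F (largestPReducedOf 2 P) Pstar ∧
       Pstar ⊓ centralizer (largestPReducedOf 2 P : Set H) = (pCore 2 ↥P).map P.subtype) ∧
    omegaOne 2 (((Sy : Subgroup H) ⊓ Pstar) ⊓ centralizer (((Sy : Subgroup H) ⊓ Pstar : Subgroup H) : Set H)) ≤ C ∧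
    ((omegaOne 2 (((Sy : Subgroup H) ⊓ Pstar) ⊓ centralizer (((Sy : Subgroup H) ⊓ Pstar : Subgroup H) : Set H))).subgroupOf C).Normal ∧
    ∀ M : Subgroup H, M < P → (Sy : Subgroup H) ≤ M → (∀ M' : Subgroup H, M ≤ M' → M' < P → M' = M) → M = P ⊓ C := by
  have hZe := Z_eq NF E Sy hSy hZ
  rw [hZe] at hNZ
  have hQe := Q_eq NF E Sy hSy hCloc hNZ hQ
  have hP := pf_of NF E Sy hSy (norm_Q_le NF E Sy hSy hCloc hNZ hQ hCmax) hSP hPmin hPchar hPC
  have hPs := pstar_eq NF E Sy hSy hP hPmin hQe hPstar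
  have hl := largest_eq NF E Sy hSy hP
  subst hPs
  have hinf : (Sy : Subgroup H) ⊓ Pstar = Sy := inf_eq_left.2 hSP
  rw [hinf, ← hZ, hZe, hl]
  have hZC : E.I (S.Zc 2) ≤ C := le_trans le_normalizer hNZ
  refine ⟨⟨F, inferInstance, inferInstance, hchar, natural NF E Sy hSy hP hPmin, inf_cent NF E Sy hSy hP⟩, hZC, ?_, ?_⟩
  · exact (normal_subgroupOf_iff_le_normalizer hZC).2 (C_norm_Z NF E Sy hSy hCloc hNZ hQ)
  · intro M h1 h2 h3
    exact uniq_max NF E Sy hSy hP hPmin hNZ hPC h1 h2 h3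

end Cfsg.Agent.H371.PU
end

-- part: H371/PU/Inst
section
/-!
# S3046, rows `²F₄(q)`, `²F₄(2)'` and `²F₄(2)` (helper371)

* `row_twF4`, `row_tits`: the conclusion of S3046 for a group with a normal subgroup `K` of type `²F₄(q)` (resp. the Tits
  group) with trivial centralizer.
-/

set_option autoImplicit false
set_option linter.unusedSectionVars false

namespace Cfsg.Agent.H371.PU

open Cfsg.Agent.KFacts.TwF4 Cfsg.Agent.KFacts.TwF4.Full Cfsg.Agent.KFacts.TwF4.Arc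
open Cfsg.Agent.KFacts.TwF4.Inv Cfsg.Agent.KFacts.TwF4.SylU Cfsg.Agent.KFacts.TwF4.Irr
open Cfsg.Agent.SplitTwo Cfsg.Agent.SplitTwo.ZS Cfsg.Agent.TitsThree.RankTwoZ
open Cfsg.Agent.SplitTwo.RootSysZ Subgroup Cfsg Cfsg.Lie Cfsg.Agent.H248.TwF4Over
open scoped Pointwise

universe u v

section emb

variable {G : Type u} [Group G] {H : Type v} [Group H] {N : Subgroup G} {K : Subgroup H}

open Classical in
/-- `Emb` from an isomorphism -/
noncomputable def Emb.ofEquiv (e : ↥N ≃* ↥K) : Emb N K where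
  j x := if hx : x ∈ N then (e ⟨x, hx⟩ : H) else 1
  mul := by
    intro x hx y hy
    rw [dif_pos (mul_mem hx hy), dif_pos hx, dif_pos hy, ← coe_mul, ← map_mul]
    rfl
  inj := by
    intro x hx y hy h
    rw [dif_pos hx, dif_pos hy] at h
    have h1 := e.injective (Subtype.ext h)
    exact congrArg Subtype.val h1
  mem := by
    intro x hx
    rw [dif_pos hx]
    exact (e ⟨x, hx⟩).2
  surj := by
    intro k hk
    refine ⟨(e.symm ⟨k, hk⟩ : G), (e.symm ⟨k, hk⟩).2, ?_⟩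
    rw [dif_pos (e.symm ⟨k, hk⟩).2]
    show ((e (e.symm ⟨k, hk⟩) : ↥K) : H) = k
    rw [e.apply_symm_apply]

/-- conjugate of an `Emb` -/
def Emb.conjBy [hK : K.Normal] (E : Emb N K) (h : H) : Emb N K where
  j x := h * E.j x * h⁻¹
  mul := by
    intro x hx y hy
    rw [E.mul x hx y hy]
    group
  inj := by
    intro x hx y hy e
    refine E.inj x hx y hy ?_
    simpa only [_root_.mul_left_inj, _root_.mul_right_inj] using e
  mem := fun x hx => hK.conj_mem _ (E.mem x hx) h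
  surj := by
    intro k hk
    obtain ⟨x, hx, e⟩ := E.surj (h⁻¹ * k * h) (by simpa using hK.conj_mem _ hk h⁻¹)
    refine ⟨x, hx, ?_⟩
    rw [e]
    group

theorem Emb.pow (E : Emb N K) {x : G} (hx : x ∈ N) (n : ℕ) : E.j (x ^ n) = E.j x ^ n := by
  induction n with
  | zero => rw [pow_zero, pow_zero, E.one]
  | succ n ih => rw [pow_succ, pow_succ, E.mul _ (pow_mem hx n) _ hx, ih]

theorem exists_emb [Finite H] [hK : K.Normal] (E : Emb N K) {U : Subgroup G} (hU : IsPGroup 2 U)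
    (hidx : ¬ 2 ∣ (U.subgroupOf N).index) (Sy : Sylow 2 H) (hSy : (Sy : Subgroup H) ≤ K) :
    ∃ E' : Emb N K, (Sy : Subgroup H) = E'.I U := by
  have hfact : Fact (Nat.Prime 2) := ⟨Nat.prime_two⟩
  obtain ⟨T, hT⟩ := (E.isPGroup_I hU).exists_le_sylow
  obtain ⟨g, hg⟩ := MulAction.exists_smul_eq H T Sy
  have hmem : ∀ t, t ∈ (T : Subgroup H) → g * t * g⁻¹ ∈ (Sy : Subgroup H) := by
    intro t ht
    rw [← hg]
    have h1 := smul_mem_pointwise_smul t (MulAut.conj g) (T : Subgroup H) ht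
    exact h1
  have hTK : (T : Subgroup H) ≤ K := by
    intro t ht
    have h1 := hK.conj_mem _ (hSy (hmem t ht)) g⁻¹
    have e : g⁻¹ * (g * t * g⁻¹) * g⁻¹⁻¹ = t := by group
    rwa [e] at h1
  -- `T = E.I U`
  have hP : IsPGroup 2 ↥((E.Ph (T : Subgroup H)).subgroupOf N) := by
    rintro ⟨⟨x, hxN⟩, hx⟩
    have hx' : x ∈ E.Ph (T : Subgroup H) := hx
    obtain ⟨k, hk⟩ := T.2 ⟨E.j x, hx'.2⟩
    refine ⟨k, Subtype.ext (Subtype.ext ?_)⟩
    have h1 : E.j x ^ 2 ^ k = 1 := congrArg Subtype.val hk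
    rw [← E.pow hxN] at h1
    exact E.eq_one (pow_mem hxN _) h1
  have hUN : IsPGroup 2 ↥(U.subgroupOf N) := hU.comap_of_injective N.subtype N.subtype_injective
  have hle : U.subgroupOf N ≤ (E.Ph (T : Subgroup H)).subgroupOf N := by
    rintro ⟨x, hxN⟩ hx
    exact ⟨hxN, hT ⟨x, hxN, hx, rfl⟩⟩
  have heq := (IsPGroup.toSylow hUN hidx).is_maximal' hP (by rwa [IsPGroup.toSylow_coe])
  rw [IsPGroup.toSylow_coe] at heq
  have hTI : (T : Subgroup H) = E.I U := by
    refine le_antisymm (fun t ht => ?_) hT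
    obtain ⟨x, hx, rfl⟩ := E.surj t (hTK ht)
    refine ⟨x, hx, ?_, rfl⟩
    have h1 : (⟨x, hx⟩ : ↥N) ∈ (E.Ph (T : Subgroup H)).subgroupOf N := ⟨hx, ht⟩
    rw [heq] at h1
    exact h1
  refine ⟨E.conjBy g, ?_⟩
  rw [← hg]
  refine le_antisymm ?_ ?_
  · intro y hy
    have hy' : y ∈ MulAut.conj g • (T : Subgroup H) := hy
    rw [mem_pointwise_smul_iff_inv_smul_mem, hTI] at hy'
    obtain ⟨x, hx, hxU, e⟩ := hy'
    refine ⟨x, hx, hxU, ?_⟩
    show g * E.j x * g⁻¹ = y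
    rw [e, ← map_inv]
    show g * (g⁻¹ * y * g⁻¹⁻¹) * g⁻¹ = y
    group
  · rintro y ⟨x, hx, hxU, e⟩
    show y ∈ MulAut.conj g • (T : Subgroup H)
    rw [hTI, ← e]
    exact smul_mem_pointwise_smul (E.j x) (MulAut.conj g) _ ⟨x, hx, hxU, rfl⟩

end emb

section rows

variable {H : Type v} [Group H] [Finite H]

/-- the conclusion of S3046 from an isomorphism `N ≃ K`, `S ≤ K` -/
theorem main' {F : Type} [Field F] [Fintype F] (hchar : ringChar F = 2) {σ : F →+* F} {G : Type u} [Group G] [Finite G]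
    {S : Full σ G} {N : Subgroup G} {K : Subgroup H} [K.Normal] (NF : NFacts S N) (e : ↥N ≃* ↥K) (Sy : Sylow 2 H)
    (hSy : (Sy : Subgroup H) ≤ K) (Z C Q : Subgroup H)
    (hZ : Z = omegaOne 2 ((Sy : Subgroup H) ⊓ centralizer ((Sy : Subgroup H) : Set H)))
    (hCloc : ∃ T : Subgroup H, IsPGroup 2 ↥T ∧ T ≠ ⊥ ∧ C = normalizer (T : Set H))
    (hCmax : ∀ L : Subgroup H, (∃ T : Subgroup H, IsPGroup 2 ↥T ∧ T ≠ ⊥ ∧ L = normalizer (T : Set H)) → C ≤ L → L = C)
    (hNZ : normalizer (Z : Set H) ≤ C) (hQ : Q = (pCore 2 ↥C).map C.subtype)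
    (P : Subgroup H) (hSP : (Sy : Subgroup H) ≤ P) (hPmin : IsPMinimal 2 ↥P)
    (hPchar : centralizer (((pCore 2 ↥P).map P.subtype : Subgroup H) : Set H) ≤ (pCore 2 ↥P).map P.subtype)
    (hPC : ¬ P ≤ C) (Pstar : Subgroup H)
    (hPstar : Pstar = (normalClosure ((Q.subgroupOf P : Subgroup ↥P) : Set ↥P)).map P.subtype ⊔
      (pCore 2 ↥P).map P.subtype) :
    (∃ (F : Type) (_ : Field F) (_ : Fintype F), ringChar F = 2 ∧
       IsNaturalSL2Module F (largestPReducedOf 2 P) Pstar ∧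
       Pstar ⊓ centralizer (largestPReducedOf 2 P : Set H) = (pCore 2 ↥P).map P.subtype) ∧
    omegaOne 2 (((Sy : Subgroup H) ⊓ Pstar) ⊓ centralizer (((Sy : Subgroup H) ⊓ Pstar : Subgroup H) : Set H)) ≤ C ∧
    ((omegaOne 2 (((Sy : Subgroup H) ⊓ Pstar) ⊓ centralizer (((Sy : Subgroup H) ⊓ Pstar : Subgroup H) : Set H))).subgroupOf C).Normal ∧
    ∀ M : Subgroup H, M < P → (Sy : Subgroup H) ≤ M → (∀ M' : Subgroup H, M ≤ M' → M' < P → M' = M) → M = P ⊓ C := by
  obtain ⟨E, hE⟩ := exists_emb (Emb.ofEquiv e) NF.two NF.syl Sy hSy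
  exact main hchar NF E Sy hE Z C Q hZ hCloc hCmax hNZ hQ P hSP hPmin hPchar hPC Pstar hPstar

/-- **row `²F₄(q)`, `q ≥ 8`** -/
theorem row_twF4 {K : Subgroup H} [hKn : K.Normal] (hK : Lie.Iso2F4 ↥K) (hc : centralizer (K : Set H) = ⊥) (Sy : Sylow 2 H)
    (Z C Q : Subgroup H)
    (hZ : Z = omegaOne 2 ((Sy : Subgroup H) ⊓ centralizer ((Sy : Subgroup H) : Set H)))
    (hCloc : ∃ T : Subgroup H, IsPGroup 2 ↥T ∧ T ≠ ⊥ ∧ C = normalizer (T : Set H))
    (hCmax : ∀ L : Subgroup H, (∃ T : Subgroup H, IsPGroup 2 ↥T ∧ T ≠ ⊥ ∧ L = normalizer (T : Set H)) → C ≤ L → L = C)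
    (hNZ : normalizer (Z : Set H) ≤ C) (hQ : Q = (pCore 2 ↥C).map C.subtype)
    (P : Subgroup H) (hSP : (Sy : Subgroup H) ≤ P) (hPmin : IsPMinimal 2 ↥P)
    (hPchar : centralizer (((pCore 2 ↥P).map P.subtype : Subgroup H) : Set H) ≤ (pCore 2 ↥P).map P.subtype)
    (hPC : ¬ P ≤ C) (Pstar : Subgroup H)
    (hPstar : Pstar = (normalClosure ((Q.subgroupOf P : Subgroup ↥P) : Set ↥P)).map P.subtype ⊔
      (pCore 2 ↥P).map P.subtype) :
    (∃ (F : Type) (_ : Field F) (_ : Fintype F), ringChar F = 2 ∧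
       IsNaturalSL2Module F (largestPReducedOf 2 P) Pstar ∧
       Pstar ⊓ centralizer (largestPReducedOf 2 P : Set H) = (pCore 2 ↥P).map P.subtype) ∧
    omegaOne 2 (((Sy : Subgroup H) ⊓ Pstar) ⊓ centralizer (((Sy : Subgroup H) ⊓ Pstar : Subgroup H) : Set H)) ≤ C ∧
    ((omegaOne 2 (((Sy : Subgroup H) ⊓ Pstar) ⊓ centralizer (((Sy : Subgroup H) ⊓ Pstar : Subgroup H) : Set H))).subgroupOf C).Normal ∧
    ∀ M : Subgroup H, M < P → (Sy : Subgroup H) ≤ M → (∀ M' : Subgroup H, M ≤ M' → M' < P → M' = M) → M = P ⊓ C := by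
  have hfact : Fact (Nat.Prime 2) := ⟨Nat.prime_two⟩
  obtain ⟨F, i1, i2, m, φ, S, -, hcard, ⟨e⟩, hR, hfin, hF⟩ := Cfsg.Agent.H187.exists_full hK
  have hchar : ringChar F = 2 := by
    have := Cfsg.Agent.ChevalleyStructure.TwF4.Twisted.charP_two hcard
    exact ringChar.eq F 2
  obtain ⟨P0, hP0⟩ := exists_sylow S hF hR
  have h2 : IsPGroup 2 ↥(J S.XZ 1 8) := by rw [← hP0]; exact P0.isPGroup'
  have hsyl : ¬ 2 ∣ (J S.XZ 1 8).index := by rw [← hP0]; exact P0.not_dvd_index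
  have NF := nfacts_top S h2 hsyl
  have hSy : (Sy : Subgroup H) ≤ K := by
    intro s hs
    obtain ⟨n, hn⟩ := Sy.2 ⟨s, hs⟩
    have hn' : s ^ 2 ^ n = 1 := congrArg Subtype.val hn
    have h1 : (MulAut.congr e (MulAut.conjNormal s : MulAut ↥K)) ^ 2 ^ n = 1 := by
      rw [← map_pow, ← map_pow, hn', map_one, map_one]
    obtain ⟨x, hx⟩ := OutTwo.inner S (by rw [Nat.card_eq_fintype_card, hcard]) hF hR h1
    have h3 : ∀ k ∈ K, s * k * s⁻¹ = (e.symm x : H) * k * (e.symm x : H)⁻¹ := by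
      intro k hk
      have h4 := DFunLike.congr_fun hx (e ⟨k, hk⟩)
      rw [MulAut.conj_apply] at h4
      have h5 : MulAut.congr e (MulAut.conjNormal s : MulAut ↥K) (e ⟨k, hk⟩) =
          e ((MulAut.conjNormal s : MulAut ↥K) (e.symm (e ⟨k, hk⟩))) := rfl
      rw [h5, e.symm_apply_apply] at h4
      have h6 : (MulAut.conjNormal s : MulAut ↥K) ⟨k, hk⟩ = e.symm x * ⟨k, hk⟩ * (e.symm x)⁻¹ := by
        apply e.injective
        rw [h4, map_mul, map_mul, map_inv, e.apply_symm_apply]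
      have h7 := congrArg Subtype.val h6
      rw [MulAut.conjNormal_apply] at h7
      exact h7
    have h8 : (e.symm x : H)⁻¹ * s ∈ centralizer (K : Set H) := by
      rw [mem_centralizer_iff]
      intro k hk
      have h9 := h3 k hk
      calc k * ((e.symm x : H)⁻¹ * s) = (e.symm x : H)⁻¹ * ((e.symm x : H) * k * (e.symm x : H)⁻¹) * s := by group
        _ = (e.symm x : H)⁻¹ * (s * k * s⁻¹) * s := by rw [h9]
        _ = (e.symm x : H)⁻¹ * s * k := by group
    rw [hc, mem_bot, inv_mul_eq_one] at h8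
    rw [← h8]
    exact (e.symm x).2
  exact main' hchar NF (topEquiv.trans e.symm) Sy hSy Z C Q hZ hCloc hCmax hNZ hQ P hSP hPmin hPchar hPC Pstar hPstar

def topE {G : Type u} [Group G] {L : Type v} [Group L] (e : L ≃* G) : ↥(⊤ : Subgroup G) ≃* ↥(⊤ : Subgroup L) :=
  (topEquiv (G := G)).trans (e.symm.trans (topEquiv (G := L)).symm)

/-- the coordinates of `²F₄(2)` -/
theorem exists_full_two : ∃ (φ : ZMod 2 →+* ZMod 2) (S : Full φ ↥(twistedF4 (ZMod 2) 1)), S.R.p = 2 := by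
  have hK : Fintype.card (ZMod 2) = 2 ^ (2 * 0 + 1) := by rw [ZMod.card]; rfl
  obtain ⟨φ, hφ⟩ := Cfsg.Agent.ChevalleyStructure.TwF4.TwistedFix.exists_rln hK
  have h0 : ∃ S : Full φ ↥(twistedF4 (ZMod 2) (2 ^ 0)), S.R.p = 2 :=
    ⟨Cfsg.Agent.KFacts.TwF4.Inst.full hK hφ, rfl⟩
  rw [pow_zero] at h0
  exact ⟨φ, h0⟩

theorem two_comm : Two (ZMod 2) (_root_.commutator ↥(twistedF4 (ZMod 2) 1)) := by
  refine ⟨?_, le_rfl, ?_⟩
  · intro x
    fin_cases x
    · exact Or.inl rfl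
    · exact Or.inr rfl
  · intro h1
    have hidx := Cfsg.Agent.S1074.result.1
    rw [h1, Subgroup.index_top] at hidx
    norm_num at hidx

/-- a group with a normal subgroup of index two isomorphic to the Tits group and trivial centralizer is `²F₄(2)` -/
theorem equiv_two {G : Type u} [Group G] [Finite G] (D : Cfsg.Agent.TitsK.TData G) (K : Subgroup H) [K.Normal]
    (he : Nonempty (↥K ≃* ↥D.T)) (hc : centralizer (K : Set H) = ⊥) (h2 : K.index = 2) : Nonempty (H ≃* ↥D.H) := by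
  obtain ⟨Φ, hinj, hH⟩ := D.exists_embed K he hc
  obtain ⟨e⟩ := he
  let Ψ : H →* D.H := Φ.codRestrict D.H hH
  have hΨ : Function.Injective Ψ := fun x y hxy => hinj (congrArg Subtype.val hxy)
  have h3 : Nat.card ↥D.T * 2 = Nat.card ↥D.H := by
    rw [← D.relIndex_T, ← Nat.card_congr (Subgroup.subgroupOfEquivOfLe D.T_le).toEquiv]
    exact (D.T.subgroupOf D.H).card_mul_index
  have h4 : Nat.card H = Nat.card D.H := by
    rw [← h3, ← K.card_mul_index, h2, Nat.card_congr e.toEquiv]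
  exact ⟨MulEquiv.ofBijective Ψ ((Nat.bijective_iff_injective_and_card Ψ).2 ⟨hΨ, h4⟩)⟩

theorem equiv_of_map {G L : Type*} [Group G] [Group L] (f : G →* L) (hf : Function.Injective f) (A : Subgroup G)
    (B : Subgroup L) (h : A.map f = B) : Nonempty (↥A ≃* ↥B) := by
  subst h
  exact ⟨A.equivMapOfInjective f hf⟩

theorem equiv_twF4 (K : Subgroup H) [K.Normal] (hK : Lie.IsoTits ↥K) (hc : centralizer (K : Set H) = ⊥)
    (h2 : K.index = 2) : Nonempty (H ≃* ↥(twistedF4 (ZMod 2) 1)) := by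
  obtain ⟨f⟩ := hK
  obtain ⟨e⟩ := Cfsg.Agent.TitsK.exists_equiv
  obtain ⟨g⟩ := equiv_two Cfsg.Agent.TitsK.tdata K ⟨f.trans e⟩ hc h2
  obtain ⟨g'⟩ := equiv_of_map _ (Subgroup.subtype_injective _) _ _ Cfsg.Agent.TitsK.map_HT
  exact ⟨MulEquiv.trans g g'⟩

/-- **rows `²F₄(2)'` and `²F₄(2)`** -/
theorem row_tits {K : Subgroup H} [hKn : K.Normal] (hK : Lie.IsoTits ↥K) (hc : centralizer (K : Set H) = ⊥) (Sy : Sylow 2 H)
    (Z C Q : Subgroup H)
    (hZ : Z = omegaOne 2 ((Sy : Subgroup H) ⊓ centralizer ((Sy : Subgroup H) : Set H)))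
    (hCloc : ∃ T : Subgroup H, IsPGroup 2 ↥T ∧ T ≠ ⊥ ∧ C = normalizer (T : Set H))
    (hCmax : ∀ L : Subgroup H, (∃ T : Subgroup H, IsPGroup 2 ↥T ∧ T ≠ ⊥ ∧ L = normalizer (T : Set H)) → C ≤ L → L = C)
    (hNZ : normalizer (Z : Set H) ≤ C) (hQ : Q = (pCore 2 ↥C).map C.subtype)
    (P : Subgroup H) (hSP : (Sy : Subgroup H) ≤ P) (hPmin : IsPMinimal 2 ↥P)
    (hPchar : centralizer (((pCore 2 ↥P).map P.subtype : Subgroup H) : Set H) ≤ (pCore 2 ↥P).map P.subtype)
    (hPC : ¬ P ≤ C) (Pstar : Subgroup H)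
    (hPstar : Pstar = (normalClosure ((Q.subgroupOf P : Subgroup ↥P) : Set ↥P)).map P.subtype ⊔
      (pCore 2 ↥P).map P.subtype) :
    (∃ (F : Type) (_ : Field F) (_ : Fintype F), ringChar F = 2 ∧
       IsNaturalSL2Module F (largestPReducedOf 2 P) Pstar ∧
       Pstar ⊓ centralizer (largestPReducedOf 2 P : Set H) = (pCore 2 ↥P).map P.subtype) ∧
    omegaOne 2 (((Sy : Subgroup H) ⊓ Pstar) ⊓ centralizer (((Sy : Subgroup H) ⊓ Pstar : Subgroup H) : Set H)) ≤ C ∧
    ((omegaOne 2 (((Sy : Subgroup H) ⊓ Pstar) ⊓ centralizer (((Sy : Subgroup H) ⊓ Pstar : Subgroup H) : Set H))).subgroupOf C).Normal ∧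
    ∀ M : Subgroup H, M < P → (Sy : Subgroup H) ≤ M → (∀ M' : Subgroup H, M ≤ M' → M' < P → M' = M) → M = P ⊓ C := by
  have hfact : Fact (Nat.Prime 2) := ⟨Nat.prime_two⟩
  obtain ⟨hidx, -, -, hcard⟩ := Cfsg.Agent.S1074.result
  obtain ⟨φ, S, hR⟩ := exists_full_two
  have hchar : ringChar (ZMod 2) = 2 := ZMod.ringChar_zmod_n 2
  have h2 : IsPGroup 2 ↥(J S.XZ 1 8) := isPGroup_J S.zsys8 (two_X S hR) 8 1 8 (by norm_num) (by norm_num)
  obtain ⟨m, hm⟩ : ∃ m : ℕ, m = 3 ^ 3 * 5 ^ 2 * 13 := ⟨_, rfl⟩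
  have hodd : Odd m := ⟨4387, by rw [hm]; norm_num⟩
  have hc2 : Nat.card ↥(_root_.commutator ↥(twistedF4 (ZMod 2) 1)) = 2 ^ 11 * m := by
    rw [hm, ← mul_assoc, ← mul_assoc]
    exact hcard
  have hle := Cfsg.Agent.TitsK.index_le hK K ⟨MulEquiv.refl _⟩ hc
  have hpos : K.index ≠ 0 := K.index_ne_zero_of_finite
  rcases (show K.index = 1 ∨ K.index = 2 by omega) with h1 | h1
  · obtain ⟨e⟩ := hK
    have hSy : (Sy : Subgroup H) ≤ K := by
      rw [Subgroup.index_eq_one.1 h1]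
      exact le_top
    exact main' hchar (nfacts_tits S two_comm h2 hidx hodd hc2) e.symm Sy hSy Z C Q hZ hCloc hCmax hNZ hQ P hSP hPmin
      hPchar hPC Pstar hPstar
  · obtain ⟨e⟩ := equiv_twF4 K hK hc h1
    have h3 : Nat.card ↥(twistedF4 (ZMod 2) 1) = 2 ^ 12 * m := by
      rw [← (_root_.commutator ↥(twistedF4 (ZMod 2) 1)).card_mul_index, hidx, hc2]
      ring
    have h4 : (J S.XZ 1 8).index = m := by
      have h5 := (J S.XZ 1 8).card_mul_index
      rw [two_card_U S two_comm, h3] at h5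
      exact Nat.eq_of_mul_eq_mul_left (by norm_num) h5
    have hsyl : ¬ 2 ∣ (J S.XZ 1 8).index := by
      rw [h4]
      exact hodd.not_two_dvd_nat
    exact main' (K := ⊤) hchar (nfacts_top S h2 hsyl) (topE e) Sy le_top Z C Q hZ hCloc hCmax hNZ hQ P hSP hPmin
      hPchar hPC Pstar hPstar

/-- row `²F₄(q)` from `CaseB` -/
theorem caseB_twF4 {Sy : Sylow 2 H} {C Q P V W : Subgroup H} (h : Cfsg.Agent.H271.PU.CaseB 2 Sy C Q P V W) {K : Subgroup H} [K.Normal]
    (hK : Lie.Iso2F4 ↥K) (hc : centralizer (K : Set H) = ⊥) {Pstar : Subgroup H}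
    (hPstar : Pstar = (normalClosure ((Q.subgroupOf P : Subgroup ↥P) : Set ↥P)).map P.subtype ⊔
      (pCore 2 ↥P).map P.subtype) :
    (∃ (F : Type) (_ : Field F) (_ : Fintype F), ringChar F = 2 ∧
       IsNaturalSL2Module F (largestPReducedOf 2 P) Pstar ∧
       Pstar ⊓ centralizer (largestPReducedOf 2 P : Set H) = (pCore 2 ↥P).map P.subtype) ∧
    omegaOne 2 (((Sy : Subgroup H) ⊓ Pstar) ⊓ centralizer (((Sy : Subgroup H) ⊓ Pstar : Subgroup H) : Set H)) ≤ C ∧
    ((omegaOne 2 (((Sy : Subgroup H) ⊓ Pstar) ⊓ centralizer (((Sy : Subgroup H) ⊓ Pstar : Subgroup H) : Set H))).subgroupOf C).Normal ∧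
    ∀ M : Subgroup H, M < P → (Sy : Subgroup H) ≤ M → (∀ M' : Subgroup H, M ≤ M' → M' < P → M' = M) → M = P ⊓ C :=
  row_twF4 hK hc Sy _ C Q rfl h.Cloc h.Cmax h.NZ h.Qeq P h.SP h.Pmin h.Pchar h.PC Pstar hPstar

/-- rows `²F₄(2)'`, `²F₄(2)` from `CaseB` -/
theorem caseB_tits {Sy : Sylow 2 H} {C Q P V W : Subgroup H} (h : Cfsg.Agent.H271.PU.CaseB 2 Sy C Q P V W) {K : Subgroup H} [K.Normal]
    (hK : Lie.IsoTits ↥K) (hc : centralizer (K : Set H) = ⊥) {Pstar : Subgroup H}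
    (hPstar : Pstar = (normalClosure ((Q.subgroupOf P : Subgroup ↥P) : Set ↥P)).map P.subtype ⊔
      (pCore 2 ↥P).map P.subtype) :
    (∃ (F : Type) (_ : Field F) (_ : Fintype F), ringChar F = 2 ∧
       IsNaturalSL2Module F (largestPReducedOf 2 P) Pstar ∧
       Pstar ⊓ centralizer (largestPReducedOf 2 P : Set H) = (pCore 2 ↥P).map P.subtype) ∧
    omegaOne 2 (((Sy : Subgroup H) ⊓ Pstar) ⊓ centralizer (((Sy : Subgroup H) ⊓ Pstar : Subgroup H) : Set H)) ≤ C ∧
    ((omegaOne 2 (((Sy : Subgroup H) ⊓ Pstar) ⊓ centralizer (((Sy : Subgroup H) ⊓ Pstar : Subgroup H) : Set H))).subgroupOf C).Normal ∧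
    ∀ M : Subgroup H, M < P → (Sy : Subgroup H) ≤ M → (∀ M' : Subgroup H, M ≤ M' → M' < P → M' = M) → M = P ⊓ C :=
  row_tits hK hc Sy _ C Q rfl h.Cloc h.Cmax h.NZ h.Qeq P h.SP h.Pmin h.Pchar h.PC Pstar hPstar

end rows

end Cfsg.Agent.H371.PU
end

private theorem dce_0b7e9263f3be : _root_.True := by
  try have : _root_.True := by simp only [_root_.Cfsg.Agent.H371.PU.lo.eq_1]
  try have : _root_.True := by simp only [_root_.Cfsg.Agent.H247.P1.Sl.up.eq_1]
  try have : _root_.True := by simp only [_root_.Cfsg.Agent.H371.PU.up.eq_1]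
  try have : _root_.True := by simp only [_root_.Cfsg.Agent.H247.P1.Sl.lo.eq_1]
  exact _root_.True.intro
end

-- part: H247/P1/Base
section
set_option linter.all false
open scoped Cfsg.Agent.FastGrp

/-!
# The `P!`-theorem (S3046): the local half, part 1

`Hyp p S Z C Q P`: the hypotheses of S3046 (without the `K_p`-hypothesis and without `Y_M ≤ Q`).
-/

set_option autoImplicit false
set_option linter.unusedSectionVars false
open Cfsg Subgroup
open Cfsg.Agent.H230 Cfsg.Agent.H229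

namespace Cfsg.Agent.H247.P1

variable {H : Type*} [Group H] {p : ℕ}

/-- the hypotheses of S3046 about `S, Z, C, Q`. -/
structure Hyp (p : ℕ) (S : Sylow p H) (Z C Q : Subgroup H) : Prop where
  hloc : IsOfLocalCharacteristic p H
  hZ : Z = omegaOne p ((S : Subgroup H) ⊓ centralizer ((S : Subgroup H) : Set H))
  hCloc : ∃ T : Subgroup H, IsPGroup p ↥T ∧ T ≠ ⊥ ∧ C = normalizer (T : Set H)
  hCmax : ∀ L : Subgroup H, (∃ T : Subgroup H, IsPGroup p ↥T ∧ T ≠ ⊥ ∧ L = normalizer (T : Set H)) → C ≤ L → L = C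
  hNZ : normalizer (Z : Set H) ≤ C
  hQ : Q = pCoreOf p C
  hQuniq : ∀ x ∈ Q ⊓ centralizer (Q : Set H), x ≠ 1 → centralizer ({x} : Set H) ≤ C

namespace Hyp

variable {S : Sylow p H} {Z C Q : Subgroup H}

theorem Z_le (h : Hyp p S Z C Q) : Z ≤ (S : Subgroup H) ⊓ centralizer ((S : Subgroup H) : Set H) := by
  rw [h.hZ]; exact omegaOne_le _ _

theorem S_le_cent_Z (h : Hyp p S Z C Q) : (S : Subgroup H) ≤ centralizer (Z : Set H) :=
  le_centralizer_comm (h.Z_le.trans inf_le_right)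

theorem S_le (h : Hyp p S Z C Q) : (S : Subgroup H) ≤ C :=
  h.S_le_cent_Z.trans ((centralizer_le_norm _).trans h.hNZ)

theorem cent_Z_le (h : Hyp p S Z C Q) : centralizer (Z : Set H) ≤ C :=
  (centralizer_le_norm _).trans h.hNZ

theorem norm_S_le (h : Hyp p S Z C Q) : normalizer ((S : Subgroup H) : Set H) ≤ C := by
  refine le_trans ?_ h.hNZ
  have h1 : normalizer ((S : Subgroup H) : Set H) ≤
      normalizer (((S : Subgroup H) ⊓ centralizer ((S : Subgroup H) : Set H) : Subgroup H) : Set H) :=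
    le_trans (le_inf le_rfl (norm_le_norm_centralizer _)) (norm_inf_le _ _)
  refine h1.trans ?_
  rw [h.hZ]
  intro x hx
  rw [mem_norm] at hx ⊢
  have := omegaOne_map_equiv p (MulAut.conj x) ((S : Subgroup H) ⊓ centralizer ((S : Subgroup H) : Set H))
  change omegaOne p (cj x _) = cj x _ at this
  rw [← this, hx]

variable [Finite H] [Fact p.Prime]

omit [Finite H] in
theorem isSylowOf (S : Sylow p H) {L : Subgroup H} (hL : (S : Subgroup H) ≤ L) :
    IsSylowOf p (S : Subgroup H) L := by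
  rw [isSylowOf_iff_maximal]
  exact ⟨hL, S.2, fun R _ hR hSR => S.3 hR hSR⟩

theorem Q_le_C (h : Hyp p S Z C Q) : Q ≤ C := by rw [h.hQ]; exact H229.pCoreOf_le _ _

theorem Q_pgroup (h : Hyp p S Z C Q) : IsPGroup p ↥Q := by rw [h.hQ]; exact H229.isPGroup_pCoreOf _ _

theorem Q_le_S (h : Hyp p S Z C Q) : Q ≤ (S : Subgroup H) := by
  rw [h.hQ]; exact pCoreOf_le_of_isSylowOf (isSylowOf S h.S_le)

theorem Q_ne_bot (h : Hyp p S Z C Q) : Q ≠ ⊥ := by
  obtain ⟨T, hT, hT1, hC⟩ := h.hCloc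
  have h1 : T ≤ pCoreOf p C := by
    apply H229.le_pCoreOf
    · rw [hC]; exact le_normalizer
    · rw [hC]
    · exact hT
  rw [h.hQ]
  intro h2
  exact hT1 (le_bot_iff.1 (h2 ▸ h1))

theorem C_eq (h : Hyp p S Z C Q) : normalizer (Q : Set H) = C := by
  apply h.hCmax _ ⟨Q, h.Q_pgroup, h.Q_ne_bot, rfl⟩
  rw [h.hQ]
  exact le_norm_pCoreOf p C

theorem cent_Q_le (h : Hyp p S Z C Q) : centralizer (Q : Set H) ≤ Q := by
  have h1 := h.hloc.2 Q h.Q_pgroup h.Q_ne_bot
  rw [← chP_iff, h.C_eq] at h1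
  intro x hx
  rw [h.hQ] at hx ⊢
  refine h1 ⟨?_, hx⟩
  have : x ∈ normalizer (Q : Set H) := centralizer_le_norm _ (by rw [h.hQ]; exact hx)
  rwa [h.C_eq] at this

theorem S_ne_bot (h : Hyp p S Z C Q) : (S : Subgroup H) ≠ ⊥ := by
  intro h1
  exact h.Q_ne_bot (le_bot_iff.1 (h1 ▸ h.Q_le_S))

theorem Z_ne_bot (h : Hyp p S Z C Q) : Z ≠ ⊥ := by
  rw [h.hZ]
  exact omegaOne_center_ne_bot S.2 h.S_ne_bot

theorem cent_le (h : Hyp p S Z C Q) {x : H} (hx : x ∈ centralizer (Q : Set H)) (hx1 : x ≠ 1) :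
    centralizer ({x} : Set H) ≤ C :=
  h.hQuniq x ⟨h.cent_Q_le hx, hx⟩ hx1

theorem cj_Q_of_mem (h : Hyp p S Z C Q) {g : H} (hg : g ∈ C) : cj g Q = Q := by
  rw [← h.C_eq] at hg
  exact mem_norm.1 hg

/-- weak closure of `Q` in `S` -/
theorem mem_C_of_cj_le_S (h : Hyp p S Z C Q) {g : H} (hg : cj g Q ≤ (S : Subgroup H)) : g ∈ C := by
  obtain ⟨z, hz⟩ := (Subgroup.ne_bot_iff_exists_ne_one).1 h.Z_ne_bot
  · have hzc : (z : H) ∈ centralizer ((S : Subgroup H) : Set H) := (h.Z_le z.2).2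
    have h1 : (z : H) ∈ centralizer ((cj g Q : Subgroup H) : Set H) := (Subgroup.centralizer_le hg) hzc
    rw [← cj_centralizer, mem_cj] at h1
    have h2 : g⁻¹ * (z : H) * g ≠ 1 := by
      intro h3
      apply hz
      have : (z : H) = g * 1 * g⁻¹ := by rw [← h3]; group
      exact Subtype.ext (by simpa using this)
    have h3 := h.cent_le h1 h2
    -- `S ≤ C_H(z) ≤ C^g`
    have h4 : (S : Subgroup H) ≤ cj g C := by
      intro s hs
      rw [mem_cj]
      apply h3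
      rw [mem_centralizer_singleton_iff]
      have h5 : s * (z : H) = (z : H) * s := (mem_centralizer_iff.1 hzc) s hs
      calc g⁻¹ * s * g * (g⁻¹ * (z : H) * g) = g⁻¹ * (s * z) * g := by group
        _ = g⁻¹ * (z * s) * g := by rw [h5]
        _ = g⁻¹ * (z : H) * g * (g⁻¹ * s * g) := by group
    have h5 : cj g (S : Subgroup H) ≤ cj g C := cj_mono h.S_le
    have h6 : IsSylowOf p (cj g (S : Subgroup H)) (cj g C) := (isSylowOf S h.S_le).map_equiv (MulAut.conj g)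
    obtain ⟨a, ha, hPa⟩ := h6.exists_conj (isSylowOf S h4)
    have h7 : a * g ∈ C := by
      apply h.norm_S_le
      rw [mem_norm, cj_mul]; exact hPa
    -- `a ∈ cj g C`, so `g⁻¹ * a * g ∈ C`
    rw [mem_cj] at ha
    have h8 : g⁻¹ ∈ C := by
      have h9 := C.mul_mem ha (C.inv_mem h7)
      have e : g⁻¹ * a * g * (a * g)⁻¹ = g⁻¹ := by group
      rwa [e] at h9
    simpa using C.inv_mem h8

theorem mem_C_of_cj_le_C (h : Hyp p S Z C Q) {g : H} (hg : cj g Q ≤ C) : g ∈ C := by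
  obtain ⟨T, hT, hgT⟩ := exists_isSylowOf_ge (p := p) hg (isPGroup_cj h.Q_pgroup)
  obtain ⟨a, ha, hTa⟩ := hT.exists_conj (isSylowOf S h.S_le)
  have h1 : cj (a * g) Q ≤ (S : Subgroup H) := by
    rw [cj_mul, ← hTa]
    exact cj_mono hgT
  have h2 := h.mem_C_of_cj_le_S h1
  have := C.mul_mem (C.inv_mem ha) h2
  simpa using this

/-- points: `C_H(Q) ∩ C_H(Q^g) = 1` for `g ∉ C`, elementwise. -/
theorem eq_one_of_mem (h : Hyp p S Z C Q) {g x : H} (hg : g ∉ C) (hx : x ∈ centralizer (Q : Set H))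
    (hx' : x ∈ cj g (centralizer (Q : Set H))) : x = 1 := by
  by_contra hx1
  apply hg
  apply h.mem_C_of_cj_le_C
  have h1 : cj g Q ≤ centralizer ({x} : Set H) := by
    intro y hy
    rw [mem_centralizer_singleton_iff]
    rw [cj_centralizer] at hx'
    exact (mem_centralizer_iff.1 hx') y hy
  exact h1.trans (h.cent_le hx hx1)

theorem norm_le (h : Hyp p S Z C Q) {X : Subgroup H} (hX : X ≤ centralizer (Q : Set H)) (hX1 : X ≠ ⊥) :
    normalizer (X : Set H) ≤ C := by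
  intro g hg
  by_contra hgC
  apply hX1
  rw [Subgroup.eq_bot_iff_forall]
  intro x hx
  apply h.eq_one_of_mem hgC (hX hx)
  rw [← mem_norm.1 hg] at hx
  exact cj_mono hX hx

end Hyp

end Cfsg.Agent.H247.P1
end

section
prune_inst 0xf9fefb9ff8fddfffff7e7ffffddffff9f8dffffffffffbfff8fbff5fff430cfbe5fbafffe0d0ff5ff6e2be30b87853f9ffcb3fef6bdc7ffffd5ff45ffbee1fb7efbdad71d6bc3e1ffe6ffffbf17fce7f000000000000000000000000000000004200000000

-- part: H247/P1/Par
section
set_option linter.all false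
open scoped Cfsg.Agent.FastGrp

/-!
# The `P!`-theorem (S3046): the local half, part 2: the minimal parabolic `P`
-/

set_option autoImplicit false
set_option linter.unusedSectionVars false
open Cfsg Subgroup
open Cfsg.Agent.H230 Cfsg.Agent.H229

namespace Cfsg.Agent.H247.P1

variable {H : Type*} [Group H] {p : ℕ}

/-- all local hypotheses of S3046. -/
structure PHyp (p : ℕ) (S : Sylow p H) (Z C Q P : Subgroup H) : Prop extends Hyp p S Z C Q where
  hSP : (S : Subgroup H) ≤ P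
  hPmin : IsPMinimal p ↥P
  hPchar : centralizer (pCoreOf p P : Set H) ≤ pCoreOf p P
  hPC : ¬ P ≤ C

/-- Frattini for a normal subgroup of `A`. -/
theorem frattini {p : ℕ} [Fact p.Prime] [Finite H] {T A N : Subgroup H} (hT : IsSylowOf p T A)
    (hNA : N ≤ A) (hn : A ≤ normalizer (N : Set H)) :
    N ⊔ (A ⊓ normalizer ((T ⊓ N : Subgroup H) : Set H)) = A := by
  apply le_antisymm (sup_le hNA inf_le_left)
  intro a ha
  have h1 := hT.inf_normal hNA hn
  have h2 : IsSylowOf p (cj a (T ⊓ N)) N := by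
    have := h1.map_equiv (MulAut.conj a)
    rwa [map_conj_eq_iff_mem_normalizer.2 (hn ha)] at this
  obtain ⟨n, hn1, hn2⟩ := h2.exists_conj h1
  have h3 : n * a ∈ normalizer ((T ⊓ N : Subgroup H) : Set H) := by
    rw [mem_norm, cj_mul]; exact hn2
  have h4 : a = n⁻¹ * (n * a) := by group
  rw [h4]
  exact mul_mem (mem_sup_left (inv_mem hn1)) (mem_sup_right ⟨A.mul_mem (hNA hn1) ha, h3⟩)

theorem exists_max {p : ℕ} {S : Sylow p H} {P : Subgroup H} (hSP : (S : Subgroup H) ≤ P)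
    (hPmin : IsPMinimal p ↥P) [Finite H] : ∃ M : Subgroup H, (S : Subgroup H) ≤ M ∧ M < P ∧
      ∀ L : Subgroup H, (S : Subgroup H) ≤ L → L < P → L ≤ M := by
  obtain ⟨T, hT⟩ := isSylowOf_iff_maximal.2
    (⟨hSP, S.2, fun R _ hR hSR => S.3 hR hSR⟩ : (S : Subgroup H) ≤ P ∧ IsPGroup p ↥(S : Subgroup H) ∧
      ∀ R : Subgroup H, R ≤ P → IsPGroup p ↥R → (S : Subgroup H) ≤ R → R = (S : Subgroup H))
  obtain ⟨h1, M, ⟨hM1, hM2⟩, hM3⟩ := hPmin T
  refine ⟨M.map P.subtype, ?_, ?_, ?_⟩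
  · rw [← hT]; exact Subgroup.map_mono hM2
  · refine lt_of_le_of_ne (Subgroup.map_subtype_le _) ?_
    intro h
    apply hM1.1
    rw [eq_top_iff]
    intro x _
    have : (x : H) ∈ M.map P.subtype := by rw [h]; exact x.2
    obtain ⟨y, hy, hyx⟩ := this
    rwa [← Subtype.ext hyx]
  · intro L hSL hLP
    have h2 : L.subgroupOf P ≠ ⊤ := by
      intro h
      exact hLP.not_ge (subgroupOf_eq_top.1 h)
    obtain ⟨M', hM', hLM'⟩ := (eq_top_or_exists_le_coatom (L.subgroupOf P)).resolve_left h2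
    have h3 : (T : Subgroup ↥P) ≤ M' := by
      refine le_trans ?_ hLM'
      intro x hx
      rw [mem_subgroupOf]
      apply hSL
      rw [← hT]
      exact ⟨x, hx, rfl⟩
    have h4 := hM3 M' ⟨hM', h3⟩
    subst h4
    have := Subgroup.map_mono (f := P.subtype) hLM'
    rwa [Subgroup.subgroupOf_map_subtype, inf_eq_left.2 hLP.le] at this

namespace PHyp

variable {S : Sylow p H} {Z C Q P : Subgroup H} [Finite H] [Fact p.Prime]

theorem sylP (h : PHyp p S Z C Q P) : IsSylowOf p (S : Subgroup H) P := Hyp.isSylowOf S h.hSP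

theorem inf_lt (h : PHyp p S Z C Q P) : P ⊓ C < P :=
  lt_of_le_of_ne inf_le_left fun h1 => h.hPC (h1 ▸ inf_le_right)

/-- a normal subgroup `N` of `P` inside `C` has `S ∩ N ≤ O_p(P)`. -/
theorem inf_le_core (h : PHyp p S Z C Q P) {N : Subgroup H} (hNP : N ≤ P) (hn : P ≤ normalizer (N : Set H))
    (hNC : N ≤ C) : (S : Subgroup H) ⊓ N ≤ pCoreOf p P := by
  obtain ⟨M, hSM, hMP, hM⟩ := exists_max h.hSP h.hPmin
  have h1 := frattini h.sylP hNP hn
  have h2 : (S : Subgroup H) ≤ normalizer (((S : Subgroup H) ⊓ N : Subgroup H) : Set H) :=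
    le_trans (le_inf le_normalizer (h.hSP.trans hn)) (norm_inf_le _ _)
  have h3 : N ≤ M := by
    refine le_trans le_sup_left (hM (N ⊔ S) le_sup_right (lt_of_le_of_lt ?_ h.inf_lt))
    exact le_inf (sup_le hNP h.hSP) (sup_le hNC h.S_le)
  have h4 : P ⊓ normalizer (((S : Subgroup H) ⊓ N : Subgroup H) : Set H) = P := by
    by_contra h5
    have h6 := hM _ (le_inf h.hSP h2) (lt_of_le_of_ne inf_le_left h5)
    exact hMP.not_ge (by rw [← h1]; exact sup_le h3 h6)
  refine H229.le_pCoreOf (inf_le_right.trans hNP) ?_ (isPGroup_mono inf_le_left S.2)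
  rw [← h4]
  exact inf_le_right

theorem D_le_S (h : PHyp p S Z C Q P) : pCoreOf p P ≤ (S : Subgroup H) := pCoreOf_le_of_isSylowOf h.sylP

theorem Z_le_core (h : PHyp p S Z C Q P) : Z ≤ pCoreOf p P := by
  refine le_trans ?_ h.hPchar
  exact h.Z_le.trans (inf_le_right.trans (Subgroup.centralizer_le h.D_le_S))

theorem pow_eq_one_of_mem_Z (h : PHyp p S Z C Q P) {z : H} (hz : z ∈ Z) : z ^ p = 1 := by
  have h0 : omegaOne p ((S : Subgroup H) ⊓ centralizer ((S : Subgroup H) : Set H)) ≤ zOmega p (S : Subgroup H) := by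
    unfold omegaOne
    rw [closure_le]
    rintro x ⟨⟨hx1, hx2⟩, hx3⟩
    exact ⟨hx1, hx2, hx3⟩
  rw [h.hZ] at hz
  exact (h0 hz).2.2

theorem Z_le_zOmega (h : PHyp p S Z C Q P) : Z ≤ zOmega p (pCoreOf p P) := by
  intro z hz
  refine ⟨h.Z_le_core hz, ?_, h.pow_eq_one_of_mem_Z hz⟩
  exact (Subgroup.centralizer_le h.D_le_S) (h.Z_le hz).2

theorem pRed_zOmega (h : PHyp p S Z C Q P) : PRed p (zOmega p (pCoreOf p P)) P := by
  refine ⟨fun x hx => H229.pCoreOf_le _ _ hx.1, ?_, ea_zOmega _ _, ?_⟩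
  · exact (le_norm_pCoreOf p P).trans (norm_le_norm_zOmega _ _)
  · intro B hBP hPB hB
    have h1 : resOf p B ≤ centralizer (zOmega p (pCoreOf p P) : Set H) := resOf_le_centralizer hB
    have hT := h.sylP.inf_normal hBP hPB
    have hBC : B ≤ C := by
      rw [← hT.resOf_sup]
      refine sup_le ?_ (inf_le_left.trans h.S_le)
      exact h1.trans ((Subgroup.centralizer_le h.Z_le_zOmega).trans h.cent_Z_le)
    have h2 := h.inf_le_core hBP hPB hBC
    rw [← hT.resOf_sup]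
    refine sup_le h1 (h2.trans ?_)
    intro x hx
    rw [mem_centralizer_iff]
    intro y hy
    exact ((mem_centralizer_iff.1 hy.2.1) x hx).symm

/-- `Y_P = Ω₁(Z(O_p(P)))`. -/
theorem Y_eq (h : PHyp p S Z C Q P) : largestPReducedOf p P = zOmega p (pCoreOf p P) :=
  le_antisymm (largest_le_zOmega p P) (le_largest h.pRed_zOmega)

theorem Z_le_Y (h : PHyp p S Z C Q P) : Z ≤ largestPReducedOf p P := by
  rw [h.Y_eq]; exact h.Z_le_zOmega

theorem cent_Y_le (h : PHyp p S Z C Q P) : centralizer (largestPReducedOf p P : Set H) ≤ C :=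
  (Subgroup.centralizer_le h.Z_le_Y).trans h.cent_Z_le

/-- `C_S(Y_P) = O_p(P)`. -/
theorem inf_cent_Y (h : PHyp p S Z C Q P) :
    (S : Subgroup H) ⊓ centralizer (largestPReducedOf p P : Set H) = pCoreOf p P := by
  apply le_antisymm
  · have h1 : P ≤ normalizer ((P ⊓ centralizer (largestPReducedOf p P : Set H) : Subgroup H) : Set H) :=
      le_trans (le_inf le_normalizer ((largest_normal p P).trans (norm_le_norm_centralizer _))) (norm_inf_le _ _)
    have h2 := h.inf_le_core inf_le_left h1 (inf_le_right.trans h.cent_Y_le)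
    exact le_trans (le_inf inf_le_left (le_inf (inf_le_left.trans h.hSP) inf_le_right)) h2
  · exact le_inf h.D_le_S (pCoreOf_le_centralizer_largest p P)

/-- `Y_P ≤ Y_M`. -/
theorem Y_le_Y (h : PHyp p S Z C Q P) {M : Subgroup H} (hPM : P ≤ M)
    (hM : centralizer (pCoreOf p M : Set H) ≤ pCoreOf p M) :
    largestPReducedOf p P ≤ largestPReducedOf p M := by
  have hSM : IsSylowOf p (S : Subgroup H) M := Hyp.isSylowOf S (h.hSP.trans hPM)
  have h1 : pCoreOf p M ≤ (S : Subgroup H) := pCoreOf_le_of_isSylowOf hSM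
  have h2 : pCoreOf p M ≤ pCoreOf p P := by
    have := pCoreOf_inf_le (p := p) hPM
    rwa [inf_eq_left.2 (h1.trans h.hSP)] at this
  have hYz : largestPReducedOf p P ≤ zOmega p (pCoreOf p M) := by
    rw [h.Y_eq]
    intro x hx
    have hx1 : x ∈ centralizer (pCoreOf p M : Set H) := (Subgroup.centralizer_le h2) hx.2.1
    exact ⟨hM hx1, hx1, hx.2.2⟩
  have hMn : M ≤ normalizer (zOmega p (pCoreOf p M) : Set H) :=
    (le_norm_pCoreOf p M).trans (norm_le_norm_zOmega _ _)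
  have hW : ncl M (largestPReducedOf p P) ≤ zOmega p (pCoreOf p M) := ncl_le hMn hYz
  refine (le_ncl M _).trans (le_largest ⟨?_, le_norm_ncl _ _, ea_mono (ea_zOmega _ _) hW, ?_⟩)
  · exact hW.trans fun x hx => H229.pCoreOf_le _ _ hx.1
  · intro B hBM hMB hB
    -- `B ∩ P` centralizes `Y_P`
    have h3 : B ⊓ P ≤ centralizer (largestPReducedOf p P : Set H) := by
      refine (pRed_largest p P).2.2.2 _ inf_le_right ?_ ?_
      · exact le_trans (le_inf (hPM.trans hMB) le_normalizer) (norm_inf_le _ _)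
      · intro b hb
        obtain ⟨k, hk⟩ := hB b hb.1
        exact ⟨k, (Subgroup.centralizer_le (le_ncl M _)) hk⟩
    have hT := hSM.inf_normal hBM hMB
    have h4 : B ≤ centralizer (largestPReducedOf p P : Set H) := by
      refine le_centralizer_of_sylow (le_ncl M _) hB hT ?_
      exact le_trans (le_inf inf_le_right (inf_le_left.trans h.hSP)) h3
    apply le_centralizer_comm
    rw [ncl_le_iff]
    intro m hm
    have h5 : largestPReducedOf p P ≤ centralizer (B : Set H) := le_centralizer_comm h4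
    have h6 := cj_mono (g := m) h5
    rwa [cj_centralizer, mem_norm.1 (hMB hm)] at h6

/-- `Y_P ≤ Q`. -/
theorem Y_le_Q (h : PHyp p S Z C Q P)
    (hYM : ∀ M : Subgroup H, P ≤ M → centralizer (pCoreOf p M : Set H) ≤ pCoreOf p M →
      (∀ M' : Subgroup H, M ≤ M' → centralizer (pCoreOf p M' : Set H) ≤ pCoreOf p M' → M' = M) →
      largestPReducedOf p M ≤ Q) : largestPReducedOf p P ≤ Q := by
  let s : Set (Subgroup H) := {M | P ≤ M ∧ centralizer (pCoreOf p M : Set H) ≤ pCoreOf p M}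
  obtain ⟨M, hPM, hM⟩ := (Set.toFinite s).exists_le_maximal (show P ∈ s from ⟨le_rfl, h.hPchar⟩)
  refine (h.Y_le_Y hPM hM.prop.2).trans (hYM M hPM hM.prop.2 ?_)
  intro M' hMM' hM'
  exact le_antisymm (hM.2 ⟨hPM.trans hMM', hM'⟩ hMM') hMM'

/-- `Q ≰ O_p(P)`. -/
theorem not_Q_le (h : PHyp p S Z C Q P) : ¬ Q ≤ pCoreOf p P := by
  intro h1
  apply h.hPC
  intro g hg
  apply h.mem_C_of_cj_le_S
  refine le_trans ?_ h.D_le_S
  exact (cj_mono h1).trans (cj_le_of_norm ((le_norm_pCoreOf p P) hg))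

theorem Q_le_P (h : PHyp p S Z C Q P) : Q ≤ P := h.Q_le_S.trans h.hSP

/-- `[C_P(V), Q] ≤ O_p(P)`. -/
theorem comm_cent_Y_Q (h : PHyp p S Z C Q P) :
    ⁅P ⊓ centralizer (largestPReducedOf p P : Set H), Q⁆ ≤ pCoreOf p P := by
  rw [← h.inf_cent_Y]
  have h1 : P ⊓ centralizer (largestPReducedOf p P : Set H) ≤ normalizer (Q : Set H) := by
    rw [h.C_eq]; exact inf_le_right.trans h.cent_Y_le
  refine le_inf ?_ ?_
  · exact (le_norm_iff_comm_le.1 h1).trans h.Q_le_S
  · have h2 : Q ≤ normalizer (centralizer (largestPReducedOf p P : Set H) : Set H) :=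
      h.Q_le_P.trans ((largest_normal p P).trans (norm_le_norm_centralizer _))
    rw [commutator_comm]
    exact (Subgroup.commutator_mono le_rfl inf_le_right).trans (le_norm_iff_comm_le.1 h2)

/-- a normal subgroup `N` of `P` with `S ∩ N ≰ O_p(P)` supplements `S`. -/
theorem sup_eq (h : PHyp p S Z C Q P) {N : Subgroup H} (hNP : N ≤ P) (hn : P ≤ normalizer (N : Set H))
    (hN : ¬ (S : Subgroup H) ⊓ N ≤ pCoreOf p P) : N ⊔ (S : Subgroup H) = P := by
  by_contra hne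
  obtain ⟨M, hSM, hMP, hM⟩ := exists_max h.hSP h.hPmin
  have h1 := frattini h.sylP hNP hn
  have h2 : (S : Subgroup H) ≤ normalizer (((S : Subgroup H) ⊓ N : Subgroup H) : Set H) :=
    le_trans (le_inf le_normalizer (h.hSP.trans hn)) (norm_inf_le _ _)
  have h3 : N ≤ M := le_trans le_sup_left
    (hM (N ⊔ S) le_sup_right (lt_of_le_of_ne (sup_le hNP h.hSP) hne))
  have h4 : P ⊓ normalizer (((S : Subgroup H) ⊓ N : Subgroup H) : Set H) = P := by
    by_contra h5
    have h6 := hM _ (le_inf h.hSP h2) (lt_of_le_of_ne inf_le_left h5)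
    exact hMP.not_ge (by rw [← h1]; exact sup_le h3 h6)
  apply hN
  refine H229.le_pCoreOf (inf_le_right.trans hNP) ?_ (isPGroup_mono inf_le_left S.2)
  rw [← h4]
  exact inf_le_right

/-- `P = ⟨Q^P⟩ S`. -/
theorem ncl_Q_sup (h : PHyp p S Z C Q P) : ncl P Q ⊔ (S : Subgroup H) = P := by
  apply h.sup_eq (ncl_le_self h.Q_le_P) (le_norm_ncl P Q)
  intro h1
  exact h.not_Q_le (le_trans (le_inf h.Q_le_S (le_ncl P Q)) h1)

/-- a subgroup `A ≠ 1` of `V` centralised by `S` has `N_H(A) ≤ C`. -/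
theorem norm_le_of_cent_S (h : PHyp p S Z C Q P) {A : Subgroup H} (hA : A ≤ centralizer ((S : Subgroup H) : Set H))
    (hA1 : A ≠ ⊥) : normalizer (A : Set H) ≤ C :=
  h.norm_le (hA.trans (Subgroup.centralizer_le h.Q_le_S)) hA1

/-- a nontrivial `p`-subgroup normal in `P` meets `C_H(S)` nontrivially. -/
theorem inf_cent_S_ne_bot (h : PHyp p S Z C Q P) {A : Subgroup H} (hA : IsPGroup p ↥A) (hA1 : A ≠ ⊥)
    (hn : (S : Subgroup H) ≤ normalizer (A : Set H)) : A ⊓ centralizer ((S : Subgroup H) : Set H) ≠ ⊥ :=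
  PLocal.OffenderStep.inf_centralizer_ne_bot A S hA S.2 hn hA1

/-- no nontrivial `p`-subgroup of `H` is centralised by `O^p(P)` and normalised by `P`. -/
theorem eq_bot_of_cent_res (h : PHyp p S Z C Q P) {A : Subgroup H} (hA : IsPGroup p ↥A)
    (hn : (S : Subgroup H) ≤ normalizer (A : Set H)) (hc : A ≤ centralizer (resOf p P : Set H)) : A = ⊥ := by
  by_contra hA1
  apply h.hPC
  have h1 := h.inf_cent_S_ne_bot hA hA1 hn
  refine le_trans ?_ (h.norm_le_of_cent_S inf_le_right h1)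
  refine le_trans ?_ (centralizer_le_norm _)
  rw [← h.sylP.resOf_sup]
  refine sup_le ?_ ?_
  · exact le_centralizer_comm (inf_le_left.trans hc)
  · exact le_centralizer_comm inf_le_right

/-- `C_V(O^p(P)) = 1`. -/
theorem inf_cent_res (h : PHyp p S Z C Q P) :
    largestPReducedOf p P ⊓ centralizer (resOf p P : Set H) = ⊥ := by
  apply h.eq_bot_of_cent_res (isPGroup_mono inf_le_left (ea_isPGroup (largest_ea p P))) _ inf_le_right
  refine le_trans ?_ (norm_inf_le _ _)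
  exact le_inf (h.hSP.trans (largest_normal p P))
    (h.hSP.trans ((le_normalizer_resOf p P).trans (norm_le_norm_centralizer _)))

end PHyp

end Cfsg.Agent.H247.P1
end

-- part: H250/P1/Defs
section
set_option linter.all false

/-!
# The `P!`-theorem (S3046), Case A (`W = ⟨Y_P^C⟩` is not abelian): the interface

`AStr`: the structure of `P` and of `V = Y_P` when some `V^c`, `c ∈ C`, does not commute with `V`. `cj x K = x K x⁻¹`.
-/

set_option autoImplicit false
set_option linter.unusedSectionVars false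

open Cfsg Subgroup
open Cfsg.Agent.H230 Cfsg.Agent.H229 Cfsg.Agent.H247.P1

namespace Cfsg.Agent.H250.P1

variable {H : Type*} [Group H] {p : ℕ}

/-- `E` acts on `W` as `SL₂(F)` on the natural module; `S ∩ E` is the group of the upper unitriangular matrices. -/
def NatW (F : Type) [Field F] (S E W : Subgroup H) : Prop :=
  ∃ (ρ : ↥E →* Matrix.SpecialLinearGroup (Fin 2) F) (ψ : Additive ↥W ≃+ (Fin 2 → F)),
    Function.Surjective ρ ∧
    (∀ (x : ↥E) (v : ↥W), ∃ w : ↥W, (w : H) = (x : H) * (v : H) * (x : H)⁻¹ ∧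
      ψ (Additive.ofMul w) = ((ρ x : Matrix.SpecialLinearGroup (Fin 2) F) : Matrix (Fin 2) (Fin 2) F).mulVec
        (ψ (Additive.ofMul v))) ∧
    (∀ x : ↥E, (x : H) ∈ S → ∃ a : F, ((ρ x : Matrix.SpecialLinearGroup (Fin 2) F) : Matrix (Fin 2) (Fin 2) F) =
      !![1, a; 0, 1]) ∧
    ∀ a : F, ∃ x : ↥E, (x : H) ∈ S ∧
      ((ρ x : Matrix.SpecialLinearGroup (Fin 2) F) : Matrix (Fin 2) (Fin 2) F) = !![1, a; 0, 1]

/-- **the structure in Case A**. `V = Y_P`, `D = O_p(P)`, `E i ≥ C_P(V)`, `J = E_1 ⋯ E_r ⊴ P`, `P = J S`, `V = W_1 × ⋯ × W_r`,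
`R = C_V(S ∩ J)`; `Q` permutes the `E i` transitively. -/
structure AStr (p : ℕ) (S : Sylow p H) (Z C Q P V D J R : Subgroup H) {r : ℕ} (E W : Fin r → Subgroup H)
    (F : Type) [Field F] [Fintype F] : Prop where
  hyp : PHyp p S Z C Q P
  V_eq : V = largestPReducedOf p P
  D_eq : D = pCoreOf p P
  VQ : V ≤ Q
  pos : 0 < r
  cardF : ∃ n : ℕ, 1 ≤ n ∧ Fintype.card F = p ^ n
  E_le : ∀ i, E i ≤ P
  le_E : ∀ i, P ⊓ centralizer (V : Set H) ≤ E i
  comm : ∀ i j, i ≠ j → ⁅E i, E j⁆ ≤ centralizer (V : Set H)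
  J_eq : J = ⨆ i, E i
  J_norm : P ≤ normalizer (J : Set H)
  J_sup : J ⊔ (S : Subgroup H) = P
  perm : ∀ x ∈ P, ∀ i, ∃ j, cj x (E i) = E j
  permW : ∀ x ∈ P, ∀ i j, cj x (E i) = E j → cj x (W i) = W j
  trans : ∀ i j, ∃ x ∈ Q, cj x (E i) = E j
  inj : ∀ i j, E i = E j → i = j
  W_le : ∀ i, W i ≤ V
  W_sup : ⨆ i, W i = V
  W_ind : ∀ i, W i ⊓ (⨆ j ∈ {j | j ≠ i}, W j) = ⊥
  fix : ∀ i j, i ≠ j → W i ≤ centralizer (E j : Set H)
  nat : ∀ i, NatW F (S : Subgroup H) (E i) (W i)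
  R_eq : R = V ⊓ centralizer (((S : Subgroup H) ⊓ J : Subgroup H) : Set H)
  adj : ∀ c ∈ C, ⁅V, cj c V⁆ ≠ ⊥ →
    cj c V ⊔ D = (S : Subgroup H) ⊓ J ∧ ⁅V, cj c V⁆ = R ∧ V ⊓ cj c V = R ∧ cj c R = R
  ex : ∃ c ∈ C, ⁅V, cj c V⁆ ≠ ⊥

end Cfsg.Agent.H250.P1
end

-- part: H250/P1/Alpha
section
set_option linter.all false
open scoped Cfsg.Agent.FastGrp

-- part: H250/P1/Pt
section
/-!
# The `P!`-theorem (S3046), Case A: the module form of the point condition

`X = P / C_P(V)` acts on `V = Y_P`, `T`, `Q`, `A` are the images of `S`, `Q`, `V^c`.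
-/

set_option autoImplicit false
set_option linter.unusedSectionVars false

namespace Cfsg.Agent.H250.P1

open Subgroup Cfsg.Agent.H250.FFFam Cfsg.Agent.H250.FFStr

universe u

/-- the module form of the hypotheses in Case A -/
structure Pt (p : ℕ) (X V : Type u) [Group X] [Group V] [MulDistribMulAction X V] (T Q A : Subgroup X) {k : ℕ}
    (E : Fin k → Subgroup X) : Prop where
  hV : ∀ v w : V, v * w = w * v
  hVp : ∀ v : V, v ^ p = 1
  hf : ∀ x : X, (∀ v : V, x • v = v) → x = 1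
  hT : IsPGroup p ↥T
  hTi : ¬ p ∣ T.index
  str : Str p X V T E
  fx_bot : fx V (⨆ i, E i) = ⊥
  QT : Q ≤ T
  TQ : T ≤ normalizer (Q : Set X)
  Qn : ¬ Q.Normal
  pt : ∀ v : V, v ≠ 1 → (∀ q ∈ Q, q • v = v) → ∀ x : X, x • v = v → x ∈ normalizer (Q : Set X)
  AQ : A ≤ Q
  A_ne : A ≠ ⊥
  QA : Q ≤ normalizer (A : Set X)
  off : Off p X V A

end Cfsg.Agent.H250.P1
end

-- part: H250/P1/Act
section
/-!
# The `P!`-theorem (S3046), Case A: the action of `P` on `V ⊴ P`

`XX P V = P / C_P(V) ≤ Aut(V)`, `im K` = image of `K ∩ P`, `pre L` = preimage of `L`.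
-/

set_option autoImplicit false
set_option linter.unusedSectionVars false

open Cfsg Subgroup
open Cfsg.Agent.H230 Cfsg.Agent.H229 Cfsg.Agent.H247.P1
open Cfsg.Agent.H250.FFFam Cfsg.Agent.H250.FFStr
open scoped commutatorElement

namespace Cfsg.Agent.H250.P1

universe u

variable {H : Type u} [Group H]

/-- the action of `P` on `V` -/
noncomputable def act {P V : Subgroup H} (hn : P ≤ normalizer (V : Set H)) : ↥P →* MulAut ↥V :=
  V.normalizerMonoidHom.comp (inclusion hn)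

/-- `P / C_P(V)` -/
noncomputable abbrev XX {P V : Subgroup H} (hn : P ≤ normalizer (V : Set H)) : Subgroup (MulAut ↥V) := (act hn).range

/-- the projection -/
noncomputable def pr {P V : Subgroup H} (hn : P ≤ normalizer (V : Set H)) : ↥P →* ↥(XX hn) := (act hn).rangeRestrict

/-- images -/
noncomputable def im {P V : Subgroup H} (hn : P ≤ normalizer (V : Set H)) (K : Subgroup H) : Subgroup ↥(XX hn) :=
  (K.subgroupOf P).map (pr hn)

/-- preimages -/
noncomputable def pre {P V : Subgroup H} (hn : P ≤ normalizer (V : Set H)) (L : Subgroup ↥(XX hn)) : Subgroup H :=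
  (L.comap (pr hn)).map P.subtype

section

variable {P V : Subgroup H} (hn : P ≤ normalizer (V : Set H))

theorem pr_surj : Function.Surjective (pr hn) := (act hn).rangeRestrict_surjective

theorem smul_pr (g : ↥P) (v : ↥V) : ((pr hn g • v : ↥V) : H) = (g : H) * v * (g : H)⁻¹ := rfl

theorem smul_eq_iff (g : ↥P) (v : ↥V) : pr hn g • v = v ↔ (g : H) * v = v * g := by
  rw [← Subtype.coe_inj, smul_pr, mul_inv_eq_iff_eq_mul]

theorem pr_eq_one {g : ↥P} : pr hn g = 1 ↔ (g : H) ∈ centralizer (V : Set H) := by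
  rw [mem_centralizer_iff]
  constructor
  · intro h v hv
    have h1 : pr hn g • (⟨v, hv⟩ : ↥V) = ⟨v, hv⟩ := by rw [h, one_smul]
    exact ((smul_eq_iff hn g _).1 h1).symm
  · intro h
    apply Subtype.ext
    ext v
    change ((pr hn g • v : ↥V) : H) = v
    rw [smul_pr, ← h v v.2, mul_inv_cancel_right]

theorem faith (x : ↥(XX hn)) (hx : ∀ v : ↥V, x • v = v) : x = 1 := by
  apply Subtype.ext
  ext v
  exact congrArg Subtype.val (hx v)

theorem mem_im {K : Subgroup H} {x : ↥(XX hn)} : x ∈ im hn K ↔ ∃ (g : H) (hg : g ∈ P), g ∈ K ∧ pr hn ⟨g, hg⟩ = x := by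
  constructor
  · rintro ⟨g, hg, rfl⟩
    exact ⟨g, g.2, hg, rfl⟩
  · rintro ⟨g, hg, hgK, rfl⟩
    exact ⟨⟨g, hg⟩, hgK, rfl⟩

theorem mem_pre {L : Subgroup ↥(XX hn)} {g : H} : g ∈ pre hn L ↔ ∃ hg : g ∈ P, pr hn ⟨g, hg⟩ ∈ L := by
  constructor
  · rintro ⟨g, hg, rfl⟩
    exact ⟨g.2, hg⟩
  · rintro ⟨hg, hgL⟩
    exact ⟨⟨g, hg⟩, hgL, rfl⟩

theorem im_mono {K K' : Subgroup H} (h : K ≤ K') : im hn K ≤ im hn K' := by
  intro x hx
  obtain ⟨g, hg, hgK, rfl⟩ := (mem_im hn).1 hx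
  exact (mem_im hn).2 ⟨g, hg, h hgK, rfl⟩

theorem pre_mono {L L' : Subgroup ↥(XX hn)} (h : L ≤ L') : pre hn L ≤ pre hn L' := by
  intro x hx
  obtain ⟨hg, hgL⟩ := (mem_pre hn).1 hx
  exact (mem_pre hn).2 ⟨hg, h hgL⟩

theorem pre_le (L : Subgroup ↥(XX hn)) : pre hn L ≤ P := fun _ hx => ((mem_pre hn).1 hx).1

theorem le_pre (L : Subgroup ↥(XX hn)) : P ⊓ centralizer (V : Set H) ≤ pre hn L := by
  rintro x ⟨hx, hx'⟩
  refine (mem_pre hn).2 ⟨hx, ?_⟩
  rw [(pr_eq_one hn (g := ⟨x, hx⟩)).2 hx']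
  exact one_mem _

theorem im_pre (L : Subgroup ↥(XX hn)) : im hn (pre hn L) = L := by
  ext x
  constructor
  · intro hx
    obtain ⟨g, hg, hgK, rfl⟩ := (mem_im hn).1 hx
    exact ((mem_pre hn).1 hgK).2
  · intro hx
    obtain ⟨g, rfl⟩ := pr_surj hn x
    exact (mem_im hn).2 ⟨g, g.2, (mem_pre hn).2 ⟨g.2, hx⟩, rfl⟩

theorem le_pre_im {K : Subgroup H} (hK : K ≤ P) : K ≤ pre hn (im hn K) := fun x hx =>
  (mem_pre hn).2 ⟨hK hx, (mem_im hn).2 ⟨x, hK hx, hx, rfl⟩⟩

theorem pre_im {K : Subgroup H} (hK : K ≤ P) : pre hn (im hn K) = K ⊔ (P ⊓ centralizer (V : Set H)) := by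
  apply le_antisymm
  · intro x hx
    obtain ⟨hg, hgL⟩ := (mem_pre hn).1 hx
    obtain ⟨g, hg', hgK, h⟩ := (mem_im hn).1 hgL
    have h1 : pr hn (⟨g, hg'⟩⁻¹ * ⟨x, hg⟩) = 1 := by rw [map_mul, map_inv, h, inv_mul_cancel]
    rw [pr_eq_one] at h1
    have h2 : x = g * (g⁻¹ * x) := by group
    rw [h2]
    exact mul_mem (mem_sup_left hgK) (mem_sup_right ⟨P.mul_mem (P.inv_mem hg') hg, h1⟩)
  · exact sup_le (le_pre_im hn hK) (le_pre hn _)

theorem pre_im_of_le {K : Subgroup H} (hK : K ≤ P) (hC : P ⊓ centralizer (V : Set H) ≤ K) : pre hn (im hn K) = K := by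
  rw [pre_im hn hK, sup_eq_left.2 hC]

theorem im_le_iff {K : Subgroup H} (hK : K ≤ P) {L : Subgroup ↥(XX hn)} : im hn K ≤ L ↔ K ≤ pre hn L :=
  ⟨fun h => (le_pre_im hn hK).trans (pre_mono hn h), fun h => by rw [← im_pre hn L]; exact im_mono hn h⟩

theorem pre_top : pre hn ⊤ = P := by
  apply le_antisymm (pre_le hn _)
  intro x hx
  exact (mem_pre hn).2 ⟨hx, mem_top _⟩

theorem im_P : im hn P = ⊤ := by rw [← im_pre hn ⊤, pre_top]

theorem im_iSup {ι : Sort*} (K : ι → Subgroup H) (hK : ∀ i, K i ≤ P) : im hn (⨆ i, K i) = ⨆ i, im hn (K i) := by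
  apply le_antisymm
  · rw [im_le_iff hn (iSup_le hK)]
    exact iSup_le fun i => (im_le_iff hn (hK i)).1 (le_iSup (fun i => im hn (K i)) i)
  · exact iSup_le fun i => im_mono hn (le_iSup K i)

theorem im_sup {K K' : Subgroup H} (hK : K ≤ P) (hK' : K' ≤ P) : im hn (K ⊔ K') = im hn K ⊔ im hn K' := by
  apply le_antisymm
  · rw [im_le_iff hn (sup_le hK hK')]
    exact sup_le ((im_le_iff hn hK).1 le_sup_left) ((im_le_iff hn hK').1 le_sup_right)
  · exact sup_le (im_mono hn le_sup_left) (im_mono hn le_sup_right)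

theorem pre_iSup {ι : Type*} [Nonempty ι] (L : ι → Subgroup ↥(XX hn)) : pre hn (⨆ i, L i) = ⨆ i, pre hn (L i) := by
  have h1 : P ⊓ centralizer (V : Set H) ≤ ⨆ i, pre hn (L i) :=
    (le_pre hn (L (Classical.arbitrary ι))).trans (le_iSup (fun i => pre hn (L i)) _)
  have h2 : (⨆ i, pre hn (L i)) ≤ P := iSup_le fun i => pre_le hn _
  rw [← pre_im_of_le hn h2 h1, im_iSup hn _ (fun i => pre_le hn _)]
  congr 1
  exact iSup_congr fun i => (im_pre hn _).symm

theorem mem_fx_im {K : Subgroup H} (hK : K ≤ P) {v : ↥V} : v ∈ fx ↥V (im hn K) ↔ (v : H) ∈ centralizer (K : Set H) := by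
  rw [mem_fx, mem_centralizer_iff]
  constructor
  · intro h x hx
    exact (smul_eq_iff hn ⟨x, hK hx⟩ v).1 (h _ ((mem_im hn).2 ⟨x, hK hx, hx, rfl⟩))
  · intro h x hx
    obtain ⟨g, hg, hgK, rfl⟩ := (mem_im hn).1 hx
    exact (smul_eq_iff hn ⟨g, hg⟩ v).2 (h g hgK)

theorem mem_fx_pre (L : Subgroup ↥(XX hn)) {v : ↥V} :
    v ∈ fx ↥V L ↔ (v : H) ∈ centralizer ((pre hn L : Subgroup H) : Set H) := by
  rw [← mem_fx_im hn (pre_le hn L), im_pre]

theorem map_fx_im {K : Subgroup H} (hK : K ≤ P) :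
    (fx ↥V (im hn K)).map V.subtype = V ⊓ centralizer (K : Set H) := by
  ext g
  constructor
  · rintro ⟨v, hv, rfl⟩
    exact ⟨v.2, (mem_fx_im hn hK).1 hv⟩
  · rintro ⟨h1, h2⟩
    exact ⟨⟨g, h1⟩, (mem_fx_im hn hK).2 h2, rfl⟩

theorem card_fx_im {K : Subgroup H} (hK : K ≤ P) :
    Nat.card (fx ↥V (im hn K)) = Nat.card ↥(V ⊓ centralizer (K : Set H)) := by
  rw [← map_fx_im hn hK]
  exact Nat.card_congr ((fx ↥V (im hn K)).equivMapOfInjective _ V.subtype_injective).toEquiv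

/-- `[V, E]` -/
theorem map_cm (L : Subgroup ↥(XX hn)) : (cm ↥V L).map V.subtype = ⁅V, pre hn L⁆ := by
  rw [commutator_comm]
  apply le_antisymm
  · unfold cm
    rw [MonoidHom.map_closure, closure_le]
    rintro _ ⟨_, ⟨x, hx, w, rfl⟩, rfl⟩
    obtain ⟨g, rfl⟩ := pr_surj hn x
    have h : ⁅(g : H), (w : H)⁆ ∈ ⁅pre hn L, V⁆ := commutator_mem_commutator ((mem_pre hn).2 ⟨g.2, hx⟩) w.2
    exact h
  · rw [commutator_le]
    intro g hg w hw
    obtain ⟨hg, hgL⟩ := (mem_pre hn).1 hg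
    exact ⟨_, mem_cm (V := ↥V) (x := pr hn ⟨g, hg⟩) hgL ⟨w, hw⟩, rfl⟩

theorem map_cm_im {K : Subgroup H} (hK : K ≤ P) : (cm ↥V (im hn K)).map V.subtype = ⁅V, K⁆ := by
  apply le_antisymm
  · unfold cm
    rw [MonoidHom.map_closure, closure_le]
    rintro _ ⟨_, ⟨x, hx, w, rfl⟩, rfl⟩
    obtain ⟨g, hg, hgK, rfl⟩ := (mem_im hn).1 hx
    rw [commutator_comm]
    have h : ⁅(g : H), (w : H)⁆ ∈ ⁅K, V⁆ := commutator_mem_commutator hgK w.2
    exact h
  · rw [map_cm]
    exact commutator_mono le_rfl (le_pre_im hn hK)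

theorem conj_pre {x : H} (hx : x ∈ P) (L : Subgroup ↥(XX hn)) :
    cj x (pre hn L) = pre hn (L.map (MulAut.conj (pr hn ⟨x, hx⟩)).toMonoidHom) := by
  ext g
  rw [mem_cj]
  constructor
  · intro h
    obtain ⟨hg, hgL⟩ := (mem_pre hn).1 h
    have hg' : g ∈ P := by
      have := P.mul_mem (P.mul_mem hx hg) (P.inv_mem hx)
      rwa [show x * (x⁻¹ * g * x) * x⁻¹ = g by group] at this
    refine (mem_pre hn).2 ⟨hg', _, hgL, ?_⟩
    change pr hn ⟨x, hx⟩ * pr hn ⟨x⁻¹ * g * x, hg⟩ * (pr hn ⟨x, hx⟩)⁻¹ = _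
    rw [← map_mul, ← map_inv, ← map_mul]
    congr 1
    apply Subtype.ext
    change x * (x⁻¹ * g * x) * x⁻¹ = g
    group
  · intro h
    obtain ⟨hg, y, hyL, hy⟩ := (mem_pre hn).1 h
    have hg' : x⁻¹ * g * x ∈ P := P.mul_mem (P.mul_mem (P.inv_mem hx) hg) hx
    refine (mem_pre hn).2 ⟨hg', ?_⟩
    have e : pr hn ⟨x⁻¹ * g * x, hg'⟩ = (pr hn ⟨x, hx⟩)⁻¹ * pr hn ⟨g, hg⟩ * pr hn ⟨x, hx⟩ := by
      rw [← map_inv, ← map_mul, ← map_mul]; rfl
    rw [e, ← hy]
    change (pr hn ⟨x, hx⟩)⁻¹ * (pr hn ⟨x, hx⟩ * y * (pr hn ⟨x, hx⟩)⁻¹) * pr hn ⟨x, hx⟩ ∈ L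
    rw [show (pr hn ⟨x, hx⟩)⁻¹ * (pr hn ⟨x, hx⟩ * y * (pr hn ⟨x, hx⟩)⁻¹) * pr hn ⟨x, hx⟩ = y by group]
    exact hyL

theorem norm_im {x : H} (hx : x ∈ P) {K : Subgroup H} (h : x ∈ normalizer (K : Set H)) :
    pr hn ⟨x, hx⟩ ∈ normalizer ((im hn K : Subgroup ↥(XX hn)) : Set ↥(XX hn)) := by
  have key : ∀ (x : H) (hx : x ∈ P), x ∈ normalizer (K : Set H) → ∀ y ∈ im hn K,
      pr hn ⟨x, hx⟩ * y * (pr hn ⟨x, hx⟩)⁻¹ ∈ im hn K := by
    intro x hx h y hy
    obtain ⟨g, hg, hgK, rfl⟩ := (mem_im hn).1 hy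
    rw [← map_mul, ← map_inv, ← map_mul]
    exact (mem_im hn).2 ⟨x * g * x⁻¹, P.mul_mem (P.mul_mem hx hg) (P.inv_mem hx), (mem_normalizer_iff.1 h g).1 hgK, rfl⟩
  rw [mem_normalizer_iff]
  intro y
  constructor
  · exact key x hx h y
  · intro hy
    have h1 := key x⁻¹ (P.inv_mem hx) (inv_mem h) _ hy
    have e : pr hn ⟨x⁻¹, P.inv_mem hx⟩ = (pr hn ⟨x, hx⟩)⁻¹ := by rw [← map_inv]; rfl
    rw [e] at h1
    rwa [show (pr hn ⟨x, hx⟩)⁻¹ * (pr hn ⟨x, hx⟩ * y * (pr hn ⟨x, hx⟩)⁻¹) * (pr hn ⟨x, hx⟩)⁻¹⁻¹ = y by group] at h1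

theorem pre_normal {L : Subgroup ↥(XX hn)} (hL : L.Normal) : P ≤ normalizer ((pre hn L : Subgroup H) : Set H) := by
  intro x hx
  rw [mem_norm, conj_pre hn hx]
  congr 1
  apply map_conj_eq_iff_mem_normalizer.2
  rw [normalizer_eq_top_iff.2 hL]
  exact mem_top _

theorem im_eq_bot {K : Subgroup H} (hK : K ≤ P) : im hn K = ⊥ ↔ ⁅V, K⁆ = ⊥ := by
  rw [eq_bot_iff, im_le_iff hn hK]
  have h1 : pre hn ⊥ = P ⊓ centralizer (V : Set H) := by
    ext x
    rw [mem_pre, mem_inf]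
    constructor
    · rintro ⟨h, h'⟩
      exact ⟨h, (pr_eq_one hn).1 (mem_bot.1 h')⟩
    · rintro ⟨h, h'⟩
      exact ⟨h, mem_bot.2 ((pr_eq_one hn).2 h')⟩
  rw [h1, commutator_comm, commutator_eq_bot_iff_le_centralizer]
  constructor
  · exact fun h => h.trans inf_le_right
  · exact fun h => le_inf hK h

variable [Finite H]

theorem card_im_mul {A : Subgroup H} (hA : A ≤ P) :
    Nat.card (im hn A) * Nat.card ↥(A ⊓ centralizer (V : Set H)) = Nat.card A := by
  have h1 := relIndex_ker (A.subgroupOf P) (pr hn)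
  have h0 : Nat.card (A.subgroupOf P) = Nat.card A := Nat.card_congr (subgroupOfEquivOfLe hA).toEquiv
  have h2 := card_mul_index ((pr hn).ker.subgroupOf (A.subgroupOf P))
  have h3 : Nat.card ((pr hn).ker.subgroupOf (A.subgroupOf P)) = Nat.card ↥(A ⊓ centralizer (V : Set H)) := by
    have e1 := (Nat.card_congr (((pr hn).ker.subgroupOf (A.subgroupOf P)).equivMapOfInjective _
      (A.subgroupOf P).subtype_injective).toEquiv)
    rw [subgroupOf_map_subtype] at e1
    have e2 := (Nat.card_congr ((((pr hn).ker ⊓ A.subgroupOf P)).equivMapOfInjective _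
      P.subtype_injective).toEquiv)
    rw [e1, e2]
    congr 2
    ext x
    constructor
    · rintro ⟨y, ⟨hy1, hy2⟩, rfl⟩
      exact ⟨hy2, (pr_eq_one hn).1 hy1⟩
    · rintro ⟨h1, h2⟩
      exact ⟨⟨x, hA h1⟩, ⟨(pr_eq_one hn).2 h2, h1⟩, rfl⟩
  rw [h0, h3] at h2
  unfold im
  rw [← h1, mul_comm]
  exact h2

end

end Cfsg.Agent.H250.P1
end

-- part: H250/P1/Off
section
/-!
# The `P!`-theorem (S3046), Case A: the offender `V^c` and the structure of `P / C_P(V)`
-/

set_option autoImplicit false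
set_option linter.unusedSectionVars false

open Cfsg Subgroup
open Cfsg.Agent.H230 Cfsg.Agent.H229 Cfsg.Agent.H247.P1
open Cfsg.Agent.H250.FFFam Cfsg.Agent.H250.FFStr
open scoped commutatorElement

namespace Cfsg.Agent.H250.P1

universe u

variable {H : Type u} [Group H] {p : ℕ}

/-- `Y_P` -/
abbrev YY (p : ℕ) (P : Subgroup H) : Subgroup H := largestPReducedOf p P

/-- `P ≤ N(Y_P)` -/
theorem hY (p : ℕ) (P : Subgroup H) : P ≤ normalizer (YY p P : Set H) := largest_normal p P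

variable {S : Sylow p H} {Z C Q P : Subgroup H} [Finite H] [Fact p.Prime] (h : PHyp p S Z C Q P)

theorem YY_comm (v w : ↥(YY p P)) : v * w = w * v := Subtype.ext (ea_comm (largest_ea p P) v.2 w.2)

theorem YY_pow (v : ↥(YY p P)) : v ^ p = 1 := Subtype.ext ((largest_ea p P).2 v v.2)

/-- the Sylow subgroup of the quotient -/
noncomputable def Tb (hSP : (S : Subgroup H) ≤ P) : Sylow p ↥(XX (hY p P)) :=
  (S.subtype hSP).mapSurjective (pr_surj (hY p P))

include h

theorem core (N : Subgroup ↥(XX (hY p P))) (hN : N.Normal) (hNp : IsPGroup p ↥N) : N = ⊥ := by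
  have h1 := (pRed_largest p P).2.2.2 (pre (hY p P) N) (pre_le _ _) (pre_normal _ hN) (by
    intro b hb
    obtain ⟨hbP, hbN⟩ := (mem_pre (hY p P)).1 hb
    obtain ⟨k, hk⟩ := hNp ⟨_, hbN⟩
    refine ⟨k, ?_⟩
    have h2 : pr (hY p P) (⟨b, hbP⟩ ^ p ^ k) = 1 := by
      rw [map_pow]
      exact congrArg Subtype.val hk
    exact (pr_eq_one _).1 h2)
  rw [← im_pre (hY p P) N, im_eq_bot _ (pre_le _ _), commutator_comm, commutator_eq_bot_iff_le_centralizer]
  exact h1

theorem exists_M : ∃ M : Subgroup H, (S : Subgroup H) ≤ M ∧ M < P ∧ P ⊓ C ≤ M ∧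
    ∀ L : Subgroup H, (S : Subgroup H) ≤ L → L < P → L ≤ M := by
  obtain ⟨M, h1, h2, h3⟩ := exists_max h.hSP h.hPmin
  exact ⟨M, h1, h2, h3 _ (le_inf h.hSP h.S_le) h.inf_lt, h3⟩

theorem cent_le_C : P ⊓ centralizer (YY p P : Set H) ≤ P ⊓ C := inf_le_inf_left _ h.cent_Y_le

theorem map_M_ne {M : Subgroup H} (hMP : M < P) (hCM : P ⊓ C ≤ M) : im (hY p P) M ≠ ⊤ := by
  intro h1
  have h2 := congrArg (pre (hY p P)) h1
  rw [pre_im_of_le _ hMP.le ((cent_le_C h).trans hCM), pre_top] at h2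
  exact hMP.ne h2

omit h in
theorem max' (hSP : (S : Subgroup H) ≤ P) {M : Subgroup H} (hM : ∀ L : Subgroup H, (S : Subgroup H) ≤ L → L < P → L ≤ M)
    (K : Subgroup ↥(XX (hY p P))) (hK : im (hY p P) (S : Subgroup H) ≤ K) : K ≤ im (hY p P) M ∨ K = ⊤ := by
  rw [im_le_iff _ hSP] at hK
  rcases (pre_le (hY p P) K).eq_or_lt with h1 | h1
  · right
    rw [← im_pre (hY p P) K, h1, im_P]
  · left
    rw [← im_pre (hY p P) K]
    exact im_mono _ (hM _ hK h1)

theorem nM {M : Subgroup H} (hCM : P ⊓ C ≤ M) (x : ↥(XX (hY p P)))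
    (hx : ∀ v : ↥(YY p P), (∀ t ∈ im (hY p P) (S : Subgroup H), t • v = v) → x • v = v) : x ∈ im (hY p P) M := by
  obtain ⟨g, rfl⟩ := pr_surj (hY p P) x
  have h1 : (g : H) ∈ C := by
    apply h.cent_Z_le
    rw [mem_centralizer_iff]
    intro z hz
    have h2 := hx ⟨z, h.Z_le_Y hz⟩ ((mem_fx_im (hY p P) h.hSP).2 (h.Z_le hz).2)
    exact ((smul_eq_iff _ g _).1 h2).symm
  exact (mem_im _).2 ⟨g, g.2, hCM ⟨g.2, h1⟩, rfl⟩

theorem im_S_ne : im (hY p P) (S : Subgroup H) ≠ ⊥ := by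
  rw [Ne, im_eq_bot _ h.hSP, commutator_comm, commutator_eq_bot_iff_le_centralizer]
  intro h1
  apply h.not_Q_le
  rw [← h.inf_cent_Y]
  exact le_inf h.Q_le_S (h.Q_le_S.trans h1)

theorem pmin : IsPMinimal p ↥(XX (hY p P)) := by
  obtain ⟨M, hSM, hMP, hCM, hM⟩ := exists_M h
  refine Cfsg.Agent.H273.PMinimal.isPMinimal_of_sylow (Tb h.hSP) (fun hn => ?_) ⟨im (hY p P) M, ⟨⟨?_, ?_⟩, ?_⟩, ?_⟩
  · exact im_S_ne h (core h _ hn (Tb h.hSP).isPGroup')
  · exact map_M_ne h hMP hCM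
  · intro K hK
    rcases max' h.hSP hM K ((im_mono _ hSM).trans hK.le) with h1 | h1
    · exact absurd (hK.trans_le h1) (lt_irrefl _)
    · exact h1
  · exact im_mono _ hSM
  · rintro L ⟨hL, hSL⟩
    rcases max' h.hSP hM L hSL with h1 | h1
    · exact (hL.le_iff_eq (map_M_ne h hMP hCM)).1 h1 |>.symm
    · exact absurd h1 hL.1

/-- **the structure of `P / C_P(V)`** -/
theorem exists_str {A : Subgroup ↥(XX (hY p P))} (hAT : A ≤ im (hY p P) (S : Subgroup H))
    (hoff : Off p ↥(XX (hY p P)) ↥(YY p P) A) (hne : A ≠ ⊥) :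
    ∃ (k : ℕ) (E : Fin k → Subgroup ↥(XX (hY p P))),
      Str p ↥(XX (hY p P)) ↥(YY p P) (im (hY p P) (S : Subgroup H)) E := by
  by_cases h2 : p = 2
  · subst h2
    obtain ⟨M, hSM, hMP, hCM, hM⟩ := exists_M h
    have Hs : FFTop.Sit ↥(XX (hY 2 P)) ↥(YY 2 P) (Tb h.hSP) (im (hY 2 P) M) A :=
      { sq := fun v => by rw [← pow_two]; exact YY_pow v
        faith := faith _
        core := core h
        TM := im_mono _ hSM
        Mne := map_M_ne h hMP hCM
        max := max' h.hSP hM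
        nM := nM h hCM
        AT := hAT
        Acomm := hoff.comm
        Asq := fun a ha => by rw [← pow_two]; exact hoff.pow a ha
        Ane := hne
        Aoff := hoff.off }
    exact FFOff.str_two Hs
  · exact Cfsg.Agent.H263.FF.OddStr.str_odd h2 YY_comm YY_pow ((by exact faith _)) (pmin h) (core h) (Tb h.hSP) hoff hne

/-! ### the offender -/

section off

variable (hVQ : YY p P ≤ Q)
include hVQ

theorem cj_le_Q {c : H} (hc : c ∈ C) : cj c (YY p P) ≤ Q := by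
  have h1 := cj_mono (g := c) hVQ
  rwa [h.cj_Q_of_mem hc] at h1

theorem cj_le_S {c : H} (hc : c ∈ C) : cj c (YY p P) ≤ (S : Subgroup H) := (cj_le_Q h hVQ hc).trans h.Q_le_S

theorem cj_le_P {c : H} (hc : c ∈ C) : cj c (YY p P) ≤ P := (cj_le_S h hVQ hc).trans h.hSP

theorem Q_norm_cj {c : H} (hc : c ∈ C) : Q ≤ normalizer (cj c (YY p P) : Set H) := by
  have h1 : Q ≤ normalizer (YY p P : Set H) := h.Q_le_P.trans (hY p P)
  have h2 := cj_mono (g := c) h1
  rwa [h.cj_Q_of_mem hc, cj_normalizer] at h2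

theorem off_of {c : H} (hc : c ∈ C)
    (hcard : Nat.card (YY p P) ≤ Nat.card (im (hY p P) (cj c (YY p P))) *
      Nat.card ↥(YY p P ⊓ centralizer (cj c (YY p P) : Set H))) :
    Off p ↥(XX (hY p P)) ↥(YY p P) (im (hY p P) (cj c (YY p P))) where
  comm := by
    intro x hx y hy
    obtain ⟨a, haP, ha, rfl⟩ := (mem_im _).1 hx
    obtain ⟨b, hbP, hb, rfl⟩ := (mem_im _).1 hy
    rw [← map_mul, ← map_mul]
    congr 1
    exact Subtype.ext (ea_comm (ea_map (largest_ea p P) _) ha hb)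
  pow := by
    intro x hx
    obtain ⟨a, haP, ha, rfl⟩ := (mem_im _).1 hx
    rw [← map_pow]
    have : (⟨a, haP⟩ : ↥P) ^ p = 1 := Subtype.ext ((ea_map (largest_ea p P) _).2 a ha)
    rw [this, map_one]
  off := by
    rw [card_fx_im _ (cj_le_P h hVQ hc)]
    exact hcard

/-- `|A̅| |C_A(V)| = |V|` -/
theorem card_one {c : H} (hc : c ∈ C) : Nat.card (im (hY p P) (cj c (YY p P))) *
    Nat.card ↥(cj c (YY p P) ⊓ centralizer (YY p P : Set H)) = Nat.card (YY p P) := by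
  rw [card_im_mul _ (cj_le_P h hVQ hc), card_cj]

/-- conjugation by `c` -/
theorem card_two (c : H) : Nat.card ↥(cj c⁻¹ (YY p P) ⊓ centralizer (YY p P : Set H)) =
    Nat.card ↥(YY p P ⊓ centralizer (cj c (YY p P) : Set H)) := by
  rw [← card_cj c, cj_inf, cj_cj_inv, cj_centralizer]

theorem comm_inv {c : H} (hne : ⁅YY p P, cj c (YY p P)⁆ ≠ ⊥) : ⁅YY p P, cj c⁻¹ (YY p P)⁆ ≠ ⊥ := by
  intro h1
  apply hne
  have h2 := congrArg (cj c) h1
  rwa [cj_comm, cj_cj_inv, cj_bot, commutator_comm] at h2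

theorem exists_off {c : H} (hc : c ∈ C) (hne : ⁅YY p P, cj c (YY p P)⁆ ≠ ⊥) :
    ∃ c ∈ C, ⁅YY p P, cj c (YY p P)⁆ ≠ ⊥ ∧
      Off p ↥(XX (hY p P)) ↥(YY p P) (im (hY p P) (cj c (YY p P))) := by
  by_cases h1 : Nat.card (YY p P) ≤ Nat.card (im (hY p P) (cj c (YY p P))) *
      Nat.card ↥(YY p P ⊓ centralizer (cj c (YY p P) : Set H))
  · exact ⟨c, hc, hne, off_of h hVQ hc h1⟩
  · refine ⟨c⁻¹, C.inv_mem hc, comm_inv h hVQ hne, off_of h hVQ (C.inv_mem hc) ?_⟩
    have e1 := card_one h hVQ hc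
    have e2 := card_one h hVQ (C.inv_mem hc)
    rw [card_two h hVQ c] at e2
    have e3 := card_two h hVQ c⁻¹
    rw [inv_inv] at e3
    rw [← e3]
    push Not at h1
    -- `α b ≤ |V|`, `α a = |V|`, `β b = |V|`
    obtain ⟨α, hα⟩ : ∃ α, α = Nat.card (im (hY p P) (cj c (YY p P))) := ⟨_, rfl⟩
    obtain ⟨β, hβ⟩ : ∃ β, β = Nat.card (im (hY p P) (cj c⁻¹ (YY p P))) := ⟨_, rfl⟩
    obtain ⟨a, ha⟩ : ∃ a, a = Nat.card ↥(cj c (YY p P) ⊓ centralizer (YY p P : Set H)) := ⟨_, rfl⟩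
    obtain ⟨b, hb⟩ : ∃ b, b = Nat.card ↥(YY p P ⊓ centralizer (cj c (YY p P) : Set H)) := ⟨_, rfl⟩
    have hb0 : 0 < b := by rw [hb]; exact Nat.card_pos
    rw [← hα, ← ha] at e1
    rw [← hβ, ← hb] at e2
    rw [← hα, ← hb] at h1
    rw [← hβ, ← ha]
    rw [← e2] at h1
    have h3 : α ≤ β := by
      by_contra h4
      push Not at h4
      exact absurd h1 (by linarith only [Nat.mul_le_mul_right b h4.le])
    rw [← e1]
    exact Nat.mul_le_mul_right a h3

/-- all `V^c` are offenders -/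
theorem off_all {k : ℕ} {E : Fin k → Subgroup ↥(XX (hY p P))}
    (hS : Str p ↥(XX (hY p P)) ↥(YY p P) (im (hY p P) (S : Subgroup H)) E) {c : H} (hc : c ∈ C) :
    Off p ↥(XX (hY p P)) ↥(YY p P) (im (hY p P) (cj c (YY p P))) := by
  by_cases h1 : Nat.card (YY p P) ≤ Nat.card (im (hY p P) (cj c (YY p P))) *
      Nat.card ↥(YY p P ⊓ centralizer (cj c (YY p P) : Set H))
  · exact off_of h hVQ hc h1
  · exfalso
    have e1 := card_one h hVQ hc
    have e2 := card_one h hVQ (C.inv_mem hc)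
    rw [card_two h hVQ c] at e2
    have e3 := card_two h hVQ c⁻¹
    rw [inv_inv] at e3
    push Not at h1
    have h5 : Nat.card (YY p P) ≤ Nat.card (im (hY p P) (cj c⁻¹ (YY p P))) *
      Nat.card ↥(YY p P ⊓ centralizer (cj c⁻¹ (YY p P) : Set H)) → False := by
      intro h6
      have h7 := hS.eq _ (off_of h hVQ (C.inv_mem hc) h6)
      rw [card_fx_im _ (cj_le_P h hVQ (C.inv_mem hc)), ← e3] at h7
      have h8 : Nat.card (im (hY p P) (cj c (YY p P))) = Nat.card (im (hY p P) (cj c⁻¹ (YY p P))) :=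
        Nat.eq_of_mul_eq_mul_right Nat.card_pos (e1.trans h7)
      rw [h8, e2] at h1
      exact lt_irrefl _ h1
    apply h5
    rw [← e3]
    obtain ⟨α, hα⟩ : ∃ α, α = Nat.card (im (hY p P) (cj c (YY p P))) := ⟨_, rfl⟩
    obtain ⟨β, hβ⟩ : ∃ β, β = Nat.card (im (hY p P) (cj c⁻¹ (YY p P))) := ⟨_, rfl⟩
    obtain ⟨a, ha⟩ : ∃ a, a = Nat.card ↥(cj c (YY p P) ⊓ centralizer (YY p P : Set H)) := ⟨_, rfl⟩
    obtain ⟨b, hb⟩ : ∃ b, b = Nat.card ↥(YY p P ⊓ centralizer (cj c (YY p P) : Set H)) := ⟨_, rfl⟩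
    rw [← hα, ← ha] at e1
    rw [← hβ, ← hb] at e2
    rw [← hα, ← hb] at h1
    rw [← hβ, ← ha]
    rw [← e2] at h1
    have h3 : α ≤ β := by
      by_contra h4
      push Not at h4
      exact absurd h1 (by linarith only [Nat.mul_le_mul_right b h4.le])
    rw [← e1]
    exact Nat.mul_le_mul_right a h3

end off

end Cfsg.Agent.H250.P1
end

-- part: H250/P1/Mod
section
/-!
# The `P!`-theorem (S3046), Case A: module-theoretic consequences
-/

set_option autoImplicit false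
set_option linter.unusedSectionVars false

namespace Cfsg.Agent.H250.P1.Mod

open Subgroup Cfsg.Agent.H250.FFFam Cfsg.Agent.H250.FFStr Cfsg.Agent.H250.FFSL2 Cfsg.Agent.H250.FFBau
open Cfsg.Agent.H250.FFSym2 Cfsg.Agent.Lib.SL2Mat
open Cfsg.Agent.H229 (mem_sup_of_norm centralizer_le_norm isPGroup_sup_of_norm)

universe u

variable {p : ℕ} [Fact p.Prime] {X V : Type u} [Group X] [Group V] [MulDistribMulAction X V] [Finite X] [Finite V]
variable {T Q A : Subgroup X} {k : ℕ} {E : Fin k → Subgroup X}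

section

variable (hS : Str p X V T E) (hfx : fx V (⨆ i, E i) = ⊥)
include hS

theorem fix_sup (i : Fin k) {u : V} (hu : u ∈ ⨆ j ∈ {j | j ≠ i}, cm V (E j)) : u ∈ fx V (E i) := by
  have h1 : (⨆ j ∈ {j | j ≠ i}, cm V (E j)) ≤ fx V (E i) := by
    refine iSup₂_le fun j hj w hw x hx => ?_
    exact hS.fix j i hj x hx w hw
  exact h1 hu

include hfx in
theorem sup_cm : (⨆ i, cm V (E i)) = ⊤ := by
  rw [eq_top_iff]
  intro v _
  obtain ⟨w, hw, c, hc, rfl⟩ := hS.split v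
  rw [hfx, mem_bot] at hc
  rw [hc, mul_one]
  exact hw

include hfx in
theorem ind_cm (i : Fin k) : cm V (E i) ⊓ (⨆ j ∈ {j | j ≠ i}, cm V (E j)) = ⊥ := by
  rw [eq_bot_iff, ← hfx]
  rintro u ⟨h1, h2⟩
  refine mem_fx_iSup fun j => ?_
  by_cases hij : i = j
  · subst hij; exact fix_sup hS i h2
  · intro x hx
    exact hS.fix i j hij x hx u h1

include hfx in
theorem fx_cm (i : Fin k) {u : V} (hu : u ∈ cm V (E i)) (hu' : u ∈ fx V (E i)) : u = 1 := by
  have h1 : u ∈ fx V (⨆ i, E i) := by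
    refine mem_fx_iSup fun j => ?_
    by_cases hij : i = j
    · subst hij; exact hu'
    · intro x hx
      exact hS.fix i j hij x hx u hu
  rw [hfx] at h1
  exact mem_bot.1 h1

theorem comm_iSup {i : Fin k} {x y : X} (hx : x ∈ E i) (hy : y ∈ ⨆ j ∈ {j | j ≠ i}, E j) : x * y = y * x := by
  have h1 : (⨆ j ∈ {j | j ≠ i}, E j) ≤ centralizer ({x} : Set X) := by
    refine iSup₂_le fun j hj z hz => ?_
    rw [mem_centralizer_iff]
    intro w hw
    rw [Set.mem_singleton_iff.1 hw]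
    exact hS.comm i j (Ne.symm hj) x hx z hz
  exact mem_centralizer_iff.1 (h1 hy) x rfl

theorem mem_mul_of_sup {i : Fin k} {L : Subgroup X} (hL : L ≤ ⨆ j ∈ {j | j ≠ i}, E j) {t : X} (ht : t ∈ E i ⊔ L) :
    ∃ x ∈ E i, ∃ y ∈ L, x * y = t := by
  have hn : L ≤ normalizer (E i : Set X) := by
    refine le_trans ?_ (centralizer_le_norm _)
    intro y hy
    rw [mem_centralizer_iff]
    intro x hx
    exact comm_iSup hS hx (hL hy)
  exact (mem_sup_of_norm hn).1 ht

theorem norm_E (i : Fin k) : (⨆ j, E j) ≤ normalizer (E i : Set X) := by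
  refine iSup_le fun j => ?_
  by_cases hij : i = j
  · subst hij; exact le_normalizer
  · refine le_trans ?_ (centralizer_le_norm _)
    intro y hy
    rw [mem_centralizer_iff]
    intro x hx
    exact hS.comm i j hij x hx y hy

theorem mem_iSup_inf (hT : IsPGroup p ↥T) (hidx : ∀ i, ¬ p ∣ (T ⊓ E i).relIndex (E i)) (s : Finset (Fin k)) :
    ∀ t ∈ T, t ∈ (⨆ i ∈ s, E i) → t ∈ ⨆ i, T ⊓ E i := by
  classical
  induction s using Finset.induction_on with
  | empty =>
    intro t _ ht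
    simp only [Finset.notMem_empty, iSup_false, iSup_bot, mem_bot] at ht
    rw [ht]; exact one_mem _
  | @insert i s his ih =>
    intro t htT ht
    rw [Finset.iSup_insert] at ht
    have hL : (⨆ j ∈ s, E j) ≤ ⨆ j ∈ {j | j ≠ i}, E j := by
      refine iSup₂_le fun j hj => ?_
      have : j ≠ i := by rintro rfl; exact his hj
      exact le_iSup₂_of_le (f := fun j (_ : j ∈ {j | j ≠ i}) => E j) j this le_rfl
    obtain ⟨x, hx, y, hy, rfl⟩ := mem_mul_of_sup hS hL ht
    have hxy := comm_iSup hS hx (hL hy)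
    -- `x` is a `p`-element
    have hxp : IsPGroup p ↥(zpowers x) := by
      obtain ⟨m, hm⟩ := hT ⟨_, htT⟩
      have hm' : (x * y) ^ p ^ m = 1 := congrArg Subtype.val hm
      rw [Commute.mul_pow hxy] at hm'
      have h1 : x ^ p ^ m ∈ E i ⊓ ⨆ j ∈ {j | j ≠ i}, E j := by
        refine ⟨pow_mem hx _, ?_⟩
        rw [eq_inv_of_mul_eq_one_left hm']
        exact (⨆ j ∈ {j | j ≠ i}, E j).inv_mem (pow_mem (hL hy) _)
      rw [hS.ind i, mem_bot] at h1
      rintro ⟨z, hz⟩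
      obtain ⟨n, rfl⟩ := mem_zpowers_iff.1 hz
      refine ⟨m, Subtype.ext ?_⟩
      change (x ^ n) ^ p ^ m = 1
      rw [← zpow_natCast, ← zpow_mul, mul_comm, zpow_mul, zpow_natCast, h1, one_zpow]
    have htN : x * y ∈ normalizer (E i : Set X) := by
      refine norm_E hS i ?_
      refine mul_mem (mem_iSup_of_mem i hx) ?_
      exact (iSup₂_le fun j _ => le_iSup E j : (⨆ j ∈ {j | j ≠ i}, E j) ≤ ⨆ j, E j) (hL hy)
    have hxN : x ∈ normalizer ((T ⊓ E i : Subgroup X) : Set X) := by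
      have h1 : x * y ∈ normalizer ((T ⊓ E i : Subgroup X) : Set X) :=
        Cfsg.Agent.H229.norm_inf_le _ _ ⟨le_normalizer htT, htN⟩
      have h2 : y ∈ normalizer ((T ⊓ E i : Subgroup X) : Set X) := by
        refine centralizer_le_norm _ ?_
        rw [mem_centralizer_iff]
        intro z hz
        exact comm_iSup hS hz.2 (hL hy)
      have h3 := mul_mem h1 ((normalizer ((T ⊓ E i : Subgroup X) : Set X)).inv_mem h2)
      rwa [mul_inv_cancel_right] at h3
    have hB : IsPGroup p ↥((T ⊓ E i) ⊔ zpowers x : Subgroup X) :=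
      isPGroup_sup_of_norm (hT.to_le inf_le_left) hxp (by rw [zpowers_le]; exact hxN)
    have h1 := inf_eq (B := T ⊓ E i) (E := E i) hB le_sup_left (by
      rw [inf_assoc, inf_idem]; exact hidx i)
    have hxT : x ∈ T ⊓ E i := by
      have h2 : x ∈ ((T ⊓ E i) ⊔ zpowers x) ⊓ E i := ⟨mem_sup_right (mem_zpowers x), hx⟩
      rw [← h1] at h2
      exact h2.1
    have hyT : y ∈ T := by
      have := T.mul_mem (T.inv_mem hxT.1) htT
      rwa [inv_mul_cancel_left] at this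
    exact mul_mem (mem_iSup_of_mem i hxT) (ih y hyT hy)

/-- `T ∩ J = ∏ (T ∩ E i)` -/
theorem inf_iSup (hT : IsPGroup p ↥T) (hidx : ∀ i, ¬ p ∣ (T ⊓ E i).relIndex (E i)) :
    T ⊓ (⨆ i, E i) = ⨆ i, T ⊓ E i := by
  apply le_antisymm
  · rintro t ⟨h1, h2⟩
    refine mem_iSup_inf hS hT hidx Finset.univ t h1 ?_
    simpa only [_root_.Finset.mem_univ, _root_.iSup_pos, _root_.Subgroup.coe_toSubmonoid, _root_.SetLike.mem_coe] using h2
  · exact iSup_le fun i => inf_le_inf_left _ (le_iSup E i)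

variable {F : Type} [Field F] (hV : ∀ v w : V, v * w = w * v) (hNf : ∀ i, Nf F V T (E i))

include hV hfx hNf in
theorem mem_cm_of (hAT : ∀ i, T ⊓ E i ≤ A) {i : Fin k} {u : V} (hu : u ∈ cm V (E i)) (hu' : u ∈ fx V (T ⊓ E i)) :
    u ∈ cm V A := by
  obtain ⟨ρ, ψ, hsurj, hker, hact, hT, -⟩ := hNf i
  have hx : ∀ c, ((ρ.symm (up c) : ↥(E i)) : X) ∈ T := fun c => (hT _).2 ⟨c, ρ.apply_symm_apply _⟩
  have h3 := hu' ((ρ.symm (up 1) : ↥(E i)) : X) ⟨hx 1, (ρ.symm (up 1)).2⟩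
  have h4 := hact (ρ.symm (up 1)) ⟨u, hu⟩ ⟨u, hu⟩ h3.symm
  rw [ρ.apply_symm_apply, up_mulVec] at h4
  have h5 := congrFun h4 0
  simp only [Matrix.cons_val_zero, one_mul] at h5
  have h6 := left_eq_add.1 h5
  obtain ⟨w, hw⟩ := hsurj (Multiplicative.ofAdd ![0, Multiplicative.toAdd (ψ ⟨u, hu⟩) 0])
  have hwx := cm_smul (V := V) (ρ.symm (up 1)).2 w.2
  have h7 := hact (ρ.symm (up 1)) w ⟨_, hwx⟩ rfl
  rw [ρ.apply_symm_apply, up_mulVec, hw] at h7
  have h8 : ψ (⟨_, hwx⟩ * w⁻¹ * (⟨u, hu⟩ : ↥(cm V (E i)))⁻¹) = 1 := by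
    rw [map_mul, map_mul, map_inv, map_inv]
    apply Multiplicative.toAdd.injective
    rw [toAdd_mul, toAdd_mul, toAdd_inv, toAdd_inv, h7, hw, toAdd_one]
    funext j
    fin_cases j
    · simp
    · simp [h6]
  have h9 := fx_cm hS hfx i (⟨_, hwx⟩ * w⁻¹ * (⟨u, hu⟩ : ↥(cm V (E i)))⁻¹ : ↥(cm V (E i))).2 ((hker _).1 h8)
  have h10 : ((ρ.symm (up 1) : ↥(E i)) : X) • (w : V) * (w : V)⁻¹ * u⁻¹ = 1 := h9
  rw [mul_inv_eq_one] at h10
  rw [← h10]
  exact mem_cm (hAT i ⟨hx 1, (ρ.symm (up 1)).2⟩) _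

include hV hfx hNf in
theorem mem_cm_fin (hA : A = ⨆ i, T ⊓ E i) (s : Finset (Fin k)) :
    ∀ v ∈ fx V A, v ∈ (⨆ i ∈ s, cm V (E i)) → v ∈ cm V A := by
  classical
  induction s using Finset.induction_on with
  | empty =>
    intro v _ hv
    simp only [Finset.notMem_empty, iSup_false, iSup_bot, mem_bot] at hv
    rw [hv]; exact one_mem _
  | @insert i s his ih =>
    intro v hvA hv
    rw [Finset.iSup_insert] at hv
    have hAT : ∀ i, T ⊓ E i ≤ A := fun i => by rw [hA]; exact le_iSup (fun i => T ⊓ E i) i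
    have hL : (⨆ j ∈ s, cm V (E j)) ≤ ⨆ j ∈ {j | j ≠ i}, cm V (E j) := by
      refine iSup₂_le fun j hj => ?_
      have : j ≠ i := by rintro rfl; exact his hj
      exact le_iSup₂_of_le (f := fun j (_ : j ∈ {j | j ≠ i}) => cm V (E j)) j this le_rfl
    have hn : (⨆ j ∈ s, cm V (E j)) ≤ normalizer (cm V (E i) : Set V) := by
      refine le_trans ?_ (centralizer_le_norm _)
      intro y _
      rw [mem_centralizer_iff]
      intro x _
      exact hV x y
    obtain ⟨u, hu, w, hw, rfl⟩ := (mem_sup_of_norm hn).1 hv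
    have hw1 : w ∈ fx V (E i) := fix_sup hS i (hL hw)
    have hu1 : u ∈ fx V (T ⊓ E i) := by
      intro x hx
      have h1 := hvA x (hAT i hx)
      rw [smul_mul', hw1 x hx.2] at h1
      exact mul_right_cancel h1
    have hu2 : u ∈ fx V A := by
      rw [hA]
      refine mem_fx_iSup fun j => ?_
      by_cases hij : i = j
      · subst hij; exact hu1
      · intro x hx
        exact hS.fix i j hij x hx.2 u hu
    have hw2 : w ∈ fx V A := by
      have := (fx V A).mul_mem ((fx V A).inv_mem hu2) hvA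
      rwa [inv_mul_cancel_left] at this
    exact mul_mem (mem_cm_of hS hfx hV hNf hAT hu hu1) (ih w hw2 hw)

include hV hfx hNf in
/-- `C_V(A) ≤ [V, A]` -/
theorem fx_le_cm (hA : A = ⨆ i, T ⊓ E i) : fx V A ≤ cm V A := by
  intro v hv
  refine mem_cm_fin hS hfx hV hNf hA Finset.univ v hv ?_
  simp only [Finset.mem_univ, iSup_pos]
  rw [sup_cm hS hfx]
  exact mem_top v

include hNf in
theorem E_ne (i : Fin k) : E i ≠ ⊥ := by
  intro h1
  obtain ⟨ρ, -⟩ := hNf i
  have h2 : ∀ x : ↥(E i), x = 1 := fun x => Subtype.ext (mem_bot.1 (h1.le x.2))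
  have h3 : (up 1 : Matrix.SpecialLinearGroup (Fin 2) F) = up 0 := by
    rw [← ρ.apply_symm_apply (up 1), ← ρ.apply_symm_apply (up 0), h2 (ρ.symm (up 1)), h2 (ρ.symm (up 0))]
  exact one_ne_zero (up_inj h3)

include hNf in
theorem E_inj {i j : Fin k} (h : E i = E j) : i = j := by
  by_contra hij
  apply E_ne hS hNf i
  rw [← hS.ind i, eq_comm, inf_eq_left, h]
  exact le_iSup₂_of_le (f := fun j (_ : j ∈ {j | j ≠ i}) => E j) j (Ne.symm hij) le_rfl

end

end Cfsg.Agent.H250.P1.Mod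
end

-- part: H250/P1/Asm
section
/-!
# The `P!`-theorem (S3046), Case A: assembly of the structure `AStr`
-/

set_option autoImplicit false
set_option linter.unusedSectionVars false

open Cfsg Subgroup
open Cfsg.Agent.H230 Cfsg.Agent.H229 Cfsg.Agent.H247.P1
open Cfsg.Agent.H250.FFFam Cfsg.Agent.H250.FFStr Cfsg.Agent.H250.FFSL2
open scoped commutatorElement

namespace Cfsg.Agent.H250.P1

universe u

variable {H : Type u} [Group H] {p : ℕ} {S : Sylow p H} {Z C Q P : Subgroup H} [Finite H] [Fact p.Prime]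
  (h : PHyp p S Z C Q P) (hVQ : YY p P ≤ Q) {k : ℕ} {E : Fin k → Subgroup ↥(XX (hY p P))}
  (hS : Str p ↥(XX (hY p P)) ↥(YY p P) (im (hY p P) (S : Subgroup H)) E)

omit [Finite H] in
theorem isPGroup_im {K : Subgroup H} (hK : IsPGroup p ↥K) : IsPGroup p ↥(im (hY p P) K) := by
  have h1 : IsPGroup p ↥(K.subgroupOf P) := hK.comap_subtype
  exact h1.map _

include h hS

theorem fx_bot : fx ↥(YY p P) (⨆ i, E i) = ⊥ := by
  rw [eq_bot_iff]
  intro v hv
  have hN := hS.norm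
  have h1 : pResidual p ↥(XX (hY p P)) ≤ ⨆ i, E i :=
    pResidual_le_of_le_sup (isPGroup_im (p := p) (P := P) S.2) (by rw [hS.top]; exact le_top)
  have h2 : resOf p P ≤ pre (hY p P) (⨆ i, E i) := by
    rw [resOf_eq_closure, closure_le]
    rintro g ⟨hg, hgc⟩
    refine (mem_pre _).2 ⟨hg, h1 (_root_.Subgroup.subset_closure ?_)⟩
    have h5 : orderOf (pr (hY p P) ⟨g, hg⟩) ∣ orderOf (⟨g, hg⟩ : ↥P) := orderOf_map_dvd (pr (hY p P)) (⟨g, hg⟩ : ↥P)
    have h6 : orderOf (⟨g, hg⟩ : ↥P) = orderOf g := Subgroup.orderOf_mk g hg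
    rw [h6] at h5
    exact Nat.Coprime.coprime_dvd_left h5 hgc
  have h3 := (mem_fx_pre (hY p P) _).1 hv
  have h4 : (v : H) ∈ YY p P ⊓ centralizer (resOf p P : Set H) := ⟨v.2, (Subgroup.centralizer_le h2) h3⟩
  rw [h.inf_cent_res, mem_bot] at h4
  exact mem_bot.2 (Subtype.ext h4)

include hVQ

/-- the module form of the hypotheses -/
theorem pt_of {c : H} (hc : c ∈ C) (hne : ⁅YY p P, cj c (YY p P)⁆ ≠ ⊥) :
    Pt p ↥(XX (hY p P)) ↥(YY p P) (im (hY p P) (S : Subgroup H)) (im (hY p P) Q)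
      (im (hY p P) (cj c (YY p P))) E where
  hV := YY_comm
  hVp := YY_pow
  hf := faith _
  hT := isPGroup_im S.2
  hTi := (Tb h.hSP).not_dvd_index
  str := hS
  fx_bot := fx_bot h hS
  QT := im_mono _ h.Q_le_S
  TQ := by
    intro x hx
    obtain ⟨g, hg, hgS, rfl⟩ := (mem_im _).1 hx
    refine norm_im _ hg ?_
    rw [h.C_eq]
    exact h.S_le hgS
  Qn := by
    intro hn
    have h1 := core h _ hn (isPGroup_im h.Q_pgroup)
    have h2 := (im_mono (hY p P) (cj_le_Q h hVQ hc)).trans h1.le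
    exact hne ((im_eq_bot _ (cj_le_P h hVQ hc)).1 (le_bot_iff.1 h2))
  pt := by
    intro v hv hvQ x hx
    obtain ⟨g, rfl⟩ := pr_surj (hY p P) x
    refine norm_im _ g.2 ?_
    rw [h.C_eq]
    have h1 : (v : H) ∈ centralizer (Q : Set H) := (mem_fx_im (hY p P) h.Q_le_P).1 hvQ
    refine h.cent_le h1 (fun h2 => hv (Subtype.ext h2)) ?_
    rw [mem_centralizer_singleton_iff]
    exact (smul_eq_iff _ g v).1 hx
  AQ := im_mono _ (cj_le_Q h hVQ hc)
  A_ne := fun h1 => hne ((im_eq_bot _ (cj_le_P h hVQ hc)).1 h1)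
  QA := by
    intro x hx
    obtain ⟨g, hg, hgQ, rfl⟩ := (mem_im _).1 hx
    exact norm_im _ hg (Q_norm_cj h hVQ hc hgQ)
  off := off_all h hVQ hS hc

omit hVQ in
theorem cj_pre_of {x : H} (hx : x ∈ P) {i j : Fin k}
    (hE : ∀ y, pr (hY p P) ⟨x, hx⟩ * y * (pr (hY p P) ⟨x, hx⟩)⁻¹ ∈ E j ↔ y ∈ E i) :
    cj x (pre (hY p P) (E i)) = pre (hY p P) (E j) := by
  rw [conj_pre _ hx, FFSym2.E_conj (E := E) hE]

variable {F : Type} [Field F] [Fintype F] {n : ℕ} (hn : 1 ≤ n) (hcard : Fintype.card F = p ^ n)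
  (hNf : ∀ i, Nf F ↥(YY p P) (im (hY p P) (S : Subgroup H)) (E i))

omit hVQ in
include hNf in
theorem natW (i : Fin k) : NatW F (S : Subgroup H) (pre (hY p P) (E i)) ((cm ↥(YY p P) (E i)).map (YY p P).subtype) := by
  have hfx := fx_bot h hS
  obtain ⟨ρ, ψ, hsurj, hker, hact, hT, -⟩ := hNf i
  -- the homomorphism
  have hmem : ∀ x : ↥(pre (hY p P) (E i)), pr (hY p P) ⟨x, pre_le _ _ x.2⟩ ∈ E i := fun x =>
    ((mem_pre (hY p P)).1 x.2).2
  let θ : ↥(pre (hY p P) (E i)) →* ↥(E i) :=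
    { toFun := fun x => ⟨pr (hY p P) ⟨x, pre_le _ _ x.2⟩, hmem x⟩
      map_one' := Subtype.ext (map_one _)
      map_mul' := fun x y => Subtype.ext ((map_mul (pr (hY p P)) ⟨x, pre_le _ _ x.2⟩ ⟨y, pre_le _ _ y.2⟩ :)) }
  have hθ : Function.Surjective θ := by
    intro y
    obtain ⟨g, hg⟩ := pr_surj (hY p P) (y : ↥(XX (hY p P)))
    exact ⟨⟨g, (mem_pre _).2 ⟨g.2, by rw [hg]; exact y.2⟩⟩, Subtype.ext hg⟩
  -- the coordinates
  have hinj : Function.Injective ψ := by
    rw [injective_iff_map_eq_one]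
    intro u hu
    exact Subtype.ext (Mod.fx_cm hS hfx i u.2 ((hker u).1 hu))
  let e0 : ↥(cm ↥(YY p P) (E i)) ≃* Multiplicative (Fin 2 → F) := MulEquiv.ofBijective ψ ⟨hinj, hsurj⟩
  let e1 : ↥(cm ↥(YY p P) (E i)) ≃* ↥((cm ↥(YY p P) (E i)).map (YY p P).subtype) :=
    (cm ↥(YY p P) (E i)).equivMapOfInjective _ (YY p P).subtype_injective
  have he1 : ∀ u, ((e1 u : ↥((cm ↥(YY p P) (E i)).map (YY p P).subtype)) : H) = ((u : ↥(YY p P)) : H) := fun u => rfl
  let ψ' : Additive ↥((cm ↥(YY p P) (E i)).map (YY p P).subtype) ≃+ (Fin 2 → F) :=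
    (MulEquiv.toAdditive (e1.symm.trans e0)).trans (AddEquiv.additiveMultiplicative _)
  have hψ' : ∀ u, ψ' (Additive.ofMul (e1 u)) = Multiplicative.toAdd (ψ u) := by
    intro u
    change Multiplicative.toAdd (ψ (e1.symm (e1 u))) = _
    rw [e1.symm_apply_apply]
  refine ⟨ρ.toMonoidHom.comp θ, ψ', ρ.surjective.comp hθ, ?_, ?_, ?_⟩
  · intro x v
    obtain ⟨u, rfl⟩ := e1.surjective v
    have hxu := cm_smul (V := ↥(YY p P)) (θ x).2 u.2
    refine ⟨e1 ⟨_, hxu⟩, rfl, ?_⟩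
    rw [hψ', hψ']
    exact hact (θ x) u ⟨_, hxu⟩ rfl
  · intro x hx
    obtain ⟨a, ha⟩ := (hT (θ x)).1 ((mem_im _).2 ⟨x, pre_le _ _ x.2, hx, rfl⟩)
    refine ⟨a, ?_⟩
    change ((ρ (θ x) : Matrix.SpecialLinearGroup (Fin 2) F) : Matrix (Fin 2) (Fin 2) F) = _
    rw [ha]; rfl
  · intro a
    obtain ⟨g, hg, hgS, hgx⟩ := (mem_im _).1 ((hT (ρ.symm (Lib.SL2Mat.up a))).2 ⟨a, ρ.apply_symm_apply _⟩)
    have hgE : g ∈ pre (hY p P) (E i) := (mem_pre _).2 ⟨hg, by rw [hgx]; exact (ρ.symm (Lib.SL2Mat.up a)).2⟩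
    refine ⟨⟨g, hgE⟩, hgS, ?_⟩
    have e2 : θ ⟨g, hgE⟩ = ρ.symm (Lib.SL2Mat.up a) := Subtype.ext hgx
    change ((ρ (θ ⟨g, hgE⟩) : Matrix.SpecialLinearGroup (Fin 2) F) : Matrix (Fin 2) (Fin 2) F) = _
    rw [e2, ρ.apply_symm_apply]; rfl

include hn hcard hNf in
/-- **the structure `AStr`** -/
theorem aStr (hidx : ∀ i, ¬ p ∣ (im (hY p P) (S : Subgroup H) ⊓ E i).relIndex (E i))
    (htr : ∀ i j, ∃ q ∈ im (hY p P) Q, ∀ x, q * x * q⁻¹ ∈ E j ↔ x ∈ E i)
    (hinf : ∀ c ∈ C, ⁅YY p P, cj c (YY p P)⁆ ≠ ⊥ → ∀ i,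
      im (hY p P) (cj c (YY p P)) ⊓ E i = im (hY p P) (S : Subgroup H) ⊓ E i)
    (hex : ∃ c ∈ C, ⁅YY p P, cj c (YY p P)⁆ ≠ ⊥) :
    AStr p S Z C Q P (YY p P) (pCoreOf p P) (pre (hY p P) (⨆ i, E i))
      (YY p P ⊓ centralizer (((S : Subgroup H) ⊓ pre (hY p P) (⨆ i, E i) : Subgroup H) : Set H))
      (fun i => pre (hY p P) (E i)) (fun i => (cm ↥(YY p P) (E i)).map (YY p P).subtype) F := by
  have hfx := fx_bot h hS
  have hne : Nonempty (Fin k) := ⟨⟨0, hS.pos⟩⟩
  have hT : IsPGroup p ↥(im (hY p P) (S : Subgroup H)) := isPGroup_im S.2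
  have hinjE : ∀ i j, pre (hY p P) (E i) = pre (hY p P) (E j) → i = j := by
    intro i j hij
    have h1 := congrArg (im (hY p P)) hij
    rw [im_pre, im_pre] at h1
    exact Mod.E_inj hS hNf h1
  -- `R` for each `c`
  have hR : ∀ c ∈ C, ⁅YY p P, cj c (YY p P)⁆ ≠ ⊥ →
      cj c (YY p P) ⊔ pCoreOf p P = (S : Subgroup H) ⊓ pre (hY p P) (⨆ i, E i) ∧
      ⁅YY p P, cj c (YY p P)⁆ = YY p P ⊓ centralizer (((S : Subgroup H) ⊓ pre (hY p P) (⨆ i, E i) : Subgroup H) : Set H) ∧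
      YY p P ⊓ cj c (YY p P) =
        YY p P ⊓ centralizer (((S : Subgroup H) ⊓ pre (hY p P) (⨆ i, E i) : Subgroup H) : Set H) := by
    intro c hc hcne
    have hA := off_all h hVQ hS hc
    have hAT : im (hY p P) (cj c (YY p P)) ≤ im (hY p P) (S : Subgroup H) := im_mono _ (cj_le_S h hVQ hc)
    have hAeq : im (hY p P) (cj c (YY p P)) = ⨆ i, im (hY p P) (S : Subgroup H) ⊓ E i := by
      rw [hS.sup _ hAT hA]
      exact iSup_congr fun i => hinf c hc hcne i
    have hTJ := Mod.inf_iSup hS hT hidx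
    have h1 : cj c (YY p P) ⊔ pCoreOf p P = (S : Subgroup H) ⊓ pre (hY p P) (⨆ i, E i) := by
      apply le_antisymm
      · refine sup_le (le_inf (cj_le_S h hVQ hc) ?_) (le_inf h.D_le_S ?_)
        · rw [← im_le_iff _ (cj_le_P h hVQ hc)]
          exact hS.le _ hA
        · exact (le_inf (H229.pCoreOf_le _ _) (pCoreOf_le_centralizer_largest p P)).trans (le_pre _ _)
      · rintro x ⟨hxS, hxJ⟩
        obtain ⟨hxP, hxE⟩ := (mem_pre _).1 hxJ
        have h2 : pr (hY p P) ⟨x, hxP⟩ ∈ im (hY p P) (cj c (YY p P)) := by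
          rw [hAeq, ← hTJ]
          exact ⟨(mem_im _).2 ⟨x, hxP, hxS, rfl⟩, hxE⟩
        obtain ⟨a, haP, ha, hax⟩ := (mem_im _).1 h2
        have h3 : pr (hY p P) (⟨a, haP⟩⁻¹ * ⟨x, hxP⟩) = 1 := by rw [map_mul, map_inv, hax, inv_mul_cancel]
        have h4 : a⁻¹ * x ∈ pCoreOf p P := by
          rw [← h.inf_cent_Y]
          exact ⟨(S : Subgroup H).mul_mem ((S : Subgroup H).inv_mem (cj_le_S h hVQ hc ha)) hxS, (pr_eq_one _).1 h3⟩
        have h5 : x = a * (a⁻¹ * x) := by group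
        rw [h5]
        exact mul_mem (mem_sup_left ha) (mem_sup_right h4)
    have h2 : YY p P ⊓ centralizer (((S : Subgroup H) ⊓ pre (hY p P) (⨆ i, E i) : Subgroup H) : Set H) =
        YY p P ⊓ centralizer (cj c (YY p P) : Set H) := by
      rw [← h1]
      apply le_antisymm
      · exact inf_le_inf_left _ (Subgroup.centralizer_le
          (le_sup_left : cj c (YY p P) ≤ cj c (YY p P) ⊔ pCoreOf p P))
      · refine le_inf inf_le_left ?_
        apply le_centralizer_comm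
        refine sup_le (le_centralizer_comm inf_le_right) ?_
        exact (pCoreOf_le_centralizer_largest p P).trans (Subgroup.centralizer_le inf_le_left)
    rw [h2]
    have h3 : ⁅YY p P, cj c (YY p P)⁆ ≤ YY p P ⊓ cj c (YY p P) := by
      refine le_inf ?_ ?_
      · rw [commutator_comm]
        exact le_norm_iff_comm_le.1 ((cj_le_P h hVQ hc).trans (hY p P))
      · exact le_norm_iff_comm_le.1 (hVQ.trans (Q_norm_cj h hVQ hc))
    have h4 : YY p P ⊓ cj c (YY p P) ≤ YY p P ⊓ centralizer (cj c (YY p P) : Set H) :=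
      inf_le_inf_left _ (ea_le_centralizer (ea_map (largest_ea p P) _))
    have h5 : YY p P ⊓ centralizer (cj c (YY p P) : Set H) ≤ ⁅YY p P, cj c (YY p P)⁆ := by
      rw [← map_fx_im (hY p P) (cj_le_P h hVQ hc), ← map_cm_im (hY p P) (cj_le_P h hVQ hc)]
      exact map_mono (Mod.fx_le_cm hS hfx YY_comm hNf hAeq)
    exact ⟨h1, le_antisymm (h3.trans h4) h5, le_antisymm h4 (h5.trans h3)⟩
  exact
    { hyp := h
      V_eq := rfl
      D_eq := rfl
      VQ := hVQ
      pos := hS.pos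
      cardF := ⟨n, hn, hcard⟩
      E_le := fun i => pre_le _ _
      le_E := fun i => le_pre _ _
      comm := by
        intro i j hij
        rw [commutator_le]
        intro x hx y hy
        obtain ⟨hxP, hxE⟩ := (mem_pre _).1 hx
        obtain ⟨hyP, hyE⟩ := (mem_pre _).1 hy
        have h1 := hS.comm i j hij _ hxE _ hyE
        have h2 : pr (hY p P) ⁅(⟨x, hxP⟩ : ↥P), ⟨y, hyP⟩⁆ = 1 := by
          rw [map_commutatorElement, commutatorElement_eq_one_iff_mul_comm]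
          exact h1
        exact (pr_eq_one _).1 h2
      J_eq := pre_iSup _ _
      J_norm := pre_normal _ hS.norm
      J_sup := by
        have hle : pre (hY p P) (⨆ i, E i) ⊔ (S : Subgroup H) ≤ P := sup_le (pre_le _ _) h.hSP
        have h1 := pre_im_of_le (hY p P) hle ((le_pre (hY p P) _).trans le_sup_left)
        rw [im_sup _ (pre_le _ _) h.hSP, im_pre, hS.top, pre_top] at h1
        exact h1.symm
      perm := by
        intro x hx i
        obtain ⟨j, hj⟩ := hS.perm (pr (hY p P) ⟨x, hx⟩) i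
        exact ⟨j, cj_pre_of h hS hx hj⟩
      permW := by
        intro x hx i j hij
        rw [map_cm, map_cm, cj_comm, mem_norm.1 (hY p P hx)]
        exact congrArg (fun K => ⁅YY p P, K⁆) hij
      trans := by
        intro i j
        obtain ⟨q, hq, hqE⟩ := htr i j
        obtain ⟨g, hg, hgQ, rfl⟩ := (mem_im _).1 hq
        exact ⟨g, hgQ, cj_pre_of h hS hg hqE⟩
      inj := hinjE
      W_le := fun i => Subgroup.map_subtype_le _
      W_sup := by
        rw [← Subgroup.map_iSup, Mod.sup_cm hS hfx, ← MonoidHom.range_eq_map, Subgroup.range_subtype]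
      W_ind := by
        intro i
        have h1 : (⨆ j ∈ {j | j ≠ i}, (cm ↥(YY p P) (E j)).map (YY p P).subtype) =
            (⨆ j ∈ {j | j ≠ i}, cm ↥(YY p P) (E j)).map (YY p P).subtype := by
          rw [Subgroup.map_iSup]
          exact iSup_congr fun j => (Subgroup.map_iSup _ _).symm
        rw [h1, ← Subgroup.map_inf _ _ _ (YY p P).subtype_injective, Mod.ind_cm hS hfx i, Subgroup.map_bot]
      fix := by
        rintro i j hij _ ⟨u, hu, rfl⟩
        have h1 : u ∈ fx ↥(YY p P) (E j) := fun x hx => hS.fix i j hij x hx u hu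
        exact (mem_fx_pre (hY p P) _).1 h1
      nat := natW h hS hNf
      R_eq := rfl
      adj := by
        intro c hc hcne
        obtain ⟨h1, h2, h3⟩ := hR c hc hcne
        refine ⟨h1, h2, h3, ?_⟩
        obtain ⟨-, -, h4⟩ := hR c⁻¹ (C.inv_mem hc) (comm_inv h hVQ hcne)
        conv_lhs => rw [← h4]
        rw [cj_inf, cj_cj_inv, inf_comm, h3]
      ex := hex }

end Cfsg.Agent.H250.P1
end

-- part: H538/P1/PtNat
section
/-!
# S3046, Case A, (alpha2): the module form (helper538)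

From `Pt p X V T Q A E`: `Q` is transitive on the `E i`, `E i ≅ SL₂(F)` (the symmetric groups are excluded), and
`A ⊓ E i = T ⊓ E i`.
-/

set_option autoImplicit false
set_option linter.unusedSectionVars false

namespace Cfsg.Agent.H538.P1

open Subgroup Cfsg Cfsg.Agent.H250.FFFam Cfsg.Agent.H250.FFStr Cfsg.Agent.H250.FFSym2 Cfsg.Agent.H250.FFSym3
  Cfsg.Agent.H250.FFBau Cfsg.Agent.H250.P1

universe u

/-- a `p`-group has nontrivial fixed points on an invariant nontrivial subgroup -/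
theorem exists_fixed {p : ℕ} [Fact p.Prime] {X V : Type u} [Group X] [Group V] [MulDistribMulAction X V] [Finite V]
    (hVp : ∀ v : V, v ^ p = 1) {Q : Subgroup X} (hQ : IsPGroup p ↥Q) {W : Subgroup V} (hW : W ≠ ⊥)
    (hinv : ∀ q ∈ Q, ∀ w ∈ W, q • w ∈ W) : ∃ w ∈ W, w ≠ 1 ∧ ∀ q ∈ Q, q • w = w := by
  let act : MulAction ↥Q ↥W :=
    { smul := fun q w => ⟨(q : X) • (w : V), hinv q q.2 w w.2⟩
      one_smul := fun w => Subtype.ext (one_smul X (w : V))
      mul_smul := fun a b w => Subtype.ext (mul_smul (a : X) (b : X) (w : V)) }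
  have hp : IsPGroup p ↥W := fun w => ⟨1, by rw [pow_one]; exact Subtype.ext (hVp w)⟩
  have hdvd : p ∣ Nat.card ↥W := by
    obtain ⟨n, hn⟩ := IsPGroup.iff_card.1 hp
    rw [hn]
    refine dvd_pow_self p ?_
    rintro rfl
    rw [pow_zero] at hn
    exact hW (Subgroup.card_eq_one.1 hn)
  have h1 : (1 : ↥W) ∈ MulAction.fixedPoints ↥Q ↥W := fun q => Subtype.ext (smul_one (q : X))
  obtain ⟨b, hb, hne⟩ := hQ.exists_fixed_point_of_prime_dvd_card_of_fixed_point ↥W hdvd h1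
  refine ⟨b, b.2, fun h => hne (Subtype.ext h.symm), fun q hq => ?_⟩
  exact congrArg Subtype.val (hb ⟨q, hq⟩)

variable {p : ℕ} [hp : Fact p.Prime] {X V : Type u} [Group X] [Group V] [MulDistribMulAction X V]
variable [Finite X] [Finite V] {T Q A : Subgroup X} {k : ℕ} {E : Fin k → Subgroup X}

/-- conjugation moves `[V, E i]` to `[V, E j]` -/
theorem cm_conj {E1 E2 : Subgroup X} {x : X} (h : ∀ y, x * y * x⁻¹ ∈ E2 ↔ y ∈ E1) {v : V} (hv : v ∈ cm V E1) :
    x • v ∈ cm V E2 := by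
  have key : cm V E1 ≤ (cm V E2).comap (MulDistribMulAction.toMonoidHom V x) := by
    unfold cm
    rw [closure_le]
    rintro _ ⟨y, hy, w, rfl⟩
    rw [SetLike.mem_coe, mem_comap, MulDistribMulAction.toMonoidHom_apply]
    refine subset_closure ⟨x * y * x⁻¹, (h y).2 hy, x • w, ?_⟩
    rw [smul_mul', smul_inv', mul_smul, mul_smul, inv_smul_smul]
  exact key hv

theorem smul_iSup_mem {O : Set (Fin k)} {q : X}
    (hq : ∀ i ∈ O, ∃ j ∈ O, ∀ y, q * y * q⁻¹ ∈ E j ↔ y ∈ E i) {w : V} (hw : w ∈ ⨆ i ∈ O, cm V (E i)) :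
    q • w ∈ ⨆ i ∈ O, cm V (E i) := by
  have key : (⨆ i ∈ O, cm V (E i)) ≤ (⨆ i ∈ O, cm V (E i)).comap (MulDistribMulAction.toMonoidHom V q) := by
    refine iSup₂_le fun i hi v hv => ?_
    obtain ⟨j, hj, h⟩ := hq i hi
    rw [mem_comap, MulDistribMulAction.toMonoidHom_apply]
    exact (le_iSup₂_of_le j hj le_rfl : cm V (E j) ≤ _) (cm_conj h hv)
  exact key hw

theorem E_ne_bot (h : Pt p X V T Q A E) (i : Fin k) : E i ≠ ⊥ := by
  intro hi
  have h1 : ∀ j, E j = ⊥ := by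
    intro j
    obtain ⟨t, -, ht⟩ := h.str.trans i j
    rw [eq_bot_iff]
    intro x hx
    have h2 := (ht (t⁻¹ * x * t)).1 (by rw [show t * (t⁻¹ * x * t) * t⁻¹ = x by group]; exact hx)
    rw [hi, mem_bot] at h2
    rw [mem_bot]
    calc x = t * (t⁻¹ * x * t) * t⁻¹ := by group
      _ = 1 := by rw [h2]; group
  have h2 := h.str.top
  simp only [h1, iSup_bot, bot_sup_eq] at h2
  apply h.Qn
  have h3 := h.TQ
  rw [h2, top_le_iff] at h3
  exact normalizer_eq_top_iff.1 h3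

theorem cm_ne_bot (h : Pt p X V T Q A E) (i : Fin k) : cm V (E i) ≠ ⊥ := by
  intro hi
  apply E_ne_bot h i
  rw [eq_bot_iff]
  intro x hx
  rw [mem_bot]
  refine h.hf x fun v => ?_
  have := mem_cm (V := V) hx v
  rw [hi, mem_bot] at this
  exact mul_inv_eq_one.1 this

/-- **(A)** `Q` is transitive -/
theorem trans (h : Pt p X V T Q A E) : ∀ i j, ∃ q ∈ Q, ∀ x, q * x * q⁻¹ ∈ E j ↔ x ∈ E i := by
  intro i0
  by_contra hcon
  push Not at hcon
  obtain ⟨j0, hj0⟩ := hcon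
  obtain ⟨O, hO⟩ : ∃ O : Set (Fin k), O = {j | ∃ q ∈ Q, ∀ x, q * x * q⁻¹ ∈ E j ↔ x ∈ E i0} := ⟨_, rfl⟩
  have hi0 : i0 ∈ O := by
    rw [hO]
    exact ⟨1, Q.one_mem, fun x => by rw [one_mul, inv_one, mul_one]⟩
  have hj0' : j0 ∈ Oᶜ := by
    rw [hO]
    rintro ⟨q, hq, hx⟩
    obtain ⟨x, hx'⟩ := hj0 q hq
    rcases hx' with ⟨h1, h2⟩ | ⟨h1, h2⟩
    · exact h2 ((hx x).1 h1)
    · exact h1 ((hx x).2 h2)
  -- both sets are `Q`-invariant
  have hinvO : ∀ q ∈ Q, ∀ i ∈ O, ∃ j ∈ O, ∀ y, q * y * q⁻¹ ∈ E j ↔ y ∈ E i := by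
    intro q hq i hi
    obtain ⟨j, hj⟩ := h.str.perm q i
    refine ⟨j, ?_, hj⟩
    rw [hO] at hi ⊢
    obtain ⟨r, hr, hr'⟩ := hi
    refine ⟨q * r, Q.mul_mem hq hr, fun x => ?_⟩
    rw [show q * r * x * (q * r)⁻¹ = q * (r * x * r⁻¹) * q⁻¹ by group, hj, hr']
  have hinvO' : ∀ q ∈ Q, ∀ i ∈ Oᶜ, ∃ j ∈ Oᶜ, ∀ y, q * y * q⁻¹ ∈ E j ↔ y ∈ E i := by
    intro q hq i hi
    obtain ⟨j, hj⟩ := h.str.perm q i
    refine ⟨j, ?_, hj⟩
    intro hjO
    apply hi
    rw [hO] at hjO ⊢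
    obtain ⟨r, hr, hr'⟩ := hjO
    refine ⟨q⁻¹ * r, Q.mul_mem (Q.inv_mem hq) hr, fun x => ?_⟩
    rw [← hj, ← hr']
    rw [show q * (q⁻¹ * r * x * (q⁻¹ * r)⁻¹) * q⁻¹ = r * x * r⁻¹ by group]
  have hQp : IsPGroup p ↥Q := h.hT.to_le h.QT
  -- the general step
  have step : ∀ P : Set (Fin k), P.Nonempty → (∀ q ∈ Q, ∀ i ∈ P, ∃ j ∈ P, ∀ y, q * y * q⁻¹ ∈ E j ↔ y ∈ E i) →
      ∀ j ∉ P, E j ≤ normalizer (Q : Set X) := by
    intro P ⟨i, hi⟩ hinv j hj x hx
    have hW : (⨆ i ∈ P, cm V (E i)) ≠ ⊥ := by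
      intro hb
      apply cm_ne_bot h i
      rw [eq_bot_iff, ← hb]
      exact le_iSup₂_of_le i hi le_rfl
    obtain ⟨w, hw, hw1, hwQ⟩ := exists_fixed h.hVp hQp hW (fun q hq w hw => smul_iSup_mem (hinv q hq) hw)
    refine h.pt w hw1 hwQ x ?_
    have h1 : (⨆ i ∈ P, cm V (E i)) ≤ fx V (zpowers x) := by
      refine iSup₂_le fun i hi u hu => ?_
      have h2 : x • u = u := h.str.fix i j (fun e => hj (e ▸ hi)) x hx u hu
      intro y hy
      have h3 : zpowers x ≤ MulAction.stabilizer X u := by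
        rw [zpowers_le]
        exact h2
      exact h3 hy
    exact h1 hw x (mem_zpowers x)
  apply h.Qn
  have hall : ∀ j, E j ≤ normalizer (Q : Set X) := by
    intro j
    by_cases hj : j ∈ O
    · exact step Oᶜ ⟨j0, hj0'⟩ hinvO' j (fun h => h hj)
    · exact step O ⟨i0, hi0⟩ hinvO j hj
  have h1 : (⊤ : Subgroup X) ≤ normalizer (Q : Set X) := by
    rw [← h.str.top]
    exact sup_le (iSup_le hall) h.TQ
  exact normalizer_eq_top_iff.1 (top_le_iff.1 h1)

/-- `E i` has a Sylow `p`-subgroup in `T` -/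
theorem not_dvd (h : Pt p X V T Q A E) (i : Fin k) : ¬ p ∣ T.relIndex (E i) := by
  have hJ := h.str.norm
  have h1 : T.relIndex (⨆ i, E i) ∣ T.index := Cfsg.Agent.Lib.GoldschmidtFusion.relIndex_dvd_index_of_normal_right T _
  have hle : E i ≤ ⨆ i, E i := le_iSup E i
  have hn : (E i).subgroupOf (⨆ i, E i) |>.Normal := by
    rw [normal_subgroupOf_iff_le_normalizer hle]
    refine iSup_le fun j => ?_
    by_cases hij : i = j
    · subst hij
      exact le_normalizer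
    · intro y hy
      rw [mem_normalizer_iff]
      intro x
      constructor
      · intro hx
        rw [← h.str.comm i j hij x hx y hy, mul_inv_cancel_right]
        exact hx
      · intro hx
        have h3 := h.str.comm i j hij _ hx y hy
        have h4 : x = y * x * y⁻¹ := by
          calc x = y⁻¹ * (y * x * y⁻¹ * y) := by group
            _ = y⁻¹ * (y * (y * x * y⁻¹)) := by rw [h3]
            _ = _ := by group
        rw [h4]
        exact hx
  have h2 := Cfsg.Agent.Lib.GoldschmidtFusion.relIndex_dvd_index_of_normal_right (T.subgroupOf (⨆ i, E i))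
    ((E i).subgroupOf (⨆ i, E i))
  rw [relIndex_subgroupOf hle] at h2
  exact fun hd => h.hTi ((hd.trans h2).trans h1)

/-- the components of a vector -/
theorem exists_split (h : Pt p X V T Q A E) (v : V) (i : Fin k) :
    ∃ u ∈ cm V (E i), ∃ w ∈ ⨆ j ∈ {j | j ≠ i}, cm V (E j), v = u * w := by
  obtain ⟨w, hw, c, hc, e⟩ := h.str.split v
  rw [h.fx_bot, mem_bot] at hc
  rw [hc, mul_one] at e
  subst e
  have h1 : (⨆ i, cm V (E i)) ≤ cm V (E i) ⊔ ⨆ j ∈ {j | j ≠ i}, cm V (E j) := by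
    refine iSup_le fun j => ?_
    by_cases hij : j = i
    · subst hij
      exact le_sup_left
    · have h2 : cm V (E j) ≤ ⨆ j ∈ {j | j ≠ i}, cm V (E j) :=
        le_iSup₂_of_le (f := fun j (_ : j ∈ {j | j ≠ i}) => cm V (E j)) j hij le_rfl
      exact h2.trans le_sup_right
  have hnorm : (cm V (E i)).Normal := ⟨fun a ha g => by rw [h.hV g a, mul_inv_cancel_right]; exact ha⟩
  obtain ⟨u, hu, w', hw', e⟩ := mem_sup_of_normal_left.1 (h1 hw)
  exact ⟨u, hu, w', hw', e.symm⟩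

/-- `E i` fixes the other components -/
theorem fix_other (h : Pt p X V T Q A E) {i : Fin k} {y : X} (hy : y ∈ E i) {w : V}
    (hw : w ∈ ⨆ j ∈ {j | j ≠ i}, cm V (E j)) : y • w = w := by
  have h1 : (⨆ j ∈ {j | j ≠ i}, cm V (E j)) ≤ fx V (zpowers y) := by
    refine iSup₂_le fun j hj u hu => ?_
    have h2 : y • u = u := h.str.fix j i hj y hy u hu
    intro z hz
    have h3 : zpowers y ≤ MulAction.stabilizer X u := by
      rw [zpowers_le]
      exact h2
    exact h3 hz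
  exact h1 hw y (mem_zpowers y)

section perm

open Equiv

/-- the stabilizer of a pair has even index in `Sym(2^n + 1)`, `n ≥ 2` -/
theorem even_index {n : ℕ} (hn : 2 ≤ n) {a b : Fin (2 ^ n + 1)} (hab : a ≠ b) {H : Subgroup (Perm (Fin (2 ^ n + 1)))}
    (hH : ∀ σ ∈ H, ∀ z, (z = a ∨ z = b) ↔ (σ z = a ∨ σ z = b)) : 2 ∣ H.index := by
  classical
  let act : MulAction (Perm (Fin (2 ^ n + 1))) (Finset (Fin (2 ^ n + 1))) :=
    { smul := fun σ s => s.map σ.toEmbedding
      one_smul := fun s => Finset.map_refl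
      mul_smul := fun σ τ s => by
        change s.map _ = (s.map _).map _
        rw [Finset.map_map]
        rfl }
  have hsm : ∀ (σ : Perm (Fin (2 ^ n + 1))) (s : Finset (Fin (2 ^ n + 1))), σ • s = s.map σ.toEmbedding := fun _ _ => rfl
  have hle : H ≤ MulAction.stabilizer (Perm (Fin (2 ^ n + 1))) ({a, b} : Finset (Fin (2 ^ n + 1))) := by
    intro σ hσ
    rw [MulAction.mem_stabilizer_iff, hsm]
    ext z
    rw [Finset.mem_map_equiv, Finset.mem_insert, Finset.mem_singleton, Finset.mem_insert, Finset.mem_singleton]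
    have := hH σ hσ (σ.symm z)
    rw [Equiv.apply_symm_apply] at this
    exact this
  refine dvd_trans ?_ (index_dvd_of_le hle)
  rw [MulAction.index_stabilizer]
  have horb : MulAction.orbit (Perm (Fin (2 ^ n + 1))) ({a, b} : Finset (Fin (2 ^ n + 1))) =
      ↑(Finset.powersetCard 2 (Finset.univ : Finset (Fin (2 ^ n + 1)))) := by
    ext s
    rw [Finset.mem_coe, Finset.mem_powersetCard]
    constructor
    · rintro ⟨σ, rfl⟩
      refine ⟨Finset.subset_univ _, ?_⟩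
      change (Finset.map _ _).card = 2
      rw [Finset.card_map, Finset.card_pair hab]
    · rintro ⟨-, hs⟩
      obtain ⟨c, d, hcd, rfl⟩ := Finset.card_eq_two.1 hs
      refine ⟨swap (swap a c b) d * swap a c, ?_⟩
      change Finset.map _ _ = _
      have he : swap a c b ≠ c := by
        intro he
        apply hab
        have h3 : swap a c b = swap a c a := he.trans (swap_apply_left a c).symm
        exact ((swap a c).injective h3).symm
      rw [Finset.map_insert, Finset.map_singleton]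
      change ({(swap (swap a c b) d * swap a c) a, (swap (swap a c b) d * swap a c) b} : Finset _) = _
      rw [Perm.mul_apply, Perm.mul_apply, swap_apply_left, swap_apply_left, swap_apply_of_ne_of_ne he.symm hcd]
  rw [horb, Set.ncard_coe_finset, Finset.card_powersetCard, Finset.card_univ, Fintype.card_fin, Nat.choose_two_right,
    Nat.add_sub_cancel]
  obtain ⟨m, rfl⟩ : ∃ m, n = m + 2 := ⟨n - 2, by omega⟩
  have : (2 ^ (m + 2) + 1) * 2 ^ (m + 2) / 2 = (2 ^ (m + 2) + 1) * 2 ^ (m + 1) := by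
    rw [pow_succ 2 (m + 1), ← mul_assoc, Nat.mul_div_cancel _ (by norm_num)]
  rw [this, pow_succ]
  exact ⟨(2 ^ (m + 2) + 1) * 2 ^ m, by ring⟩

end perm

/-- the symmetric groups are excluded -/
theorem not_sym {T Q A : Subgroup X} {E : Fin k → Subgroup X} (h : Pt 2 X V T Q A E) {n : ℕ} (hn : 2 ≤ n)
    (hS : ∀ i, SymOff (2 ^ n + 1) V T (E i)) : False := by
  classical
  obtain ⟨C⟩ := exists_co hS
  -- the transposition `x`
  obtain ⟨i, hi⟩ := exists_inf_ne h.str (h.AQ.trans h.QT) h.off h.A_ne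
  obtain ⟨x', hx', hx1⟩ := ((A ⊓ E i).bot_or_exists_ne_one).resolve_left hi
  obtain ⟨a, ha⟩ : ∃ a, C.ρ i ⟨x', hx'.2⟩ a ≠ a := by
    by_contra hcon
    push Not at hcon
    apply hx1
    have h1 : C.ρ i ⟨x', hx'.2⟩ = 1 := Equiv.ext hcon
    have h2 := (map_eq_one_iff _ (C.ρ i).injective).1 h1
    exact congrArg Subtype.val h2
  obtain ⟨x, hxA, hx⟩ := C.off i A (h.AQ.trans h.QT) h.off ⟨x', hx'.2⟩ hx'.1 a ha
  obtain ⟨b, hb⟩ : ∃ b, b = C.ρ i ⟨x', hx'.2⟩ a := ⟨_, rfl⟩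
  rw [← hb] at hx ha
  have hab : a ≠ b := ha.symm
  -- a fixed vector of `T`
  have hV1 : (⊤ : Subgroup V) ≠ ⊥ := by
    intro h0
    apply cm_ne_bot h i
    rw [eq_bot_iff, ← h0]
    exact le_top
  obtain ⟨v, -, hv1, hvT⟩ := exists_fixed h.hVp h.hT hV1 (fun _ _ _ _ => mem_top _)
  obtain ⟨u, hu, w, hw, huw⟩ := exists_split h v i
  have hvQ : ∀ q ∈ Q, q • v = v := fun q hq => hvT q (h.QT hq)
  -- elements of `E i`
  have hfixE : ∀ y ∈ E i, (y • v = v ↔ y • u = u) := by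
    intro y hy
    rw [huw, smul_mul', fix_other h hy hw]
    exact mul_left_inj w
  -- `u ≠ 1`
  have hu1 : u ≠ 1 := by
    intro h0
    have hvi : ∀ y ∈ E i, y • v = v := fun y hy => (hfixE y hy).2 (by rw [h0, smul_one])
    apply hv1
    have h1 : v ∈ fx V (⨆ i, E i) := by
      refine mem_fx_iSup fun j y hy => ?_
      obtain ⟨t, ht, htE⟩ := h.str.trans i j
      have h2 := hvi (t⁻¹ * y * t) ((htE _).1 (by rw [show t * (t⁻¹ * y * t) * t⁻¹ = y by group]; exact hy))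
      have h3 : y • t • v = t • v := by
        rw [← mul_smul, ← show t * (t⁻¹ * y * t) = y * t by group, mul_smul, h2]
      rwa [hvT t ht] at h3
    rw [h.fx_bot, mem_bot] at h1
    exact h1
  obtain ⟨f, hf⟩ : ∃ f, f = Multiplicative.toAdd (C.ψ i ⟨u, hu⟩) := ⟨_, rfl⟩
  have hfe : ∑ j, f j = 0 := by rw [hf]; exact C.even i _
  have hfT : ∀ y : ↥(E i), (y : X) ∈ T → ∀ z, f ((C.ρ i y)⁻¹ z) = f z := by
    intro y hy z
    have h1 : (y : X) • u = u := (hfixE y y.2).1 (hvT y hy)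
    have h2 := C.act i y ⟨u, hu⟩ ⟨u, hu⟩ h1.symm z
    rw [← hf] at h2
    exact h2.symm
  have hAT : A ≤ T := h.AQ.trans h.QT
  have hfab : f a = f b := by
    have h1 := hfT x (hAT hxA) b
    rw [hx, Equiv.swap_inv, Equiv.swap_apply_right] at h1
    exact h1
  by_cases hd : ∃ d, d ≠ a ∧ d ≠ b ∧ f b = f d
  · obtain ⟨d, hda, hdb, hfd⟩ := hd
    obtain ⟨y, hy⟩ := (C.ρ i).surjective (Equiv.swap b d)
    have h1 : (y : X) • u = u := C.fx i y b d hdb.symm hy ⟨u, hu⟩ (by rw [← hf]; exact hfd)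
    have h2 := h.pt v hv1 hvQ y ((hfixE y y.2).2 h1)
    have h3 : (y : X) * x * (y : X)⁻¹ ∈ Q := (mem_normalizer_iff.1 h2 x).1 (h.AQ hxA)
    have h4 : (x : X) * ((y : X) * x * (y : X)⁻¹) ∈ Q := Q.mul_mem (h.AQ hxA) h3
    obtain ⟨N, hN⟩ := (h.hT.to_le h.QT) ⟨_, h4⟩
    have h5 : ((x : X) * ((y : X) * x * (y : X)⁻¹)) ^ 2 ^ N = 1 := congrArg Subtype.val hN
    have h6 : (x * (y * x * y⁻¹)) ^ 2 ^ N = 1 := Subtype.ext (by simpa only [_root_.SubmonoidClass.coe_pow, _root_.Subgroup.coe_mul, _root_.InvMemClass.coe_inv, _root_.OneMemClass.coe_one] using h5)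
    have h7 : (Equiv.swap a b * Equiv.swap a d) ^ 2 ^ N = 1 := by
      have h8 := congrArg (C.ρ i) h6
      rw [map_pow, map_one, map_mul, map_mul, map_mul, map_inv, hx, hy] at h8
      have h9 : Equiv.swap b d * Equiv.swap a b * (Equiv.swap b d)⁻¹ = Equiv.swap a d := by
        rw [← Equiv.swap_apply_apply, Equiv.swap_apply_left, Equiv.swap_apply_of_ne_of_ne hab hda.symm]
      rw [h9] at h8
      exact h8
    have h8 := (Equiv.Perm.isThreeCycle_swap_mul_swap_same hab hda.symm hdb.symm).orderOf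
    have h9 := orderOf_dvd_of_pow_eq_one h7
    rw [h8] at h9
    exact three_not_dvd N h9
  · push Not at hd
    have hz : ∀ z, (z = a ∨ z = b) ↔ f z = f b := by
      intro z
      constructor
      · rintro (rfl | rfl)
        · exact hfab
        · rfl
      · intro hz
        by_contra hcon
        push Not at hcon
        exact hd z hcon.1 hcon.2 hz.symm
    have h1 : 2 ∣ ((T.subgroupOf (E i)).map (C.ρ i : ↥(E i) →* Equiv.Perm (Fin (2 ^ n + 1)))).index := by
      refine even_index hn hab ?_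
      rintro _ ⟨y, hy, rfl⟩ z
      rw [hz, hz]
      have h2 := hfT y (mem_subgroupOf.1 hy) (C.ρ i y z)
      rw [← Equiv.Perm.mul_apply, inv_mul_cancel, Equiv.Perm.one_apply] at h2
      rw [h2]
      rfl
    rw [index_map_equiv] at h1
    exact not_dvd h i h1

/-- **(B)** -/
theorem nat (h : Pt p X V T Q A E) : ∃ (F : Type) (_ : Field F) (_ : Fintype F) (n : ℕ), 1 ≤ n ∧
    Fintype.card F = p ^ n ∧ ∀ i, NatOff p F V T (E i) := by
  rcases h.str.fine with h1 | ⟨rfl, n, hn, hS⟩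
  · exact h1
  · exact (not_sym h hn hS).elim

/-- **(C)** -/
theorem inf_eq (h : Pt p X V T Q A E) {F : Type} [Field F] [Fintype F] {n : ℕ} (_hn : 1 ≤ n)
    (_hc : Fintype.card F = p ^ n) (hN : ∀ i, NatOff p F V T (E i)) : ∀ i, A ⊓ E i = T ⊓ E i := by
  have hAT : A ≤ T := h.AQ.trans h.QT
  obtain ⟨⟨i, hi⟩, -⟩ := all_off h.hV h.hT h.str hN hAT h.off h.A_ne
  intro j
  obtain ⟨q, hq, hqE⟩ := trans h i j
  rw [← inf_conj (h.QT hq) hqE, ← hi]
  ext y
  constructor
  · rintro ⟨hy1, hy2⟩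
    refine ⟨q⁻¹ * y * q, ⟨?_, ?_⟩, ?_⟩
    · have h1 := (mem_normalizer_iff.1 (h.QA (Q.inv_mem hq)) y).1 hy1
      rwa [inv_inv] at h1
    · change q⁻¹ * y * q ∈ E i
      rw [← hqE, show q * (q⁻¹ * y * q) * q⁻¹ = y by group]
      exact hy2
    · change q * (q⁻¹ * y * q) * q⁻¹ = y
      group
  · rintro ⟨z, ⟨hz1, hz2⟩, rfl⟩
    exact ⟨(mem_normalizer_iff.1 (h.QA hq) z).1 hz1, (hqE z).2 hz2⟩

end Cfsg.Agent.H538.P1
end

-- part: H250/P1/Alpha
section
/-!
# The `P!`-theorem (S3046), Case A, (alpha): the structure `AStr` exists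
-/

set_option autoImplicit false

open Cfsg Subgroup
open Cfsg.Agent.H230 Cfsg.Agent.H229 Cfsg.Agent.H247.P1
open Cfsg.Agent.H250.FFFam Cfsg.Agent.H250.FFStr Cfsg.Agent.H250.FFSL2
open scoped commutatorElement

namespace Cfsg.Agent.H250.P1

universe u

variable {H : Type u} [Group H] {p : ℕ} {S : Sylow p H} {Z C Q P : Subgroup H} [Finite H] [Fact p.Prime]

/-- **(alpha)** -/
theorem exists_aStr (h : PHyp p S Z C Q P) (hVQ : largestPReducedOf p P ≤ Q)
    (hex : ∃ c ∈ C, ⁅largestPReducedOf p P, cj c (largestPReducedOf p P)⁆ ≠ ⊥) :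
    ∃ (r : ℕ) (E W : Fin r → Subgroup H) (J R : Subgroup H) (F : Type) (_ : Field F) (_ : Fintype F),
      AStr p S Z C Q P (largestPReducedOf p P) (pCoreOf p P) J R E W F := by
  obtain ⟨c0, hc0, hne0⟩ := hex
  obtain ⟨c, hc, hne, hoff⟩ := exists_off h hVQ hc0 hne0
  obtain ⟨k, E, hS⟩ := exists_str h (im_mono _ (cj_le_S h hVQ hc)) hoff
    (fun h1 => hne ((im_eq_bot _ (cj_le_P h hVQ hc)).1 h1))
  have hpt := pt_of h hVQ hS hc hne
  obtain ⟨F, iF, iFt, n, hn, hcard, hN⟩ := H538.P1.nat hpt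
  have hnf := FFSym2.all_nf hpt.hV hpt.hT hS hn hcard hN (hpt.AQ.trans hpt.QT) hpt.off hpt.A_ne
  exact ⟨k, _, _, _, _, F, iF, iFt, aStr h hVQ hS hn hcard hnf
    (fun i => ((FFSym2.all_off hpt.hV hpt.hT hS hN (hpt.AQ.trans hpt.QT) hpt.off hpt.A_ne).2 i).2)
    (H538.P1.trans hpt) (fun c hc hne i => H538.P1.inf_eq (pt_of h hVQ hS hc hne) hn hcard hN i) ⟨c, hc, hne⟩⟩

end Cfsg.Agent.H250.P1
end
end
end

-- part: H736/P1/One
section
set_option linter.all false
open scoped Cfsg.Agent.FastGrp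

/-!
# The `P!`-theorem (S3046), Case A, steps (gamma) and (eps)

`AStr.one_of_gt`: `r = 1` if `|F| > 2`.  `AStr.concl`: the conclusion for `r = 1`.
-/

set_option autoImplicit false
set_option linter.unusedSectionVars false

open Cfsg Subgroup
open Cfsg.Agent.H230 Cfsg.Agent.H229 Cfsg.Agent.H247.P1 Cfsg.Agent.H250.P1

namespace Cfsg.Agent.H736.P1

/-! ### `M₂(F)` acting on `F²` -/

section Mat

variable {F : Type} [Field F]

/-- matrices as additive endomorphisms of `F²` -/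
def mv : Matrix (Fin 2) (Fin 2) F →+* AddMonoid.End (Fin 2 → F) where
  toFun A :=
    { toFun := fun v => A.mulVec v
      map_zero' := Matrix.mulVec_zero A
      map_add' := fun v w => Matrix.mulVec_add A v w }
  map_one' := by
    apply AddMonoidHom.ext; intro v
    exact Matrix.one_mulVec v
  map_mul' A B := by
    apply AddMonoidHom.ext; intro v
    exact (Matrix.mulVec_mulVec v A B).symm
  map_zero' := by
    apply AddMonoidHom.ext; intro v
    exact Matrix.zero_mulVec v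
  map_add' A B := by
    apply AddMonoidHom.ext; intro v
    exact Matrix.add_mulVec A B v

theorem mv_apply (A : Matrix (Fin 2) (Fin 2) F) (v : Fin 2 → F) : mv A v = A.mulVec v := rfl

theorem mv_inj {A B : Matrix (Fin 2) (Fin 2) F} (h : mv A = mv B) : A = B := by
  apply Matrix.mulVec_injective
  funext v
  exact congrArg (fun f : AddMonoid.End (Fin 2 → F) => f v) h

theorem end_mul_apply (f g : AddMonoid.End (Fin 2 → F)) (v : Fin 2 → F) : (f * g) v = f (g v) := rfl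

theorem end_one_apply (v : Fin 2 → F) : (1 : AddMonoid.End (Fin 2 → F)) v = v := rfl

/-- the upper unitriangular matrix -/
def up (a : F) : Matrix (Fin 2) (Fin 2) F := !![1, a; 0, 1]

theorem mv_up_line (a b : F) : mv (up a) ![b, 0] = ![b, 0] := by
  rw [mv_apply, up]
  funext i
  (revert i; simp only [Matrix.mulVec, dotProduct, Fin.sum_univ_two, _root_.Fin.forall_fin_succ, _root_.Matrix.of_apply, _root_.Matrix.cons_val', _root_.Matrix.cons_val_fin_one, Fin.isValue, _root_.Matrix.cons_val_zero, _root_.Matrix.cons_val_one, _root_.MulZeroClass.mul_zero, _root_.add_zero, _root_.Nat.succ_eq_add_one, Nat.reduceAdd, _root_.one_mul, _root_.Matrix.cons_val_succ, _root_.MulZeroClass.zero_mul, _root_.implies_true, _root_.and_self])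

theorem mv_diag_line (l l' b : F) : mv !![l, 0; 0, l'] ![b, 0] = ![l * b, 0] := by
  rw [mv_apply]
  funext i
  (revert i; simp only [Matrix.mulVec, dotProduct, Fin.sum_univ_two, _root_.Fin.forall_fin_succ, _root_.Matrix.of_apply, _root_.Matrix.cons_val', _root_.Matrix.cons_val_fin_one, Fin.isValue, _root_.Matrix.cons_val_zero, _root_.Matrix.cons_val_one, _root_.MulZeroClass.mul_zero, _root_.add_zero, _root_.Nat.succ_eq_add_one, Nat.reduceAdd, _root_.Matrix.cons_val_succ, _root_.MulZeroClass.zero_mul, _root_.implies_true, _root_.and_self])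

/-- in characteristic `p`, a `p`-power root of unity is `1`. -/
theorem eq_one_of_pow {p : ℕ} [hp : Fact p.Prime] [CharP F p] {a : F} {k : ℕ} (h : a ^ p ^ k = 1) : a = 1 := by
  have h1 : (a - 1) ^ p ^ k = 0 := by
    rw [sub_pow_char_pow, h, one_pow, sub_self]
  have h2 := pow_eq_zero_iff (pow_ne_zero k hp.out.ne_zero) |>.1 h1
  exact sub_eq_zero.1 h2

theorem pow_upper (a b d : F) (n : ℕ) :
    ∃ e : F, (!![a, b; 0, d] : Matrix (Fin 2) (Fin 2) F) ^ n = !![a ^ n, e; 0, d ^ n] := by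
  induction n with
  | zero => exact ⟨0, by ext i j; (revert i j; simp only [_root_.Fin.forall_fin_succ, _root_.pow_zero, _root_.Matrix.of_apply, _root_.Matrix.cons_val', _root_.Matrix.cons_val_fin_one, Fin.isValue, _root_.Matrix.cons_val_zero, _root_.Matrix.cons_val_succ, _root_.IsEmpty.forall_iff, _root_.and_true, _root_.Matrix.one_apply_eq, Nat.reduceAdd, _root_.Fin.succ_zero_eq_one, _root_.ne_eq, _root_.zero_ne_one, _root_.not_false_eq_true, _root_.Matrix.one_apply_ne, _root_.and_self, _root_.Fin.succ_ne_zero, _root_.true_and])⟩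
  | succ n ih =>
    obtain ⟨e, he⟩ := ih
    refine ⟨a ^ n * b + e * d, ?_⟩
    rw [pow_succ, he]
    ext i j
    (revert i j; simp only [Matrix.mul_apply, Fin.sum_univ_two, pow_succ, _root_.Fin.forall_fin_succ, _root_.Matrix.of_apply, _root_.Matrix.cons_val', _root_.Matrix.cons_val_fin_one, Fin.isValue, _root_.Matrix.cons_val_zero, _root_.Matrix.cons_val_one, _root_.MulZeroClass.mul_zero, _root_.add_zero, _root_.Matrix.cons_val_succ, _root_.forall_const, _root_.and_self, _root_.MulZeroClass.zero_mul, _root_.zero_add, _root_.implies_true])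

theorem unip_of_pow {p : ℕ} [hp : Fact p.Prime] [CharP F p] {a b d : F} {k : ℕ}
    (h : (!![a, b; 0, d] : Matrix (Fin 2) (Fin 2) F) ^ p ^ k = 1) : a = 1 ∧ d = 1 := by
  obtain ⟨e, he⟩ := pow_upper a b d (p ^ k)
  rw [he] at h
  have h0 := congrFun (congrFun h 0) 0
  have h1 := congrFun (congrFun h 1) 1
  simp only [_root_.Fin.isValue, _root_.Matrix.of_apply, _root_.Matrix.cons_val', _root_.Matrix.cons_val_zero, _root_.Matrix.cons_val_fin_one, _root_.Matrix.one_apply_eq, _root_.Matrix.cons_val_one] at h0 h1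
  exact ⟨eq_one_of_pow h0, eq_one_of_pow h1⟩

/-- a map of `p`-power order preserving the line `(*, 0)` and commuting there with the scalars is trivial on it. -/
theorem line_fix {p : ℕ} [hp : Fact p.Prime] [CharP F p] {y : AddMonoid.End (Fin 2 → F)} {k : ℕ}
    (hy : y ^ p ^ k = 1) (hl : ∀ a : F, ∃ b : F, y ![a, 0] = ![b, 0])
    (hc : ∀ l : F, l ≠ 0 → ∃ m : F, y * mv !![l, 0; 0, l⁻¹] = mv (up m) * mv !![l, 0; 0, l⁻¹] * y) (a : F) :
    y ![a, 0] = ![a, 0] := by
  obtain ⟨c, hc1⟩ := hl 1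
  have h1 : ∀ l : F, y ![l, 0] = ![c * l, 0] := by
    intro l
    by_cases hl0 : l = 0
    · subst hl0
      have : (![0, 0] : Fin 2 → F) = 0 := by funext i; fin_cases i <;> rfl
      rw [mul_zero, this, map_zero]
    · obtain ⟨m, hm⟩ := hc l hl0
      have h2 := congrArg (fun f : AddMonoid.End (Fin 2 → F) => f ![1, 0]) hm
      simp only [end_mul_apply] at h2
      rw [mv_diag_line, hc1, mv_diag_line, mv_up_line, mul_one] at h2
      rw [h2, mul_comm]
  have h3 : ∀ (n : ℕ) (l : F), (y ^ n) ![l, 0] = ![c ^ n * l, 0] := by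
    intro n
    induction n with
    | zero => intro l; rw [pow_zero, pow_zero, one_mul]; rfl
    | succ n ih =>
      intro l
      rw [pow_succ, end_mul_apply, h1, ih, pow_succ, mul_assoc]
  have h4 := h3 (p ^ k) 1
  rw [hy, end_one_apply, mul_one] at h4
  have h5 := congrFun h4 0
  simp at h5
  have h6 : c = 1 := eq_one_of_pow h5.symm
  rw [h1, h6, one_mul]

/-- the centraliser of `SL₂(F)` in `M₂(F)`. -/
theorem scalar_of_comm {N : Matrix (Fin 2) (Fin 2) F} (h1 : N * up 1 = up 1 * N)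
    (h2 : N * !![1, 0; 1, 1] = !![1, 0; 1, 1] * N) : ∃ m : F, N = m • 1 := by
  refine ⟨N 0 0, ?_⟩
  have a1 := congrFun (congrFun h1 0) 0
  have a2 := congrFun (congrFun h1 0) 1
  have b1 := congrFun (congrFun h2 0) 0
  simp only [up, Matrix.mul_apply, Fin.sum_univ_two, _root_.Fin.isValue, _root_.Matrix.of_apply, _root_.Matrix.cons_val', _root_.Matrix.cons_val_zero, _root_.Matrix.cons_val_fin_one, _root_.mul_one, _root_.Matrix.cons_val_one, _root_.MulZeroClass.mul_zero, _root_.add_zero, _root_.one_mul, _root_.left_eq_add, _root_.MulZeroClass.zero_mul, _root_.add_eq_left] at a1 a2 b1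
  ext i j
  fin_cases i <;> fin_cases j
  · simp
  · simpa using b1
  · simpa using a1
  · simp; linear_combination -a2

/-- an additive automorphism of `F²` normalising `SL₂(F)` and trivial on the line `(*, 0)` is `F`-linear. -/
theorem lin_of_norm {y yi : AddMonoid.End (Fin 2 → F)} (h1 : y * yi = 1) (h2 : yi * y = 1)
    (hn : ∀ A : Matrix.SpecialLinearGroup (Fin 2) F, ∃ B : Matrix (Fin 2) (Fin 2) F,
      y * mv (A : Matrix (Fin 2) (Fin 2) F) * yi = mv B)
    (hn' : ∀ A : Matrix.SpecialLinearGroup (Fin 2) F, ∃ B : Matrix (Fin 2) (Fin 2) F,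
      yi * mv (A : Matrix (Fin 2) (Fin 2) F) * y = mv B)
    (hf : ∀ a : F, y ![a, 0] = ![a, 0]) : ∃ b d : F, y = mv !![1, b; 0, d] := by
  have hfi : ∀ a : F, yi ![a, 0] = ![a, 0] := by
    intro a
    have := congrArg (fun f : AddMonoid.End (Fin 2 → F) => f ![a, 0]) h2
    simp only [end_mul_apply, end_one_apply] at this
    rwa [hf] at this
  -- `y` commutes with the scalars
  have key : ∀ l : F, y * mv (l • 1) = mv (l • 1) * y := by
    intro l
    obtain ⟨B, hB⟩ := hn ⟨up l, by simp [up, Matrix.det_fin_two]⟩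
    obtain ⟨B', hB'⟩ := hn ⟨!![1, 0; 1, 1], by simp [Matrix.det_fin_two]⟩
    change y * mv (up l) * yi = mv B at hB
    change y * mv !![1, 0; 1, 1] * yi = mv B' at hB'
    have e0 : (l • (1 : Matrix (Fin 2) (Fin 2) F)) =
        (up l - 1) * (!![1, 0; 1, 1] - 1) + (!![1, 0; 1, 1] - 1) * (up l - 1) := by
      ext i j
      fin_cases i <;> fin_cases j <;> simp [up, Matrix.mul_apply, Fin.sum_univ_two]
    have e1 : y * mv (l • 1) * yi = mv ((B - 1) * (B' - 1) + (B' - 1) * (B - 1)) := by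
      rw [e0]
      simp only [map_add, map_mul, map_sub, map_one]
      rw [← hB, ← hB']
      have a1 : ∀ X X' : AddMonoid.End (Fin 2 → F), y * ((X - 1) * (X' - 1)) * yi =
          (y * X * yi - 1) * (y * X' * yi - 1) := by
        intro X X'
        have b1 : ∀ Y : AddMonoid.End (Fin 2 → F), y * (Y - 1) * yi = y * Y * yi - 1 := by
          intro Y
          rw [mul_sub, sub_mul, mul_one, h1]
        rw [← b1, ← b1]
        calc y * ((X - 1) * (X' - 1)) * yi = y * ((X - 1) * (1 * (X' - 1))) * yi := by rw [one_mul]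
          _ = y * ((X - 1) * ((yi * y) * (X' - 1))) * yi := by rw [h2]
          _ = _ := by noncomm_ring
      rw [mul_add, add_mul, a1, a1]
    set N := (B - 1) * (B' - 1) + (B' - 1) * (B - 1) with hN
    have hcm : ∀ A : Matrix.SpecialLinearGroup (Fin 2) F, N * (A : Matrix (Fin 2) (Fin 2) F) = A * N := by
      intro A
      apply mv_inj
      obtain ⟨B2, hB2⟩ := hn' A
      rw [map_mul, map_mul, ← e1]
      have e2 : mv (l • 1) * mv B2 = mv B2 * mv (l • 1) := by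
        rw [← map_mul, ← map_mul]; simp only [_root_.Algebra.smul_mul_assoc, _root_.one_mul, _root_.Algebra.mul_smul_comm, _root_.mul_one]
      have e3 : yi * mv (A : Matrix (Fin 2) (Fin 2) F) = mv B2 * yi := by
        rw [← hB2, mul_assoc _ y yi, h1, mul_one]
      have e4 : y * mv B2 = mv (A : Matrix (Fin 2) (Fin 2) F) * y := by
        rw [← hB2, ← mul_assoc, ← mul_assoc, h1, one_mul]
      calc y * mv (l • 1) * yi * mv (A : Matrix (Fin 2) (Fin 2) F)
          = y * mv (l • 1) * (yi * mv (A : Matrix (Fin 2) (Fin 2) F)) := by rw [mul_assoc]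
        _ = y * (mv (l • 1) * mv B2) * yi := by rw [e3]; noncomm_ring
        _ = (y * mv B2) * mv (l • 1) * yi := by rw [e2]; noncomm_ring
        _ = mv (A : Matrix (Fin 2) (Fin 2) F) * (y * mv (l • 1) * yi) := by rw [e4]; noncomm_ring
    obtain ⟨m, hm⟩ := scalar_of_comm (N := N)
      (hcm ⟨up 1, by simp [up, Matrix.det_fin_two]⟩) (hcm ⟨!![1, 0; 1, 1], by simp [Matrix.det_fin_two]⟩)
    rw [hm] at e1
    have e5 := congrArg (fun f : AddMonoid.End (Fin 2 → F) => f ![1, 0]) e1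
    simp only [end_mul_apply, hfi] at e5
    have e6 : ∀ c : F, mv (c • 1) ![(1 : F), 0] = ![c, 0] := by
      intro c
      rw [mv_apply]
      funext i
      (revert i; simp only [Matrix.smul_mulVec, _root_.Fin.forall_fin_succ, _root_.Matrix.one_mulVec, _root_.Pi.smul_apply, _root_.smul_eq_mul, _root_.Nat.succ_eq_add_one, Nat.reduceAdd, Fin.isValue, _root_.Matrix.cons_val_zero, _root_.mul_one, _root_.Matrix.cons_val_succ, _root_.Matrix.cons_val_fin_one, _root_.MulZeroClass.mul_zero, _root_.implies_true, _root_.and_self])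
    rw [e6, e6, hf] at e5
    have e7 : l = m := by simpa using congrFun e5 0
    rw [← e7] at e1
    calc y * mv (l • 1) = y * mv (l • 1) * (yi * y) := by rw [h2, mul_one]
      _ = (y * mv (l • 1) * yi) * y := by noncomm_ring
      _ = _ := by rw [e1]
  have key' : ∀ (l : F) (v : Fin 2 → F), y (l • v) = l • y v := by
    intro l v
    have := congrArg (fun f : AddMonoid.End (Fin 2 → F) => f v) (key l)
    simp only [end_mul_apply, mv_apply, Matrix.smul_mulVec, Matrix.one_mulVec] at this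
    exact this
  refine ⟨(y ![0, 1]) 0, (y ![0, 1]) 1, ?_⟩
  apply AddMonoidHom.ext
  intro v
  have e1 : v = v 0 • ![1, 0] + v 1 • ![0, 1] := by
    funext i; (revert i; simp only [_root_.Fin.forall_fin_succ, _root_.Nat.succ_eq_add_one, Nat.reduceAdd, Fin.isValue, _root_.Matrix.smul_cons, _root_.smul_eq_mul, _root_.mul_one, _root_.MulZeroClass.mul_zero, _root_.Matrix.smul_empty, _root_.Pi.add_apply, _root_.Matrix.cons_val_zero, _root_.add_zero, _root_.Matrix.cons_val_succ, _root_.Matrix.cons_val_fin_one, _root_.zero_add, _root_.Fin.succ_zero_eq_one, _root_.IsEmpty.forall_iff, _root_.and_self])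
  have e2 : y v = v 0 • ![1, 0] + v 1 • y ![0, 1] := by
    conv_lhs => rw [e1]
    rw [map_add, key', key', hf]
  change y v = Matrix.mulVec !![1, (y ![0, 1]) 0; 0, (y ![0, 1]) 1] v
  rw [e2]
  funext i
  fin_cases i
  · simp [Matrix.mulVec, dotProduct, Fin.sum_univ_two]; ring
  · simp only [Matrix.mulVec, dotProduct, Fin.sum_univ_two, _root_.Nat.succ_eq_add_one, _root_.Nat.reduceAdd, _root_.Fin.isValue, _root_.Matrix.smul_cons, _root_.smul_eq_mul, _root_.mul_one, _root_.MulZeroClass.mul_zero, _root_.Matrix.smul_empty, _root_.Fin.mk_one, _root_.Pi.add_apply, _root_.Matrix.cons_val_one, _root_.Matrix.cons_val_fin_one, _root_.Pi.smul_apply, _root_.zero_add, _root_.Matrix.of_apply, _root_.Matrix.cons_val', _root_.Matrix.cons_val_zero, _root_.MulZeroClass.zero_mul]; ring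

/-- a normal subgroup of `SL₂(F)` containing the upper unitriangular matrices is everything. -/
theorem sl_top {X : Subgroup (Matrix.SpecialLinearGroup (Fin 2) F)} (hn : ∀ g, ∀ x ∈ X, g * x * g⁻¹ ∈ X)
    (hu : ∀ a : F, ∀ A : Matrix.SpecialLinearGroup (Fin 2) F, (A : Matrix (Fin 2) (Fin 2) F) = up a → A ∈ X)
    (A : Matrix.SpecialLinearGroup (Fin 2) F) : A ∈ X := by
  let U : F → Matrix.SpecialLinearGroup (Fin 2) F := fun a => ⟨up a, by simp [up, Matrix.det_fin_two]⟩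
  let L : F → Matrix.SpecialLinearGroup (Fin 2) F := fun a => ⟨!![1, 0; a, 1], by simp [Matrix.det_fin_two]⟩
  let w : Matrix.SpecialLinearGroup (Fin 2) F := ⟨!![0, -1; 1, 0], by simp [Matrix.det_fin_two]⟩
  have hU : ∀ a, U a ∈ X := fun a => hu a _ rfl
  have hL : ∀ a, L a ∈ X := by
    intro a
    have h1 : L a = w * U (-a) * w⁻¹ := by
      rw [eq_mul_inv_iff_mul_eq]
      apply Subtype.ext
      rw [Matrix.SpecialLinearGroup.coe_mul, Matrix.SpecialLinearGroup.coe_mul]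
      change (!![1, 0; a, 1] : Matrix (Fin 2) (Fin 2) F) * !![0, -1; 1, 0] = !![0, -1; 1, 0] * !![1, -a; 0, 1]
      ext i j
      (revert i j; simp only [Matrix.mul_apply, Fin.sum_univ_two, _root_.Fin.forall_fin_succ, _root_.Matrix.of_apply, _root_.Matrix.cons_val', _root_.Matrix.cons_val_fin_one, Fin.isValue, _root_.Matrix.cons_val_zero, _root_.Matrix.cons_val_one, _root_.MulZeroClass.mul_zero, _root_.mul_one, _root_.zero_add, _root_.add_zero, _root_.Matrix.cons_val_succ, _root_.mul_neg, _root_.forall_const, _root_.true_and, _root_.MulZeroClass.zero_mul, _root_.neg_zero, _root_.one_mul, _root_.implies_true, _root_.and_self])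
    rw [h1]
    exact hn _ _ (hU _)
  have hc : ∀ B : Matrix.SpecialLinearGroup (Fin 2) F, (B : Matrix (Fin 2) (Fin 2) F) 1 0 ≠ 0 → B ∈ X := by
    intro B hB
    have hdet : (B : Matrix (Fin 2) (Fin 2) F) 0 0 * (B : Matrix (Fin 2) (Fin 2) F) 1 1 -
        (B : Matrix (Fin 2) (Fin 2) F) 0 1 * (B : Matrix (Fin 2) (Fin 2) F) 1 0 = 1 := by
      rw [← Matrix.det_fin_two]; exact B.2
    set a := (B : Matrix (Fin 2) (Fin 2) F) 0 0
    set b := (B : Matrix (Fin 2) (Fin 2) F) 0 1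
    set c := (B : Matrix (Fin 2) (Fin 2) F) 1 0 with hcc
    set d := (B : Matrix (Fin 2) (Fin 2) F) 1 1
    have h1 : B = U ((a - 1) / c) * L c * U ((d - 1) / c) := by
      apply Subtype.ext
      rw [Matrix.SpecialLinearGroup.coe_mul, Matrix.SpecialLinearGroup.coe_mul]
      change (B : Matrix (Fin 2) (Fin 2) F) = (!![1, (a - 1) / c; 0, 1] : Matrix (Fin 2) (Fin 2) F) * !![1, 0; c, 1] *
        !![1, (d - 1) / c; 0, 1]
      ext i j
      fin_cases i <;> fin_cases j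
      · simp [Matrix.mul_apply, Fin.sum_univ_two]
        change a = _
        field_simp; ring
      · simp only [Matrix.mul_apply, Fin.sum_univ_two, _root_.Fin.zero_eta, _root_.Fin.isValue, _root_.Fin.mk_one, _root_.Matrix.cons_mul, _root_.Nat.succ_eq_add_one, _root_.Nat.reduceAdd, _root_.Matrix.vecMul_cons, _root_.Matrix.head_cons, _root_.one_smul, _root_.Matrix.tail_cons, _root_.Matrix.smul_cons, _root_.smul_eq_mul, _root_.mul_one, _root_.Matrix.smul_empty, _root_.Matrix.empty_vecMul, _root_.add_zero, _root_.Matrix.add_cons, _root_.zero_add, _root_.Matrix.empty_add_empty, _root_.zero_smul, _root_.Matrix.empty_mul, _root_.Equiv.symm_apply_apply, _root_.Matrix.of_apply, _root_.Matrix.cons_val', _root_.Matrix.cons_val_fin_one, _root_.Matrix.cons_val_zero, _root_.Matrix.cons_val_one]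
        change b = _
        field_simp
        linear_combination (-1 : F) * hdet
      · simp [Matrix.mul_apply, Fin.sum_univ_two]
        rfl
      · simp [Matrix.mul_apply, Fin.sum_univ_two]
        change d = _
        field_simp; ring
    rw [h1]
    exact X.mul_mem (X.mul_mem (hU _) (hL _)) (hU _)
  by_cases hA : (A : Matrix (Fin 2) (Fin 2) F) 1 0 = 0
  · have hdet : (A : Matrix (Fin 2) (Fin 2) F) 0 0 * (A : Matrix (Fin 2) (Fin 2) F) 1 1 -
        (A : Matrix (Fin 2) (Fin 2) F) 0 1 * (A : Matrix (Fin 2) (Fin 2) F) 1 0 = 1 := by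
      rw [← Matrix.det_fin_two]; exact A.2
    rw [hA, mul_zero, sub_zero] at hdet
    have hd : (A : Matrix (Fin 2) (Fin 2) F) 1 1 ≠ 0 := right_ne_zero_of_mul (hdet ▸ one_ne_zero)
    have h1 : A * L 1 ∈ X := by
      apply hc
      have : ((A * L 1 : Matrix.SpecialLinearGroup (Fin 2) F) : Matrix (Fin 2) (Fin 2) F) 1 0 =
          (A : Matrix (Fin 2) (Fin 2) F) 1 0 + (A : Matrix (Fin 2) (Fin 2) F) 1 1 := by
        rw [Matrix.SpecialLinearGroup.coe_mul]
        change ((A : Matrix (Fin 2) (Fin 2) F) * (!![1, 0; 1, 1] : Matrix (Fin 2) (Fin 2) F)) 1 0 = _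
        simp [Matrix.mul_apply, Fin.sum_univ_two]
      rw [this, hA, zero_add]
      exact hd
    have h2 := X.mul_mem h1 (X.inv_mem (hL 1))
    simpa using h2
  · exact hc A hA

end Mat

/-! ### the action of group elements on `W ≅ F²` -/

section Act

variable {H : Type*} [Group H] {F : Type} [Field F]

/-- `x` acts on `W` as `f`. -/
def Act {W : Subgroup H} (ψ : Additive ↥W ≃+ (Fin 2 → F)) (x : H) (f : AddMonoid.End (Fin 2 → F)) : Prop :=
  ∀ w : ↥W, ∃ w' : ↥W, (w' : H) = x * (w : H) * x⁻¹ ∧ ψ (Additive.ofMul w') = f (ψ (Additive.ofMul w))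

variable {W : Subgroup H} {ψ : Additive ↥W ≃+ (Fin 2 → F)}

theorem Act.mul {x y : H} {f g : AddMonoid.End (Fin 2 → F)} (hx : Act ψ x f) (hy : Act ψ y g) :
    Act ψ (x * y) (f * g) := by
  intro w
  obtain ⟨w1, h1, h2⟩ := hy w
  obtain ⟨w2, h3, h4⟩ := hx w1
  refine ⟨w2, ?_, ?_⟩
  · rw [h3, h1]; group
  · rw [h4, h2]; rfl

theorem Act.one : Act ψ 1 1 := fun w => ⟨w, by simp, rfl⟩

theorem Act.pow {x : H} {f : AddMonoid.End (Fin 2 → F)} (hx : Act ψ x f) (n : ℕ) : Act ψ (x ^ n) (f ^ n) := by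
  induction n with
  | zero => rw [pow_zero, pow_zero]; exact Act.one
  | succ n ih => rw [pow_succ, pow_succ]; exact ih.mul hx

theorem Act.unique {x : H} {f g : AddMonoid.End (Fin 2 → F)} (hx : Act ψ x f) (hx' : Act ψ x g) : f = g := by
  apply AddMonoidHom.ext
  intro v
  obtain ⟨w1, h1, h2⟩ := hx (Additive.toMul (ψ.symm v))
  obtain ⟨w2, h3, h4⟩ := hx' (Additive.toMul (ψ.symm v))
  have h5 : w1 = w2 := Subtype.ext (h1.trans h3.symm)
  rw [ofMul_toMul, AddEquiv.apply_symm_apply] at h2 h4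
  change f v = g v
  rw [← h2, ← h4, h5]

theorem Act.exists {x : H} (hx : x ∈ normalizer (W : Set H)) : ∃ f : AddMonoid.End (Fin 2 → F), Act ψ x f := by
  have hm : ∀ w : ↥W, x * (w : H) * x⁻¹ ∈ W := fun w => (mem_normalizer_iff.1 hx _).1 w.2
  let g : ↥W →* ↥W :=
    { toFun := fun w => ⟨x * (w : H) * x⁻¹, hm w⟩
      map_one' := Subtype.ext (by simp)
      map_mul' := fun a b => Subtype.ext (by simp only [mul_assoc, _root_.Subgroup.coe_mul, _root_.MulMemClass.mk_mul_mk, _root_.inv_mul_cancel_left]) }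
  refine ⟨((ψ : Additive ↥W →+ (Fin 2 → F)).comp (MonoidHom.toAdditive g)).comp
    (ψ.symm : (Fin 2 → F) →+ Additive ↥W), ?_⟩
  intro w
  refine ⟨g w, rfl, ?_⟩
  change _ = ψ (MonoidHom.toAdditive g (ψ.symm (ψ (Additive.ofMul w))))
  rw [AddEquiv.symm_apply_apply]
  rfl

theorem Act.eq_mul {x : H} {f : AddMonoid.End (Fin 2 → F)} (hx : Act ψ x f) {w w' : ↥W}
    (h : ψ (Additive.ofMul w') = f (ψ (Additive.ofMul w))) : (w' : H) = x * w * x⁻¹ := by
  obtain ⟨w1, h1, h2⟩ := hx w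
  have h3 : w' = w1 := Additive.ofMul.injective (ψ.injective (h.trans h2.symm))
  rw [h3, h1]

/-- an element acting trivially centralises `W`. -/
theorem Act.mem_centralizer {x : H} (hx : Act ψ x (1 : AddMonoid.End (Fin 2 → F))) :
    x ∈ centralizer (W : Set H) := by
  rw [mem_centralizer_iff]
  intro w hw
  have := hx.eq_mul (w := ⟨w, hw⟩) (w' := ⟨w, hw⟩) rfl
  change w = x * w * x⁻¹ at this
  calc w * x = (x * w * x⁻¹) * x := by rw [← this]
    _ = x * w := by group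

theorem Act.of_centralizer {x : H} (hx : x ∈ centralizer (W : Set H)) :
    Act ψ x (1 : AddMonoid.End (Fin 2 → F)) := by
  intro w
  refine ⟨w, ?_, rfl⟩
  have := mem_centralizer_iff.1 hx w w.2
  rw [← this]; group

/-- elements of `p`-groups act with `p`-power order. -/
theorem Act.pow_eq {p : ℕ} {x : H} {f : AddMonoid.End (Fin 2 → F)} (hx : Act ψ x f) {T : Subgroup H}
    (hT : IsPGroup p ↥T) (hxT : x ∈ T) : ∃ k : ℕ, f ^ p ^ k = 1 := by
  obtain ⟨k, hk⟩ := hT ⟨x, hxT⟩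
  refine ⟨k, ?_⟩
  have h1 : x ^ p ^ k = 1 := by simpa only [_root_.SubmonoidClass.mk_pow, _root_.OneMemClass.coe_one] using congrArg Subtype.val hk
  have h2 := hx.pow (p ^ k)
  rw [h1] at h2
  exact h2.unique Act.one

end Act

/-! ### the structure `AStr` -/

theorem charP_of_card {F : Type} [Field F] [Fintype F] {p : ℕ} [hp : Fact p.Prime]
    (h : ∃ n : ℕ, 1 ≤ n ∧ Fintype.card F = p ^ n) : CharP F p := by
  obtain ⟨n, hn, hc⟩ := h
  obtain ⟨q, hq⟩ := CharP.exists F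
  obtain ⟨m, hqp, hm⟩ := FiniteField.card F q
  have h1 : p ∣ q := by
    have : p ∣ q ^ (m : ℕ) := by
      rw [← hm, hc]; exact dvd_pow_self p (by omega)
    exact hp.out.dvd_of_dvd_pow this
  have h2 : p = q := (Nat.prime_dvd_prime_iff_eq hp.out hqp).1 h1
  rw [h2]; exact hq

section

variable {H : Type*} [Group H] [Finite H] {p : ℕ} [Fact p.Prime] {S : Sylow p H} {Z C Q P V D J R : Subgroup H}
  {r : ℕ} {E W : Fin r → Subgroup H} {F : Type} [Field F] [Fintype F]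

theorem ea_V (h : AStr p S Z C Q P V D J R E W F) : IsElementaryAbelian p V := by
  rw [h.V_eq]; exact largest_ea p P

theorem norm_V (h : AStr p S Z C Q P V D J R E W F) : P ≤ normalizer (V : Set H) := by
  rw [h.V_eq]; exact largest_normal p P

theorem J_le (h : AStr p S Z C Q P V D J R E W F) : J ≤ P := by
  rw [h.J_eq]; exact iSup_le h.E_le

theorem E_le_J (h : AStr p S Z C Q P V D J R E W F) (i : Fin r) : E i ≤ J := by
  rw [h.J_eq]; exact le_iSup E i

theorem E_norm (h : AStr p S Z C Q P V D J R E W F) (i j : Fin r) : E j ≤ normalizer (E i : Set H) := by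
  by_cases hij : j = i
  · subst hij; exact le_normalizer
  · rw [le_norm_iff_comm_le]
    refine le_trans (le_inf ?_ (h.comm j i hij)) (h.le_E i)
    rw [commutator_le]
    intro a ha b hb
    rw [commutatorElement_def]
    exact P.mul_mem (P.mul_mem (P.mul_mem (h.E_le j ha) (h.E_le i hb)) (P.inv_mem (h.E_le j ha)))
      (P.inv_mem (h.E_le i hb))

theorem J_norm_E (h : AStr p S Z C Q P V D J R E W F) (i : Fin r) : J ≤ normalizer (E i : Set H) := by
  rw [h.J_eq]; exact iSup_le fun j => E_norm h i j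

/-- elements of `J` act on `W i` as elements of `SL₂(F)`. -/
theorem act_J (h : AStr p S Z C Q P V D J R E W F) (i : Fin r)
    {ρ : ↥(E i) →* Matrix.SpecialLinearGroup (Fin 2) F} {ψ : Additive ↥(W i) ≃+ (Fin 2 → F)}
    (ha : ∀ x : ↥(E i), Act ψ (x : H) (mv (ρ x : Matrix (Fin 2) (Fin 2) F))) {x : H} (hx : x ∈ J) :
    ∃ A : Matrix.SpecialLinearGroup (Fin 2) F, Act ψ x (mv (A : Matrix (Fin 2) (Fin 2) F)) := by
  rw [h.J_eq] at hx
  refine Subgroup.iSup_induction (C := fun x => ∃ A : Matrix.SpecialLinearGroup (Fin 2) F,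
    Act ψ x (mv (A : Matrix (Fin 2) (Fin 2) F))) E hx ?_ ?_ ?_
  · intro j x hx
    by_cases hij : i = j
    · subst hij
      exact ⟨ρ ⟨x, hx⟩, ha ⟨x, hx⟩⟩
    · refine ⟨1, ?_⟩
      have h1 : x ∈ centralizer (W i : Set H) := le_centralizer_comm (h.fix i j hij) hx
      rw [Matrix.SpecialLinearGroup.coe_one, map_one]
      exact Act.of_centralizer h1
  · exact ⟨1, by rw [Matrix.SpecialLinearGroup.coe_one, map_one]; exact Act.one⟩
  · rintro x y ⟨A, hA⟩ ⟨B, hB⟩
    refine ⟨A * B, ?_⟩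
    rw [Matrix.SpecialLinearGroup.coe_mul, map_mul]
    exact hA.mul hB

/-- elements of `S ∩ J` act as upper unitriangular matrices. -/
theorem act_S (h : AStr p S Z C Q P V D J R E W F) (i : Fin r)
    {ρ : ↥(E i) →* Matrix.SpecialLinearGroup (Fin 2) F} {ψ : Additive ↥(W i) ≃+ (Fin 2 → F)}
    (ha : ∀ x : ↥(E i), Act ψ (x : H) (mv (ρ x : Matrix (Fin 2) (Fin 2) F)))
    (h1 : ∀ x : ↥(E i), (x : H) ∈ (S : Subgroup H) → ∃ a : F, (ρ x : Matrix (Fin 2) (Fin 2) F) = up a)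
    (h2 : ∀ a : F, ∃ x : ↥(E i), (x : H) ∈ (S : Subgroup H) ∧ (ρ x : Matrix (Fin 2) (Fin 2) F) = up a)
    {x : H} (hxS : x ∈ (S : Subgroup H)) (hx : x ∈ J) : ∃ a : F, Act ψ x (mv (up a)) := by
  have := charP_of_card h.cardF
  obtain ⟨A, hA⟩ := act_J h i ha hx
  obtain ⟨u, huS, hu⟩ := h2 1
  have hn : x * (u : H) * x⁻¹ ∈ E i := (mem_normalizer_iff.1 (J_norm_E h i hx) _).1 u.2
  have hS : x * (u : H) * x⁻¹ ∈ (S : Subgroup H) :=
    (S : Subgroup H).mul_mem ((S : Subgroup H).mul_mem hxS huS) ((S : Subgroup H).inv_mem hxS)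
  obtain ⟨b, hb⟩ := h1 ⟨_, hn⟩ hS
  have e1 := ha ⟨_, hn⟩
  rw [hb] at e1
  have e2 : Act ψ (x * (u : H) * x⁻¹ * x) (mv (up b) * mv (A : Matrix (Fin 2) (Fin 2) F)) := e1.mul hA
  have e3 : Act ψ (x * (u : H)) (mv (A : Matrix (Fin 2) (Fin 2) F) * mv (up 1)) := by
    have := ha u
    rw [hu] at this
    exact hA.mul this
  have e4 : x * (u : H) * x⁻¹ * x = x * (u : H) := by group
  rw [e4] at e2
  have e5 := e2.unique e3
  rw [← map_mul, ← map_mul] at e5
  have e6 := mv_inj e5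
  have e7 := congrFun (congrFun e6 1) 1
  simp only [up, Matrix.mul_apply, Fin.sum_univ_two, _root_.Fin.isValue, _root_.Matrix.of_apply, _root_.Matrix.cons_val', _root_.Matrix.cons_val_fin_one, _root_.Matrix.cons_val_one, _root_.Matrix.cons_val_zero, _root_.MulZeroClass.zero_mul, _root_.one_mul, _root_.zero_add, _root_.mul_one, _root_.right_eq_add] at e7
  have e8 : (A : Matrix (Fin 2) (Fin 2) F) = !![(A : Matrix (Fin 2) (Fin 2) F) 0 0,
      (A : Matrix (Fin 2) (Fin 2) F) 0 1; 0, (A : Matrix (Fin 2) (Fin 2) F) 1 1] := by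
    ext i j
    (revert i j; simp only [e7, _root_.Fin.forall_fin_succ, Fin.isValue, _root_.Matrix.of_apply, _root_.Matrix.cons_val', _root_.Matrix.cons_val_fin_one, _root_.Matrix.cons_val_zero, _root_.Matrix.cons_val_succ, _root_.Fin.succ_zero_eq_one, _root_.IsEmpty.forall_iff, _root_.and_true, _root_.and_self])
  obtain ⟨k, hk⟩ := hA.pow_eq S.2 hxS
  rw [← map_pow, ← map_one mv] at hk
  have e9 := mv_inj hk
  rw [e8] at e9
  obtain ⟨e10, e11⟩ := unip_of_pow e9
  refine ⟨(A : Matrix (Fin 2) (Fin 2) F) 0 1, ?_⟩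
  rw [e8, e10, e11] at hA
  exact hA

/-- the vectors `(a, 0)` of `W i` lie in `R`. -/
theorem line_mem_R (h : AStr p S Z C Q P V D J R E W F) (i : Fin r)
    {ρ : ↥(E i) →* Matrix.SpecialLinearGroup (Fin 2) F} {ψ : Additive ↥(W i) ≃+ (Fin 2 → F)}
    (ha : ∀ x : ↥(E i), Act ψ (x : H) (mv (ρ x : Matrix (Fin 2) (Fin 2) F)))
    (h1 : ∀ x : ↥(E i), (x : H) ∈ (S : Subgroup H) → ∃ a : F, (ρ x : Matrix (Fin 2) (Fin 2) F) = up a)
    (h2 : ∀ a : F, ∃ x : ↥(E i), (x : H) ∈ (S : Subgroup H) ∧ (ρ x : Matrix (Fin 2) (Fin 2) F) = up a)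
    {w : ↥(W i)} {a : F} (hw : ψ (Additive.ofMul w) = ![a, 0]) : (w : H) ∈ R := by
  rw [h.R_eq]
  refine ⟨h.W_le i w.2, ?_⟩
  change (w : H) ∈ centralizer _
  rw [mem_centralizer_iff]
  rintro x ⟨hxS, hxJ⟩
  obtain ⟨b, hb⟩ := act_S h i ha h1 h2 hxS hxJ
  have h3 := hb.eq_mul (w := w) (w' := w) (by rw [hw, mv_up_line])
  calc x * (w : H) = x * (w : H) * x⁻¹ * x := by group
    _ = (w : H) * x := by rw [← h3]

/-- the `W i`-component of an element of `R`. -/
theorem R_comp (h : AStr p S Z C Q P V D J R E W F) (i : Fin r)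
    {ρ : ↥(E i) →* Matrix.SpecialLinearGroup (Fin 2) F} {ψ : Additive ↥(W i) ≃+ (Fin 2 → F)}
    (ha : ∀ x : ↥(E i), Act ψ (x : H) (mv (ρ x : Matrix (Fin 2) (Fin 2) F)))
    (h2 : ∀ a : F, ∃ x : ↥(E i), (x : H) ∈ (S : Subgroup H) ∧ (ρ x : Matrix (Fin 2) (Fin 2) F) = up a)
    {v : H} (hv : v ∈ R) : ∃ (w : ↥(W i)) (a : F), ψ (Additive.ofMul w) = ![a, 0] ∧
      (w : H)⁻¹ * v ∈ centralizer (E i : Set H) := by
  have hab : V ≤ centralizer (V : Set H) := ea_le_centralizer (ea_V h)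
  rw [h.R_eq] at hv
  obtain ⟨hvV, hvc⟩ := hv
  have hvV' : v ∈ V := hvV
  set W' : Subgroup H := ⨆ j ∈ {j | j ≠ i}, W j with hW'
  have hW'V : W' ≤ V := iSup₂_le fun j _ => h.W_le j
  have hsup : W i ⊔ W' = V := by
    rw [← h.W_sup]
    apply le_antisymm
    · exact sup_le (le_iSup W i) (iSup₂_le fun j _ => le_iSup W j)
    · refine iSup_le fun j => ?_
      by_cases hj : j = i
      · subst hj; exact le_sup_left
      · exact le_trans (le_iSup₂_of_le j hj le_rfl) le_sup_right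
  have hnorm : W' ≤ normalizer (W i : Set H) :=
    hW'V.trans (hab.trans ((Subgroup.centralizer_le (h.W_le i)).trans (centralizer_le_norm _)))
  rw [← hsup] at hvV'
  obtain ⟨w, hw, v', hv', hwv⟩ := (mem_sup_of_norm hnorm).1 hvV'
  have hc : W' ≤ centralizer (E i : Set H) := iSup₂_le fun j hj => h.fix j i hj
  have hv'c : v' ∈ centralizer (E i : Set H) := hc hv'
  obtain ⟨u, huS, hu⟩ := h2 1
  have e1 : (u : H) * v = v * (u : H) := (mem_centralizer_iff.1 hvc) _ ⟨huS, E_le_J h i u.2⟩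
  have e2 : (u : H) * v' = v' * (u : H) := (mem_centralizer_iff.1 hv'c) _ u.2
  have e3 : (u : H) * w = w * (u : H) := by
    have : w = v * v'⁻¹ := by rw [← hwv]; group
    rw [this]
    have e4 : (u : H) * v'⁻¹ = v'⁻¹ * (u : H) := by
      rw [eq_inv_mul_iff_mul_eq, ← mul_assoc, ← e2]; group
    calc (u : H) * (v * v'⁻¹) = ((u : H) * v) * v'⁻¹ := by group
      _ = v * ((u : H) * v'⁻¹) := by rw [e1]; group
      _ = v * v'⁻¹ * (u : H) := by rw [e4]; group
  obtain ⟨w1, h3, h4⟩ := ha u ⟨w, hw⟩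
  have e5 : w1 = ⟨w, hw⟩ := by
    apply Subtype.ext
    rw [h3]
    change (u : H) * w * (u : H)⁻¹ = w
    rw [e3]; group
  rw [e5, hu] at h4
  set q := ψ (Additive.ofMul (⟨w, hw⟩ : ↥(W i))) with hq
  have e6 := congrFun h4 0
  rw [mv_apply] at e6
  simp [up, Matrix.mulVec, dotProduct, Fin.sum_univ_two] at e6
  refine ⟨⟨w, hw⟩, q 0, ?_, ?_⟩
  · rw [← hq]
    funext j
    fin_cases j
    · rfl
    · simpa using e6
  · have : (w : H)⁻¹ * v = v' := by rw [← hwv]; group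
    change w⁻¹ * v ∈ _
    rw [this]
    exact hv'c

/-- diagonal elements of `E i` normalise `R`. -/
theorem torus_norm (h : AStr p S Z C Q P V D J R E W F) (i : Fin r)
    {ρ : ↥(E i) →* Matrix.SpecialLinearGroup (Fin 2) F} {ψ : Additive ↥(W i) ≃+ (Fin 2 → F)}
    (ha : ∀ x : ↥(E i), Act ψ (x : H) (mv (ρ x : Matrix (Fin 2) (Fin 2) F)))
    (h1 : ∀ x : ↥(E i), (x : H) ∈ (S : Subgroup H) → ∃ a : F, (ρ x : Matrix (Fin 2) (Fin 2) F) = up a)
    (h2 : ∀ a : F, ∃ x : ↥(E i), (x : H) ∈ (S : Subgroup H) ∧ (ρ x : Matrix (Fin 2) (Fin 2) F) = up a)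
    {t : ↥(E i)} {l l' : F} (ht : (ρ t : Matrix (Fin 2) (Fin 2) F) = !![l, 0; 0, l']) :
    (t : H) ∈ normalizer (R : Set H) := by
  have key : cj (t : H) R ≤ R := by
    rintro _ ⟨v, hv, rfl⟩
    obtain ⟨w, a, hw, hc⟩ := R_comp h i ha h2 hv
    obtain ⟨w1, h3, h4⟩ := ha t w
    rw [hw, ht, mv_diag_line] at h4
    have h5 := line_mem_R h i ha h1 h2 hw
    have h6 := line_mem_R h i ha h1 h2 h4
    have h7 : (t : H) * ((w : H)⁻¹ * v) = ((w : H)⁻¹ * v) * (t : H) := (mem_centralizer_iff.1 hc) _ t.2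
    have h8 : (MulAut.conj (t : H)).toMonoidHom v = (w1 : H) * ((w : H)⁻¹ * v) := by
      change (t : H) * v * (t : H)⁻¹ = _
      calc (t : H) * v * (t : H)⁻¹ = ((t : H) * w * (t : H)⁻¹) * ((t : H) * ((w : H)⁻¹ * v) * (t : H)⁻¹) := by group
        _ = (w1 : H) * (((w : H)⁻¹ * v * (t : H)) * (t : H)⁻¹) := by rw [h7, h3]
        _ = _ := by group
    rw [h8]
    exact R.mul_mem h6 (R.mul_mem (R.inv_mem h5) hv)
  rw [mem_norm]
  apply Subgroup.eq_of_le_of_card_ge key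
  exact le_of_eq (Nat.card_congr (R.equivMapOfInjective _ (MulAut.conj (t : H)).injective).toEquiv)

theorem R_ne_bot (h : AStr p S Z C Q P V D J R E W F) : R ≠ ⊥ := by
  obtain ⟨c, hc, h1⟩ := h.ex
  rw [(h.adj c hc h1).2.1] at h1
  exact h1

theorem R_le_V (h : AStr p S Z C Q P V D J R E W F) : R ≤ V := by rw [h.R_eq]; exact inf_le_left

theorem norm_R_le (h : AStr p S Z C Q P V D J R E W F) (hR : C ≤ normalizer (R : Set H)) :
    normalizer (R : Set H) = C := by
  apply h.hyp.hCmax _ ⟨R, ?_, R_ne_bot h, rfl⟩ hR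
  exact isPGroup_mono (R_le_V h) (ea_isPGroup (ea_V h))

/-- `(gamma)`: `r = 1` if `|F| > 2`. -/
theorem one_of_gt (h : AStr p S Z C Q P V D J R E W F) (hR : C ≤ normalizer (R : Set H))
    (hF : 2 < Fintype.card F) : r = 1 := by
  classical
  have := charP_of_card h.cardF
  by_contra hr
  have hpos := h.pos
  let i0 : Fin r := ⟨0, by omega⟩
  let i1 : Fin r := ⟨1, by omega⟩
  have hne : i0 ≠ i1 := by
    intro h1
    have := congrArg Fin.val h1
    simp [i0, i1] at this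
  obtain ⟨ρ, ψ, hρ, ha, h1, h2⟩ := h.nat i0
  have ha' : ∀ x : ↥(E i0), Act ψ (x : H) (mv (ρ x : Matrix (Fin 2) (Fin 2) F)) := ha
  -- a scalar `l ≠ 0, 1`
  obtain ⟨l, hl⟩ : ∃ l : F, l ≠ 0 ∧ l ≠ 1 := by
    by_contra h3
    push Not at h3
    have h4 : (Finset.univ : Finset F) ⊆ {0, 1} := by
      intro x _
      by_cases hx : x = 0
      · simp only [hx, _root_.Finset.mem_insert, _root_.Finset.mem_singleton, _root_.zero_ne_one, _root_.or_false]
      · simp only [h3 x hx, _root_.Finset.mem_insert, _root_.one_ne_zero, _root_.Finset.mem_singleton, _root_.or_true]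
    have h5 := Finset.card_le_card h4
    have h6 : ({0, 1} : Finset F).card ≤ 2 := Finset.card_le_two
    rw [Finset.card_univ] at h5
    omega
  obtain ⟨t, ht⟩ := hρ ⟨!![l, 0; 0, l⁻¹], by simp [Matrix.det_fin_two, hl.1]⟩
  have ht' : (ρ t : Matrix (Fin 2) (Fin 2) F) = !![l, 0; 0, l⁻¹] := by rw [ht]
  have htC : (t : H) ∈ C := by
    rw [← norm_R_le h hR]
    exact torus_norm h i0 ha' h1 h2 ht'
  obtain ⟨y, hyQ, hy⟩ := h.trans i0 i1
  have hQ1 : y * (t : H) * y⁻¹ * (t : H)⁻¹ ∈ Q := by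
    have h3 := h.hyp.toHyp.cj_Q_of_mem htC
    have h4 : (t : H) * y⁻¹ * (t : H)⁻¹ ∈ Q := by
      rw [← h3]; exact conj_mem_cj (Q.inv_mem hyQ)
    have e : y * (t : H) * y⁻¹ * (t : H)⁻¹ = y * ((t : H) * y⁻¹ * (t : H)⁻¹) := by group
    rw [e]
    exact Q.mul_mem hyQ h4
  have hE1 : y * (t : H) * y⁻¹ ∈ E i1 := by
    rw [← hy]; exact conj_mem_cj t.2
  have hc1 : y * (t : H) * y⁻¹ ∈ centralizer (W i0 : Set H) := le_centralizer_comm (h.fix i0 i1 hne) hE1
  have hact : Act ψ (y * (t : H) * y⁻¹ * (t : H)⁻¹) (1 * mv (ρ t⁻¹ : Matrix (Fin 2) (Fin 2) F)) :=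
    (Act.of_centralizer hc1).mul (ha' t⁻¹)
  rw [one_mul, map_inv, Matrix.SpecialLinearGroup.coe_inv, ht', Matrix.adjugate_fin_two_of] at hact
  obtain ⟨k, hk⟩ := hact.pow_eq h.hyp.Q_pgroup hQ1
  rw [← map_pow, ← map_one mv] at hk
  have h5 := mv_inj hk
  rw [neg_zero] at h5
  exact hl.2 (unip_of_pow h5).2

/-- `(eps)`: the conclusion for `r = 1`. -/
theorem concl_aux {E W : Fin 1 → Subgroup H} (h : AStr p S Z C Q P V D J R E W F)
    (hR : C ≤ normalizer (R : Set H)) (hV : V = W 0) (hJ : J = E 0) :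
    Q ≤ J := by
  have := charP_of_card h.cardF
  obtain ⟨ρ, ψ, hρ, ha, h1, h2⟩ := h.nat 0
  have ha' : ∀ x : ↥(E 0), Act ψ (x : H) (mv (ρ x : Matrix (Fin 2) (Fin 2) F)) := ha
  intro y hy
  have hyS : y ∈ (S : Subgroup H) := h.hyp.Q_le_S hy
  have hyP : y ∈ P := h.hyp.Q_le_P hy
  have hyC : y ∈ C := h.hyp.Q_le_C hy
  have hyV : y ∈ normalizer (W 0 : Set H) := by rw [← hV]; exact norm_V h hyP
  have hyJ : y ∈ normalizer (J : Set H) := h.J_norm hyP
  obtain ⟨f, hf⟩ := Act.exists (ψ := ψ) hyV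
  obtain ⟨fi, hfi⟩ := Act.exists (ψ := ψ) (inv_mem hyV)
  have hff : f * fi = 1 := by
    have := hf.mul hfi
    rw [mul_inv_cancel] at this
    exact this.unique Act.one
  have hff' : fi * f = 1 := by
    have := hfi.mul hf
    rw [inv_mul_cancel] at this
    exact this.unique Act.one
  obtain ⟨k, hk⟩ := hf.pow_eq h.hyp.Q_pgroup hy
  -- `f` fixes the line pointwise
  have hline : ∀ a : F, f ![a, 0] = ![a, 0] := by
    intro a
    refine line_fix (p := p) hk ?_ ?_ a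
    · intro b
      set w : ↥(W 0) := Additive.toMul (ψ.symm ![b, 0]) with hw
      have hw' : ψ (Additive.ofMul w) = ![b, 0] := by
        rw [hw, ofMul_toMul, AddEquiv.apply_symm_apply]
      have h3 := line_mem_R h 0 ha' h1 h2 hw'
      obtain ⟨w1, h4, h5⟩ := hf w
      have h6 : (w1 : H) ∈ R := by
        rw [h4]
        exact (mem_normalizer_iff.1 (hR hyC) _).1 h3
      obtain ⟨w2, c, h7, h8⟩ := R_comp h 0 ha' h2 h6
      -- `w2⁻¹ * w1` centralises `E 0 = J` and lies in `W 0`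
      have h9 : (w2 : H)⁻¹ * (w1 : H) ∈ W 0 := (W 0).mul_mem ((W 0).inv_mem w2.2) w1.2
      have h10 : (⟨(w2 : H)⁻¹ * (w1 : H), h9⟩ : ↥(W 0)) = 1 := by
        obtain ⟨g, hg⟩ := hρ ⟨!![1, 0; 1, 1], by simp [Matrix.det_fin_two]⟩
        obtain ⟨u, huS, hu⟩ := h2 1
        set q := ψ (Additive.ofMul (⟨(w2 : H)⁻¹ * (w1 : H), h9⟩ : ↥(W 0))) with hq
        have fixq : ∀ x : ↥(E 0), (mv (ρ x : Matrix (Fin 2) (Fin 2) F)) q = q := by
          intro x
          obtain ⟨w3, a1, a2⟩ := ha' x ⟨(w2 : H)⁻¹ * (w1 : H), h9⟩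
          have a3 : w3 = ⟨(w2 : H)⁻¹ * (w1 : H), h9⟩ := by
            apply Subtype.ext
            rw [a1]
            have := (mem_centralizer_iff.1 h8) _ x.2
            change (x : H) * ((w2 : H)⁻¹ * (w1 : H)) * (x : H)⁻¹ = _
            rw [this]; group
          rw [a3] at a2
          exact a2.symm
        have b1 := congrFun (fixq u) 0
        rw [hu, mv_apply] at b1
        simp [Matrix.mulVec, dotProduct, Fin.sum_univ_two] at b1
        have b2 := congrFun (fixq g) 1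
        rw [hg, mv_apply] at b2
        simp [Matrix.mulVec, dotProduct, Fin.sum_univ_two] at b2
        have b3 : q = 0 := by
          funext j; fin_cases j
          · simpa using b2
          · simpa using b1
        have b4 : Additive.ofMul (⟨(w2 : H)⁻¹ * (w1 : H), h9⟩ : ↥(W 0)) = 0 := by
          apply ψ.injective
          rw [map_zero, ← b3]
        exact Additive.ofMul.injective b4
      have h11 : w1 = w2 := by
        apply Subtype.ext
        have := congrArg Subtype.val h10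
        change (w2 : H)⁻¹ * (w1 : H) = 1 at this
        rw [inv_mul_eq_one] at this
        exact this.symm
      refine ⟨c, ?_⟩
      rw [← hw', ← h5, h11, h7]
    · intro l hl
      obtain ⟨t, ht⟩ := hρ ⟨!![l, 0; 0, l⁻¹], by simp [Matrix.det_fin_two, hl]⟩
      have ht' : (ρ t : Matrix (Fin 2) (Fin 2) F) = !![l, 0; 0, l⁻¹] := by rw [ht]
      have htC : (t : H) ∈ C := by
        rw [← norm_R_le h hR]
        exact torus_norm h 0 ha' h1 h2 ht'
      have hQ1 : y * (t : H) * y⁻¹ * (t : H)⁻¹ ∈ Q := by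
        have h3 := h.hyp.toHyp.cj_Q_of_mem htC
        have h4 : (t : H) * y⁻¹ * (t : H)⁻¹ ∈ Q := by
          rw [← h3]; exact conj_mem_cj (Q.inv_mem hy)
        have e : y * (t : H) * y⁻¹ * (t : H)⁻¹ = y * ((t : H) * y⁻¹ * (t : H)⁻¹) := by group
        rw [e]
        exact Q.mul_mem hy h4
      have htJ : (t : H) ∈ J := E_le_J h 0 t.2
      have hJ1 : y * (t : H) * y⁻¹ * (t : H)⁻¹ ∈ J :=
        J.mul_mem ((mem_normalizer_iff.1 hyJ _).1 htJ) (J.inv_mem htJ)
      obtain ⟨m, hm⟩ := act_S h 0 ha' h1 h2 (h.hyp.Q_le_S hQ1) hJ1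
      refine ⟨m, ?_⟩
      have hat := ha' t
      rw [ht'] at hat
      have e1 : y * (t : H) * y⁻¹ * (t : H)⁻¹ * (t : H) * y = y * (t : H) := by group
      have e2 := (hm.mul hat).mul hf
      rw [e1] at e2
      exact (hf.mul hat).unique e2
  -- `f` is linear
  obtain ⟨b, d, hbd⟩ := lin_of_norm hff hff' (fun A => by
      obtain ⟨x, hx⟩ := hρ A
      have hxJ : y * (x : H) * y⁻¹ ∈ J := (mem_normalizer_iff.1 hyJ _).1 (E_le_J h 0 x.2)
      obtain ⟨B, hB⟩ := act_J h 0 ha' hxJ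
      refine ⟨B, ?_⟩
      have := (hf.mul (ha' x)).mul hfi
      rw [hx] at this
      exact this.unique hB) (fun A => by
      obtain ⟨x, hx⟩ := hρ A
      have hxJ : y⁻¹ * (x : H) * y ∈ J := by
        have := (mem_normalizer_iff.1 (inv_mem hyJ) _).1 (E_le_J h 0 x.2)
        rwa [inv_inv] at this
      obtain ⟨B, hB⟩ := act_J h 0 ha' hxJ
      refine ⟨B, ?_⟩
      have := (hfi.mul (ha' x)).mul hf
      rw [hx] at this
      exact this.unique hB) hline
  rw [hbd, ← map_pow, ← map_one mv] at hk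
  have hd := (unip_of_pow (mv_inj hk)).2
  rw [hd] at hbd
  obtain ⟨u, huS, hu⟩ := h2 b
  have hau := ha' u
  rw [hu] at hau
  -- `u⁻¹ * y` centralises `V`
  have h5 : (u : H)⁻¹ * y ∈ centralizer (W 0 : Set H) := by
    have e1 : Act ψ ((u : H)⁻¹) (mv (up (-b))) := by
      have h6 := ha' u⁻¹
      rw [map_inv, Matrix.SpecialLinearGroup.coe_inv, hu, Matrix.adjugate_fin_two_of, neg_zero] at h6
      exact h6
    have e2 := e1.mul hf
    rw [hbd, ← map_mul] at e2
    have e3 : up (-b) * !![1, b; 0, 1] = (1 : Matrix (Fin 2) (Fin 2) F) := by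
      ext i j
      (revert i j; simp only [up, Matrix.mul_apply, Fin.sum_univ_two, _root_.Fin.forall_fin_succ, _root_.Matrix.of_apply, _root_.Matrix.cons_val', _root_.Matrix.cons_val_fin_one, Fin.isValue, _root_.Matrix.cons_val_zero, _root_.Matrix.cons_val_one, _root_.mul_one, _root_.MulZeroClass.mul_zero, _root_.add_zero, _root_.Matrix.cons_val_succ, _root_.IsEmpty.forall_iff, _root_.and_true, _root_.Matrix.one_apply_eq, _root_.one_mul, _root_.add_neg_cancel, Nat.reduceAdd, _root_.Fin.succ_zero_eq_one, _root_.ne_eq, _root_.zero_ne_one, _root_.not_false_eq_true, _root_.Matrix.one_apply_ne, _root_.and_self, _root_.Fin.succ_ne_zero, _root_.MulZeroClass.zero_mul, _root_.zero_add, _root_.true_and])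
    rw [e3, map_one] at e2
    exact e2.mem_centralizer
  have h6 : (u : H)⁻¹ * y ∈ E 0 := by
    apply h.le_E 0
    refine ⟨P.mul_mem (P.inv_mem (h.E_le 0 u.2)) hyP, ?_⟩
    rw [hV]; exact h5
  rw [hJ]
  have h7 := (E 0).mul_mem u.2 h6
  simpa using h7

theorem D_le_J {E W : Fin 1 → Subgroup H} (h : AStr p S Z C Q P V D J R E W F) : D ≤ J := by
  rw [h.D_eq]
  refine le_trans (le_inf (H229.pCoreOf_le _ _) ?_) ((h.le_E 0).trans (E_le_J h 0))
  rw [h.V_eq]
  exact pCoreOf_le_centralizer_largest p P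

/-- `(eps)`: the conclusion for `r = 1`. -/
theorem concl_one {E W : Fin 1 → Subgroup H} (h : AStr p S Z C Q P V D J R E W F)
    (hR : C ≤ normalizer (R : Set H)) {Pstar : Subgroup H} (hP : Pstar = ncl P Q ⊔ D) :
    IsNaturalSL2Module F V Pstar ∧
      omegaOne p (((S : Subgroup H) ⊓ Pstar) ⊓ centralizer (((S : Subgroup H) ⊓ Pstar : Subgroup H) : Set H)) = R := by
  have hJ : J = E 0 := by rw [h.J_eq]; exact iSup_unique E
  have hV : V = W 0 := by rw [← h.W_sup]; exact iSup_unique W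
  have hQJ := concl_aux h hR hV hJ
  have hDJ := D_le_J h
  have hPJ : Pstar ≤ J := by
    rw [hP]
    exact sup_le (ncl_le h.J_norm hQJ) hDJ
  obtain ⟨c, hcC, hc⟩ := h.ex
  have hSJ : (S : Subgroup H) ⊓ J ≤ Pstar := by
    rw [← (h.adj c hcC hc).1, hP]
    refine sup_le_sup_right ?_ D
    refine le_trans ?_ (le_ncl P Q)
    have h1 := cj_mono (g := c) h.VQ
    rwa [h.hyp.toHyp.cj_Q_of_mem hcC] at h1
  have hSP : (S : Subgroup H) ⊓ Pstar = (S : Subgroup H) ⊓ J :=
    le_antisymm (inf_le_inf_left _ hPJ) (le_inf inf_le_left hSJ)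
  have hnP : P ≤ normalizer (Pstar : Set H) := by
    rw [hP]
    refine le_trans (le_inf (le_norm_ncl P Q) ?_) (norm_sup_le _ _)
    rw [h.D_eq]
    exact le_norm_pCoreOf p P
  have hPE : Pstar ≤ E 0 := by rw [← hJ]; exact hPJ
  constructor
  · subst hV
    obtain ⟨ρ, ψ, hρ, ha, h1, h2⟩ := h.nat 0
    have ha' : ∀ x : ↥(E 0), Act ψ (x : H) (mv (ρ x : Matrix (Fin 2) (Fin 2) F)) := ha
    refine ⟨(hPJ.trans (J_le h)).trans (norm_V h), ρ.comp (inclusion hPE), ψ, ?_, ?_, ?_⟩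
    · intro A
      have key : A ∈ (ρ.comp (inclusion hPE)).range := by
        refine sl_top ?_ ?_ A
        · rintro g _ ⟨x, rfl⟩
          obtain ⟨y, hy⟩ := hρ g
          have hyP : (y : H) ∈ P := h.E_le 0 y.2
          have hm : (y : H) * (x : H) * (y : H)⁻¹ ∈ Pstar := (mem_normalizer_iff.1 (hnP hyP) _).1 x.2
          refine ⟨⟨_, hm⟩, ?_⟩
          rw [← hy]
          change ρ ⟨(y : H) * (x : H) * (y : H)⁻¹, _⟩ = ρ y * ρ ⟨(x : H), _⟩ * (ρ y)⁻¹
          rw [← map_mul, ← map_inv, ← map_mul]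
          rfl
        · intro a B hB
          obtain ⟨u, huS, hu⟩ := h2 a
          have hm : (u : H) ∈ Pstar := hSJ ⟨huS, E_le_J h 0 u.2⟩
          refine ⟨⟨_, hm⟩, ?_⟩
          apply Subtype.ext
          rw [hB]
          exact hu
      exact key
    · ext x
      rw [MonoidHom.mem_ker, mem_subgroupOf]
      constructor
      · intro hx
        have h3 := ha' (inclusion hPE x)
        have h4 : ρ (inclusion hPE x) = 1 := hx
        rw [h4, Matrix.SpecialLinearGroup.coe_one, map_one] at h3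
        exact h3.mem_centralizer
      · intro hx
        have h3 := ha' (inclusion hPE x)
        have h4 : Act ψ (x : H) (1 : AddMonoid.End (Fin 2 → F)) := Act.of_centralizer hx
        have h5 := h3.unique h4
        rw [← map_one mv] at h5
        apply Subtype.ext
        exact mv_inj h5
    · intro x v
      exact ha (inclusion hPE x) v
  · rw [hSP]
    have hDS : D ≤ (S : Subgroup H) ⊓ J := by
      refine le_inf ?_ hDJ
      rw [h.D_eq]; exact h.hyp.D_le_S
    have hcD : centralizer (D : Set H) ≤ D := by rw [h.D_eq]; exact h.hyp.hPchar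
    have hVz : V = zOmega p D := by rw [h.V_eq, h.D_eq]; exact h.hyp.Y_eq
    apply le_antisymm
    · unfold omegaOne
      rw [closure_le]
      rintro x ⟨⟨hx1, hx2⟩, hx3⟩
      have hxD : x ∈ centralizer (D : Set H) := (Subgroup.centralizer_le hDS) hx2
      change x ∈ R
      rw [h.R_eq]
      refine ⟨?_, hx2⟩
      rw [hVz]
      exact ⟨hcD hxD, hxD, hx3⟩
    · intro x hx
      have hx' := hx
      rw [h.R_eq] at hx'
      have hxV : x ∈ zOmega p D := by rw [← hVz]; exact hx'.1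
      unfold omegaOne
      apply Subgroup.subset_closure
      exact ⟨⟨hDS hxV.1, hx'.2⟩, hxV.2.2⟩

/-- `(eps)`: the conclusion for `r = 1`. -/
theorem concl (h : AStr p S Z C Q P V D J R E W F) (hR : C ≤ normalizer (R : Set H)) (h1 : r = 1)
    {Pstar : Subgroup H} (hP : Pstar = ncl P Q ⊔ D) :
    IsNaturalSL2Module F V Pstar ∧
      omegaOne p (((S : Subgroup H) ⊓ Pstar) ⊓ centralizer (((S : Subgroup H) ⊓ Pstar : Subgroup H) : Set H)) = R := by
  subst h1
  exact concl_one h hR hP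

end

end Cfsg.Agent.H736.P1

private theorem dce_21cc3812043a : _root_.True := by
  try have : _root_.True := by simp only [_root_.Cfsg.Agent.H736.P1.up.eq_1]
  exact _root_.True.intro
end

section
prune_inst 0xfcfffb2fb8bddfffff7ffffffbdffe39d0dfffe6fffd4bffe0efff5bff030c2fe7fbb78df092ff5fd7e3bc10b87853fb7ecb3fea6bdc7ffffd5ff45ffbee1ff7febf8d71ffbcb41ffe6fff9bf17f8e7f000000000000000000000000000000004200000000

-- part: H250/P1/CaseA
section
prune_inst 0x4000000000000000040001c4282000190002b00008000004004802d0000000720b400000000002a440038004800000040000000000000000000000080000200000000a000000000008004000000000000000000000000000000000000000000000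
set_option linter.all false
open scoped Cfsg.Agent.FastGrp

-- part: H282/P1/Opp
section
/-!
# S3046, Case A: coordinates on `V = W₁ × ⋯ × W_r` and `AStr.opp`

`AStr.opp`: some `g ∈ P` has `R ∩ R^g = 1`, and every `V^c` not commuting with `V` contains `f` with `R^g ∩ R^{fg} = 1`.
-/

set_option autoImplicit false
set_option linter.unusedSectionVars false

open Cfsg Subgroup
open Cfsg.Agent.H230 Cfsg.Agent.H229 Cfsg.Agent.H247.P1

namespace Cfsg.Agent.H250.P1

variable {H : Type*} [Group H]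

/-! ### Products of commuting subgroups -/

section Coord

variable {r : ℕ} {W : Fin r → Subgroup H}

theorem phi_conj (hc : Pairwise fun i j => ∀ x y : H, x ∈ W i → y ∈ W j → Commute x y) (g : H)
    (w w' : ∀ i, ↥(W i)) (h : ∀ i, (w' i : H) = g * (w i : H) * g⁻¹) :
    noncommPiCoprod hc w' = g * noncommPiCoprod hc w * g⁻¹ := by
  rw [noncommPiCoprod_apply, noncommPiCoprod_apply]
  have h1 := Finset.map_noncommProd (Finset.univ : Finset (Fin r)) (fun i => (w i : H))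
    (fun i _ j _ h => hc h _ _ (w i).2 (w j).2) (MulAut.conj g)
  rw [MulAut.conj_apply] at h1
  rw [h1]
  apply Finset.noncommProd_congr rfl
  intro i _
  rw [h i]; rfl

theorem exists_glue (K : Subgroup H) (e : Fin r → H) (heK : ∀ i, e i ∈ K)
    (hc : ∀ i j, i ≠ j → ∀ w ∈ W j, e i * w * (e i)⁻¹ = w)
    (hn : ∀ i, ∀ w ∈ W i, e i * w * (e i)⁻¹ ∈ W i) :
    ∃ g ∈ K, ∀ i, ∀ w ∈ W i, g * w * g⁻¹ = e i * w * (e i)⁻¹ := by
  classical
  have key : ∀ s : Finset (Fin r), ∃ g ∈ K, (∀ i ∈ s, ∀ w ∈ W i, g * w * g⁻¹ = e i * w * (e i)⁻¹) ∧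
      ∀ i, i ∉ s → ∀ w ∈ W i, g * w * g⁻¹ = w := by
    intro s
    induction s using Finset.induction_on with
    | empty => exact ⟨1, one_mem _, by simp only [_root_.Finset.notMem_empty, _root_.one_mul, _root_.inv_one, _root_.mul_one, _root_.IsEmpty.forall_iff, _root_.implies_true], by simp⟩
    | insert k s hk ih =>
      obtain ⟨g, hg, h1, h2⟩ := ih
      refine ⟨e k * g, mul_mem (heK k) hg, ?_, ?_⟩
      · intro i hi w hw
        have e1 : e k * g * w * (e k * g)⁻¹ = e k * (g * w * g⁻¹) * (e k)⁻¹ := by group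
        rw [e1]
        rcases Finset.mem_insert.1 hi with rfl | hi
        · rw [h2 _ hk w hw]
        · have hki : k ≠ i := by rintro rfl; exact hk hi
          rw [h1 i hi w hw]
          exact hc k i hki _ (hn i w hw)
      · intro i hi w hw
        rw [Finset.mem_insert, not_or] at hi
        have e1 : e k * g * w * (e k * g)⁻¹ = e k * (g * w * g⁻¹) * (e k)⁻¹ := by group
        rw [e1, h2 i hi.2 w hw]
        exact hc k i (fun h => hi.1 h.symm) w hw
  obtain ⟨g, hg, h1, -⟩ := key Finset.univ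
  exact ⟨g, hg, fun i => h1 i (Finset.mem_univ i)⟩

end Coord

namespace AStr

variable {p : ℕ} {S : Sylow p H} {Z C Q P V D J R : Subgroup H} {r : ℕ} {E W : Fin r → Subgroup H}
  {F : Type} [Field F] [Fintype F]

theorem V_ea (h : AStr p S Z C Q P V D J R E W F) : IsElementaryAbelian p V := by
  rw [h.V_eq]; exact largest_ea p P

theorem V_comm (h : AStr p S Z C Q P V D J R E W F) : V ≤ centralizer (V : Set H) :=
  ea_le_centralizer h.V_ea

theorem P_norm_V (h : AStr p S Z C Q P V D J R E W F) : P ≤ normalizer (V : Set H) := by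
  rw [h.V_eq]; exact largest_normal p P

theorem P_norm_D (h : AStr p S Z C Q P V D J R E W F) : P ≤ normalizer (D : Set H) := by
  rw [h.D_eq]; exact le_norm_pCoreOf p P

theorem D_cent (h : AStr p S Z C Q P V D J R E W F) : D ≤ centralizer (V : Set H) := by
  rw [h.V_eq, h.D_eq]; exact pCoreOf_le_centralizer_largest p P

theorem E_le_J (h : AStr p S Z C Q P V D J R E W F) (i : Fin r) : E i ≤ J := by
  rw [h.J_eq]; exact le_iSup E i

theorem R_le_V (h : AStr p S Z C Q P V D J R E W F) : R ≤ V := by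
  rw [h.R_eq]; exact inf_le_left

theorem indep (h : AStr p S Z C Q P V D J R E W F) : iSupIndep W := by
  intro i
  rw [disjoint_iff]
  exact h.W_ind i

theorem W_comm (h : AStr p S Z C Q P V D J R E W F) :
    Pairwise fun i j => ∀ x y : H, x ∈ W i → y ∈ W j → Commute x y := by
  intro i j _ x y hx hy
  exact ((mem_centralizer_iff.1 (h.V_comm (h.W_le i hx))) y (h.W_le j hy)).symm

theorem W_conj (h : AStr p S Z C Q P V D J R E W F) {i : Fin r} {e w : H} (he : e ∈ E i) (hw : w ∈ W i) :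
    e * w * e⁻¹ ∈ W i := by
  obtain ⟨ρ, ψ, -, h1, -, -⟩ := h.nat i
  obtain ⟨w', hw', -⟩ := h1 ⟨e, he⟩ ⟨w, hw⟩
  rw [← hw']
  exact w'.2

theorem conj_fix (h : AStr p S Z C Q P V D J R E W F) {i j : Fin r} (hij : i ≠ j) {e w : H} (he : e ∈ E i)
    (hw : w ∈ W j) : e * w * e⁻¹ = w := by
  have := (mem_centralizer_iff.1 (h.fix j i hij.symm hw)) e he
  rw [this]; group

variable [Finite H] [Fact p.Prime]

/-- **opposite points**. -/
theorem opp (h : AStr p S Z C Q P V D J R E W F) :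
    ∃ g ∈ P, R ⊓ cj g R = ⊥ ∧ ∀ c ∈ C, ⁅V, cj c V⁆ ≠ ⊥ → ∃ f ∈ cj c V, cj g R ⊓ cj (f * g) R = ⊥ := by
  classical
  choose ρ ψ hsurj hact hup hall using h.nat
  have hc := h.W_comm
  have hinj : Function.Injective (noncommPiCoprod hc) := injective_noncommPiCoprod_of_iSupIndep h.indep
  have hran : ∀ x ∈ V, ∃ w : ∀ i, ↥(W i), noncommPiCoprod hc w = x := by
    intro x hx
    have : x ∈ (noncommPiCoprod hc).range := by rw [noncommPiCoprod_range, h.W_sup]; exact hx
    exact this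
  -- the upper unitriangular elements and the elements `[0,-1;1,0]`
  choose s hsS hs using fun i => hall i 1
  choose e he using fun i => hsurj i ⟨!![0, -1; 1, 0], by simp [Matrix.det_fin_two]⟩
  have hone : ∀ (i : Fin r) (w : ↥(W i)), ψ i (Additive.ofMul w) = 0 → w = 1 := by
    intro i w hw
    have : Additive.ofMul w = 0 := (ψ i).injective (by rw [hw, map_zero])
    exact this
  have hsact : ∀ (i : Fin r) (w w' : ↥(W i)), (w' : H) = (s i : H) * (w : H) * (s i : H)⁻¹ →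
      ψ i (Additive.ofMul w') = ![ψ i (Additive.ofMul w) 0 + ψ i (Additive.ofMul w) 1, ψ i (Additive.ofMul w) 1] := by
    intro i w w' hw
    obtain ⟨w'', h1, h2⟩ := hact i (s i) w
    have : w' = w'' := Subtype.ext (by rw [hw, h1])
    rw [this, h2, hs i]
    ext k; (revert k; simp only [Matrix.mulVec, dotProduct, Fin.sum_univ_two, _root_.Fin.forall_fin_succ, _root_.Matrix.of_apply, _root_.Matrix.cons_val', _root_.Matrix.cons_val_fin_one, Fin.isValue, _root_.Matrix.cons_val_zero, _root_.Matrix.cons_val_one, _root_.Nat.succ_eq_add_one, Nat.reduceAdd, _root_.one_mul, _root_.Matrix.cons_val_succ, _root_.MulZeroClass.zero_mul, _root_.zero_add, _root_.implies_true, _root_.and_self])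
  have heact : ∀ (i : Fin r) (w w' : ↥(W i)), (w' : H) = (e i : H) * (w : H) * (e i : H)⁻¹ →
      ψ i (Additive.ofMul w') = ![-ψ i (Additive.ofMul w) 1, ψ i (Additive.ofMul w) 0] := by
    intro i w w' hw
    obtain ⟨w'', h1, h2⟩ := hact i (e i) w
    have : w' = w'' := Subtype.ext (by rw [hw, h1])
    rw [this, h2, he i]
    ext k; (revert k; simp only [Matrix.mulVec, dotProduct, Fin.sum_univ_two, _root_.Fin.forall_fin_succ, _root_.Matrix.of_apply, _root_.Matrix.cons_val', _root_.Matrix.cons_val_fin_one, Fin.isValue, _root_.Matrix.cons_val_zero, _root_.Matrix.cons_val_one, _root_.Nat.succ_eq_add_one, Nat.reduceAdd, _root_.MulZeroClass.zero_mul, _root_.neg_mul, _root_.one_mul, _root_.zero_add, _root_.Matrix.cons_val_succ, _root_.add_zero, _root_.implies_true, _root_.and_self])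
  -- the coordinates of the elements of `R`
  have hR : ∀ w : ∀ i, ↥(W i), noncommPiCoprod hc w ∈ R → ∀ i, ψ i (Additive.ofMul (w i)) 1 = 0 := by
    intro w hw i
    obtain ⟨w', hw'⟩ : ∃ w' : ∀ j, ↥(W j), ∀ j, (w' j : H) = (s i : H) * (w j : H) * (s i : H)⁻¹ := by
      have : ∀ j, ∃ w' : ↥(W j), (w' : H) = (s i : H) * (w j : H) * (s i : H)⁻¹ := by
        intro j
        by_cases hij : i = j
        · subst hij
          exact ⟨⟨_, h.W_conj (s i).2 (w i).2⟩, rfl⟩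
        · exact ⟨w j, (h.conj_fix hij (s i).2 (w j).2).symm⟩
      exact ⟨fun j => (this j).choose, fun j => (this j).choose_spec⟩
    have h1 := phi_conj hc (s i : H) w w' hw'
    have h2 : (s i : H) * noncommPiCoprod hc w * (s i : H)⁻¹ = noncommPiCoprod hc w := by
      rw [h.R_eq] at hw
      have := (mem_centralizer_iff.1 hw.2) (s i : H) ⟨hsS i, h.E_le_J i (s i).2⟩
      rw [this]; group
    rw [h2] at h1
    have h3 := congrFun (hinj h1) i
    have h4 := hsact i (w i) (w' i) (hw' i)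
    rw [h3] at h4
    have h5 := congrFun h4 0
    simpa using h5
  -- `g` and `s`
  have hnE : ∀ (i : Fin r) (x : ↥(E i)), ∀ w ∈ W i, (x : H) * w * (x : H)⁻¹ ∈ W i :=
    fun i x w hw => h.W_conj x.2 hw
  obtain ⟨g, hgP, hg⟩ := exists_glue (W := W) P (fun i => (e i : H)) (fun i => h.E_le i (e i).2)
    (fun i j hij w hw => h.conj_fix hij (e i).2 hw) (fun i w hw => hnE i (e i) w hw)
  obtain ⟨t, htS, ht⟩ := exists_glue (W := W) ((S : Subgroup H) ⊓ J) (fun i => (s i : H))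
    (fun i => ⟨hsS i, h.E_le_J i (s i).2⟩)
    (fun i j hij w hw => h.conj_fix hij (s i).2 hw) (fun i w hw => hnE i (s i) w hw)
  -- the coordinates of the elements of `R^g`
  have hRg : ∀ x ∈ cj g R, ∃ w : ∀ i, ↥(W i), noncommPiCoprod hc w = x ∧
      ∀ i, ψ i (Additive.ofMul (w i)) 0 = 0 := by
    intro x hx
    rw [mem_cj] at hx
    obtain ⟨w, hw⟩ := hran _ (h.R_le_V hx)
    have h1 := hR w (by rw [hw]; exact hx)
    refine ⟨fun i => ⟨(e i : H) * (w i : H) * (e i : H)⁻¹, hnE i (e i) _ (w i).2⟩, ?_, ?_⟩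
    · rw [phi_conj hc g w _ (fun i => (hg i _ (w i).2).symm), hw]; group
    · intro i
      rw [heact i (w i) _ rfl]
      simp [h1 i]
  refine ⟨g, hgP, ?_, ?_⟩
  · rw [Subgroup.eq_bot_iff_forall]
    rintro x ⟨hx1, hx2⟩
    obtain ⟨w, hw, hw1⟩ := hRg x hx2
    have h2 := hR w (by rw [hw]; exact hx1)
    have h3 : w = 1 := by
      funext i
      apply hone
      ext k; fin_cases k
      · exact hw1 i
      · exact h2 i
    rw [← hw, h3, map_one]
  · intro c hcC hcV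
    obtain ⟨hadj, -⟩ := h.adj c hcC hcV
    rw [← hadj] at htS
    have hcQ : cj c V ≤ Q := by
      rw [← h.hyp.cj_Q_of_mem hcC]; exact cj_mono h.VQ
    have hcP : cj c V ≤ P := hcQ.trans h.hyp.Q_le_P
    rw [sup_comm, mem_sup_of_norm (hcP.trans h.P_norm_D)] at htS
    obtain ⟨d, hd, f, hf, hdf⟩ := htS
    refine ⟨f, hf, ?_⟩
    rw [Subgroup.eq_bot_iff_forall]
    rintro x ⟨hx1, hx2⟩
    obtain ⟨w, hw, hw1⟩ := hRg x hx1
    have hx3 : f⁻¹ * x * f ∈ cj g R := by
      rw [cj_mul] at hx2; exact mem_cj.1 hx2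
    obtain ⟨w', hw', hw1'⟩ := hRg _ hx3
    -- `x = t (f⁻¹ x f) t⁻¹`
    have hxV : x ∈ V := by
      have := cj_mono (g := g) h.R_le_V hx1
      rwa [mem_norm.1 (h.P_norm_V hgP)] at this
    have h4 : t * (f⁻¹ * x * f) * t⁻¹ = x := by
      have h5 : d * x = x * d := ((mem_centralizer_iff.1 (h.D_cent hd)) x hxV).symm
      calc t * (f⁻¹ * x * f) * t⁻¹ = d * x * d⁻¹ := by rw [← hdf]; group
        _ = x := by rw [h5]; group
    have h5 := phi_conj hc t w' (fun i => ⟨(s i : H) * (w' i : H) * (s i : H)⁻¹, hnE i (s i) _ (w' i).2⟩)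
      (fun i => (ht i _ (w' i).2).symm)
    rw [hw', h4, ← hw] at h5
    have h6 := hinj h5
    have h7 : w = 1 := by
      funext i
      have h8 := hsact i (w' i) _ (rfl : ((⟨(s i : H) * (w' i : H) * (s i : H)⁻¹, hnE i (s i) _ (w' i).2⟩ : ↥(W i)) : H) = _)
      have h9 := congrFun h6 i
      rw [h9] at h8
      have h10 := congrFun h8 0
      have h11 := congrFun h8 1
      simp only [Matrix.cons_val_zero, Matrix.cons_val_one, hw1' i, hw1 i, zero_add] at h10 h11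
      apply hone
      ext k; fin_cases k
      · exact hw1 i
      · exact h11.trans h10.symm
    rw [← hw, h7, map_one]

end AStr

end Cfsg.Agent.H250.P1
end

-- part: H282/P1/Gen
section
/-!
# S3046, Case A: `C` is generated by `S` and the `c ∈ C` with `[V, V^c] ≠ 1`

`AStr.gen`, `AStr.R_norm`, `AStr.norm_R`.
-/

set_option autoImplicit false
set_option linter.unusedSectionVars false

open Cfsg Subgroup
open scoped commutatorElement
open Cfsg.Agent.H230 Cfsg.Agent.H229 Cfsg.Agent.H247.P1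

namespace Cfsg.Agent.H250.P1

variable {H : Type*} [Group H]

theorem comm_mul_of_commute {u u' v v' : H} (h1 : Commute u v) (h2 : Commute u v') (h3 : Commute u' v)
    (h4 : Commute u' v') : ⁅u * v, u' * v'⁆ = ⁅u, u'⁆ * ⁅v, v'⁆ := by
  have h5 : Commute (u⁻¹ * u'⁻¹) ⁅v, v'⁆ := by
    rw [commutatorElement_def]
    refine Commute.mul_left ?_ ?_
    · exact ((h1.inv_left.mul_right h2.inv_left).mul_right h1.inv_inv).mul_right h2.inv_inv
    · exact ((h3.inv_left.mul_right h4.inv_left).mul_right h3.inv_inv).mul_right h4.inv_inv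
  have h6 : v * u' = u' * v := h3.eq.symm
  have h7 : u⁻¹ * v'⁻¹ = v'⁻¹ * u⁻¹ := h2.inv_inv.eq
  calc ⁅u * v, u' * v'⁆ = u * (v * u') * v' * v⁻¹ * (u⁻¹ * v'⁻¹) * u'⁻¹ := by
        rw [commutatorElement_def]; group
    _ = u * u' * ⁅v, v'⁆ * (u⁻¹ * u'⁻¹) := by rw [h6, h7, commutatorElement_def]; group
    _ = u * u' * ((u⁻¹ * u'⁻¹) * ⁅v, v'⁆) := by rw [mul_assoc, h5.eq]
    _ = ⁅u, u'⁆ * ⁅v, v'⁆ := by rw [commutatorElement_def u u']; group

theorem card_of_fibers [Finite H] {F₀ A Z₁ Z₂ : Subgroup H} (a : H → H) (hZ₁ : Z₁ ≤ F₀) (hZ₂ : Z₂ ≤ A)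
    (hc : ∀ z ∈ Z₂, ∀ x ∈ A, z * x = x * z) (ha : ∀ x ∈ A, a x ∈ F₀)
    (hfib : ∀ x ∈ A, ∀ x' ∈ A, (a x)⁻¹ * a x' ∈ Z₁ → x' * x⁻¹ ∈ Z₂) :
    Nat.card ↥A * Nat.card ↥Z₁ ≤ Nat.card ↥F₀ * Nat.card ↥Z₂ := by
  classical
  let φ : (↥A ⧸ Z₂.subgroupOf A) → (↥F₀ ⧸ Z₁.subgroupOf F₀) := fun q =>
    QuotientGroup.mk ⟨a (q.out : ↥A), ha _ (q.out).2⟩
  have hφ : Function.Injective φ := by
    intro q q' hq
    rw [QuotientGroup.eq, mem_subgroupOf] at hq
    have h1 := hfib _ (q.out).2 _ (q'.out).2 hq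
    rw [← QuotientGroup.out_eq' q, ← QuotientGroup.out_eq' q', QuotientGroup.eq, mem_subgroupOf]
    have h2 := hc _ h1 _ (q.out).2
    have h3 : ((q.out)⁻¹ * q'.out : ↥A) = ((q'.out : ↥A) : H) * ((q.out : ↥A) : H)⁻¹ := by
      have e1 : ((q'.out : ↥A) : H) = ((q.out : ↥A) : H) * (((q'.out : ↥A) : H) * ((q.out : ↥A) : H)⁻¹) := by
        rw [← h2]; group
      have e2 : (((q.out)⁻¹ * q'.out : ↥A) : H) = ((q.out : ↥A) : H)⁻¹ * ((q'.out : ↥A) : H) := rfl
      rw [e2]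
      nth_rw 1 [e1]
      group
    rw [h3]; exact h1
  have h1 := Nat.card_le_card_of_injective φ hφ
  have h2 := Subgroup.card_eq_card_quotient_mul_card_subgroup (Z₂.subgroupOf A)
  have h3 := Subgroup.card_eq_card_quotient_mul_card_subgroup (Z₁.subgroupOf F₀)
  have h4 : Nat.card ↥(Z₂.subgroupOf A) = Nat.card ↥Z₂ := Nat.card_congr (subgroupOfEquivOfLe hZ₂).toEquiv
  have h5 : Nat.card ↥(Z₁.subgroupOf F₀) = Nat.card ↥Z₁ := Nat.card_congr (subgroupOfEquivOfLe hZ₁).toEquiv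
  rw [h4] at h2
  rw [h5] at h3
  rw [h2, h3]
  calc _ = Nat.card (↥A ⧸ Z₂.subgroupOf A) * (Nat.card ↥Z₂ * Nat.card ↥Z₁) := by ring
    _ ≤ Nat.card (↥F₀ ⧸ Z₁.subgroupOf F₀) * (Nat.card ↥Z₂ * Nat.card ↥Z₁) := Nat.mul_le_mul_right _ h1
    _ = _ := by ring

namespace AStr

variable {p : ℕ} {S : Sylow p H} {Z C Q P V D J R : Subgroup H} {r : ℕ} {E W : Fin r → Subgroup H}
  {F : Type} [Field F] [Fintype F] [Finite H] [Fact p.Prime]

theorem D_le_S (h : AStr p S Z C Q P V D J R E W F) : D ≤ (S : Subgroup H) := by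
  rw [h.D_eq]; exact h.hyp.D_le_S

theorem inf_cent_V (h : AStr p S Z C Q P V D J R E W F) : (S : Subgroup H) ⊓ centralizer (V : Set H) = D := by
  rw [h.D_eq, h.V_eq]; exact h.hyp.inf_cent_Y

theorem V_eq_zOmega (h : AStr p S Z C Q P V D J R E W F) : V = zOmega p D := by
  rw [h.D_eq, h.V_eq]; exact h.hyp.Y_eq

theorem cj_V_le_Q (h : AStr p S Z C Q P V D J R E W F) {c : H} (hc : c ∈ C) : cj c V ≤ Q := by
  rw [← h.hyp.cj_Q_of_mem hc]; exact cj_mono h.VQ

/-- **generation of `C`**. -/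
theorem gen (h : AStr p S Z C Q P V D J R E W F) {N : Subgroup H} (hNC : N ≤ C) (hS : (S : Subgroup H) ≤ N)
    (hadj : ∀ c ∈ C, ⁅V, cj c V⁆ ≠ ⊥ → c ∈ N) : N = C := by
  classical
  by_contra hne
  obtain ⟨c₁, hc₁, hc₁N⟩ := Set.exists_of_ssubset (SetLike.coe_ssubset_coe.2 (lt_of_le_of_ne hNC hne))
  rw [SetLike.mem_coe] at hc₁ hc₁N
  obtain ⟨c, hcC, hcV⟩ := h.ex
  have hcN := hadj c hcC hcV
  obtain ⟨g, hgP, -, hopp⟩ := h.opp
  obtain ⟨f, hf, hfg⟩ := hopp c hcC hcV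
  -- the two normal closures
  set F₁ : Subgroup H := ncl N V with hF₁
  set Fs : Subgroup H := ⨆ d : {d : H // d ∈ C ∧ d ∉ N}, cj (d : H) V with hFs
  have hle : ∀ d ∈ C, d ∉ N → cj d V ≤ Fs := fun d h1 h2 =>
    le_iSup (fun d : {d : H // d ∈ C ∧ d ∉ N} => cj (d : H) V) ⟨d, h1, h2⟩
  have key0 : ∀ c ∈ N, ∀ d ∈ C, d ∉ N → cj c V ≤ centralizer (cj d V : Set H) := by
    intro c hc d hd hdN
    by_contra hcon
    apply hdN
    have h1 : ⁅cj c V, cj d V⁆ ≠ ⊥ := fun h1 => hcon (commutator_eq_bot_iff_le_centralizer.1 h1)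
    have h2 : ⁅V, cj (c⁻¹ * d) V⁆ ≠ ⊥ := by
      intro h2
      apply h1
      have h3 : ⁅cj c V, cj d V⁆ = cj c ⁅V, cj (c⁻¹ * d) V⁆ := by
        rw [cj_comm, ← cj_mul, mul_inv_cancel_left]
      rw [h3, h2, cj_bot]
    have h3 := N.mul_mem hc (hadj _ (C.mul_mem (C.inv_mem (hNC hc)) hd) h2)
    simpa using h3
  have hF₁c : F₁ ≤ centralizer (Fs : Set H) := by
    apply le_centralizer_comm
    refine iSup_le fun d => ?_
    apply le_centralizer_comm
    rw [hF₁, ncl_le_iff]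
    exact fun c hc => key0 c hc d d.2.1 d.2.2
  have hNF₁ : N ≤ normalizer (F₁ : Set H) := le_norm_ncl N V
  have hNFs : N ≤ normalizer (Fs : Set H) := by
    have h1 : ∀ n ∈ N, cj n Fs ≤ Fs := by
      intro n hn
      rw [cj_le_iff]
      refine iSup_le fun d => ?_
      rw [← cj_le_iff, ← cj_mul]
      refine hle _ (C.mul_mem (hNC hn) d.2.1) fun h1 => d.2.2 ?_
      simpa using N.mul_mem (N.inv_mem hn) h1
    intro n hn
    rw [mem_norm]
    apply le_antisymm (h1 n hn)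
    rw [le_cj_iff]
    exact h1 _ (N.inv_mem hn)
  have hVF₁ : V ≤ F₁ := le_ncl N V
  have hF₁Q : F₁ ≤ Q := by
    rw [hF₁, ncl_le_iff]
    exact fun n hn => h.cj_V_le_Q (hNC hn)
  have hF₁S : F₁ ≤ (S : Subgroup H) := hF₁Q.trans h.hyp.Q_le_S
  have hF₁P : F₁ ≤ P := hF₁S.trans h.hyp.hSP
  have hDN : D ≤ N := h.D_le_S.trans hS
  have hFsD : Fs ≤ D := by
    rw [← h.inf_cent_V]
    refine le_inf ?_ ?_
    · exact iSup_le fun d => (h.cj_V_le_Q d.2.1).trans h.hyp.Q_le_S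
    · exact le_centralizer_comm (hVF₁.trans hF₁c)
  have hcF₁ : cj c V ≤ F₁ := cj_le_ncl hcN
  have hfF₁ : f ∈ F₁ := hcF₁ hf
  have hfP : f ∈ P := hF₁P hfF₁
  have hfgP : f * g ∈ P := P.mul_mem hfP hgP
  -- `C_V(F₁) ≤ R`
  have hCV : V ⊓ centralizer (F₁ : Set H) ≤ R := by
    intro x hx
    rw [h.R_eq]
    refine ⟨hx.1, ?_⟩
    rw [← (h.adj c hcC hcV).1]
    have h1 : cj c V ⊔ D ≤ centralizer (({x} : Set H)) := by
      refine sup_le ?_ ?_
      · intro y hy
        rw [mem_centralizer_singleton_iff]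
        exact (mem_centralizer_iff.1 hx.2) y (hcF₁ hy)
      · intro y hy
        rw [mem_centralizer_singleton_iff]
        exact ((mem_centralizer_iff.1 (h.D_cent hy)) x hx.1).symm
    refine mem_centralizer_iff.2 fun y hy => ?_
    exact mem_centralizer_singleton_iff.1 (h1 hy)
  have hDg : ∀ x ∈ P, cj x D = D := fun x hx => mem_norm.1 (h.P_norm_D hx)
  have hDFs : ∀ x ∈ P, D ≤ normalizer (cj x Fs : Set H) := by
    intro x hx
    rw [← cj_normalizer, ← hDg x hx]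
    exact cj_mono (hDN.trans hNFs)
  have hFsDx : ∀ x ∈ P, cj x Fs ≤ D := fun x hx => (cj_mono hFsD).trans (hDg x hx).le
  have hDp : IsPGroup p ↥D := isPGroup_mono h.D_le_S S.2
  -- `I = 1`
  have hI : cj g Fs ⊓ cj (f * g) Fs = ⊥ := by
    by_contra hI
    have h1 : cj g Fs ⊓ cj (f * g) Fs ≤ D := inf_le_left.trans (hFsDx g hgP)
    have h2 := PLocal.OffenderStep.inf_centralizer_ne_bot _ D (isPGroup_mono h1 hDp) hDp
      (le_trans (le_inf (hDFs g hgP) (hDFs _ hfgP)) (norm_inf_le _ _)) hI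
    have h3 : IsPGroup p ↥(cj g Fs ⊓ cj (f * g) Fs ⊓ centralizer (D : Set H) : Subgroup H) :=
      isPGroup_mono (inf_le_left.trans h1) hDp
    obtain ⟨x, hx, hx1, hxp⟩ : ∃ x ∈ cj g Fs ⊓ cj (f * g) Fs ⊓ centralizer (D : Set H), x ≠ 1 ∧ x ^ p = 1 := by
      have hnt : Nontrivial ↥(cj g Fs ⊓ cj (f * g) Fs ⊓ centralizer (D : Set H) : Subgroup H) :=
        (nontrivial_iff_ne_bot _).2 h2
      obtain ⟨n, hn, hcard⟩ := h3.nontrivial_iff_card.1 hnt
      have hdvd : p ∣ Nat.card ↥(cj g Fs ⊓ cj (f * g) Fs ⊓ centralizer (D : Set H) : Subgroup H) := by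
        rw [hcard]; exact dvd_pow_self p hn.ne'
      obtain ⟨y, hy⟩ := exists_prime_orderOf_dvd_card' p hdvd
      refine ⟨y, y.2, ?_, ?_⟩
      · intro h4
        have h5 : y = 1 := Subtype.ext h4
        rw [h5, orderOf_one] at hy
        exact (Fact.out : p.Prime).one_lt.ne hy
      · have h5 : y ^ p = 1 := by rw [← hy]; exact pow_orderOf_eq_one y
        exact congrArg Subtype.val h5
    have hxV : x ∈ V := by
      rw [h.V_eq_zOmega]
      exact ⟨h1 hx.1, hx.2, hxp⟩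
    have key : ∀ u ∈ P, x ∈ cj u Fs → x ∈ cj u R := by
      intro u hu hxu
      have h4 : x ∈ cj u (V ⊓ centralizer (F₁ : Set H)) := by
        rw [cj_inf]
        refine ⟨?_, cj_mono (le_centralizer_comm hF₁c) hxu⟩
        rw [mem_norm.1 (h.P_norm_V hu)]; exact hxV
      exact cj_mono hCV h4
    apply hx1
    have h4 : x ∈ cj g R ⊓ cj (f * g) R := ⟨key g hgP hx.1.1, key _ hfgP hx.1.2⟩
    rw [hfg] at h4
    exact h4
  have hcomm : ∀ u ∈ cj g Fs, ∀ v ∈ cj (f * g) Fs, Commute u v := by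
    intro u hu v hv
    have h1 : ⁅u, v⁆ ∈ cj g Fs ⊓ cj (f * g) Fs := by
      refine mem_inf.2 ⟨?_, ?_⟩
      · have h2 : v * u⁻¹ * v⁻¹ ∈ cj g Fs :=
          (le_norm_iff.1 (hDFs g hgP)) v (hFsDx _ hfgP hv) _ (inv_mem hu)
        have h3 := mul_mem hu h2
        rw [commutatorElement_def]
        have e : u * v * u⁻¹ * v⁻¹ = u * (v * u⁻¹ * v⁻¹) := by group
        rw [e]; exact h3
      · have h2 : u * v * u⁻¹ ∈ cj (f * g) Fs :=
          (le_norm_iff.1 (hDFs _ hfgP)) u (hFsDx g hgP hu) _ hv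
        rw [commutatorElement_def]
        exact mul_mem h2 (inv_mem hv)
    rw [hI] at h1
    exact commutatorElement_eq_one_iff_commute.1 h1
  -- the subgroup `A = F₂^g`
  set A : Subgroup H := cj (g * c₁) F₁ with hA
  have hAFs : A ≤ cj g Fs := by
    rw [hA, cj_mul]
    apply cj_mono
    rw [cj_le_iff, hF₁, ncl_le_iff]
    intro n hn
    rw [← cj_le_iff, ← cj_mul]
    refine hle _ (C.mul_mem hc₁ (hNC hn)) fun h1 => hc₁N ?_
    simpa using N.mul_mem h1 (N.inv_mem hn)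
  have hAf : ∀ x ∈ A, f * x * f⁻¹ ∈ cj (f * g) Fs := by
    intro x hx
    rw [cj_mul]
    exact conj_mem_cj (hAFs hx)
  have hAD : A ≤ D := hAFs.trans (hFsDx g hgP)
  set a : H → H := fun x => x⁻¹ * (f * x * f⁻¹) with ha
  have haF : ∀ x ∈ A, a x ∈ F₁ ⊓ D := by
    intro x hx
    refine mem_inf.2 ⟨?_, ?_⟩
    · have h1 : x⁻¹ * f * x ∈ F₁ := by
        have := (le_norm_iff.1 hNF₁) x⁻¹ (N.inv_mem (hDN (hAD hx))) f hfF₁
        rwa [inv_inv] at this
      have e : a x = (x⁻¹ * f * x) * f⁻¹ := by simp only [ha]; group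
      rw [e]
      exact mul_mem h1 (inv_mem hfF₁)
    · exact mul_mem (inv_mem (hAD hx)) ((le_norm_iff.1 h.P_norm_D) f hfP x (hAD hx))
  have hZF : F₁ ⊓ centralizer (F₁ : Set H) ≤ F₁ ⊓ D := by
    refine le_inf inf_le_left ?_
    rw [← h.inf_cent_V]
    exact le_inf (inf_le_left.trans hF₁S) (inf_le_right.trans (Subgroup.centralizer_le hVF₁))
  have hcard := card_of_fibers (F₀ := F₁ ⊓ D) (A := A) (Z₁ := F₁ ⊓ centralizer (F₁ : Set H))
    (Z₂ := A ⊓ centralizer (A : Set H)) a hZF inf_le_left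
    (fun z hz x hx => ((mem_centralizer_iff.1 hz.2) x hx).symm) haF ?_
  · have h1 : Nat.card ↥A = Nat.card ↥F₁ :=
      (Nat.card_congr (F₁.equivMapOfInjective _ (MulAut.conj (g * c₁)).injective).toEquiv).symm
    have h2 : A ⊓ centralizer (A : Set H) = cj (g * c₁) (F₁ ⊓ centralizer (F₁ : Set H)) := by
      rw [cj_inf, cj_centralizer]
    have h3 : Nat.card ↥(A ⊓ centralizer (A : Set H) : Subgroup H) =
        Nat.card ↥(F₁ ⊓ centralizer (F₁ : Set H) : Subgroup H) := by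
      rw [h2]
      exact (Nat.card_congr ((F₁ ⊓ centralizer (F₁ : Set H) : Subgroup H).equivMapOfInjective _
        (MulAut.conj (g * c₁)).injective).toEquiv).symm
    rw [h1, h3] at hcard
    have h4 : Nat.card ↥F₁ ≤ Nat.card ↥(F₁ ⊓ D : Subgroup H) := Nat.le_of_mul_le_mul_right hcard Nat.card_pos
    have h5 : F₁ ⊓ D = F₁ := Subgroup.eq_of_le_of_card_ge inf_le_left h4
    apply hcV
    rw [commutator_comm]
    apply commutator_eq_bot_iff_le_centralizer.2
    exact (hcF₁.trans (inf_eq_left.1 h5)).trans h.D_cent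
  · intro x hx x' hx' hζ
    refine mem_inf.2 ⟨mul_mem hx' (inv_mem hx), ?_⟩
    rw [mem_centralizer_iff]
    intro Y hY
    have hy : Y⁻¹ ∈ A := inv_mem hY
    have hmulc : ∀ u ∈ A, ⁅a u, a Y⁻¹⁆ = ⁅u⁻¹, Y⁆ * ⁅f * u * f⁻¹, f * Y⁻¹ * f⁻¹⁆ := by
      intro u hu
      have h1 := comm_mul_of_commute (u := u⁻¹) (u' := Y) (v := f * u * f⁻¹) (v' := f * Y⁻¹ * f⁻¹)
        (hcomm _ (hAFs (inv_mem hu)) _ (hAf u hu)) (hcomm _ (hAFs (inv_mem hu)) _ (hAf _ hy))
        (hcomm _ (hAFs hY) _ (hAf u hu)) (hcomm _ (hAFs hY) _ (hAf _ hy))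
      rw [← h1]
      simp only [ha, inv_inv]
    have h2 : ⁅a x', a Y⁻¹⁆ = ⁅a x, a Y⁻¹⁆ := by
      set ζ := (a x)⁻¹ * a x' with hζd
      have e1 : a x' = a x * ζ := by rw [hζd]; group
      have c1 : ζ * a Y⁻¹ = a Y⁻¹ * ζ := ((mem_centralizer_iff.1 hζ.2) _ (haF _ hy).1).symm
      have c2 : ζ * a x = a x * ζ := ((mem_centralizer_iff.1 hζ.2) _ (haF _ hx).1).symm
      rw [e1, commutatorElement_def, commutatorElement_def]
      calc a x * ζ * a Y⁻¹ * (a x * ζ)⁻¹ * (a Y⁻¹)⁻¹ = a x * (ζ * a Y⁻¹) * ζ⁻¹ * (a x)⁻¹ * (a Y⁻¹)⁻¹ := by group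
        _ = a x * a Y⁻¹ * (a x)⁻¹ * (a Y⁻¹)⁻¹ := by rw [c1]; group
    rw [hmulc x' hx', hmulc x hx] at h2
    have h3 : ⁅x⁻¹, Y⁆⁻¹ * ⁅x'⁻¹, Y⁆ = ⁅f * x * f⁻¹, f * Y⁻¹ * f⁻¹⁆ * ⁅f * x' * f⁻¹, f * Y⁻¹ * f⁻¹⁆⁻¹ := by
      rw [eq_mul_inv_iff_mul_eq, mul_assoc, h2]; group
    have hm : ∀ (K : Subgroup H) (u v : H), u ∈ K → v ∈ K → ⁅u, v⁆ ∈ K := by
      intro K u v hu hv
      rw [commutatorElement_def]
      exact mul_mem (mul_mem (mul_mem hu hv) (inv_mem hu)) (inv_mem hv)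
    have h4 : ⁅x⁻¹, Y⁆⁻¹ * ⁅x'⁻¹, Y⁆ ∈ cj g Fs ⊓ cj (f * g) Fs := by
      refine mem_inf.2 ⟨?_, ?_⟩
      · exact mul_mem (inv_mem (hm _ _ _ (hAFs (inv_mem hx)) (hAFs hY))) (hm _ _ _ (hAFs (inv_mem hx')) (hAFs hY))
      · rw [h3]
        exact mul_mem (hm _ _ _ (hAf x hx) (hAf _ hy)) (inv_mem (hm _ _ _ (hAf x' hx') (hAf _ hy)))
    rw [hI, mem_bot] at h4
    have h5 : ⁅x'⁻¹, Y⁆ = ⁅x⁻¹, Y⁆ := by
      rw [inv_mul_eq_one] at h4; exact h4.symm
    rw [commutatorElement_def, commutatorElement_def, inv_inv, inv_inv] at h5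
    have h6 : x'⁻¹ * Y * x' = x⁻¹ * Y * x := mul_right_cancel h5
    calc Y * (x' * x⁻¹) = x' * (x'⁻¹ * Y * x') * x⁻¹ := by group
      _ = x' * x⁻¹ * Y := by rw [h6]; group

/-- `C` normalises `R`. -/
theorem R_norm (h : AStr p S Z C Q P V D J R E W F) : C ≤ normalizer (R : Set H) := by
  set N : Subgroup H := _root_.Subgroup.closure (((S : Subgroup H) : Set H) ∪ {c | c ∈ C ∧ ⁅V, cj c V⁆ ≠ ⊥}) with hN
  have h1 : N = C := by
    apply h.gen
    · rw [hN, closure_le]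
      rintro x (hx | hx)
      · exact h.hyp.S_le hx
      · exact hx.1
    · exact fun x hx => _root_.Subgroup.subset_closure (Or.inl hx)
    · exact fun c hc hcV => _root_.Subgroup.subset_closure (Or.inr ⟨hc, hcV⟩)
  rw [← h1, hN, closure_le]
  rintro x (hx | hx)
  · have h2 : (S : Subgroup H) ≤ normalizer (((S : Subgroup H) ⊓ J : Subgroup H) : Set H) :=
      le_trans (le_inf le_normalizer (h.hyp.hSP.trans h.J_norm)) (norm_inf_le _ _)
    have h3 : (S : Subgroup H) ≤ normalizer (R : Set H) := by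
      rw [h.R_eq]
      refine le_trans ?_ (norm_inf_le _ _)
      exact le_inf (h.hyp.hSP.trans h.P_norm_V) (h2.trans (norm_le_norm_centralizer _))
    exact h3 hx
  · exact mem_norm.2 (h.adj x hx.1 hx.2).2.2.2

theorem R_ne_bot (h : AStr p S Z C Q P V D J R E W F) : R ≠ ⊥ := by
  obtain ⟨c, hcC, hcV⟩ := h.ex
  rw [← (h.adj c hcC hcV).2.1]
  exact hcV

/-- `N_H(R) = C`. -/
theorem norm_R (h : AStr p S Z C Q P V D J R E W F) : normalizer (R : Set H) = C := by
  apply h.hyp.hCmax _ ⟨R, ?_, h.R_ne_bot, rfl⟩ h.R_norm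
  exact isPGroup_mono (h.R_le_V.trans (h.VQ.trans h.hyp.Q_le_S)) S.2

end AStr

end Cfsg.Agent.H250.P1
end

-- part: H537/P1/Two
section
/-!
# The `P!`-theorem (S3046), Case A, `|F| = 2`: the natural `SL₂(2)`-module elementwise
-/

set_option autoImplicit false
set_option linter.unusedSectionVars false

open Cfsg Subgroup
open Cfsg.Agent.H230 Cfsg.Agent.H229 Cfsg.Agent.H247.P1 Cfsg.Agent.H250.P1

namespace Cfsg.Agent.H537.P1

variable {H : Type*} [Group H]

/-- `W = {1, a, b, ab}`, `E` acts as `Sym(3)`, `S ∩ E` contains the transvection with centre `a`. -/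
structure Two (S E W : Subgroup H) (a b : H) : Prop where
  ha : a ∈ W
  hb : b ∈ W
  a1 : a ≠ 1
  b1 : b ≠ 1
  ab : a ≠ b
  aa : a * a = 1
  bb : b * b = 1
  com : a * b = b * a
  all : ∀ x ∈ W, x = 1 ∨ x = a ∨ x = b ∨ x = a * b
  hx : ∃ x ∈ E, x ∈ S ∧ x * a * x⁻¹ = a ∧ x * b * x⁻¹ = a * b
  he : ∃ e ∈ E, e * a * e⁻¹ = b
  hE : E ≤ normalizer (W : Set H)

theorem two_elems {F : Type} [Field F] [Fintype F] (hF : Fintype.card F = 2) (t : F) : t = 0 ∨ t = 1 := by
  classical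
  by_contra h
  push Not at h
  have h1 : ({0, 1, t} : Finset F).card = 3 := by
    rw [Finset.card_insert_of_notMem, Finset.card_insert_of_notMem, Finset.card_singleton]
    · simp [h.2.symm]
    · simp only [h.1.symm, _root_.Finset.mem_insert, _root_.zero_ne_one, _root_.Finset.mem_singleton, _root_.or_self, _root_.not_false_eq_true]
  have h2 := Finset.card_le_univ ({0, 1, t} : Finset F)
  omega

theorem one_add_one {F : Type} [Field F] [Fintype F] (hF : Fintype.card F = 2) : (1 : F) + 1 = 0 := by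
  rcases two_elems hF ((1 : F) + 1) with h | h
  · exact h
  · exact absurd (by simpa using h) (one_ne_zero (α := F))

theorem exists_two {F : Type} [Field F] [Fintype F] {S E W : Subgroup H} (h : NatW F S E W)
    (hF : Fintype.card F = 2) : ∃ a b, Two S E W a b := by
  obtain ⟨ρ, ψ, hρ, hact, hS, hS'⟩ := h
  have h11 := one_add_one hF
  have hneg : (-1 : F) = 1 := by
    rw [neg_eq_iff_add_eq_zero]; exact h11
  let A : ↥W := (ψ.symm ![1, 0]).toMul
  let B : ↥W := (ψ.symm ![0, 1]).toMul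
  have hA : ψ (Additive.ofMul A) = ![1, 0] := by simp [A]
  have hB : ψ (Additive.ofMul B) = ![0, 1] := by simp [B]
  have hAB : ψ (Additive.ofMul (A * B)) = ![1, 1] := by
    rw [ofMul_mul, map_add, hA, hB]; ext i; fin_cases i <;> simp
  have hBA : ψ (Additive.ofMul (B * A)) = ![1, 1] := by
    rw [ofMul_mul, map_add, hA, hB]; ext i; fin_cases i <;> simp
  have hAA : ψ (Additive.ofMul (A * A)) = 0 := by
    rw [ofMul_mul, map_add, hA]; ext i; fin_cases i <;> simp [h11]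
  have hBB : ψ (Additive.ofMul (B * B)) = 0 := by
    rw [ofMul_mul, map_add, hB]; ext i; fin_cases i <;> simp [h11]
  have h1 : ψ (Additive.ofMul (1 : ↥W)) = 0 := by simp only [_root_.ofMul_one, _root_.map_zero]
  have inj : ∀ x y : ↥W, ψ (Additive.ofMul x) = ψ (Additive.ofMul y) → (x : H) = (y : H) := by
    intro x y hxy
    have := ψ.injective hxy
    rw [Additive.ofMul.injective this]
  have conj : ∀ (x : ↥E) (v w : ↥W), ψ (Additive.ofMul w) =
      ((ρ x : Matrix.SpecialLinearGroup (Fin 2) F) : Matrix (Fin 2) (Fin 2) F).mulVec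
        (ψ (Additive.ofMul v)) → (x : H) * (v : H) * (x : H)⁻¹ = (w : H) := by
    intro x v w hw
    obtain ⟨w', hw', hw2⟩ := hact x v
    rw [← hw', inj w' w (by rw [hw2, hw])]
  have ne : ∀ x y : ↥W, ψ (Additive.ofMul x) ≠ ψ (Additive.ofMul y) → (x : H) ≠ (y : H) := by
    intro x y hxy h2
    exact hxy (by rw [Subtype.ext h2])
  refine ⟨(A : H), (B : H), A.2, B.2, ?_, ?_, ?_, ?_, ?_, ?_, ?_, ?_, ?_, ?_⟩
  · refine ne A 1 ?_
    rw [hA, h1]; intro h2; simpa using congrFun h2 0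
  · refine ne B 1 ?_
    rw [hB, h1]; intro h2; simpa using congrFun h2 1
  · refine ne A B ?_
    rw [hA, hB]; intro h2; simpa using congrFun h2 0
  · exact inj (A * A) 1 (by rw [hAA, h1])
  · exact inj (B * B) 1 (by rw [hBB, h1])
  · exact inj (A * B) (B * A) (by rw [hAB, hBA])
  · intro x hx
    have hv : ψ (Additive.ofMul (⟨x, hx⟩ : ↥W)) =
        ![ψ (Additive.ofMul (⟨x, hx⟩ : ↥W)) 0, ψ (Additive.ofMul (⟨x, hx⟩ : ↥W)) 1] := by
      ext i; fin_cases i <;> rfl
    rcases two_elems hF (ψ (Additive.ofMul (⟨x, hx⟩ : ↥W)) 0) with h2 | h2 <;>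
      rcases two_elems hF (ψ (Additive.ofMul (⟨x, hx⟩ : ↥W)) 1) with h3 | h3 <;>
      rw [h2, h3] at hv
    · left
      refine inj ⟨x, hx⟩ 1 ?_
      rw [hv, h1]; ext i; fin_cases i <;> rfl
    · right; right; left
      exact inj ⟨x, hx⟩ B (by rw [hv, hB])
    · right; left
      exact inj ⟨x, hx⟩ A (by rw [hv, hA])
    · right; right; right
      exact inj ⟨x, hx⟩ (A * B) (by rw [hv, hAB])
  · obtain ⟨x, hxS, hx⟩ := hS' 1
    refine ⟨x, x.2, hxS, ?_, ?_⟩
    · apply conj x A A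
      rw [hx, hA]
      ext i; (revert i; simp only [Matrix.mulVec, dotProduct, _root_.Fin.forall_fin_succ, _root_.Nat.succ_eq_add_one, Nat.reduceAdd, _root_.Matrix.of_apply, _root_.Matrix.cons_val', _root_.Matrix.cons_val_fin_one, _root_.Fin.sum_univ_two, Fin.isValue, _root_.Matrix.cons_val_zero, _root_.mul_one, _root_.Matrix.cons_val_one, _root_.MulZeroClass.mul_zero, _root_.add_zero, _root_.Matrix.cons_val_succ, _root_.implies_true, _root_.and_self])
    · apply conj x B (A * B)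
      rw [hx, hAB, hB]
      ext i; (revert i; simp only [Matrix.mulVec, dotProduct, _root_.Fin.forall_fin_succ, _root_.Nat.succ_eq_add_one, Nat.reduceAdd, _root_.Matrix.of_apply, _root_.Matrix.cons_val', _root_.Matrix.cons_val_fin_one, _root_.Fin.sum_univ_two, Fin.isValue, _root_.Matrix.cons_val_zero, _root_.MulZeroClass.mul_zero, _root_.Matrix.cons_val_one, _root_.mul_one, _root_.zero_add, _root_.Matrix.cons_val_succ, _root_.implies_true, _root_.and_self])
  · obtain ⟨e, he⟩ := hρ ⟨!![0, 1; 1, 0], by rw [Matrix.det_fin_two_of]; simp [hneg]⟩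
    refine ⟨e, e.2, ?_⟩
    apply conj e A B
    rw [he, hA, hB]
    ext i; (revert i; simp only [Matrix.mulVec, dotProduct, _root_.Fin.forall_fin_succ, _root_.Nat.succ_eq_add_one, Nat.reduceAdd, _root_.Matrix.of_apply, _root_.Matrix.cons_val', _root_.Matrix.cons_val_fin_one, _root_.Fin.sum_univ_two, Fin.isValue, _root_.Matrix.cons_val_zero, _root_.mul_one, _root_.Matrix.cons_val_one, _root_.MulZeroClass.mul_zero, _root_.add_zero, _root_.Matrix.cons_val_succ, _root_.implies_true, _root_.and_self])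
  · rw [le_norm_iff]
    intro k hk x hx
    obtain ⟨w, hw, -⟩ := hact ⟨k, hk⟩ ⟨x, hx⟩
    rw [← hw]
    exact w.2

/-- products over subsets of a commuting family -/
theorem exists_vv {ι : Type*} [DecidableEq ι] (a : ι → H) (hcomm : ∀ i j, a i * a j = a j * a i) :
    ∃ vv : Finset ι → H, vv ∅ = 1 ∧ ∀ δ i, i ∉ δ → vv (insert i δ) = a i * vv δ := by
  refine ⟨fun δ => δ.noncommProd a (fun i _ j _ _ => hcomm i j), ?_, ?_⟩
  · exact Finset.noncommProd_empty _ _
  · intro δ i hi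
    exact Finset.noncommProd_insert_of_notMem _ _ _ _ hi

end Cfsg.Agent.H537.P1
end

-- part: H537/P1/DeltaA
section
/-!
# The `P!`-theorem (S3046), Case A, `|F| = 2`: the action of `S ∩ J`, Lemma A, products of the `a i`
-/

set_option autoImplicit false
set_option linter.unusedSectionVars false

open Cfsg Subgroup
open Cfsg.Agent.H230 Cfsg.Agent.H229 Cfsg.Agent.H247.P1 Cfsg.Agent.H250.P1

namespace Cfsg.Agent.H537.P1

variable {H : Type*} [Group H] {p : ℕ}
variable {S : Sylow p H} {Z C Q P V D J R : Subgroup H} {r : ℕ} {E W : Fin r → Subgroup H}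
  {F : Type} [Field F] [Fintype F] {a b : Fin r → H}

theorem conj_cent {K : Subgroup H} {x y : H} (hy : y ∈ centralizer (K : Set H)) (hx : x ∈ K) :
    x * y * x⁻¹ = y := by
  rw [(mem_centralizer_iff.1 hy) x hx, mul_inv_cancel_right]

theorem conj_ne_one {x y : H} (hy : y ≠ 1) : x * y * x⁻¹ ≠ 1 := by
  intro h
  apply hy
  have : y = x⁻¹ * (x * y * x⁻¹) * x := by group
  rw [this, h]; group

theorem conj_inj {x y z : H} (h : x * y * x⁻¹ = x * z * x⁻¹) : y = z :=
  mul_left_cancel (mul_right_cancel h)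

theorem V_ea (h : AStr p S Z C Q P V D J R E W F) : IsElementaryAbelian p V := by
  rw [h.V_eq]; exact largest_ea p P

theorem V_norm (h : AStr p S Z C Q P V D J R E W F) : P ≤ normalizer (V : Set H) := by
  rw [h.V_eq]; exact largest_normal p P

theorem V_comm (h : AStr p S Z C Q P V D J R E W F) {x y : H} (hx : x ∈ V) (hy : y ∈ V) :
    x * y = y * x := ea_comm (V_ea h) hx hy

theorem D_cent (h : AStr p S Z C Q P V D J R E W F) : D ≤ centralizer (V : Set H) := by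
  rw [h.D_eq, h.V_eq]; exact pCoreOf_le_centralizer_largest p P

theorem J_norm_W (h : AStr p S Z C Q P V D J R E W F)
    (ht : ∀ i, Two (S : Subgroup H) (E i) (W i) (a i) (b i)) (i : Fin r) :
    J ≤ normalizer (W i : Set H) := by
  rw [h.J_eq, iSup_le_iff]
  intro j
  by_cases hij : i = j
  · rw [← hij]; exact (ht i).hE
  · exact (le_centralizer_comm (h.fix i j hij)).trans (centralizer_le_norm _)

theorem E_le_J (h : AStr p S Z C Q P V D J R E W F) (i : Fin r) : E i ≤ J := by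
  rw [h.J_eq]; exact le_iSup E i

theorem uniq (h : AStr p S Z C Q P V D J R E W F)
    (ht : ∀ i, Two (S : Subgroup H) (E i) (W i) (a i) (b i)) (i : Fin r) {y : H} (hy : y ∈ W i)
    (hyc : y ∈ centralizer (((S : Subgroup H) ⊓ J : Subgroup H) : Set H)) (hy1 : y ≠ 1) : y = a i := by
  obtain ⟨x, hxE, hxS, hxa, hxb⟩ := (ht i).hx
  have h1 : x * y * x⁻¹ = y := conj_cent hyc ⟨hxS, E_le_J h i hxE⟩
  rcases (ht i).all y hy with h2 | h2 | h2 | h2
  · exact absurd h2 hy1
  · exact h2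
  · exfalso
    rw [h2, hxb] at h1
    exact (ht i).a1 (mul_eq_right.1 h1)
  · exfalso
    rw [h2] at h1
    have h3 : x * (a i * b i) * x⁻¹ = (x * a i * x⁻¹) * (x * b i * x⁻¹) := by group
    rw [hxa, hxb, h1] at h3
    exact (ht i).a1 (mul_eq_right.1 h3.symm)

theorem act (h : AStr p S Z C Q P V D J R E W F)
    (ht : ∀ i, Two (S : Subgroup H) (E i) (W i) (a i) (b i)) {i : Fin r}
    (hca : a i ∈ centralizer (((S : Subgroup H) ⊓ J : Subgroup H) : Set H)) {s x : H}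
    (hs : s ∈ (S : Subgroup H) ⊓ J) (hx : x ∈ W i) : s * x * s⁻¹ = x ∨ s * x * s⁻¹ = a i * x := by
  have ha : s * a i * s⁻¹ = a i := conj_cent hca hs
  have hb : s * b i * s⁻¹ = b i ∨ s * b i * s⁻¹ = a i * b i := by
    have h1 : s * b i * s⁻¹ ∈ W i := (le_norm_iff.1 (J_norm_W h ht i)) s hs.2 _ (ht i).hb
    rcases (ht i).all _ h1 with h2 | h2 | h2 | h2
    · exact absurd h2 (conj_ne_one (ht i).b1)
    · exfalso
      apply (ht i).ab
      apply conj_inj (x := s)
      rw [ha, h2]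
    · left; exact h2
    · right; exact h2
  rcases (ht i).all x hx with h2 | h2 | h2 | h2
  · left; rw [h2]; group
  · left; rw [h2]; exact ha
  · rw [h2]; exact hb
  · rw [h2]
    have e : s * (a i * b i) * s⁻¹ = (s * a i * s⁻¹) * (s * b i * s⁻¹) := by group
    rw [e, ha]
    rcases hb with hb | hb
    · left; rw [hb]
    · right; rw [hb]

/-- Lemma A -/
theorem lemA (h : AStr p S Z C Q P V D J R E W F)
    (ht : ∀ i, Two (S : Subgroup H) (E i) (W i) (a i) (b i))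
    (hca : ∀ i, a i ∈ centralizer (((S : Subgroup H) ⊓ J : Subgroup H) : Set H))
    {c : H} (hc : c ∈ C) (hV : ⁅V, cj c V⁆ ≠ ⊥) {k : Fin r} {x : H} (hx : x ∈ W k) (hx1 : x ≠ 1)
    (hxa : x ≠ a k) :
    ∃ i, c * a k * c⁻¹ = a i ∧ (c * x * c⁻¹) * a i * (c * x * c⁻¹)⁻¹ = a i ∧
      (c * x * c⁻¹) * b i * (c * x * c⁻¹)⁻¹ = a i * b i := by
  have hc' : c⁻¹ ∈ C := C.inv_mem hc
  have hV' : ⁅V, cj c⁻¹ V⁆ ≠ ⊥ := by
    intro h1
    apply hV
    have h2 : cj c ⁅V, cj c⁻¹ V⁆ = ⁅cj c V, V⁆ := by rw [cj_comm, cj_cj_inv]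
    rw [h1, cj_bot] at h2
    rw [commutator_comm, ← h2]
  obtain ⟨h1, -, -, -⟩ := h.adj c hc hV
  obtain ⟨h1', -, -, -⟩ := h.adj c⁻¹ hc' hV'
  have hle : cj c V ≤ (S : Subgroup H) ⊓ J := h1 ▸ le_sup_left
  have hle' : cj c⁻¹ V ≤ (S : Subgroup H) ⊓ J := h1' ▸ le_sup_left
  have hxV : x ∈ V := h.W_le k hx
  -- `V^(c⁻¹)` does not centralise `x`
  have hnc : ¬ cj c⁻¹ V ≤ centralizer ({x} : Set H) := by
    intro h2
    have h3 : (S : Subgroup H) ⊓ J ≤ centralizer ({x} : Set H) := by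
      rw [← h1']
      refine sup_le h2 ?_
      intro d hd
      rw [mem_centralizer_singleton_iff]
      exact ((mem_centralizer_iff.1 (D_cent h hd)) x hxV).symm
    apply hxa
    apply uniq h ht k hx _ hx1
    rw [mem_centralizer_iff]
    intro s hs
    exact mem_centralizer_singleton_iff.1 (h3 hs)
  obtain ⟨y, hy⟩ : ∃ y, y = c * x * c⁻¹ := ⟨_, rfl⟩
  rw [← hy]
  have hyc : y ∈ cj c V := hy ▸ conj_mem_cj hxV
  have hyS : y ∈ (S : Subgroup H) ⊓ J := hle hyc
  have hyV : ¬ V ≤ centralizer ({y} : Set H) := by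
    intro h2
    apply hnc
    intro u hu
    rw [mem_cj, inv_inv] at hu
    have h3 := mem_centralizer_singleton_iff.1 (h2 hu)
    rw [mem_centralizer_singleton_iff]
    apply conj_inj (x := c)
    calc c * (u * x) * c⁻¹ = c * u * c⁻¹ * y := by rw [hy]; group
      _ = y * (c * u * c⁻¹) := h3
      _ = c * (x * u) * c⁻¹ := by rw [hy]; group
  obtain ⟨i, hi⟩ : ∃ i, ¬ W i ≤ centralizer ({y} : Set H) := by
    by_contra h2
    push Not at h2
    apply hyV
    rw [← h.W_sup]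
    exact iSup_le h2
  obtain ⟨w, hw, hwy⟩ := SetLike.not_le_iff_exists.1 hi
  have hwy2 : y * w * y⁻¹ ≠ w := by
    intro h2
    apply hwy
    rw [mem_centralizer_singleton_iff]
    exact (mul_inv_eq_iff_eq_mul.1 h2).symm
  have hwy3 : y * w * y⁻¹ = a i * w := (act h ht (hca i) hyS hw).resolve_left hwy2
  have hai : y * a i * y⁻¹ = a i := conj_cent (hca i) hyS
  have hyb : y * b i * y⁻¹ = a i * b i := by
    rcases (ht i).all w hw with h2 | h2 | h2 | h2
    · exfalso; apply hwy2; rw [h2]; group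
    · exfalso; apply hwy2; rw [h2]; exact hai
    · rw [← h2]; exact hwy3
    · rw [h2] at hwy3
      have e : y * (a i * b i) * y⁻¹ = (y * a i * y⁻¹) * (y * b i * y⁻¹) := by group
      rw [hwy3, hai] at e
      exact (mul_left_cancel e).symm
  refine ⟨i, ?_, hai, hyb⟩
  -- back
  obtain ⟨w', hw'⟩ : ∃ w', w' = c⁻¹ * b i * c := ⟨_, rfl⟩
  have hw'V : w' ∈ cj c⁻¹ V := by
    rw [mem_cj, hw']
    have e : c⁻¹⁻¹ * (c⁻¹ * b i * c) * c⁻¹ = b i := by group
    rw [e]
    exact h.W_le i (ht i).hb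
  have e1 : x * w' * x⁻¹ = (c⁻¹ * a i * c) * w' := by
    apply conj_inj (x := c)
    calc c * (x * w' * x⁻¹) * c⁻¹ = y * b i * y⁻¹ := by rw [hy, hw']; group
      _ = a i * b i := hyb
      _ = c * ((c⁻¹ * a i * c) * w') * c⁻¹ := by rw [hw']; group
  rcases act h ht (hca k) (hle' hw'V) hx with h2 | h2
  · exfalso
    have h3 : x * w' * x⁻¹ = w' := by
      rw [← mul_inv_eq_iff_eq_mul.1 h2]; group
    rw [h3] at e1
    have h4 : c⁻¹ * a i * c = 1 := mul_eq_right.1 e1.symm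
    apply (ht i).a1
    have : a i = c * (c⁻¹ * a i * c) * c⁻¹ := by group
    rw [this, h4]; group
  · have h3 : w' * x = a k * x * w' := mul_inv_eq_iff_eq_mul.1 h2
    have h4 : x * w' = (c⁻¹ * a i * c) * a k * (x * w') := by
      calc x * w' = (c⁻¹ * a i * c) * w' * x := mul_inv_eq_iff_eq_mul.1 e1
        _ = (c⁻¹ * a i * c) * (w' * x) := by group
        _ = (c⁻¹ * a i * c) * a k * (x * w') := by rw [h3]; group
    have h5 : (c⁻¹ * a i * c) * a k = 1 := mul_eq_right.1 h4.symm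
    have h6 : c⁻¹ * a i * c = a k := by
      have h7 : c⁻¹ * a i * c = (c⁻¹ * a i * c) * a k * a k := by
        rw [mul_assoc (c⁻¹ * a i * c), (ht k).aa, mul_one]
      rw [h7, h5, one_mul]
    rw [← h6]; group

section fin

variable [Finite H] [Fact p.Prime]

theorem cent_a (h : AStr p S Z C Q P V D J R E W F)
    (ht : ∀ i, Two (S : Subgroup H) (E i) (W i) (a i) (b i)) (i : Fin r) :
    a i ∈ centralizer (((S : Subgroup H) ⊓ J : Subgroup H) : Set H) := by
  have hp : IsPGroup p ↥(W i) := isPGroup_mono ((h.W_le i).trans h.VQ) h.hyp.Q_pgroup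
  have hne : W i ≠ ⊥ := by
    intro h1
    apply (ht i).a1
    have := (ht i).ha
    rw [h1] at this
    exact Subgroup.mem_bot.1 this
  have h1 := PLocal.OffenderStep.inf_centralizer_ne_bot (W i) ((S : Subgroup H) ⊓ J) hp
    (isPGroup_mono inf_le_left S.2) (inf_le_right.trans (J_norm_W h ht i)) hne
  obtain ⟨y, hy⟩ := (Subgroup.ne_bot_iff_exists_ne_one).1 h1
  have hy1 : (y : H) ≠ 1 := fun h2 => hy (Subtype.ext h2)
  rw [← uniq h ht i y.2.1 y.2.2 hy1]
  exact y.2.2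

theorem perm_S (h : AStr p S Z C Q P V D J R E W F)
    (ht : ∀ i, Two (S : Subgroup H) (E i) (W i) (a i) (b i)) {x : H} (hx : x ∈ (S : Subgroup H))
    {i j : Fin r} (hij : cj x (E i) = E j) : x * a i * x⁻¹ = a j := by
  have hxP := h.hyp.hSP hx
  have h1 : cj x (W i) = W j := h.permW x hxP i j hij
  have h2 : cj x ((S : Subgroup H) ⊓ J) = (S : Subgroup H) ⊓ J := by
    rw [cj_inf, cj_mem_self hx, mem_norm.1 (h.J_norm hxP)]
  apply uniq h ht j
  · rw [← h1]; exact conj_mem_cj (ht i).ha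
  · rw [← h2, ← cj_centralizer]; exact conj_mem_cj (cent_a h ht i)
  · exact conj_ne_one (ht i).a1

end fin

/-! ### the products -/

/-- products over subsets of a family inside `V` -/
structure VV (V : Subgroup H) (a : Fin r → H) (vv : Finset (Fin r) → H) : Prop where
  emp : vv ∅ = 1
  ins : ∀ δ i, i ∉ δ → vv (insert i δ) = a i * vv δ
  mem : ∀ δ, vv δ ∈ V

theorem exists_VV (hVc : ∀ x ∈ V, ∀ y ∈ V, x * y = y * x) (ha : ∀ i, a i ∈ V) :
    ∃ vv, VV V a vv := by
  obtain ⟨vv, h1, h2⟩ := exists_vv a (fun i j => hVc _ (ha i) _ (ha j))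
  refine ⟨vv, h1, h2, ?_⟩
  intro δ
  induction δ using Finset.induction_on with
  | empty => rw [h1]; exact V.one_mem
  | insert i δ hi ih => rw [h2 δ i hi]; exact V.mul_mem (ha i) ih

theorem VV.conj {vv : Finset (Fin r) → H} (hv : VV V a vv) {c : H} {σ : Equiv.Perm (Fin r)}
    (hσ : ∀ i, c * a i * c⁻¹ = a (σ i)) (δ : Finset (Fin r)) :
    c * vv δ * c⁻¹ = vv (δ.map σ.toEmbedding) := by
  induction δ using Finset.induction_on with
  | empty => rw [Finset.map_empty, hv.emp]; group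
  | insert i δ hi ih =>
    rw [hv.ins δ i hi, Finset.map_insert, hv.ins]
    · rw [← ih]
      show c * (a i * vv δ) * c⁻¹ = a (σ i) * _
      rw [← hσ i]; group
    · intro h1
      rw [Finset.mem_map] at h1
      obtain ⟨j, hj, hj2⟩ := h1
      exact hi (σ.injective hj2 ▸ hj)

theorem VV.fix {vv : Finset (Fin r) → H} (hv : VV V a vv) {e : H} {δ : Finset (Fin r)}
    (he : ∀ i ∈ δ, e * a i * e⁻¹ = a i) : e * vv δ * e⁻¹ = vv δ := by
  induction δ using Finset.induction_on with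
  | empty => rw [hv.emp]; group
  | insert i δ hi ih =>
    rw [hv.ins δ i hi]
    have e1 : e * (a i * vv δ) * e⁻¹ = (e * a i * e⁻¹) * (e * vv δ * e⁻¹) := by group
    rw [e1, he i (Finset.mem_insert_self _ _), ih fun j hj => he j (Finset.mem_insert_of_mem hj)]

theorem VV.sq {vv : Finset (Fin r) → H} (hv : VV V a vv) (hVc : ∀ x ∈ V, ∀ y ∈ V, x * y = y * x)
    (ha : ∀ i, a i ∈ V) (haa : ∀ i, a i * a i = 1) (δ : Finset (Fin r)) : vv δ * vv δ = 1 := by
  induction δ using Finset.induction_on with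
  | empty => rw [hv.emp]; group
  | insert i δ hi ih =>
    rw [hv.ins δ i hi]
    calc a i * vv δ * (a i * vv δ) = a i * (vv δ * a i) * vv δ := by group
      _ = a i * (a i * vv δ) * vv δ := by rw [hVc _ (hv.mem δ) _ (ha i)]
      _ = (a i * a i) * (vv δ * vv δ) := by group
      _ = 1 := by rw [haa, ih, mul_one]

/-- `E j` centralises `a i`, `i ≠ j`. -/
theorem E_cent (h : AStr p S Z C Q P V D J R E W F)
    (ht : ∀ i, Two (S : Subgroup H) (E i) (W i) (a i) (b i)) {i j : Fin r} (hij : i ≠ j) {e : H}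
    (he : e ∈ E j) : e * a i * e⁻¹ = a i := conj_cent (h.fix i j hij (ht i).ha) he

theorem VV.not_mem (h : AStr p S Z C Q P V D J R E W F)
    (ht : ∀ i, Two (S : Subgroup H) (E i) (W i) (a i) (b i)) {vv : Finset (Fin r) → H}
    (hv : VV V a vv) {j : Fin r} {δ : Finset (Fin r)} (hj : j ∉ δ) {e : H} (he : e ∈ E j) :
    e * vv δ * e⁻¹ = vv δ :=
  hv.fix fun i hi => E_cent h ht (fun h1 : i = j => hj (h1 ▸ hi)) he

theorem VV.move (h : AStr p S Z C Q P V D J R E W F)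
    (ht : ∀ i, Two (S : Subgroup H) (E i) (W i) (a i) (b i)) {vv : Finset (Fin r) → H}
    (hv : VV V a vv) {j : Fin r} {δ : Finset (Fin r)} (hj : j ∈ δ) :
    ∃ e ∈ E j, e * vv δ * e⁻¹ = a j * b j * vv δ := by
  obtain ⟨e, he, hab⟩ := (ht j).he
  refine ⟨e, he, ?_⟩
  have h1 : vv δ = a j * vv (δ.erase j) := by
    rw [← hv.ins (δ.erase j) j (Finset.notMem_erase j δ), Finset.insert_erase hj]
  have h2 := VV.not_mem h ht hv (Finset.notMem_erase j δ) he
  rw [h1]
  calc e * (a j * vv (δ.erase j)) * e⁻¹ = (e * a j * e⁻¹) * (e * vv (δ.erase j) * e⁻¹) := by group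
    _ = b j * vv (δ.erase j) := by rw [hab, h2]
    _ = b j * (a j * a j) * vv (δ.erase j) := by rw [(ht j).aa, mul_one]
    _ = (b j * a j) * a j * vv (δ.erase j) := by group
    _ = a j * b j * (a j * vv (δ.erase j)) := by rw [← (ht j).com]; group

theorem Two.ab_ne {T E' W' : Subgroup H} {x y : H} (ht : Two T E' W' x y) : x * y ≠ 1 := by
  intro h1
  apply ht.ab
  calc x = x * (y * y) := by rw [ht.bb, mul_one]
    _ = x * y * y := by group
    _ = y := by rw [h1, one_mul]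

theorem VV.inj (h : AStr p S Z C Q P V D J R E W F)
    (ht : ∀ i, Two (S : Subgroup H) (E i) (W i) (a i) (b i)) {vv : Finset (Fin r) → H}
    (hv : VV V a vv) : Function.Injective vv := by
  have key : ∀ (δ : Finset (Fin r)) j, j ∈ δ ↔ ¬ ∀ e ∈ E j, e * vv δ * e⁻¹ = vv δ := by
    intro δ j
    constructor
    · intro hj h1
      obtain ⟨e, he, h2⟩ := VV.move h ht hv hj
      rw [h1 e he] at h2
      exact (ht j).ab_ne (mul_eq_right.1 h2.symm)
    · intro h1
      by_contra h2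
      exact h1 fun e he => VV.not_mem h ht hv h2 he
  intro δ δ' hδ
  ext j
  rw [key δ j, key δ' j, hδ]

end Cfsg.Agent.H537.P1
end

-- part: H537/P1/Delta
section
/-!
# The `P!`-theorem (S3046), Case A, (δ): `|F| = 2` implies `r = 1`
-/

set_option autoImplicit false
set_option linter.unusedSectionVars false

open Cfsg Subgroup
open Cfsg.Agent.H230 Cfsg.Agent.H229 Cfsg.Agent.H247.P1 Cfsg.Agent.H250.P1

namespace Cfsg.Agent.H537.P1

variable {H : Type*} [Group H] {p : ℕ}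

/-- `Q ≤ [Q, Q] K`, `Q` a finite `p`-group: `Q ≤ K`. -/
theorem le_of_le_comm_sup [Finite H] [Fact p.Prime] {Q K : Subgroup H} (hQ : IsPGroup p ↥Q) (hK : K ≤ Q)
    (h : Q ≤ ⁅Q, Q⁆ ⊔ K) : Q ≤ K := by
  by_contra hne
  -- a maximal subgroup of `Q` above `K`
  have hlt : K.subgroupOf Q ≠ ⊤ := by
    intro h1
    exact hne (subgroupOf_eq_top.1 h1)
  obtain ⟨M, hM, hKM⟩ := (eq_top_or_exists_le_coatom (K.subgroupOf Q)).resolve_left hlt
  have : Group.IsNilpotent ↥Q := hQ.isNilpotent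
  have hn : M.Normal := Subgroup.NormalizerCondition.normal_of_coatom M Group.normalizerCondition_of_isNilpotent hM
  have h2 : (⊤ : Subgroup ↥Q) ≤ M ⊔ ⁅(⊤ : Subgroup ↥Q), (⊤ : Subgroup ↥Q)⁆ := by
    have e1 : (⁅(⊤ : Subgroup ↥Q), (⊤ : Subgroup ↥Q)⁆).map Q.subtype = ⁅Q, Q⁆ := by
      rw [map_commutator, ← MonoidHom.range_eq_map, range_subtype]
    have h3 : (⊤ : Subgroup ↥Q).map Q.subtype ≤
        (M ⊔ ⁅(⊤ : Subgroup ↥Q), (⊤ : Subgroup ↥Q)⁆).map Q.subtype := by
      rw [Subgroup.map_sup, e1, ← MonoidHom.range_eq_map, range_subtype, sup_comm]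
      refine h.trans (sup_le_sup_left ?_ _)
      intro x hx
      exact ⟨⟨x, hK hx⟩, hKM (mem_subgroupOf.2 hx), rfl⟩
    exact (map_le_map_iff_of_injective Q.subtype_injective).1 h3
  exact hM.1 (top_le_iff.1 (Lib.Hyperfocal.le_of_le_sup_commutator h2))

variable {S : Sylow p H} {Z C Q P V D J R : Subgroup H} {r : ℕ} {E W : Fin r → Subgroup H}
  {F : Type} [Field F] [Fintype F] {a b : Fin r → H}

theorem centralizer_eq_of_sq {v : H} (hv : v * v = 1) (hv1 : v ≠ 1) :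
    normalizer (zpowers v : Set H) = centralizer ({v} : Set H) := by
  apply le_antisymm
  · intro x hx
    have h1 : x * v * x⁻¹ ∈ zpowers v := (hx v).1 (mem_zpowers v)
    rw [mem_centralizer_singleton_iff]
    obtain ⟨n, hn⟩ := mem_zpowers_iff.1 h1
    have h2 : v ^ (2 : ℤ) = 1 := by rw [zpow_two]; exact hv
    rcases Int.even_or_odd' n with ⟨k, hk | hk⟩
    · exfalso
      rw [hk, zpow_mul, h2, one_zpow] at hn
      exact conj_ne_one hv1 hn.symm
    · rw [hk, zpow_add, zpow_mul, h2, one_zpow, one_mul, zpow_one] at hn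
      exact mul_inv_eq_iff_eq_mul.1 hn.symm
  · intro x hx
    rw [mem_centralizer_singleton_iff] at hx
    rw [mem_norm]
    apply le_antisymm
    · rintro _ ⟨y, hy, rfl⟩
      obtain ⟨n, rfl⟩ := mem_zpowers_iff.1 hy
      show x * v ^ n * x⁻¹ ∈ _
      rw [← conj_zpow, hx, mul_inv_cancel_right]
      exact zpow_mem (mem_zpowers v) n
    · rw [zpowers_le]
      rw [mem_cj]
      have e : x⁻¹ * v * x = v := by rw [mul_assoc, ← hx]; group
      rw [e]
      exact mem_zpowers v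

/-- **(δ)** -/
theorem one_of_two [Finite H] [Fact p.Prime] (h : AStr p S Z C Q P V D J R E W F)
    (gen : ∀ N : Subgroup H, N ≤ C → (S : Subgroup H) ≤ N →
      (∀ c ∈ C, ⁅V, cj c V⁆ ≠ ⊥ → c ∈ N) → N = C)
    (hF : Fintype.card F = 2) : r = 1 := by
  classical
  have h0 : ∀ i, ∃ a b, Two (S : Subgroup H) (E i) (W i) a b := fun i => exists_two (h.nat i) hF
  choose a b ht using h0
  have hca := fun i => cent_a h ht i
  have hVc : ∀ x ∈ V, ∀ y ∈ V, x * y = y * x := fun x hx y hy => V_comm h hx hy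
  have haV : ∀ i, a i ∈ V := fun i => h.W_le i (ht i).ha
  have hbV : ∀ i, b i ∈ V := fun i => h.W_le i (ht i).hb
  have ainj : Function.Injective a := by
    intro i j hij
    by_contra hne
    apply (ht i).a1
    have h1 : a i ∈ W i ⊓ (⨆ k ∈ {k | k ≠ i}, W k) := by
      refine ⟨(ht i).ha, ?_⟩
      rw [hij]
      have h2 : W j ≤ ⨆ k ∈ {k | k ≠ i}, W k :=
        le_biSup W (show j ∈ {k | k ≠ i} from fun h3 => hne h3.symm)
      exact h2 (ht j).ha
    rw [h.W_ind i] at h1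
    exact Subgroup.mem_bot.1 h1
  -- `C` permutes the `a i`
  have hperm : ∀ c ∈ C, ∀ i, ∃ j, c * a i * c⁻¹ = a j := by
    have h1 : C ⊓ normalizer (Set.range a) = C := by
      apply gen _ inf_le_left
      · refine le_inf h.hyp.S_le ?_
        intro s hs
        apply mem_normalizer_fintype
        rintro _ ⟨i, rfl⟩
        obtain ⟨j, hj⟩ := h.perm s (h.hyp.hSP hs) i
        exact ⟨j, (perm_S h ht hs hj).symm⟩
      · intro c hc hV
        refine ⟨hc, ?_⟩
        apply mem_normalizer_fintype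
        rintro _ ⟨k, rfl⟩
        obtain ⟨i, hi, -⟩ := lemA h ht hca hc hV (ht k).hb (ht k).b1 (ht k).ab.symm
        exact ⟨i, hi.symm⟩
    intro c hc i
    have h2 : c ∈ normalizer (Set.range a) := (h1.ge hc).2
    obtain ⟨j, hj⟩ := (h2 (a i)).1 ⟨i, rfl⟩
    exact ⟨j, hj.symm⟩
  have hσ : ∀ c ∈ C, ∃ σ : Equiv.Perm (Fin r), ∀ i, c * a i * c⁻¹ = a (σ i) := by
    intro c hc
    choose f hf using hperm c hc
    have hinj : Function.Injective f := by
      intro i j hij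
      apply ainj
      apply conj_inj (x := c)
      rw [hf i, hf j, hij]
    exact ⟨Equiv.ofBijective f (Finite.injective_iff_bijective.1 hinj), hf⟩
  obtain ⟨vv, hv⟩ := exists_VV hVc haV
  have vinj := VV.inj h ht hv
  by_contra hr
  have hQC : Q ≤ C := h.hyp.Q_le_C
  have hQS : Q ≤ (S : Subgroup H) := h.hyp.Q_le_S
  have hQp := h.hyp.Q_pgroup
  have hCQ : C ≤ normalizer (Q : Set H) := h.hyp.C_eq.ge
  -- transitivity on the `a i`
  have htr : ∀ i j, ∃ q ∈ Q, q * a i * q⁻¹ = a j := by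
    intro i j
    obtain ⟨q, hq, hq2⟩ := h.trans i j
    exact ⟨q, hq, perm_S h ht (hQS hq) hq2⟩
  -- `z`
  obtain ⟨z, hz⟩ : ∃ z, z = vv Finset.univ := ⟨_, rfl⟩
  have hzV : z ∈ V := hz ▸ hv.mem _
  have hzC : ∀ c ∈ C, c * z * c⁻¹ = z := by
    intro c hc
    obtain ⟨σ, hσ⟩ := hσ c hc
    rw [hz, hv.conj hσ, Finset.map_univ_equiv]
  have hz1 : z ≠ 1 := by
    rw [← hv.emp, hz]
    intro h1
    have h3 := vinj h1
    have h2 : (⟨0, h.pos⟩ : Fin r) ∈ (∅ : Finset (Fin r)) := h3 ▸ Finset.mem_univ _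
    exact Finset.notMem_empty _ h2
  have hzQ : z ∈ Q ⊓ centralizer (Q : Set H) := by
    refine ⟨h.VQ hzV, mem_centralizer_iff.2 fun q hq => ?_⟩
    exact mul_inv_eq_iff_eq_mul.1 (hzC q (hQC hq))
  have hCz : centralizer ({z} : Set H) ≤ C := h.hyp.hQuniq z hzQ hz1
  -- `K₁`
  obtain ⟨i₀, hi₀⟩ : ∃ i₀ : Fin r, i₀ = ⟨0, h.pos⟩ := ⟨_, rfl⟩
  obtain ⟨K₀, hK₀⟩ : ∃ K₀ : Subgroup H, K₀ = Q ⊓ centralizer ({a i₀} : Set H) := ⟨_, rfl⟩
  obtain ⟨K₁, hK₁⟩ : ∃ K₁ : Subgroup H, K₁ = ⁅Q, Q⁆ ⊔ K₀ := ⟨_, rfl⟩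
  have hK₀Q : K₀ ≤ Q := hK₀ ▸ inf_le_left
  have hK₀₁ : K₀ ≤ K₁ := hK₁ ▸ le_sup_right
  have hQ' : ⁅Q, Q⁆ ≤ Q := le_norm_iff_comm_le.1 le_normalizer
  have hK₁Q : K₁ ≤ Q := by rw [hK₁]; exact sup_le hQ' hK₀Q
  have memK₀ : ∀ x ∈ Q, x * a i₀ * x⁻¹ = a i₀ → x ∈ K₀ := by
    intro x hx h1
    rw [hK₀]
    refine ⟨hx, mem_centralizer_singleton_iff.2 ?_⟩
    exact mul_inv_eq_iff_eq_mul.1 h1
  have hK₁ne : ¬ Q ≤ K₁ := by
    intro h1
    rw [hK₁] at h1
    have h2 := le_of_le_comm_sup hQp hK₀Q h1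
    have hpos := h.pos
    have hr2 : 1 < r := by omega
    obtain ⟨q, hq, hq2⟩ := htr i₀ ⟨1, hr2⟩
    have h3 := h2 hq
    rw [hK₀] at h3
    have h4 := mem_centralizer_singleton_iff.1 h3.2
    have h5 : a i₀ = a ⟨1, hr2⟩ := by rw [← hq2, h4, mul_inv_cancel_right]
    have h6 := ainj h5
    rw [hi₀] at h6
    have h7 := congrArg Fin.val h6
    simp at h7
  have hCK₁ : C ≤ normalizer (K₁ : Set H) := by
    rw [le_norm_iff]
    intro c hc
    have h1 : cj c K₁ ≤ K₁ := by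
      rw [hK₁, cj_sup, cj_comm, mem_norm.1 (hCQ hc)]
      refine sup_le le_sup_left ?_
      rintro _ ⟨x, hx, rfl⟩
      show c * x * c⁻¹ ∈ _
      obtain ⟨i, hi⟩ := hperm c hc i₀
      obtain ⟨q, hq, hq2⟩ := htr i₀ i
      have hx2 : x * a i₀ = a i₀ * x := by
        rw [hK₀] at hx
        exact mem_centralizer_singleton_iff.1 hx.2
      have hcx : c * x * c⁻¹ ∈ Q := (le_norm_iff.1 hCQ) c hc x (hK₀Q hx)
      have hy : q⁻¹ * (c * x * c⁻¹) * q ∈ K₀ := by
        apply memK₀ _ (Q.mul_mem (Q.mul_mem (Q.inv_mem hq) hcx) hq)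
        have h2 : q⁻¹ * (c * x * c⁻¹) * q * a i₀ * (q⁻¹ * (c * x * c⁻¹) * q)⁻¹ =
            q⁻¹ * ((c * x * c⁻¹) * (q * a i₀ * q⁻¹) * (c * x * c⁻¹)⁻¹) * q := by group
        rw [h2, hq2, ← hi]
        have h3 : (c * x * c⁻¹) * (c * a i₀ * c⁻¹) * (c * x * c⁻¹)⁻¹ = c * (x * a i₀ * x⁻¹) * c⁻¹ := by
          group
        rw [h3, hx2, mul_inv_cancel_right, hi, ← hq2]
        group
      have h5 := commutator_mem_commutator hq (hK₀Q hy)
      rw [commutatorElement_def] at h5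
      have h4 : c * x * c⁻¹ = (q * (q⁻¹ * (c * x * c⁻¹) * q) * q⁻¹ * (q⁻¹ * (c * x * c⁻¹) * q)⁻¹) *
          (q⁻¹ * (c * x * c⁻¹) * q) := by group
      rw [h4]
      exact mul_mem (mem_sup_left h5) (mem_sup_right hy)
    intro x hx
    exact h1 (conj_mem_cj hx)
  have conjK₁ : ∀ c ∈ C, ∀ x ∈ K₁, c * x * c⁻¹ ∈ K₁ := le_norm_iff.1 hCK₁
  have hVK₁ : V ≤ K₁ := by
    refine le_trans ?_ hK₀₁
    intro x hx
    apply memK₀ _ (h.VQ hx)
    rw [hVc x hx _ (haV i₀), mul_inv_cancel_right]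
  have hNK₁ : normalizer (K₁ : Set H) = C := by
    refine h.hyp.hCmax _ ⟨K₁, isPGroup_mono hK₁Q hQp, ?_, rfl⟩ hCK₁
    intro h1
    apply (ht i₀).a1
    have h2 := hVK₁ (haV i₀)
    rw [h1] at h2
    exact Subgroup.mem_bot.1 h2
  -- `δ`, `v`
  obtain ⟨δ, hδ⟩ : ∃ δ : Finset (Fin r), ∀ i, i ∈ δ ↔ ∃ x ∈ K₁, x * a i₀ * x⁻¹ = a i :=
    ⟨Finset.univ.filter (fun i => ∃ x ∈ K₁, x * a i₀ * x⁻¹ = a i), fun i => by simp only [_root_.Finset.mem_filter, _root_.Finset.mem_univ, _root_.true_and]⟩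
  obtain ⟨v, hvv⟩ : ∃ v, v = vv δ := ⟨_, rfl⟩
  have hvV : v ∈ V := hvv ▸ hv.mem _
  have F1 : i₀ ∈ δ := (hδ i₀).2 ⟨1, K₁.one_mem, by group⟩
  have F2 : ∀ x ∈ Q, ∀ i ∈ δ, x * a i₀ * x⁻¹ = a i → x ∈ K₁ := by
    intro x hx i hi hxi
    obtain ⟨k, hk, hki⟩ := (hδ i).1 hi
    have h1 : k⁻¹ * x ∈ K₀ := by
      apply memK₀ _ (Q.mul_mem (Q.inv_mem (hK₁Q hk)) hx)
      have e : k⁻¹ * x * a i₀ * (k⁻¹ * x)⁻¹ = k⁻¹ * (x * a i₀ * x⁻¹) * k := by group
      rw [e, hxi, ← hki]; group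
    have e : x = k * (k⁻¹ * x) := by group
    rw [e]
    exact K₁.mul_mem hk (hK₀₁ h1)
  have F3 : ∀ c ∈ C, ∀ σ : Equiv.Perm (Fin r), (∀ i, c * a i * c⁻¹ = a (σ i)) →
      ∀ k, k ∈ δ.map σ.toEmbedding ↔ ∃ y ∈ K₁, y * (c * a i₀ * c⁻¹) * y⁻¹ = a k := by
    intro c hc σ hσ k
    rw [Finset.mem_map]
    constructor
    · rintro ⟨i, hi, rfl⟩
      obtain ⟨x, hx, hxi⟩ := (hδ i).1 hi
      refine ⟨c * x * c⁻¹, conjK₁ c hc x hx, ?_⟩
      show _ = a (σ i)
      rw [← hσ i, ← hxi]; group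
    · rintro ⟨y, hy, hyk⟩
      refine ⟨σ.symm k, ?_, by simp⟩
      rw [hδ]
      refine ⟨c⁻¹ * y * c, ?_, ?_⟩
      · have := conjK₁ c⁻¹ (C.inv_mem hc) y hy
        rwa [inv_inv] at this
      · apply conj_inj (x := c)
        rw [hσ, Equiv.apply_symm_apply, ← hyk]; group
  have Fv : ∀ c ∈ C, ∀ c' ∈ C, c * a i₀ * c⁻¹ = c' * a i₀ * c'⁻¹ → c * v * c⁻¹ = c' * v * c'⁻¹ := by
    intro c hc c' hc' hcc
    obtain ⟨σ, hs⟩ := hσ c hc
    obtain ⟨σ', hs'⟩ := hσ c' hc'
    rw [hvv, hv.conj hs, hv.conj hs']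
    congr 1
    ext k
    rw [F3 c hc σ hs k, F3 c' hc' σ' hs' k, hcc]
  have F4 : ∀ x ∈ K₁, x * v * x⁻¹ = v := by
    intro x hx
    obtain ⟨σ, hs⟩ := hσ x (hQC (hK₁Q hx))
    rw [hvv, hv.conj hs]
    congr 1
    ext k
    rw [F3 x (hQC (hK₁Q hx)) σ hs k, hδ]
    constructor
    · rintro ⟨y, hy, hyk⟩
      refine ⟨y * x, K₁.mul_mem hy hx, ?_⟩
      rw [← hyk]; group
    · rintro ⟨y, hy, hyk⟩
      refine ⟨y * x⁻¹, K₁.mul_mem hy (K₁.inv_mem hx), ?_⟩
      rw [← hyk]; group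
  have Fδ : ∀ c ∈ C, c * v * c⁻¹ = v → ∀ σ : Equiv.Perm (Fin r), (∀ i, c * a i * c⁻¹ = a (σ i)) →
      δ.map σ.toEmbedding = δ := by
    intro c hc hcv σ hs
    apply vinj
    rw [← hv.conj hs, ← hvv, hcv]
  have F5 : ∀ x ∈ Q, x * v * x⁻¹ = v → x ∈ K₁ := by
    intro x hx hxv
    obtain ⟨σ, hs⟩ := hσ x (hQC hx)
    have h1 := Fδ x (hQC hx) hxv σ hs
    refine F2 x hx (σ i₀) ?_ (hs i₀)
    rw [← h1]
    exact Finset.mem_map_of_mem _ F1
  have F6 : ∀ c ∈ C, ∃ q ∈ Q, ∃ c' ∈ C, c = q * c' ∧ c' * v * c'⁻¹ = v := by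
    intro c hc
    obtain ⟨m, hm⟩ := hperm c hc i₀
    obtain ⟨q, hq, hq2⟩ := htr i₀ m
    refine ⟨q, hq, q⁻¹ * c, C.mul_mem (C.inv_mem (hQC hq)) hc, by group, ?_⟩
    have h1 := Fv c hc q (hQC hq) (by rw [hm, hq2])
    have e : q⁻¹ * c * v * (q⁻¹ * c)⁻¹ = q⁻¹ * (c * v * c⁻¹) * q := by group
    rw [e, h1]; group
  have F7 : ∀ c ∈ C, c * v * c⁻¹ = v → ∀ i j, i ∉ δ → c * a i * c⁻¹ = a j → j ∉ δ := by
    intro c hc hcv i j hi hij hj
    obtain ⟨σ, hs⟩ := hσ c hc
    have h1 := Fδ c hc hcv σ hs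
    have h2 : σ i = j := ainj (by rw [← hs i, hij])
    rw [← h1, ← h2, Finset.mem_map] at hj
    obtain ⟨k, hk, hk2⟩ := hj
    exact hi (σ.injective hk2 ▸ hk)
  -- `k₀ ∉ δ`
  obtain ⟨k₀, hk₀⟩ : ∃ k₀, k₀ ∉ δ := by
    obtain ⟨x, hx, hx2⟩ := SetLike.not_le_iff_exists.1 hK₁ne
    obtain ⟨m, hm⟩ := hperm x (hQC hx) i₀
    exact ⟨m, fun h1 => hx2 (F2 x hx m h1 hm)⟩
  have cent_iff : ∀ x, x ∈ centralizer ({v} : Set H) ↔ x * v * x⁻¹ = v := by
    intro x
    rw [mem_centralizer_singleton_iff, mul_inv_eq_iff_eq_mul]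
  -- `O_p(C_C(v)) ≤ K₁`
  have hO : pCoreOf p (C ⊓ centralizer ({v} : Set H)) ≤ K₁ := by
    have h1 : pCoreOf p (C ⊓ centralizer ({v} : Set H)) ≤ C ⊓ centralizer ({v} : Set H) :=
      H229.pCoreOf_le _ _
    have h2 : Q ⊔ pCoreOf p (C ⊓ centralizer ({v} : Set H)) ≤ pCoreOf p C := by
      refine H229.le_pCoreOf (sup_le hQC (h1.trans inf_le_left)) ?_
        (isPGroup_sup_of_norm hQp (H229.isPGroup_pCoreOf _ _) ((h1.trans inf_le_left).trans hCQ))
      intro c hc
      obtain ⟨q, hq, c', hc', rfl, hc'v⟩ := F6 c hc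
      refine mul_mem (le_normalizer (mem_sup_left hq)) ?_
      apply norm_sup_le
      exact ⟨hCQ hc', le_norm_pCoreOf p _ ⟨hc', (cent_iff c').2 hc'v⟩⟩
    rw [← h.hyp.hQ] at h2
    intro x hx
    exact F5 x (h2 (mem_sup_right hx)) ((cent_iff x).1 (h1 hx).2)
  -- `L = C_H(v)`
  have hv1 : v ≠ 1 := by
    rw [hvv, ← hv.emp]
    intro h1
    have h2 := vinj h1
    rw [h2] at F1
    exact Finset.notMem_empty _ F1
  have hvsq : v * v = 1 := by
    rw [hvv]
    exact hv.sq hVc haV (fun i => (ht i).aa) δ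
  obtain ⟨L, hL⟩ : ∃ L : Subgroup H, L = centralizer ({v} : Set H) := ⟨_, rfl⟩
  have hLchp : ChP p L := by
    have h1 := h.hyp.hloc.2 (zpowers v) (isPGroup_mono (zpowers_le.2 (h.VQ hvV)) hQp)
      (fun h2 => hv1 (zpowers_eq_bot.1 h2))
    rw [← chP_iff, centralizer_eq_of_sq hvsq hv1, ← hL] at h1
    exact h1
  obtain ⟨B, hB⟩ : ∃ B : Subgroup H, B = pCoreOf p L := ⟨_, rfl⟩
  have hBL : B ≤ L := hB ▸ H229.pCoreOf_le _ _
  have hLB : L ≤ normalizer (B : Set H) := hB ▸ le_norm_pCoreOf p L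
  have hBp : IsPGroup p ↥B := hB ▸ H229.isPGroup_pCoreOf p L
  have hK₁L : K₁ ≤ L := by
    intro x hx
    rw [hL, cent_iff]
    exact F4 x hx
  have hBC : B ⊓ C ≤ K₁ := by
    refine le_trans ?_ hO
    refine H229.le_pCoreOf (le_inf inf_le_right (inf_le_left.trans (hL ▸ hBL))) ?_
      (isPGroup_mono inf_le_left hBp)
    refine le_trans (le_inf ?_ ?_) (norm_inf_le _ _)
    · exact inf_le_right.trans (hL ▸ hLB)
    · exact inf_le_left.trans le_normalizer
  have hBK₁ : B ≤ K₁ := by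
    by_contra hne
    have hlt : K₁ < B ⊔ K₁ := lt_of_le_of_ne le_sup_right fun h1 => hne (h1.symm ▸ le_sup_left)
    have hT : IsPGroup p ↥(B ⊔ K₁) := isPGroup_sup_of_norm hBp (isPGroup_mono hK₁Q hQp) (hK₁L.trans hLB)
    obtain ⟨x, hx, hxN, hxK⟩ := exists_mem_normalizer_of_lt hT hlt
    rw [hNK₁] at hxN
    obtain ⟨y, hy, k, hk, hyk⟩ := (mem_sup_of_norm (hK₁L.trans hLB)).1 hx
    apply hxK
    rw [← hyk]
    refine K₁.mul_mem (hBC ⟨hy, ?_⟩) hk
    have e : y = x * k⁻¹ := by rw [← hyk]; group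
    rw [e]
    exact C.mul_mem hxN (C.inv_mem (hQC (hK₁Q hk)))
  have hBC' : B ≤ C := hBK₁.trans (hK₁Q.trans hQC)
  have hzcB : z ∈ centralizer (B : Set H) := by
    rw [mem_centralizer_iff]
    intro y hy
    exact mul_inv_eq_iff_eq_mul.1 (hzC y (hBC' hy))
  have hzL : z ∈ L := by rw [hL, cent_iff, hVc z hzV v hvV, mul_inv_cancel_right]
  have hzB : z ∈ B := by
    rw [hB]
    exact hLchp ⟨hzL, hB ▸ hzcB⟩
  have hLcB : L ≤ normalizer (centralizer (B : Set H) : Set H) := hLB.trans (norm_le_norm_centralizer B)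
  -- `g j = a j * b j ∈ Z(B)` for `j ∉ δ`
  have hg : ∀ j, j ∉ δ → a j * b j ∈ B ∧ a j * b j ∈ centralizer (B : Set H) := by
    intro j hj
    obtain ⟨e, he, hez⟩ := VV.move h ht hv (Finset.mem_univ j)
    rw [← hz] at hez
    have heL : e ∈ L := by
      rw [hL, cent_iff, hvv]
      exact VV.not_mem h ht hv hj he
    have e1 : a j * b j = (e * z * e⁻¹) * z⁻¹ := by rw [hez]; group
    rw [e1]
    exact ⟨B.mul_mem (le_norm_iff.1 hLB e heL z hzB) (B.inv_mem hzB),
      (centralizer (B : Set H)).mul_mem (le_norm_iff.1 hLcB e heL z hzcB)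
        ((centralizer (B : Set H)).inv_mem hzcB)⟩
  -- conclusion
  obtain ⟨c, hc, hcV⟩ := h.ex
  obtain ⟨q, hq, c', hc', rfl, hc'v⟩ := F6 c hc
  have hc'V : ⁅V, cj c' V⁆ ≠ ⊥ := by
    intro h1
    apply hcV
    have hqV : cj q V = V := mem_norm.1 (V_norm h (h.hyp.Q_le_P hq))
    have h2 : cj q ⁅V, cj c' V⁆ = ⁅V, cj (q * c') V⁆ := by rw [cj_comm, hqV, cj_mul]
    rw [← h2, h1, cj_bot]
  have hxW : a k₀ * b k₀ ∈ W k₀ := (W k₀).mul_mem (ht k₀).ha (ht k₀).hb
  obtain ⟨i, hi1, hi2, hi3⟩ := lemA h ht hca hc' hc'V hxW (ht k₀).ab_ne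
    (fun h1 => (ht k₀).b1 (mul_eq_left.1 h1))
  have hiδ : i ∉ δ := F7 c' hc' hc'v k₀ i hk₀ hi1
  obtain ⟨u, hu⟩ : ∃ u, u = c' * (a k₀ * b k₀) * c'⁻¹ := ⟨_, rfl⟩
  rw [← hu] at hi2 hi3
  have hc'L : c' ∈ L := by rw [hL, cent_iff]; exact hc'v
  have huB : u ∈ centralizer (B : Set H) := by
    rw [hu]
    exact le_norm_iff.1 hLcB c' hc'L _ (hg k₀ hk₀).2
  have h1 : (a i * b i) * u = u * (a i * b i) := mem_centralizer_iff.1 huB _ (hg i hiδ).1
  have h2 : u * (a i * b i) * u⁻¹ = a i * b i := by rw [← h1, mul_inv_cancel_right]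
  have h3 : u * (a i * b i) * u⁻¹ = (u * a i * u⁻¹) * (u * b i * u⁻¹) := by group
  rw [h2, hi2, hi3] at h3
  exact (ht i).a1 (mul_eq_right.1 h3.symm)

end Cfsg.Agent.H537.P1
end

-- part: H250/P1/CaseA
section
/-!
# The `P!`-theorem (S3046), Case A
-/

set_option autoImplicit false

open Cfsg Subgroup
open Cfsg.Agent.H230 Cfsg.Agent.H229 Cfsg.Agent.H247.P1

namespace Cfsg.Agent.H250.P1

universe u

variable {H : Type u} [Group H] {p : ℕ} {S : Sylow p H} {Z C Q P : Subgroup H} [Finite H] [Fact p.Prime]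

/-- **Case A**: `Y_P` is a natural `SL₂(F)`-module for `P* = ⟨Q^P⟩ O_p(P)` and `Ω₁(Z(S ∩ P*))` is normal in `C`. -/
theorem caseA (h : PHyp p S Z C Q P) (hVQ : largestPReducedOf p P ≤ Q)
    (hex : ∃ c ∈ C, ⁅largestPReducedOf p P, cj c (largestPReducedOf p P)⁆ ≠ ⊥)
    {Pstar : Subgroup H} (hPs : Pstar = ncl P Q ⊔ pCoreOf p P) :
    ∃ (F : Type) (_ : Field F) (_ : Fintype F), CharP F p ∧ IsNaturalSL2Module F (largestPReducedOf p P) Pstar ∧
      omegaOne p (((S : Subgroup H) ⊓ Pstar) ⊓ centralizer (((S : Subgroup H) ⊓ Pstar : Subgroup H) : Set H)) ≤ C ∧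
      C ≤ normalizer ((omegaOne p (((S : Subgroup H) ⊓ Pstar) ⊓
        centralizer (((S : Subgroup H) ⊓ Pstar : Subgroup H) : Set H)) : Subgroup H) : Set H) := by
  obtain ⟨r, E, W, J, R, F, iF, iFt, hA⟩ := exists_aStr h hVQ hex
  have hR := hA.R_norm
  have h1 : r = 1 := by
    rcases Nat.lt_or_ge 2 (Fintype.card F) with h2 | h2
    · exact H736.P1.one_of_gt hA hR h2
    · have h3 : 1 < Fintype.card F := Fintype.one_lt_card
      exact H537.P1.one_of_two hA (fun N => hA.gen) (by omega)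
  obtain ⟨h4, h5⟩ := H736.P1.concl hA hR h1 hPs
  refine ⟨F, iF, iFt, ?_, h4, ?_, ?_⟩
  · obtain ⟨n, hn, hc⟩ := hA.cardF
    obtain ⟨q, hq⟩ := CharP.exists F
    have hqp : q.Prime := (CharP.char_is_prime_or_zero F q).resolve_right (CharP.char_ne_zero_of_finite F q)
    obtain ⟨m, -, hm⟩ := FiniteField.card F q
    have h6 : q ∣ p ^ n := by rw [← hc, hm]; exact dvd_pow_self q m.2.ne'
    have h7 : q = p := (Nat.prime_dvd_prime_iff_eq hqp Fact.out).1 (hqp.dvd_of_dvd_pow h6)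
    rwa [h7] at hq
  · rw [h5]
    have h6 := hA.norm_R
    rw [← h6]
    exact le_normalizer
  · rw [h5]; exact hR

end Cfsg.Agent.H250.P1
end

private theorem dce_74ff823b470a : _root_.True := by
  try have : _root_.True := by simp only [_root_.Subgroup.noncommPiCoprod.congr_simp]
  exact _root_.True.intro
end

-- part: H271/PU/OddRow
section
set_option linter.all false

/-!
# S3046, case B: the row (X) (helper271)
-/

set_option autoImplicit false

namespace Cfsg.Agent.H271.PU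

open Subgroup Cfsg

universe u

/-- The row (X): `p` odd, `K` not of Lie type in characteristic `p`. -/
def OddRow : Prop :=
  ∀ (K : Type u) [Group K] [Finite K] [IsSimpleGroup K] (p : ℕ) [Fact p.Prime], p ≠ 2 → IsKnownSimple' K →
    ¬ IsChevSimple p K → H238.Loc p K → p ^ 4 ∣ Nat.card K →
      (∃ A : Subgroup K, IsElementaryAbelian p A ∧ p ^ 3 ≤ Nat.card A) →
        (∀ T : Sylow p K, ∃ a ∈ (T : Subgroup K), ∃ b ∈ (T : Subgroup K), a * b ≠ b * a) →
          (p = 3 ∧ Spor.IsoMcL K) ∨ (p = 5 ∧ Spor.IsoLy K)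

end Cfsg.Agent.H271.PU
end

-- part: H238/CB/Has
section
prune_inst 0xc001000000000000000000000001000000000000000100002000246100000408000400008020000000000000000024c00104010000000000000000400001000000000000000000006002003180c00000000000000000000000000041000000000000
set_option linter.all false
open scoped Cfsg.Agent.FastGrp

-- part: H238/CB/Core
section
/-!
# S3046, case B, groups with a root group datum

* `Cen R r R0` : `R0 ≤ X r`, `r` dominant, `R0` is centralised by `X x` for `⟨x, r^∨⟩ ≥ 0`;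
* `Comb cs h r` : the combinatorial input;
* `exists_node` : a subgroup over `U` which is not in `C0 ≥ B` contains `X (-α_i)` for some `i` with `n i ∉ C0`;
* **`core`** : the contradiction of case B inside the simple group.
-/

set_option autoImplicit false
set_option linter.unusedSectionVars false

namespace Cfsg.Agent.H238.CB

open CoxeterSystem Cfsg.Agent.ChevalleyStructure.CoxeterGeom Cfsg.Agent.Tits.Roots Cfsg.Agent.Tits.Core
  Cfsg.Agent.Tits.Exchange Cfsg.Agent.Nodes.Reps Cfsg.Agent.Nodes.BNOf Cfsg.Agent.Nodes.StabComb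
  Cfsg.Agent.Nodes.Bruhat Cfsg.Agent.Nodes.OppDec Cfsg.Agent.Nodes.LeviDec Cfsg.Agent.Nodes.NormalForm
  Cfsg.Agent.Nodes.Coroot Cfsg.Agent.Nodes.PosPair Cfsg.Agent.Nodes.Comb Cfsg.Agent.Tits.RootComb
  Cfsg.Agent.KFacts.RgdOpp Cfsg.Agent.KFacts.RgdAut Cfsg.Agent.KFacts.RgdDiag Cfsg.Agent.KFacts.RgdPar
open scoped commutatorElement

variable {I W Y : Type*} [Fintype I] [DecidableEq I] [Group W] [Group Y] {M : CoxeterMatrix I}
  {cs : CoxeterSystem M W} {A : I → I → ℤ} {h : IsCartan M A} {p : ℕ} {T : Subgroup Y} {n : I → Y}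
  {X : (I → ℤ) → Subgroup Y}

/-- `R0 ≤ X r`, `r` dominant, and `R0` is centralised by `X x` for `⟨x, r^∨⟩ ≥ 0`. -/
structure Cen (R : RGD cs h p T n X) (r : I → ℤ) (R0 : Subgroup Y) : Prop where
  root : IsRoot cs h r
  le : R0 ≤ X r
  ne : R0 ≠ ⊥
  dom : ∀ i, 0 ≤ cpr cs h (sr i) r
  cen : ∀ x, IsRoot cs h x → 0 ≤ cpr cs h x r → X x ≤ Subgroup.centralizer (R0 : Set Y)

/-- The combinatorial input. -/
def Comb (cs : CoxeterSystem M W) (h : IsCartan M A) (r : I → ℤ) : Prop :=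
  ∀ (i : I) (J : Set I), (∀ k, cpr cs h (sr k) r = 0 → k ∈ J) → i ∉ J →
    rep cs h (cs.simple i) r ∉ RootsJ cs h J →
    ((∀ k, k ≠ i → k ∈ J) ∧ ∃ w ∈ WJ cs J, rep cs h w (rep cs h (cs.simple i) r) = sr i) ∨
    ∃ i', i' ≠ i ∧ (∀ k, k ∈ J ↔ k ≠ i ∧ k ≠ i') ∧
      ∃ w ∈ WJ cs J, rep cs h w (rep cs h (cs.simple i') r) = sr i

/-- the signs of `⟨x, y^∨⟩` and `⟨y, x^∨⟩` agree -/
theorem cpr_nonneg_comm [Finite W] {x y : I → ℤ} (hx : IsRoot cs h x) (hy : IsRoot cs h y)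
    (h0 : 0 ≤ cpr cs h y x) : 0 ≤ cpr cs h x y := by
  have := Fintype.ofFinite W
  have h1 := two_form_cpr cs h y hx
  have h2 := two_form_cpr cs h x hy
  have h3 := form_pos cs h hx.ne_zero
  have h4 := form_pos cs h hy.ne_zero
  by_contra h5
  push Not at h5
  have h6 : cpr cs h x y * form cs h y y < 0 := mul_neg_of_neg_of_pos h5 h4
  have h7 : 0 ≤ cpr cs h y x * form cs h x x := mul_nonneg h0 h3.le
  rw [← h2, form_comm] at h6
  rw [← h1] at h7
  omega

section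

variable {R : RGD cs h p T n X} {r : I → ℤ} {R0 : Subgroup Y}

theorem Cen.nonneg_of_nonneg [Finite W] (hC : Cen R r R0) {x : I → ℤ} (hx : 0 ≤ x) : 0 ≤ cpr cs h x r :=
  dom_nonneg (f := ell cs h hC.root) hC.dom hx

theorem Cen.nonneg [Finite W] (hC : Cen R r R0) : 0 ≤ r := by
  rcases hC.root.pos_or_neg with h1 | h1
  · exact h1
  · exfalso
    have h2 := hC.nonneg_of_nonneg (x := -r) (neg_nonneg.2 h1)
    rw [cpr_neg cs h _ hC.root, cpr_self cs h hC.root] at h2
    omega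

theorem Cen.le_U [Finite W] (hC : Cen R r R0) : R0 ≤ RGD.Sup X (RGD.Pos cs h) :=
  hC.le.trans (RGD.le_Sup ⟨hC.root, hC.nonneg⟩)

theorem Cen.U_le [Finite W] (hC : Cen R r R0) : RGD.Sup X (RGD.Pos cs h) ≤ Subgroup.centralizer (R0 : Set Y) :=
  RGD.Sup_le fun x hx => hC.cen x hx.1 (hC.nonneg_of_nonneg hx.2)

theorem Cen.comm_U [Finite W] (hC : Cen R r R0) {z u : Y} (hz : z ∈ R0) (hu : u ∈ RGD.Sup X (RGD.Pos cs h)) :
    u * z = z * u := (Subgroup.mem_centralizer_iff.1 (hC.U_le hu) z hz).symm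

/-- the conjugates of `R0` -/
theorem Cen.comm_conj [Finite W] (hC : Cen R r R0) {w : W} {g : Y} (hg : Rp cs R.nsys w g) {x : I → ℤ}
    (hx : IsRoot cs h x) (h0 : 0 ≤ cpr cs h x (rep cs h w r)) {z a : Y} (hz : z ∈ R0) (ha : a ∈ X x) :
    a * (g * z * g⁻¹) = g * z * g⁻¹ * a := by
  have h1 : g⁻¹ * a * g ∈ X (rep cs h w⁻¹ x) := R.conj_mem' hg hx ha
  have h2 : 0 ≤ cpr cs h (rep cs h w⁻¹ x) r := by
    have h3 : cpr cs h (rep cs h w (rep cs h w⁻¹ x)) (rep cs h w r) = cpr cs h (rep cs h w⁻¹ x) r :=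
      cpr_rep cs h w _ hC.root
    rw [rep_apply_inv] at h3
    rwa [← h3]
  have h3 := Subgroup.mem_centralizer_iff.1 (hC.cen _ (hx.act _) h2 h1) z hz
  calc a * (g * z * g⁻¹) = g * ((g⁻¹ * a * g) * z) * g⁻¹ := by group
    _ = g * (z * (g⁻¹ * a * g)) * g⁻¹ := by rw [h3]
    _ = g * z * g⁻¹ * a := by group

end

section

variable (R : RGD cs h p T n X)

include R

/-- a representative of `s_i` in a subgroup containing `X (±α_i)` -/
theorem exists_rp_simple {P : Subgroup Y} {i : I} (h1 : X (sr i) ≤ P) (h2 : X (-sr i) ≤ P) :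
    ∃ m ∈ P, Rp cs R.nsys (cs.simple i) m := by
  obtain ⟨u, hu, hu1⟩ := exists_ne_one R i
  have h3 : n i * u * (n i)⁻¹ ∈ X (-sr i) := by
    have := R.conj_mem (rp_simple cs R.nsys i) (isRoot_sr cs h i) hu
    rwa [rep_simple_sr] at this
  have h4 : n i * u * (n i)⁻¹ ≠ 1 := fun h3 => hu1 (mul_eq_left.1 (mul_inv_eq_one.1 h3))
  obtain ⟨a, ha, t, ht, b, hb, e⟩ := R.rk1 i _ h3 h4
  refine ⟨t * n i, ?_, ?_⟩
  · have h5 : t * n i = a⁻¹ * (n i * u * (n i)⁻¹) * b⁻¹ := by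
      rw [e]; group
    rw [h5]
    exact mul_mem (mul_mem (inv_mem (h1 ha)) (h2 h3)) (inv_mem (h1 hb))
  · have := (rp_of_mem (cs := cs) (hN := R.nsys) ht).mul (rp_simple cs R.nsys i)
    rwa [one_mul] at this

/-- `n i ∈ C0` when `X (±α_i) ≤ C0` and `T ≤ C0` -/
theorem n_mem_of_X {C0 : Subgroup Y} (hT : T ≤ C0) {i : I} (h1 : X (sr i) ≤ C0) (h2 : X (-sr i) ≤ C0) :
    n i ∈ C0 := by
  obtain ⟨m, hm, hmr⟩ := exists_rp_simple R h1 h2
  have h3 := hmr.unique (rp_simple cs R.nsys i)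
  have h4 : n i = m * (m⁻¹ * n i) := by group
  rw [h4]
  exact mul_mem hm (hT h3)

/-- The letters of `w` when a representative is in an overgroup of `U`. -/
theorem mem_WJ_over_U [Finite W] {P : Subgroup Y} (hP : RGD.Sup X (RGD.Pos cs h) ≤ P) : ∀ {w : W} {k : Y},
    Rp cs R.nsys w k → k ∈ P → w ∈ WJ cs {i | X (-sr i) ≤ P} := by
  intro w
  induction hn : cs.length w using Nat.strong_induction_on generalizing w with
  | _ N ih =>
  intro k hk hkP
  by_cases hw1 : w = 1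
  · rw [hw1]; exact one_mem _
  obtain ⟨i, hi⟩ := cs.exists_leftDescent_of_ne_one hw1
  have hi' : cs.length (cs.simple i * w) < cs.length w := hi
  have hneg : rep cs h w⁻¹ (sr i) ≤ 0 := by
    refine nonpos_of_lt cs h w⁻¹ i ?_
    rw [← cs.length_inv w, ← cs.length_inv (cs.simple i * w), mul_inv_rev, inv_simple] at hi'
    exact hi'
  have h1 : X (-sr i) ≤ P := by
    intro u hu
    have h3 : k⁻¹ * u * k ∈ X (-rep cs h w⁻¹ (sr i)) := by
      have := R.conj_mem' hk (isRoot_sr cs h i).neg hu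
      rwa [map_neg] at this
    have h4 : k⁻¹ * u * k ∈ P :=
      hP (RGD.le_Sup (X := X) (S := RGD.Pos cs h) ⟨((isRoot_sr cs h i).act w⁻¹).neg, neg_nonneg.2 hneg⟩ h3)
    have e : u = k * (k⁻¹ * u * k) * k⁻¹ := by group
    rw [e]
    exact mul_mem (mul_mem hkP h4) (inv_mem hkP)
  have h2 : X (sr i) ≤ P := le_trans (RGD.le_Sup (S := RGD.Pos cs h) ⟨isRoot_sr cs h i, sr_nonneg i⟩) hP
  obtain ⟨m, hm, hmr⟩ := exists_rp_simple R h2 h1
  have hk2 : Rp cs R.nsys (cs.simple i * w) (m⁻¹ * k) := by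
    have := hmr.inv.mul hk
    rwa [inv_simple] at this
  have h7 := ih (cs.length (cs.simple i * w)) (by omega) rfl hk2 (mul_mem (inv_mem hm) hkP)
  have h8 : w = cs.simple i * (cs.simple i * w) := by rw [← mul_assoc, simple_mul_simple_self, one_mul]
  rw [h8]
  exact mul_mem (simple_mem_WJ cs h1) h7

theorem exists_rp_of_cell [Finite W] {P : Subgroup Y} (hU : RGD.Sup X (RGD.Pos cs h) ≤ P) {w : W} {g : Y}
    (hg : Cell R.nsys cs h X w g) (hgP : g ∈ P) : ∃ k ∈ P, Rp cs R.nsys w k := by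
  obtain ⟨b₁, hb₁, k, hk, b₂, hb₂, rfl⟩ := hg
  -- `b₁ = u₁ t₁`, `b₂ = t₂ u₂`
  obtain ⟨t₁, ht₁, u₁, hu₁, e₁⟩ := R.mem_B.1 (inv_mem hb₁)
  obtain ⟨t₂, ht₂, u₂, hu₂, e₂⟩ := R.mem_B.1 hb₂
  have hb1 : b₁ = u₁⁻¹ * t₁⁻¹ := by
    rw [← inv_inv b₁, e₁, mul_inv_rev]
  have hk' : Rp cs R.nsys w (t₁⁻¹ * k * t₂) := by
    have := ((rp_of_mem (cs := cs) (hN := R.nsys) (inv_mem ht₁)).mul hk).mul_mem_right ht₂
    rwa [one_mul] at this
  have hkP : t₁⁻¹ * k * t₂ ∈ P := by
    have e : t₁⁻¹ * k * t₂ = u₁ * (b₁ * k * b₂) * u₂⁻¹ := by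
      rw [hb1, e₂]; group
    rw [e]
    exact mul_mem (mul_mem (hU hu₁) hgP) (inv_mem (hU hu₂))
  exact ⟨_, hkP, hk'⟩

/-- **Overgroups of `U`.** -/
theorem exists_node [Finite W] (hG : GG cs h T X = ⊤) {P C0 : Subgroup Y} (hU : RGD.Sup X (RGD.Pos cs h) ≤ P)
    (hB : RGD.B cs h T X ≤ C0) (hP : ¬ P ≤ C0) : ∃ i, n i ∉ C0 ∧ X (-sr i) ≤ P := by
  obtain ⟨g, hgP, hgC⟩ := Set.not_subset.1 hP
  obtain ⟨w, hgw⟩ := (mem_GG R).1 (show g ∈ GG cs h T X by rw [hG]; trivial)
  obtain ⟨k, hkP, hk⟩ := exists_rp_of_cell R hU hgw hgP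
  have hw := mem_WJ_over_U R hU hk hkP
  by_contra hcon
  push Not at hcon
  apply hgC
  refine (cell_mem_iff R hB hgw).2 ?_
  refine WJ_mono cs (fun i hi => ?_) hw
  by_contra hni
  exact hcon i hni hi

omit R in
theorem mem_of_simple_mem (h : IsCartan M A) {i : I} {J : Set I} (hi : cs.simple i ∈ WJ cs J) : i ∈ J := by
  by_contra hiJ
  have h1 := rep_apply_of_mem cs h hi (sr i) hiJ
  rw [rep_simple_sr, Pi.neg_apply, sr_self] at h1
  omega

theorem n_mem_PJ [Finite W] {J : Set I} {i : I} : n i ∈ PJ cs h T X J ↔ i ∈ J := by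
  rw [cell_mem_PJ_iff R (cell_of_rp (rp_simple cs R.nsys i))]
  exact ⟨mem_of_simple_mem h, simple_mem_WJ cs⟩

/-- two overgroups of `B` -/
theorem eq_of_nodes [Finite W] (hG : GG cs h T X = ⊤) {P P' : Subgroup Y} (hP : RGD.B cs h T X ≤ P)
    (hP' : RGD.B cs h T X ≤ P') (he : ∀ i, n i ∈ P ↔ n i ∈ P') : P = P' := by
  have h1 := inf_eq_PJ R hP
  have h2 := inf_eq_PJ R hP'
  rw [hG, inf_top_eq] at h1 h2
  rw [h1, h2]
  congr 1
  ext i
  exact he i

/-- an automorphism which fixes `U` and the overgroup `C0` of `B` with the nodes other than `i`, `i'`, but not the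
overgroup with the nodes other than `i`, interchanges `i` and `i'` -/
theorem swap [Finite W] (hG : GG cs h T X = ⊤) {φ : MulAut Y} (hφ : Fix φ (RGD.Sup X (RGD.Pos cs h)))
    {C0 : Subgroup Y} (hB : RGD.B cs h T X ≤ C0) (hC0 : Fix φ C0) {i i' : I}
    (hJ : ∀ k, n k ∈ C0 ↔ k ≠ i ∧ k ≠ i') (hL : ¬ Fix φ (PJ cs h T X {k | k ≠ i})) :
    ∀ x, φ x ∈ PJ cs h T X {i'} ↔ x ∈ PJ cs h T X {i} := by
  have hBf := fix_B R hG hφ
  obtain ⟨σ, hσ⟩ := exists_perm R hG hBf
  have hn : ∀ k, n k ∈ PJ cs h T X {k} := fun k => (n_mem_PJ R).2 rfl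
  have hσJ : ∀ k, n (σ k) ∈ C0 ↔ n k ∈ C0 := by
    intro k
    constructor
    · intro h1
      have h2 := PJ_le_of_mem R hB h1 ((hσ k _).2 (hn k))
      exact (hC0 _).1 h2
    · intro h1
      have h2 : φ⁻¹ (n (σ k)) ∈ PJ cs h T X {k} := by
        rw [← hσ, MulAut.apply_inv_self]; exact hn _
      have h3 := (hC0 _).2 (PJ_le_of_mem R hB h1 h2)
      rwa [MulAut.apply_inv_self] at h3
  have hσi : σ i ≠ i := by
    intro h0
    apply hL
    have hLB : RGD.B cs h T X ≤ PJ cs h T X {k | k ≠ i} := B_le_PJ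
    obtain ⟨L', hL'⟩ : ∃ L' : Subgroup Y, ∀ x, x ∈ L' ↔ φ x ∈ PJ cs h T X {k | k ≠ i} :=
      ⟨(PJ cs h T X {k | k ≠ i}).comap φ.toMonoidHom, fun x => Iff.rfl⟩
    have hLB' : RGD.B cs h T X ≤ L' := fun x hx => (hL' x).2 (hLB ((hBf x).2 hx))
    have h1 : ∀ k, k ≠ i → n k ∈ L' := by
      intro k hk
      rw [hL']
      have h2 : σ k ≠ i := fun h3 => hk (σ.injective (h3.trans h0.symm))
      exact PJ_le_of_mem R hLB ((n_mem_PJ R).2 h2) ((hσ k _).2 (hn k))
    have h2 : n i ∉ L' := by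
      intro h3
      have h4 : L' = ⊤ := by
        have h5 := eq_of_nodes R hG hLB' (P' := ⊤) le_top fun k => ⟨fun _ => trivial, fun _ => by
          by_cases hk : k = i
          · rw [hk]; exact h3
          · exact h1 k hk⟩
        exact h5
      have h5 : φ⁻¹ (n i) ∈ L' := by rw [h4]; trivial
      rw [hL', MulAut.apply_inv_self, n_mem_PJ R] at h5
      exact h5 rfl
    have h3 : L' = PJ cs h T X {k | k ≠ i} := by
      refine eq_of_nodes R hG hLB' hLB fun k => ?_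
      rw [n_mem_PJ R]
      constructor
      · rintro h3 rfl
        exact h2 h3
      · exact h1 k
    intro x
    rw [← hL', h3]
  have hσi' : σ i = i' := by
    by_contra h1
    have h2 := (hσJ i).1 ((hJ _).2 ⟨hσi, h1⟩)
    exact ((hJ i).1 h2).1 rfl
  intro x
  rw [← hσ i, hσi']

/-- **The contradiction of case B inside the group with a root group datum.** -/
theorem core [Finite W] [hp : Fact p.Prime] (hG : GG cs h T X = ⊤) {r : I → ℤ} {R0 : Subgroup Y} (hC : Cen R r R0)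
    (hcomb : Comb cs h r) {C0 P V Q Wn : Subgroup Y}
    (hB : RGD.B cs h T X ≤ C0) (hz : ∀ z ∈ R0, z ≠ 1 → z ^ p = 1 → Subgroup.centralizer ({z} : Set Y) ≤ C0)
    (hU : RGD.Sup X (RGD.Pos cs h) ≤ P) (hPC : ¬ P ≤ C0)
    (hPV : P ≤ Subgroup.normalizer (V : Set Y))
    (hV : ∀ z ∈ RGD.Sup X (RGD.Pos cs h), z ^ p = 1 → (∀ u ∈ RGD.Sup X (RGD.Pos cs h), u * z = z * u) → z ∈ V)
    (hVQ : V ≤ Q) (hQU : Q ≤ RGD.Sup X (RGD.Pos cs h)) (hQC : C0 ≤ Subgroup.normalizer (Q : Set Y))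
    (hVW : V ≤ Wn) (hWC : C0 ≤ Subgroup.normalizer (Wn : Set Y))
    (hW : ∀ a ∈ Wn, ∀ b ∈ Wn, a * b = b * a)
    (hmax : ∀ L : Subgroup Y, C0 < L → L < ⊤ → ∃ φ : MulAut Y, Fix φ (RGD.Sup X (RGD.Pos cs h)) ∧ Fix φ C0 ∧
      (∀ v ∈ Wn, φ v ∈ Wn) ∧ ¬ Fix φ L) : False := by
  -- `J`
  set J : Set I := {i | n i ∈ C0} with hJdef
  obtain ⟨i, hi, hiP⟩ := exists_node R hG hU hB hPC
  have hTC : T ≤ C0 := le_trans RGD.T_le_B hB
  -- a nontrivial element of order `p` of `R0`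
  obtain ⟨z, hz0, hz1, hzp⟩ : ∃ z ∈ R0, z ≠ 1 ∧ z ^ p = 1 := by
    obtain ⟨⟨a, ha⟩, ha1⟩ := Subgroup.ne_bot_iff_exists_ne_one.1 hC.ne
    have ha1' : a ≠ 1 := fun h0 => ha1 (Subtype.ext h0)
    obtain ⟨k, hk⟩ := R.isPGroup_Upos ⟨a, hC.le_U ha⟩
    have hk' : a ^ p ^ k = 1 := congrArg Subtype.val hk
    obtain ⟨m, hm, hmin⟩ : ∃ m, a ^ p ^ m = 1 ∧ ∀ j < m, a ^ p ^ j ≠ 1 := by
      classical
      have hex : ∃ m, a ^ p ^ m = 1 := ⟨k, hk'⟩
      exact ⟨Nat.find hex, Nat.find_spec hex, fun j hj => Nat.find_min hex hj⟩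
    have hm0 : m ≠ 0 := by
      rintro rfl
      rw [pow_zero, pow_one] at hm
      exact ha1' hm
    refine ⟨a ^ p ^ (m - 1), pow_mem ha _, hmin _ (by omega), ?_⟩
    rw [← pow_mul, ← pow_succ, Nat.sub_add_cancel (by omega)]
    exact hm
  have hzV : z ∈ V := hV z (hC.le_U hz0) hzp fun u hu => hC.comm_U hz0 hu
  have hzC := hz z hz0 hz1 hzp
  -- `J` contains the nodes orthogonal to `r`
  have hJ : ∀ k, cpr cs h (sr k) r = 0 → k ∈ J := by
    intro k hk
    have h1 : X (sr k) ≤ C0 := fun x hx => hzC (by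
      rw [Subgroup.mem_centralizer_singleton_iff]
      exact (Subgroup.mem_centralizer_iff.1 (hC.cen _ (isRoot_sr cs h k) (by rw [hk]) hx) z hz0).symm)
    have h2 : X (-sr k) ≤ C0 := fun x hx => hzC (by
      rw [Subgroup.mem_centralizer_singleton_iff]
      exact (Subgroup.mem_centralizer_iff.1 (hC.cen _ (isRoot_sr cs h k).neg
        (by rw [cpr_neg cs h _ hC.root, hk, neg_zero]) hx) z hz0).symm)
    exact n_mem_of_X R hTC h1 h2
  have hXU : ∀ k, X (sr k) ≤ RGD.Sup X (RGD.Pos cs h) := fun k =>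
    RGD.le_Sup (S := RGD.Pos cs h) ⟨isRoot_sr cs h k, sr_nonneg k⟩
  -- `y`
  obtain ⟨m, hmP, hm⟩ := exists_rp_simple R (le_trans (hXU i) hU) hiP
  have hyV : m * z * m⁻¹ ∈ V := (Subgroup.mem_normalizer_iff.1 (hPV hmP) z).1 hzV
  have hyX : m * z * m⁻¹ ∈ X (rep cs h (cs.simple i) r) := R.conj_mem hm hC.root (hC.le hz0)
  have hy1 : m * z * m⁻¹ ≠ 1 := by
    intro h0
    apply hz1
    have h1 : z = m⁻¹ * (m * z * m⁻¹) * m := by group
    rw [h1, h0]; group
  have hUneg : ∀ x, IsRoot cs h x → ∀ a ∈ X x, a ∈ Q → a ≠ 1 → 0 ≤ x := by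
    intro x hx a ha haQ ha1
    by_contra h0
    have h2 : x ≤ 0 := hx.pos_or_neg.resolve_left h0
    exact ha1 (eq_one_of_mem_UN_of_mem_B R (X_le_UN hx h2 ha) (RGD.U_le_B (hQU haQ)))
  have hrepC : ∀ {w : W} {g : Y}, w ∈ WJ cs J → Rp cs R.nsys w g → g ∈ C0 := by
    intro w g hw hg
    exact (cell_mem_iff R hB (cell_of_rp hg)).2 hw
  -- `s_i r` is not a root of `J`
  have hnot : rep cs h (cs.simple i) r ∉ RootsJ cs h J := by
    intro hmem
    obtain ⟨v, hv, k, hk, e⟩ := exists_of_mem_RootsJ hmem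
    have hv2 : v * cs.simple k * v⁻¹ ∈ WJ cs J := mul_mem (mul_mem hv (simple_mem_WJ cs hk)) (inv_mem hv)
    obtain ⟨g, hg⟩ := exists_rp cs R.nsys (v * cs.simple k * v⁻¹)
    have hgC := hrepC hv2 hg
    have h1 : g * (m * z * m⁻¹) * g⁻¹ ∈ Q := (Subgroup.mem_normalizer_iff.1 (hQC hgC) _).1 (hVQ hyV)
    have h2 : g * (m * z * m⁻¹) * g⁻¹ ∈ X (-rep cs h (cs.simple i) r) := by
      have h3 := R.conj_mem hg (hC.root.act _) hyX
      have h4 : rep cs h (v * cs.simple k * v⁻¹) (rep cs h (cs.simple i) r) = -rep cs h (cs.simple i) r := by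
        rw [e, rep_mul_apply, rep_inv_apply, rep_mul_apply, rep_simple_sr, map_neg]
      rwa [h4] at h3
    have h3 : g * (m * z * m⁻¹) * g⁻¹ ≠ 1 := by
      intro h0
      apply hy1
      have h5 : m * z * m⁻¹ = g⁻¹ * (g * (m * z * m⁻¹) * g⁻¹) * g := by group
      rw [h5, h0]; group
    have h4 := hUneg _ (hC.root.act _) _ hyX (hVQ hyV) hy1
    have h5 := hUneg _ (hC.root.act _).neg _ h2 h1 h3
    have h6 : rep cs h (cs.simple i) r = 0 := le_antisymm (neg_nonneg.1 h5) h4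
    exact (hC.root.act (cs.simple i)).ne_zero h6
  -- the final commutator
  have key : ∀ {i' : I} {w : W} {m' z' : Y}, w ∈ WJ cs J → rep cs h w (rep cs h (cs.simple i') r) = sr i →
      Rp cs R.nsys (cs.simple i') m' → z' ∈ R0 → z' ≠ 1 → m' * z' * m'⁻¹ ∈ Wn → False := by
    intro i' w m' z' hw hwr hm' hz' hz1' hWn
    obtain ⟨g, hg⟩ := exists_rp cs R.nsys w
    have hgC := hrepC hw hg
    have h1 : g * (m' * z' * m'⁻¹) * g⁻¹ ∈ Wn := (Subgroup.mem_normalizer_iff.1 (hWC hgC) _).1 hWn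
    have e1 : g * (m' * z' * m'⁻¹) * g⁻¹ = (g * m') * z' * (g * m')⁻¹ := by group
    have hgm := hg.mul hm'
    have hrr : rep cs h (w * cs.simple i') r = sr i := by rw [rep_mul_apply, hwr]
    have h2 : (g * m') * z' * (g * m')⁻¹ ∈ X (sr i) := by
      have := R.conj_mem hgm hC.root (hC.le hz')
      rwa [hrr] at this
    have h3 : (g * m') * z' * (g * m')⁻¹ ≠ 1 := by
      intro h0
      apply hz1'
      have h5 : z' = (g * m')⁻¹ * ((g * m') * z' * (g * m')⁻¹) * (g * m') := by group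
      rw [h5, h0]; group
    have h4 := hW _ h1 _ (hVW hyV)
    rw [e1] at h4
    -- `μ(y)`
    obtain ⟨s, hs, a, ha, b, hb, μ, hμ, hμe⟩ :=
      Cfsg.Agent.KFacts.RgdSL.exists_mu R (hC.root.act (cs.simple i)) hyX hy1
    have h5 : 0 ≤ cpr cs h (-rep cs h (cs.simple i) r) (rep cs h (w * cs.simple i') r) := by
      rw [hrr, cpr_neg cs h _ (isRoot_sr cs h i)]
      have h6 : cpr cs h (rep cs h (cs.simple i) r) (sr i) = - cpr cs h r (sr i) := by
        have h7 := cpr_rep cs h (cs.simple i) r (isRoot_sr cs h i)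
        rw [rep_simple_sr, cpr_neg_right cs h _ (isRoot_sr cs h i)] at h7
        omega
      rw [h6, neg_neg]
      exact cpr_nonneg_comm hC.root (isRoot_sr cs h i) (hC.dom i)
    have ha' := hC.comm_conj hgm (hC.root.act (cs.simple i)).neg h5 hz' ha
    have hb' := hC.comm_conj hgm (hC.root.act (cs.simple i)).neg h5 hz' hb
    have h6 : μ * ((g * m') * z' * (g * m')⁻¹) * μ⁻¹ = (g * m') * z' * (g * m')⁻¹ := by
      have h7 : Commute μ ((g * m') * z' * (g * m')⁻¹) := by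
        rw [hμe]
        exact Commute.mul_left (Commute.mul_left ha' (show _ = _ from h4.symm)) hb'
      rw [h7.eq, mul_inv_cancel_right]
    have h7 : (g * m') * z' * (g * m')⁻¹ ∈ X (rep cs h s (sr i)) := by
      rw [← h6]
      exact R.conj_mem hμ (isRoot_sr cs h i) h2
    have h8 : rep cs h s (sr i) = sr i := by
      by_contra hne
      have h9 := X_inf_X R ((isRoot_sr cs h i).act s) (isRoot_sr cs h i) hne
      have h10 : (g * m') * z' * (g * m')⁻¹ ∈ X (rep cs h s (sr i)) ⊓ X (sr i) := ⟨h7, h2⟩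
      rw [h9, Subgroup.mem_bot] at h10
      exact h3 h10
    rw [hs, sub_eq_self, smul_eq_zero] at h8
    have h9 := h8.resolve_right (hC.root.act (cs.simple i)).ne_zero
    rw [cpr_zero_comm cs h (isRoot_sr cs h i) (hC.root.act _)] at h9
    have h10 : cpr cs h r (sr i) = 0 := by
      have h7 := cpr_rep cs h (cs.simple i) r (isRoot_sr cs h i)
      rw [rep_simple_sr, cpr_neg_right cs h _ (isRoot_sr cs h i), h9] at h7
      omega
    rw [cpr_zero_comm cs h hC.root (isRoot_sr cs h i)] at h10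
    exact hi (hJ i h10)
  rcases hcomb i J hJ hi hnot with ⟨-, w, hw, hwr⟩ | ⟨i', hi', hJ', w, hw, hwr⟩
  · exact key hw hwr hm hz0 hz1 (hVW hyV)
  · -- the overgroup `L` of `C0` with the nodes `≠ i`
    have hJ'' : ∀ k, n k ∈ C0 ↔ k ≠ i ∧ k ≠ i' := hJ'
    have hLB : RGD.B cs h T X ≤ PJ cs h T X {k | k ≠ i} := B_le_PJ
    have hC0 : C0 = PJ cs h T X J := by
      have := inf_eq_PJ R hB
      rwa [hG, inf_top_eq] at this
    have h1 : C0 < PJ cs h T X {k | k ≠ i} := by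
      refine lt_of_le_of_ne ?_ ?_
      · rw [hC0]
        intro x hx
        obtain ⟨v, hv, hc⟩ := (mem_PJ_iff_cell R).1 hx
        exact (mem_PJ_iff_cell R).2 ⟨v, WJ_mono cs (fun k hk => ((hJ'' k).1 hk).1) hv, hc⟩
      · intro h2
        have h3 : n i' ∈ C0 := by rw [h2, n_mem_PJ R]; exact hi'
        exact ((hJ'' i').1 h3).2 rfl
    have h2 : PJ cs h T X {k | k ≠ i} < ⊤ := by
      refine lt_of_le_of_ne le_top ?_
      intro h3
      have h4 : n i ∈ PJ cs h T X {k | k ≠ i} := by rw [h3]; trivial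
      rw [n_mem_PJ R] at h4
      exact h4 rfl
    obtain ⟨φ, hφU, hφC, hφW, hφL⟩ := hmax _ h1 h2
    have hsw := swap R hG hφU hB hφC hJ'' hφL
    -- `φ m` is in the cell of `s_{i'}`
    have hmI : m ∈ PJ cs h T X {i} :=
      (mem_PJ_iff_cell R).2 ⟨_, simple_mem_WJ cs (Set.mem_singleton i), cell_of_rp hm⟩
    have hφm := (hsw m).2 hmI
    obtain ⟨v, hv, hcell⟩ := (mem_PJ_iff_cell R).1 hφm
    have hmB : m ∉ RGD.B cs h T X := by
      intro h3
      exact simple_ne_one i (R.eq_one_of_mem_B hm h3)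
    have hv' : v = cs.simple i' := by
      rcases Cfsg.Agent.KFacts.RgdDiag.mem_WJ_singleton hv with h3 | h3
      · exfalso
        rw [h3] at hcell
        exact hmB ((fix_B R hG hφU m).1 hcell.mem_of_one)
      · exact h3
    rw [hv'] at hcell
    have hUP2 : RGD.Sup X (RGD.Pos cs h) ≤ P.map φ.toMonoidHom := by
      intro x hx
      refine ⟨φ⁻¹ x, hU ((hφU.inv x).2 hx), ?_⟩
      exact MulAut.apply_inv_self _ φ x
    obtain ⟨m', ⟨m'', hm''P, hm''e⟩, hm'⟩ := exists_rp_of_cell R hUP2 hcell ⟨m, hmP, rfl⟩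
    have hm''e' : φ m'' = m' := hm''e
    have hzV2 : φ⁻¹ z ∈ V := by
      refine hV _ ((hφU.inv z).2 (hC.le_U hz0)) (by rw [← map_pow, hzp, map_one]) fun u hu => ?_
      have h3 := hC.comm_U hz0 ((hφU u).2 hu)
      have h4 := congrArg (φ⁻¹ : MulAut Y) h3
      rwa [map_mul, map_mul, MulAut.inv_apply_self] at h4
    have h3 : m'' * φ⁻¹ z * m''⁻¹ ∈ V := (Subgroup.mem_normalizer_iff.1 (hPV hm''P) _).1 hzV2
    have h4 := hφW _ (hVW h3)
    rw [map_mul, map_mul, map_inv, MulAut.apply_inv_self, hm''e'] at h4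
    exact key hw hwr hm' hz0 hz1 h4

end

end Cfsg.Agent.H238.CB
end

-- part: H238/CB/Comb
section
/-!
# The combinatorial input of case B of S3046, for every dominant root which is not simple
-/

set_option autoImplicit false
set_option linter.unusedSectionVars false

namespace Cfsg.Agent.H238.CB

open CoxeterSystem Cfsg.Agent.ChevalleyStructure.CoxeterGeom Cfsg.Agent.Tits.Roots Cfsg.Agent.Tits.Core
  Cfsg.Agent.Tits.Exchange Cfsg.Agent.Nodes.Reps Cfsg.Agent.Nodes.BNOf Cfsg.Agent.Nodes.StabComb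
  Cfsg.Agent.Nodes.Bruhat Cfsg.Agent.Nodes.OppDec Cfsg.Agent.Nodes.LeviDec Cfsg.Agent.Nodes.NormalForm
  Cfsg.Agent.Nodes.Coroot Cfsg.Agent.Nodes.PosPair Cfsg.Agent.Nodes.Comb Cfsg.Agent.Tits.RootComb
  Cfsg.Agent.KFacts.RgdOpp Cfsg.Agent.KFacts.RgdAut Cfsg.Agent.KFacts.RgdDiag Cfsg.Agent.KFacts.RgdPar

variable {I W : Type*} [Fintype I] [DecidableEq I] [Group W] {M : CoxeterMatrix I}
  {cs : CoxeterSystem M W} {A : I → I → ℤ} {h : IsCartan M A}

/-- the signs of the form and of the pairing with a simple root -/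
theorem form_sr_le [Fintype W] {x : I → ℤ} {j : I} (hj : pairing A j x ≤ 0) : form cs h (sr j) x ≤ 0 := by
  have h1 := two_form cs h j x
  have h2 := form_pos cs h (sr_ne_zero j : (sr j : I → ℤ) ≠ 0)
  rw [form_comm] at h1
  have h3 : pairing A j x * form cs h (sr j) (sr j) ≤ 0 := mul_nonpos_of_nonpos_of_nonneg hj h2.le
  omega

theorem form_sum [Fintype W] (x y : I → ℤ) : form cs h x y = ∑ k, x k * form cs h (sr k) y :=
  map_eq_sum (AddMonoidHom.mk' (fun z => form cs h z y) fun a b => form_add_left cs h a b y) x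

/-- a root supported on more than one node is nonnegative when a coordinate is positive -/
theorem nonneg_of_coord {x : I → ℤ} (hx : IsRoot cs h x) {j : I} (hj : 0 < x j) : 0 ≤ x :=
  nonneg_of_pos_apply hx hj

theorem simple_apply_self {x : I → ℤ} (i : I) : rep cs h (cs.simple i) x i = x i - pairing A i x := by
  rw [rep_simple_eq, Pi.sub_apply, Pi.smul_apply, sr_self, smul_eq_mul, mul_one]

theorem simple_apply_ne {x : I → ℤ} {i j : I} (hij : j ≠ i) : rep cs h (cs.simple i) x j = x j := by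
  rw [rep_simple_eq, Pi.sub_apply, Pi.smul_apply, sr_ne hij, smul_eq_mul, mul_zero, sub_zero]

/-- a root with coordinate `1` at `i` and no other positive coordinate is simple -/
theorem exists_other {x : I → ℤ} {i : I} (hi1 : x i = 1) (hx0 : 0 ≤ x) (hne : x ≠ sr i) :
    ∃ j, j ≠ i ∧ 0 < x j := by
  by_contra hcon
  push Not at hcon
  apply hne
  funext j
  by_cases hj : j = i
  · subst hj; rw [hi1, sr_self]
  · rw [sr_ne hj]
    exact le_antisymm (hcon j hj) (hx0 j)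

/-- **The element of minimal height of the orbit.** -/
theorem exists_to_simple [Finite W] {J : Set I} {i : I} (hi : i ∉ J) : ∀ (N : ℕ) {x : I → ℤ}, IsRoot cs h x →
    (ht x).toNat ≤ N → x i = 1 → (∀ k, k ∉ J → k ≠ i → x k = 0) →
    (∀ _ : Fintype W, form cs h x x = form cs h (sr i) (sr i)) → ∃ w ∈ WJ cs J, rep cs h w x = sr i := by
  intro N
  induction N with
  | zero =>
    intro x hx hN hxi hxk hf
    exfalso
    have h0 : 0 ≤ x := nonneg_of_coord hx (by rw [hxi]; exact one_pos)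
    have := sum_pos h0 hx.ne_zero
    omega
  | succ N ih =>
    intro x hx hN hxi hxk hf
    have h0 : 0 ≤ x := nonneg_of_coord hx (by rw [hxi]; exact one_pos)
    by_cases hxs : x = sr i
    · exact ⟨1, one_mem _, by rw [map_one, Module.End.one_apply]; exact hxs⟩
    by_cases hj : ∃ j ∈ J, 0 < pairing A j x
    · obtain ⟨j, hj, hjp⟩ := hj
      have hij : i ≠ j := fun h1 => hi (h1 ▸ hj)
      have h1 : ht (rep cs h (cs.simple j) x) = ht x - pairing A j x := by
        rw [rep_simple_eq, sub_eq_add_neg, ← neg_smul, RGD.ht_add, RGD.ht_smul]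
        have : ht (sr j : I → ℤ) = 1 := by
          unfold ht
          rw [Finset.sum_eq_single j (fun k _ hk => sr_ne hk) (fun h => absurd (Finset.mem_univ j) h), sr_self]
        rw [this]; ring
      have h2 := sum_pos h0 hx.ne_zero
      obtain ⟨w, hw, hwx⟩ := ih (hx.act (cs.simple j)) (by rw [h1]; omega)
        (by rw [simple_apply_ne hij, hxi])
        (fun k hk hki => by
          have hkj : k ≠ j := fun h3 => hk (h3 ▸ hj)
          rw [simple_apply_ne hkj]; exact hxk k hk hki)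
        (fun _ => by rw [form_rep]; exact hf _)
      exact ⟨w * cs.simple j, mul_mem hw (simple_mem_WJ cs hj), by rw [rep_mul_apply]; exact hwx⟩
    · exfalso
      push Not at hj
      have := Fintype.ofFinite W
      have h1 : form cs h x x ≤ form cs h (sr i) x := by
        rw [form_sum x x, ← Finset.add_sum_erase _ _ (Finset.mem_univ i), hxi, one_mul]
        have h2 : ∑ k ∈ Finset.univ.erase i, x k * form cs h (sr k) x ≤ 0 := by
          refine Finset.sum_nonpos fun k hk => ?_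
          by_cases hkJ : k ∈ J
          · exact mul_nonpos_of_nonneg_of_nonpos (h0 k) (form_sr_le (hj k hkJ))
          · rw [hxk k hkJ (Finset.ne_of_mem_erase hk), zero_mul]
        omega
      have h2 := form_pos cs h hx.ne_zero
      have h3 := two_form cs h i x
      rw [form_comm] at h3
      have h4 := form_pos cs h (sr_ne_zero i : (sr i : I → ℤ) ≠ 0)
      have h5 : 0 < pairing A i x := by
        by_contra h6
        push Not at h6
        have := mul_nonpos_of_nonpos_of_nonneg h6 h4.le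
        omega
      obtain ⟨j, hji, hj0⟩ := exists_other hxi h0 hxs
      have h6 : 0 ≤ rep cs h (cs.simple i) x :=
        nonneg_of_coord (hx.act _) (j := j) (by rw [simple_apply_ne hji]; exact hj0)
      have h7 := h6 i
      rw [simple_apply_self, hxi, Pi.zero_apply] at h7
      have h8 : pairing A i x = 1 := le_antisymm (by linarith only [h7]) h5
      rw [h8, one_mul, ← hf this] at h3
      omega

/-- **`Comb` holds for every dominant root which is not simple.** -/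
theorem comb [Finite W] {r : I → ℤ} (hr : IsRoot cs h r) (hd : ∀ i, 0 ≤ cpr cs h (sr i) r)
    (hns : ∀ i, r ≠ sr i) : Comb cs h r := by
  intro i J hJ hi hnot
  have := Fintype.ofFinite W
  have hr0 : 0 ≤ r := by
    rcases hr.pos_or_neg with h1 | h1
    · exact h1
    · exfalso
      have h2 := dom_nonneg (f := ell cs h hr) hd (neg_nonneg.2 h1)
      have h3 : ell cs h hr (-r) = cpr cs h (-r) r := rfl
      rw [h3, cpr_neg cs h _ hr, cpr_self cs h hr] at h2
      exact absurd h2 (by decide)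
  -- the sum
  have hsum : ∑ k, r k * cpr cs h (sr k) r = 2 := by
    have h1 := map_eq_sum (ell cs h hr) r
    have h2 : ell cs h hr r = 2 := cpr_self cs h hr
    rw [h2] at h1
    exact h1.symm
  have hterm : ∀ k, 0 ≤ r k * cpr cs h (sr k) r := fun k => mul_nonneg (hr0 k) (hd k)
  -- the pairings
  have hpc : ∀ k, pairing A k r = cpr cs h r (sr k) := fun k => (cpr_sr cs h r k).symm
  have hposp : ∀ k, 0 < cpr cs h (sr k) r → 0 < pairing A k r := by
    intro k hk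
    rw [hpc, cpr_pos_iff cs h _ (isRoot_sr cs h k), form_comm, ← cpr_pos_iff cs h _ hr]
    exact hk
  have hoth : ∀ k, ∃ j, j ≠ k ∧ 0 < r j := by
    intro k
    by_contra hcon
    push Not at hcon
    have h1 : r = r k • sr k := by
      funext j
      by_cases hj : j = k
      · subst hj; rw [Pi.smul_apply, sr_self, smul_eq_mul, mul_one]
      · rw [Pi.smul_apply, sr_ne hj, smul_zero]
        exact le_antisymm (hcon j hj) (hr0 j)
    have h2 : IsRoot cs h (r k • sr k) := h1 ▸ hr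
    have h3 := isUnit_of_smul cs h hr (r k) h1
    rw [Int.isUnit_iff] at h3
    rcases h3 with h3 | h3
    · apply hns k
      rw [h1, h3, one_smul]
    · have h4 := hr0 k
      rw [h3, Pi.zero_apply] at h4
      linarith only [h4]
  have hnn : ∀ k, 0 ≤ rep cs h (cs.simple k) r := by
    intro k
    obtain ⟨j, hjk, hj⟩ := hoth k
    exact nonneg_of_coord (hr.act _) (j := j) (by rw [simple_apply_ne hjk]; exact hj)
  have hle : ∀ k, pairing A k r ≤ r k := by
    intro k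
    have h1 := hnn k k
    rw [simple_apply_self, Pi.zero_apply] at h1
    linarith
  -- the node `i`
  have hl : ∀ k, k ∉ J → 0 < cpr cs h (sr k) r := fun k hk => lt_of_le_of_ne (hd k) fun h0 => hk (hJ k h0.symm)
  have hli := hl i hi
  have hai := hposp i hli
  have hci := hle i
  have hsum' : r i * cpr cs h (sr i) r + ∑ k ∈ Finset.univ.erase i, r k * cpr cs h (sr k) r = 2 := by
    exact (Finset.add_sum_erase Finset.univ (fun k => r k * cpr cs h (sr k) r) (Finset.mem_univ i)).trans hsum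
  have hrest : 0 ≤ ∑ k ∈ Finset.univ.erase i, r k * cpr cs h (sr k) r := Finset.sum_nonneg fun k _ => hterm k
  have hci1 : 1 ≤ r i := by omega
  have hprod : 1 ≤ r i * cpr cs h (sr i) r := by nlinarith only [h, hli, hai, hci]
  -- when the rest of the sum vanishes, `J` contains all other nodes
  have hzero : ∑ k ∈ Finset.univ.erase i, r k * cpr cs h (sr k) r = 0 → ∀ k, k ≠ i → k ∈ J := by
    intro h0 k hk
    by_contra hkJ
    have h1 := (Finset.sum_eq_zero_iff_of_nonneg (fun k _ => hterm k)).1 h0 k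
      (Finset.mem_erase.2 ⟨hk, Finset.mem_univ k⟩)
    have h2 := hl k hkJ
    have h3 := hposp k h2
    have h4 := hle k
    have h5 : 1 ≤ r k * cpr cs h (sr k) r := by nlinarith only [h, h2, h3, h4]
    omega
  -- `s_i r` has positive coordinate at `i` in that case
  have hcoord : (∀ k, k ≠ i → k ∈ J) → r i ≠ pairing A i r := by
    intro hall h0
    apply hnot
    refine ⟨hr.act _, fun k hk => ?_⟩
    by_cases hki : k = i
    · subst hki; rw [simple_apply_self]; omega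
    · exact absurd (hall k hki) hk
  have hlen : ∀ k, cpr cs h (sr k) r = 1 → pairing A k r = 1 → form cs h r r = form cs h (sr k) (sr k) := by
    intro k h1 h2
    have h3 := two_form_cpr cs h (sr k) hr
    have h4 := two_form cs h k r
    rw [h1, one_mul] at h3
    rw [h2, one_mul] at h4
    rw [form_comm] at h4
    omega
  by_cases hc2 : 2 ≤ r i
  · -- case I
    left
    have hl1 : cpr cs h (sr i) r = 1 := by nlinarith only [hli, hsum', hrest, hc2]
    have hc2' : r i = 2 := by nlinarith only [hli, hsum', hrest, hc2]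
    have h0 : ∑ k ∈ Finset.univ.erase i, r k * cpr cs h (sr k) r = 0 := by
      rw [hl1, hc2'] at hsum'; omega
    have hall := hzero h0
    have hne := hcoord hall
    have ha1 : pairing A i r = 1 := by omega
    refine ⟨hall, exists_to_simple hi _ (hr.act _) le_rfl ?_ ?_ ?_⟩
    · rw [simple_apply_self]; omega
    · intro k hk hki
      exact absurd (hall k hki) hk
    · intro _
      rw [form_rep]
      convert hlen i hl1 ha1
  · -- `r i = 1`
    have hc1 : r i = 1 := by omega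
    have ha1 : pairing A i r = 1 := by omega
    by_cases hl2 : 2 ≤ cpr cs h (sr i) r
    · exfalso
      have h0 : ∑ k ∈ Finset.univ.erase i, r k * cpr cs h (sr k) r = 0 := by
        rw [hc1, one_mul] at hsum'; omega
      exact hcoord (hzero h0) (by omega)
    · have hl1 : cpr cs h (sr i) r = 1 := by omega
      have h0 : ∑ k ∈ Finset.univ.erase i, r k * cpr cs h (sr k) r = 1 := by
        rw [hc1, hl1] at hsum'; omega
      -- a node `i' ∉ J`
      obtain ⟨i', hi'i, hi'J⟩ : ∃ i', i' ≠ i ∧ i' ∉ J := by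
        by_contra hcon
        push Not at hcon
        exact hcoord hcon (by omega)
      right
      have hl' := hl i' hi'J
      have ha' := hposp i' hl'
      have hc' := hle i'
      have h1 : r i' * cpr cs h (sr i') r +
          ∑ k ∈ (Finset.univ.erase i).erase i', r k * cpr cs h (sr k) r = 1 := by
        exact (Finset.add_sum_erase (Finset.univ.erase i) (fun k => r k * cpr cs h (sr k) r)
          (Finset.mem_erase.2 ⟨hi'i, Finset.mem_univ _⟩)).trans h0
      have h2 : 0 ≤ ∑ k ∈ (Finset.univ.erase i).erase i', r k * cpr cs h (sr k) r :=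
        Finset.sum_nonneg fun k _ => hterm k
      have h3 : 1 ≤ r i' * cpr cs h (sr i') r := by nlinarith only [h, hl', ha', hc']
      have h4 : r i' * cpr cs h (sr i') r = 1 := by omega
      have hc1' : r i' = 1 := by nlinarith only [hl', ha', hc', h1, h2]
      have hl1' : cpr cs h (sr i') r = 1 := by rw [hc1', one_mul] at h4; exact h4
      have ha1' : pairing A i' r = 1 := by omega
      have h5 : ∑ k ∈ (Finset.univ.erase i).erase i', r k * cpr cs h (sr k) r = 0 := by omega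
      have hall : ∀ k, k ≠ i → k ≠ i' → k ∈ J := by
        intro k hk hk'
        by_contra hkJ
        have h6 := (Finset.sum_eq_zero_iff_of_nonneg (fun k _ => hterm k)).1 h5 k
          (Finset.mem_erase.2 ⟨hk', Finset.mem_erase.2 ⟨hk, Finset.mem_univ k⟩⟩)
        have h7 := hl k hkJ
        have h8 := hposp k h7
        have h9 := hle k
        have h10 : 1 ≤ r k * cpr cs h (sr k) r := by nlinarith only [h, h7, h8, h9]
        omega
      refine ⟨i', hi'i, fun k => ⟨fun hk => ⟨fun h6 => hi (h6 ▸ hk), fun h6 => hi'J (h6 ▸ hk)⟩,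
        fun hk => hall k hk.1 hk.2⟩, exists_to_simple hi _ (hr.act _) le_rfl ?_ ?_ ?_⟩
      · rw [simple_apply_ne hi'i.symm, hc1]
      · intro k hk hki
        have hki' : k = i' := by
          by_contra h6
          exact hk (hall k hki h6)
        subst hki'
        rw [simple_apply_self]; omega
      · intro _
        rw [form_rep]
        convert hlen i hl1 ha1

end Cfsg.Agent.H238.CB
end

-- part: H238/CB/Has
section
/-!
# `HasCen p K` : root group data with a dominant root group central in `U`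
-/

set_option autoImplicit false
set_option linter.unusedSectionVars false

namespace Cfsg.Agent.H238.CB

open CoxeterSystem Cfsg.Agent.ChevalleyStructure.CoxeterGeom Cfsg.Agent.Tits.Roots Cfsg.Agent.Tits.Core
  Cfsg.Agent.Nodes.Reps Cfsg.Agent.Nodes.BNOf Cfsg.Agent.Nodes.Bruhat Cfsg.Agent.Nodes.Coroot

/-- `K` has a root group datum of characteristic `p` and a dominant root `r`, not simple, with a nontrivial subgroup
`R0` of `X r` centralised by all `X x` with `⟨x, r^∨⟩ ≥ 0`. -/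
def HasCen (p : ℕ) (K : Type*) [Group K] : Prop :=
  ∃ (l : ℕ) (M : CoxeterMatrix (Fin l)) (A : Fin l → Fin l → ℤ) (h : IsCartan M A) (T : Subgroup K) (n : Fin l → K)
    (X : (Fin l → ℤ) → Subgroup K) (R : RGD M.toCoxeterSystem h p T n X) (r : Fin l → ℤ) (R0 : Subgroup K),
    Finite M.Group ∧ GG M.toCoxeterSystem h T X = ⊤ ∧ Cen R r R0 ∧ ∀ i, r ≠ sr i

end Cfsg.Agent.H238.CB
end
end
end
end
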